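import Mathlib

/-!
# Dimensions of eigenspaces from an eigenbasis

Elementary linear algebra used for the Hall–Higman–Shult type fixed vector theorem:
* `finrank_ker_sub_smul`: if `b` is a basis of eigenvectors of `f` with eigenvalues `c i`, then the
  `μ`-eigenspace of `f` has dimension `#{i | c i = μ}`;
* `exists_eigenbasis`: a semisimple endomorphism over an algebraically closed field has a basis of
  eigenvectors;
* `isSemisimple_of_pow_eq_one`: an endomorphism of finite order prime to the characteristic is
  semisimple;
* `finrank_ker_conj_sub_smul`: eigenspaces of the conjugation operator on `End U`.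
-/

set_option autoImplicit false

namespace Cfsg.Agent.Lib.Helper2.EigenDim

open Module

variable {K : Type*} [Field K] {M : Type*} [AddCommGroup M] [Module K M]

/-- If `b` is a basis of eigenvectors of `f`, with `f (b i) = c i • b i`, then the `μ`-eigenspace
of `f` has dimension the number of `i` with `c i = μ`. -/
theorem finrank_ker_sub_smul {ι : Type*} [Fintype ι] (b : Basis ι K M) (f : M →ₗ[K] M)
    (c : ι → K) (hf : ∀ i, f (b i) = c i • b i) (μ : K) :
    finrank K (LinearMap.ker (f - μ • LinearMap.id : M →ₗ[K] M)) =
      Nat.card {i : ι // c i = μ} := by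
  classical
  -- coordinates of `(f - μ) v`
  have hcoord : ∀ (v : M) (i : ι),
      b.repr ((f - μ • LinearMap.id : M →ₗ[K] M) v) i = (c i - μ) * b.repr v i := by
    intro v i
    have h1 : (b.coord i) ∘ₗ (f - μ • LinearMap.id : M →ₗ[K] M) = (c i - μ) • b.coord i := by
      refine b.ext fun j => ?_
      simp only [LinearMap.comp_apply, LinearMap.sub_apply, LinearMap.smul_apply,
        LinearMap.id_apply, hf j, Basis.coord_apply, map_sub, map_smul, Basis.repr_self,
        smul_eq_mul]
      by_cases hij : j = i
      · subst hij; simp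
      · simp [Finsupp.single_eq_of_ne (Ne.symm hij)]
    have := LinearMap.congr_fun h1 v
    simpa [Basis.coord_apply] using this
  have hker : LinearMap.ker (f - μ • LinearMap.id : M →ₗ[K] M) =
      Submodule.span K (Set.range fun i : {i : ι // c i = μ} => b i) := by
    ext v
    rw [LinearMap.mem_ker]
    have hr : (Set.range fun i : {i : ι // c i = μ} => b i) = b '' {i | c i = μ} := by
      ext x
      simp only [Set.mem_range, Subtype.exists, Set.mem_image, Set.mem_ofPred_eq, exists_prop]
    rw [hr, Basis.mem_span_image]
    constructor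
    · intro hv i hi
      by_contra hne
      have h2 := hcoord v i
      rw [hv, map_zero, Finsupp.zero_apply] at h2
      have h3 : c i - μ ≠ 0 := sub_ne_zero.mpr hne
      have h4 : b.repr v i = 0 := by
        rcases mul_eq_zero.mp h2.symm with h | h
        · exact absurd h h3
        · exact h
      exact (Finsupp.mem_support_iff.mp hi) h4
    · intro hv
      apply b.repr.injective
      ext i
      rw [hcoord, map_zero, Finsupp.zero_apply]
      by_cases hi : c i = μ
      · rw [hi, sub_self, zero_mul]
      · have : b.repr v i = 0 := by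
          by_contra h
          exact hi (hv (Finsupp.mem_support_iff.mpr h))
        rw [this, mul_zero]
  rw [hker, Nat.card_eq_fintype_card]
  exact finrank_span_eq_card
    (b.linearIndependent.comp (fun i : {i : ι // c i = μ} => (i : ι)) Subtype.val_injective)

/-- An endomorphism of finite order `r`, with `r` invertible in the field, is semisimple. -/
theorem isSemisimple_of_pow_eq_one [FiniteDimensional K M] (f : Module.End K M) {r : ℕ}
    (hr : (r : K) ≠ 0) (hf : f ^ r = 1) : f.IsSemisimple := by
  have hsep : (Polynomial.X ^ r - Polynomial.C (1 : K)).Separable :=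
    Polynomial.separable_X_pow_sub_C (1 : K) hr one_ne_zero
  refine Module.End.isSemisimple_of_squarefree_aeval_eq_zero hsep.squarefree ?_
  simp [hf]

/-- A semisimple endomorphism of a finite-dimensional space over an algebraically closed field
has a basis of eigenvectors. -/
theorem exists_eigenbasis [IsAlgClosed K] [FiniteDimensional K M] (f : Module.End K M)
    (hf : f.IsSemisimple) :
    ∃ (n : ℕ) (b : Basis (Fin n) K M) (c : Fin n → K), ∀ i, f (b i) = c i • b i := by
  classical
  have hs := hf.iSup_eigenspace_eq_top
  have hi := Module.End.eigenspaces_iSupIndep f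
  have hint := DirectSum.isInternal_submodule_of_iSupIndep_of_iSup_eq_top hi hs
  let v : ∀ μ : K, Basis (Basis.ofVectorSpaceIndex K (f.eigenspace μ)) K (f.eigenspace μ) :=
    fun μ => Basis.ofVectorSpace K (f.eigenspace μ)
  let B := hint.collectedBasis v
  have hfin : Finite (Σ μ : K, Basis.ofVectorSpaceIndex K (f.eigenspace μ)) :=
    Module.Finite.finite_basis B
  have := Fintype.ofFinite (Σ μ : K, Basis.ofVectorSpaceIndex K (f.eigenspace μ))
  let e := Fintype.equivFin (Σ μ : K, Basis.ofVectorSpaceIndex K (f.eigenspace μ))
  refine ⟨_, B.reindex e, fun i => (e.symm i).1, fun i => ?_⟩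
  rw [Basis.reindex_apply]
  have hmem : B (e.symm i) ∈ f.eigenspace (e.symm i).1 := hint.collectedBasis_mem v (e.symm i)
  exact Module.End.mem_eigenspace_iff.mp hmem

/-- Eigenspaces of the conjugation operator `S ↦ τ S τ⁻¹` on `End U`, from an eigenbasis of
`τ`. -/
theorem finrank_ker_conj_sub_smul {ι : Type*} [Fintype ι] [DecidableEq ι] (b : Basis ι K M)
    (τ τ' : M →ₗ[K] M) (hinv : τ' ∘ₗ τ = LinearMap.id) (t : ι → K)
    (ht : ∀ i, τ (b i) = t i • b i) (ht0 : ∀ i, t i ≠ 0)
    (C : Module.End K M →ₗ[K] Module.End K M) (hC : ∀ S, C S = τ ∘ₗ S ∘ₗ τ') (μ : K) :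
    finrank K (LinearMap.ker (C - μ • LinearMap.id : Module.End K M →ₗ[K] Module.End K M)) =
      Nat.card {ij : ι × ι // t ij.1 * (t ij.2)⁻¹ = μ} := by
  have ht' : ∀ k, τ' (b k) = (t k)⁻¹ • b k := by
    intro k
    have h1 : τ' (τ (b k)) = b k := LinearMap.congr_fun hinv (b k)
    rw [ht k, map_smul] at h1
    calc τ' (b k) = (t k)⁻¹ • (t k • τ' (b k)) := by
          rw [smul_smul, inv_mul_cancel₀ (ht0 k), one_smul]
      _ = (t k)⁻¹ • b k := by rw [h1]
  refine finrank_ker_sub_smul b.end C (fun ij => t ij.1 * (t ij.2)⁻¹) (fun ij => ?_) μ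
  refine b.ext fun k => ?_
  rw [hC, LinearMap.comp_apply, LinearMap.comp_apply, ht' k, map_smul, map_smul,
    LinearMap.smul_apply, Basis.end_apply_apply]
  by_cases hjk : ij.2 = k
  · rw [if_pos hjk, ht, smul_smul, hjk, mul_comm]
  · rw [if_neg hjk, map_zero, smul_zero, smul_zero]

end Cfsg.Agent.Lib.Helper2.EigenDim
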