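import Mathlib

/-!
# Assembling free modules over a finite group from pieces

`FreeOn ρ Y` says that the subspace `Y` of a representation `ρ` of `H` is the internal direct sum
of the translates `h W` of a single subspace `W` (so `Y` is a free `k[H]`-module).  We prove that
this property is stable under direct sums and under induction from a subgroup.
-/

set_option autoImplicit false

namespace Cfsg.Agent.Lib.Helper2.FreeAssembly

open scoped BigOperators

section Indep

variable {R N ι : Type*} [Ring R] [AddCommGroup N] [Module R N]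

/-- Independence of a finite family of submodules, in terms of sums over the whole index type. -/
theorem iSupIndep_iff_sum_eq_zero [Fintype ι] (p : ι → Submodule R N) :
    iSupIndep p ↔ ∀ v : ι → N, (∀ i, v i ∈ p i) → ∑ i, v i = 0 → ∀ i, v i = 0 := by
  classical
  rw [iSupIndep_iff_finsetSum_eq_zero_imp_eq_zero]
  constructor
  · intro h v hv hsum i
    exact h Finset.univ v (fun i _ => hv i) hsum i (Finset.mem_univ i)
  · intro h s v hv hsum i hi
    let v' : ι → N := fun j => if j ∈ s then v j else 0
    have hv' : ∀ j, v' j ∈ p j := by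
      intro j
      by_cases hj : j ∈ s
      · simp only [v', hj, if_true]; exact hv j hj
      · simp only [v', hj, if_false]; exact (p j).zero_mem
    have hsum' : ∑ j, v' j = 0 := by
      rw [← hsum, ← Finset.sum_subset (Finset.subset_univ s)]
      · refine Finset.sum_congr rfl fun j hj => ?_
        simp only [v', hj, if_true]
      · intro j _ hj
        simp only [v', hj, if_false]
    have := h v' hv' hsum' i
    simpa only [v', hi, if_true] using this

end Indep

variable {k H V : Type*} [Field k] [Group H] [AddCommGroup V] [Module k V]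

/-- `Y` is the internal direct sum of the `H`-translates of some subspace. -/
def FreeOn (ρ : Representation k H V) (Y : Submodule k V) : Prop :=
  ∃ W : Submodule k V, iSupIndep (fun h : H => W.map (ρ h)) ∧ ⨆ h : H, W.map (ρ h) = Y

variable (ρ : Representation k H V)

theorem freeOn_bot : FreeOn ρ ⊥ := by
  refine ⟨⊥, ?_, ?_⟩
  · simp only [Submodule.map_bot]
    rw [iSupIndep_def]; intro i; simp
  · simp

/-- Direct sums of free pieces are free. -/
theorem FreeOn.sup [Finite H] {Y₁ Y₂ : Submodule k V} (h₁ : FreeOn ρ Y₁) (h₂ : FreeOn ρ Y₂)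
    (hd : Disjoint Y₁ Y₂) : FreeOn ρ (Y₁ ⊔ Y₂) := by
  classical
  have := Fintype.ofFinite H
  obtain ⟨W₁, hi₁, hs₁⟩ := h₁
  obtain ⟨W₂, hi₂, hs₂⟩ := h₂
  refine ⟨W₁ ⊔ W₂, ?_, ?_⟩
  · rw [iSupIndep_iff_sum_eq_zero] at hi₁ hi₂ ⊢
    intro v hv hsum
    have hdec : ∀ h, ∃ a ∈ W₁.map (ρ h), ∃ b ∈ W₂.map (ρ h), a + b = v h := by
      intro h
      have := hv h
      rw [Submodule.map_sup] at this
      exact Submodule.mem_sup.mp this
    choose a ha b hb hab using hdec
    have hA : ∑ h, a h ∈ Y₁ := by
      rw [← hs₁]
      exact Submodule.sum_mem _ fun h _ => Submodule.mem_iSup_of_mem h (ha h)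
    have hB : ∑ h, b h ∈ Y₂ := by
      rw [← hs₂]
      exact Submodule.sum_mem _ fun h _ => Submodule.mem_iSup_of_mem h (hb h)
    have hsum2 : ∑ h, a h + ∑ h, b h = 0 := by
      rw [← Finset.sum_add_distrib, ← hsum]
      exact Finset.sum_congr rfl fun h _ => hab h
    have hA0 : ∑ h, a h = 0 := by
      have h1 : ∑ h, a h = -∑ h, b h := eq_neg_of_add_eq_zero_left hsum2
      have h2 : ∑ h, a h ∈ Y₂ := by rw [h1]; exact Y₂.neg_mem hB
      exact (Submodule.disjoint_def.mp hd) _ hA h2
    have hB0 : ∑ h, b h = 0 := by rw [hA0, zero_add] at hsum2; exact hsum2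
    intro h
    rw [← hab h, hi₁ a ha hA0 h, hi₂ b hb hB0 h, add_zero]
  · simp_rw [Submodule.map_sup]
    rw [iSup_sup_eq, hs₁, hs₂]

/-- Induction from a subgroup: if `X` is free over the subgroup `G` and the translates of `X`
over the cosets of `G` are independent, then their sum is free over `H`. -/
theorem freeOn_of_subgroup [Finite H] (G : Subgroup H) (W X : Submodule k V)
    (h1 : iSupIndep (fun g : G => W.map (ρ (g : H))))
    (h2 : ⨆ g : G, W.map (ρ (g : H)) = X)
    (h3 : iSupIndep (fun q : H ⧸ G => X.map (ρ q.out))) :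
    FreeOn ρ (⨆ h : H, X.map (ρ h)) := by
  classical
  have := Fintype.ofFinite H
  have hmapmap : ∀ (a b : H) (S : Submodule k V), (S.map (ρ b)).map (ρ a) = S.map (ρ (a * b)) := by
    intro a b S
    rw [← Submodule.map_comp, map_mul]
    rfl
  have hWX : W ≤ X := by
    rw [← h2]
    refine le_trans ?_ (le_iSup _ (1 : G))
    simp only [OneMemClass.coe_one, map_one]
    rw [show (1 : Module.End k V) = LinearMap.id from rfl, Submodule.map_id]
  refine ⟨W, ?_, ?_⟩
  · rw [iSupIndep_iff_sum_eq_zero] at h1 h3 ⊢
    intro v hv hsum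
    -- the bijection `(q, g) ↦ q.out * g`
    let e : (H ⧸ G) × G → H := fun p => p.1.out * (p.2 : H)
    have he : Function.Bijective e := by
      constructor
      · rintro ⟨q, g⟩ ⟨q', g'⟩ h
        simp only [e] at h
        have hq : q = q' := by
          have h1 : (QuotientGroup.mk (q.out * (g : H)) : H ⧸ G) = q := by
            rw [QuotientGroup.mk_mul_of_mem _ g.2]; exact QuotientGroup.out_eq' q
          have h2 : (QuotientGroup.mk (q'.out * (g' : H)) : H ⧸ G) = q' := by
            rw [QuotientGroup.mk_mul_of_mem _ g'.2]; exact QuotientGroup.out_eq' q'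
          rw [← h1, ← h2, h]
        subst hq
        have := mul_left_cancel h
        exact Prod.ext rfl (Subtype.ext this)
      · intro h
        refine ⟨⟨QuotientGroup.mk h, ⟨(QuotientGroup.mk h : H ⧸ G).out⁻¹ * h, ?_⟩⟩, ?_⟩
        · rw [← QuotientGroup.eq]
          exact QuotientGroup.out_eq' _
        · simp [e]
    have hsum2 : ∑ q : H ⧸ G, ∑ g : G, v (q.out * (g : H)) = 0 := by
      rw [← hsum, ← Fintype.sum_prod_type']
      exact Fintype.sum_bijective e he _ _ (fun p => rfl)
    -- each inner sum vanishes
    have hinner : ∀ q : H ⧸ G, ∑ g : G, v (q.out * (g : H)) = 0 := by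
      apply h3 _ _ hsum2
      intro q
      refine Submodule.sum_mem _ fun g _ => ?_
      have := hv (q.out * (g : H))
      rw [← hmapmap] at this
      refine Submodule.map_mono ?_ this
      rw [← h2]
      exact le_iSup (fun g : G => W.map (ρ (g : H))) g
    intro h
    obtain ⟨⟨q, g⟩, rfl⟩ := he.2 h
    have hq := hinner q
    have hq2 : ∑ g : G, ρ (q.out)⁻¹ (v (q.out * (g : H))) = 0 := by
      rw [← map_sum, hq, map_zero]
    have hmem : ∀ g : G, ρ (q.out)⁻¹ (v (q.out * (g : H))) ∈ W.map (ρ (g : H)) := by
      intro g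
      have := Submodule.mem_map_of_mem (f := ρ (q.out)⁻¹) (hv (q.out * (g : H)))
      rw [hmapmap] at this
      simpa using this
    have := h1 _ hmem hq2 g
    have h4 : ρ q.out (ρ (q.out)⁻¹ (v (q.out * (g : H)))) = v (q.out * (g : H)) := by
      rw [← Module.End.mul_apply, ← map_mul, mul_inv_cancel, map_one]; rfl
    show v (q.out * (g : H)) = 0
    rw [← h4, this, map_zero]
  · apply le_antisymm
    · exact iSup_mono fun h => Submodule.map_mono hWX
    · refine iSup_le fun h => ?_
      rw [← h2, Submodule.map_iSup]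
      refine iSup_le fun g => ?_
      rw [hmapmap]
      exact le_iSup (fun h : H => W.map (ρ h)) (h * g)

end Cfsg.Agent.Lib.Helper2.FreeAssembly
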