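import Mathlib
import Cfsg.Agent.Lib.Helper2.FreeAssembly

/-!
# Eigenspaces of free modules over a finite group

If the translates `h W` of a subspace `W` under a representation of the finite group `H` are
independent, then for every character `χ` of `H` the twisted norm map
`w ↦ ∑ h, χ(h)⁻¹ • h w` embeds `W` into the `χ`-eigenspace, and the sum of the translates has
dimension `|H| * dim W`.
-/

set_option autoImplicit false

namespace Cfsg.Agent.Lib.Helper2.FreeEigen

open scoped BigOperators
open Module Cfsg.Agent.Lib.Helper2.FreeAssembly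

variable {K H M : Type*} [Field K] [Group H] [Fintype H] [AddCommGroup M] [Module K M]
  (ρ : Representation K H M)

/-- The sum of the translates of a family of vectors of `W`, as a linear map. -/
noncomputable def sumLin (W : Submodule K M) : (H → W) →ₗ[K] M :=
  ∑ h : H, (ρ h ∘ₗ W.subtype) ∘ₗ LinearMap.proj h

theorem sumLin_apply (W : Submodule K M) (f : H → W) :
    sumLin ρ W f = ∑ h : H, ρ h (f h : M) := by
  simp [sumLin, LinearMap.sum_apply]

omit [Fintype H] in
theorem rho_injective (h : H) : Function.Injective (ρ h) := by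
  intro x y hxy
  have := congrArg (ρ h⁻¹) hxy
  rwa [← Module.End.mul_apply, ← Module.End.mul_apply, ← map_mul, inv_mul_cancel, map_one,
    Module.End.one_apply, Module.End.one_apply] at this

theorem sumLin_injective (W : Submodule K M) (hi : iSupIndep (fun h : H => W.map (ρ h))) :
    Function.Injective (sumLin ρ W) := by
  rw [iSupIndep_iff_sum_eq_zero] at hi
  rw [← LinearMap.ker_eq_bot, LinearMap.ker_eq_bot']
  intro f hf
  rw [sumLin_apply] at hf
  have := hi (fun h => ρ h (f h : M)) (fun h => Submodule.mem_map_of_mem (f h).2) hf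
  funext h
  apply Subtype.ext
  exact rho_injective ρ h (by rw [this h]; simp)

theorem range_sumLin (W : Submodule K M) :
    LinearMap.range (sumLin ρ W) = ⨆ h : H, W.map (ρ h) := by
  apply le_antisymm
  · rintro _ ⟨f, rfl⟩
    rw [sumLin_apply]
    refine Submodule.sum_mem _ fun h _ => ?_
    exact Submodule.mem_iSup_of_mem h (Submodule.mem_map_of_mem (f h).2)
  · refine iSup_le fun h => ?_
    rintro _ ⟨w, hw, rfl⟩
    classical
    refine ⟨Pi.single h ⟨w, hw⟩, ?_⟩
    rw [sumLin_apply, Finset.sum_eq_single h]
    · simp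
    · intro g _ hg
      simp [Pi.single_eq_of_ne hg]
    · intro hh; exact absurd (Finset.mem_univ h) hh

/-- The sum of independent translates of `W` has dimension `|H| * dim W`. -/
theorem finrank_iSup [FiniteDimensional K M] (W : Submodule K M)
    (hi : iSupIndep (fun h : H => W.map (ρ h))) :
    finrank K ↥(⨆ h : H, W.map (ρ h)) = Fintype.card H * finrank K W := by
  rw [← range_sumLin, LinearMap.finrank_range_of_inj (sumLin_injective ρ W hi),
    Module.finrank_pi_fintype]
  simp

/-- The twisted norm map attached to a character. -/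
noncomputable def twist (χ : H →* Kˣ) (W : Submodule K M) : W →ₗ[K] M :=
  ∑ h : H, ((χ h)⁻¹ : Kˣ).1 • (ρ h ∘ₗ W.subtype)

theorem twist_apply (χ : H →* Kˣ) (W : Submodule K M) (w : W) :
    twist ρ χ W w = ∑ h : H, ((χ h)⁻¹ : Kˣ).1 • ρ h (w : M) := by
  simp [twist, LinearMap.sum_apply]

theorem rho_twist (χ : H →* Kˣ) (W : Submodule K M) (g : H) (w : W) :
    ρ g (twist ρ χ W w) = (χ g : K) • twist ρ χ W w := by
  rw [twist_apply, map_sum, Finset.smul_sum]
  refine (Fintype.sum_equiv (Equiv.mulLeft g) _ _ (fun h => ?_))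
  have hsc : (χ g : K) * ((χ (g * h))⁻¹ : Kˣ).1 = ((χ h)⁻¹ : Kˣ).1 := by
    rw [← Units.val_mul, map_mul, mul_inv_rev, mul_comm (χ h)⁻¹, mul_inv_cancel_left]
  simp only [Equiv.coe_mulLeft, map_smul]
  rw [smul_smul, hsc, map_mul]
  rfl

theorem twist_mem (χ : H →* Kˣ) (W : Submodule K M) (w : W) :
    twist ρ χ W w ∈ ⨆ h : H, W.map (ρ h) := by
  rw [twist_apply]
  refine Submodule.sum_mem _ fun h _ => Submodule.smul_mem _ _ ?_
  exact Submodule.mem_iSup_of_mem h (Submodule.mem_map_of_mem w.2)

theorem twist_injective (χ : H →* Kˣ) (W : Submodule K M)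
    (hi : iSupIndep (fun h : H => W.map (ρ h))) : Function.Injective (twist ρ χ W) := by
  rw [iSupIndep_iff_sum_eq_zero] at hi
  rw [← LinearMap.ker_eq_bot, LinearMap.ker_eq_bot']
  intro w hw
  rw [twist_apply] at hw
  have := hi (fun h => ((χ h)⁻¹ : Kˣ).1 • ρ h (w : M))
    (fun h => Submodule.smul_mem _ _ (Submodule.mem_map_of_mem w.2)) hw 1
  simp only [map_one, inv_one, Units.val_one, one_smul, Module.End.one_apply] at this
  exact Subtype.ext this

/-- The `χ`-eigenspace of any element has dimension at least `dim W`. -/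
theorem le_finrank_ker [FiniteDimensional K M] (χ : H →* Kˣ) (W : Submodule K M)
    (hi : iSupIndep (fun h : H => W.map (ρ h))) (x : H) :
    finrank K W ≤
      finrank K (LinearMap.ker (ρ x - (χ x : K) • LinearMap.id : M →ₗ[K] M)) := by
  let f : W →ₗ[K] LinearMap.ker (ρ x - (χ x : K) • LinearMap.id : M →ₗ[K] M) :=
    LinearMap.codRestrict _ (twist ρ χ W) (fun w => by
      rw [LinearMap.mem_ker, LinearMap.sub_apply, rho_twist]
      simp)
  refine LinearMap.finrank_le_finrank_of_injective (f := f) ?_
  intro a b hab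
  apply twist_injective ρ χ W hi
  exact congrArg Subtype.val hab

/-- The fixed space has dimension at least `dim W + 1` if there is a fixed vector outside the
sum of the translates. -/
theorem succ_le_finrank_ker [FiniteDimensional K M] (W : Submodule K M)
    (hi : iSupIndep (fun h : H => W.map (ρ h))) (x : H) (m₀ : M) (hfix : ρ x m₀ = m₀)
    (hm₀ : m₀ ∉ ⨆ h : H, W.map (ρ h)) :
    finrank K W + 1 ≤
      finrank K (LinearMap.ker (ρ x - (1 : K) • LinearMap.id : M →ₗ[K] M)) := by
  let f : (W × K) →ₗ[K] LinearMap.ker (ρ x - (1 : K) • LinearMap.id : M →ₗ[K] M) :=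
    LinearMap.codRestrict _
      ((twist ρ 1 W).coprod (LinearMap.toSpanSingleton K M m₀)) (fun p => by
      rw [LinearMap.mem_ker, LinearMap.sub_apply, LinearMap.coprod_apply, map_add, rho_twist]
      simp [LinearMap.toSpanSingleton_apply, hfix])
  have hf : Function.Injective f := by
    rw [← LinearMap.ker_eq_bot, LinearMap.ker_eq_bot']
    rintro ⟨w, c⟩ hp
    have h1 : twist ρ 1 W w + c • m₀ = 0 := by
      have := congrArg Subtype.val hp
      simpa [f, LinearMap.coprod_apply, LinearMap.toSpanSingleton_apply] using this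
    have hc : c = 0 := by
      by_contra hc
      apply hm₀
      have h2 : m₀ = -(c⁻¹ • twist ρ 1 W w) := by
        have : c • m₀ = -twist ρ 1 W w := eq_neg_of_add_eq_zero_right h1
        rw [← smul_neg, ← this, smul_smul, inv_mul_cancel₀ hc, one_smul]
      rw [h2]
      exact Submodule.neg_mem _ (Submodule.smul_mem _ _ (twist_mem ρ 1 W w))
    rw [hc, zero_smul, add_zero] at h1
    have hw : w = 0 := twist_injective ρ 1 W hi (by rw [h1, map_zero])
    rw [hw, hc]; rfl
  have := LinearMap.finrank_le_finrank_of_injective hf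
  rwa [Module.finrank_prod, Module.finrank_self] at this

end Cfsg.Agent.Lib.Helper2.FreeEigen
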