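import Mathlib

/-!
# Semilinear actions of a Galois group are free (Galois descent + normal basis)

If a finite group `G` acts faithfully on a field `K` and semilinearly on a `K`-vector space `X`,
then `X` is a free module over `G`: there is a subspace `W` (over any subfield `k` fixed by `G`)
with `X = ⨁_g g W`.
-/

set_option autoImplicit false

namespace Cfsg.Agent.Lib.Helper2.GaloisFree

open scoped BigOperators

section

variable {K G : Type*} [Field K] [Group G] [Finite G] [MulSemiringAction G K] [FaithfulSMul G K]

/-- A normal basis element: the `G`-orbit of `θ` is linearly independent over the fixed field. -/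
theorem exists_normal_element :
    ∃ θ : K, LinearIndependent (FixedPoints.subfield G K) (fun g : G => g • θ) := by
  obtain ⟨x, hx⟩ := exists_linearIndependent_algEquiv_apply (FixedPoints.subfield G K) K
  refine ⟨x, ?_⟩
  have h := hx.comp (FixedPoints.toAlgAutMulEquiv G K) (FixedPoints.toAlgAutMulEquiv G K).injective
  convert h using 1
  · rfl
  · rfl

/-- Every element of `K` is a combination of the orbit of a normal element with `G`-fixed
coefficients. -/
theorem exists_expansion [Fintype G] {θ : K}
    (hθ : LinearIndependent (FixedPoints.subfield G K) (fun g : G => g • θ)) (y : K) :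
    ∃ d : G → K, (∀ g τ : G, τ • d g = d g) ∧ y = ∑ g, d g * (g • θ) := by
  have hcard : Fintype.card G = Module.finrank (FixedPoints.subfield G K) K :=
    (FixedPoints.finrank_eq_card G K).symm
  have hspan := hθ.span_eq_top_of_card_eq_finrank' hcard
  have hy : y ∈ Submodule.span (FixedPoints.subfield G K) (Set.range fun g : G => g • θ) := by
    rw [hspan]; trivial
  obtain ⟨c, hc⟩ := (Submodule.mem_span_range_iff_exists_fun _).mp hy
  refine ⟨fun g => (c g : K), fun g τ => (c g).2 τ, ?_⟩
  rw [← hc]
  rfl

omit [Finite G] in
/-- Dedekind independence for the group action. -/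
theorem eq_zero_of_sum_smul_eq_zero [Fintype G] (c : G → K)
    (h : ∀ y : K, ∑ g, c g * (g • y) = 0) : ∀ g, c g = 0 := by
  classical
  have hli := linearIndependent_monoidHom K K
  let e : G → (K →* K) := fun g => (MulSemiringAction.toRingHom G K g : K →* K)
  have he : Function.Injective e := by
    intro g₁ g₂ h12
    apply FaithfulSMul.eq_of_smul_eq_smul (α := K)
    intro a
    have := DFunLike.congr_fun h12 a
    exact this
  have hli2 := hli.comp e he
  rw [Fintype.linearIndependent_iff] at hli2
  apply hli2 c
  funext y
  simp only [Function.comp_apply, Finset.sum_apply, Pi.smul_apply, smul_eq_mul, Pi.zero_apply]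
  exact h y

/-- The matrix `((g h) • θ)` is invertible. -/
theorem exists_inverse [Fintype G] [DecidableEq G] {θ : K}
    (hθ : LinearIndependent (FixedPoints.subfield G K) (fun g : G => g • θ)) :
    ∃ B : Matrix G G K, (Matrix.of fun g h : G => (g * h) • θ) * B = 1 ∧
      B * (Matrix.of fun g h : G => (g * h) • θ) = 1 := by
  set M : Matrix G G K := Matrix.of fun g h : G => (g * h) • θ with hM
  have hrows : LinearIndependent K M.row := by
    rw [Fintype.linearIndependent_iff]
    intro c hc
    apply eq_zero_of_sum_smul_eq_zero c
    intro y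
    obtain ⟨d, hd, rfl⟩ := exists_expansion hθ y
    have key : ∀ h : G, ∑ g, c g * ((g * h) • θ) = 0 := by
      intro h
      have := congrFun hc h
      simpa [Matrix.row, hM, Finset.sum_apply] using this
    calc ∑ g, c g * (g • ∑ h, d h * (h • θ))
        = ∑ g, ∑ h, d h * (c g * ((g * h) • θ)) := by
          refine Finset.sum_congr rfl fun g _ => ?_
          rw [Finset.smul_sum, Finset.mul_sum]
          refine Finset.sum_congr rfl fun h _ => ?_
          rw [smul_mul', hd h g, mul_smul]
          ring
      _ = ∑ h, d h * ∑ g, c g * ((g * h) • θ) := by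
          rw [Finset.sum_comm]
          refine Finset.sum_congr rfl fun h _ => ?_
          rw [Finset.mul_sum]
      _ = 0 := by simp [key]
  have hu : IsUnit M := Matrix.linearIndependent_rows_iff_isUnit.mp hrows
  have hdet : IsUnit M.det := (Matrix.isUnit_iff_isUnit_det M).mp hu
  exact ⟨M⁻¹, Matrix.mul_nonsing_inv M hdet, Matrix.nonsing_inv_mul M hdet⟩

end

section Main

variable {k K G X : Type*} [Field k] [Field K] [Algebra k K] [Group G] [Finite G]
  [MulSemiringAction G K] [FaithfulSMul G K]
  [AddCommGroup X] [Module k X] [Module K X] [IsScalarTower k K X]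

/-- Multiplication by a scalar of `K`, as a `k`-linear map. -/
def smulLin (c : K) : X →ₗ[k] X where
  toFun x := c • x
  map_add' := smul_add c
  map_smul' a x := by
    simp only [RingHom.id_apply]
    rw [← algebraMap_smul K a x, ← algebraMap_smul K a (c • x), smul_smul, smul_smul, mul_comm]

omit [Finite G] [FaithfulSMul G K] in
@[simp] theorem smulLin_apply (c : K) (x : X) : smulLin (k := k) c x = c • x := rfl

/-- **Galois descent with a normal basis**: a semilinear action of a finite group acting
faithfully on the field `K` is free. -/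
theorem exists_free (ρ : Representation k G X)
    (hsemi : ∀ (g : G) (c : K) (x : X), ρ g (c • x) = (g • c) • ρ g x) :
    ∃ W : Submodule k X, iSupIndep (fun g : G => W.map (ρ g)) ∧ ⨆ g : G, W.map (ρ g) = ⊤ := by
  classical
  have := Fintype.ofFinite G
  obtain ⟨θ, hθ⟩ := exists_normal_element (K := K) (G := G)
  obtain ⟨B, hMB, hBM⟩ := exists_inverse hθ
  set M : Matrix G G K := Matrix.of fun g h : G => (g * h) • θ with hM
  -- the fixed points
  let U : Submodule k X :=
    { carrier := {x | ∀ g : G, ρ g x = x}
      add_mem' := fun {a b} ha hb g => by rw [map_add, ha g, hb g]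
      zero_mem' := fun g => map_zero _
      smul_mem' := fun a x hx g => by rw [map_smul, hx g] }
  have hU : ∀ x, x ∈ U ↔ ∀ g : G, ρ g x = x := fun x => Iff.rfl
  have hUsmul : ∀ (d : K), (∀ τ : G, τ • d = d) → ∀ u ∈ U, d • u ∈ U := by
    intro d hd u hu g
    rw [hsemi, hd g, hu g]
  let W : Submodule k X := U.map (smulLin (k := k) θ)
  have hWmem : ∀ (g : G) (u : X), u ∈ U → (g • θ) • u ∈ W.map (ρ g) := by
    intro g u hu
    refine ⟨θ • u, ⟨u, hu, rfl⟩, ?_⟩
    rw [hsemi, hu g]
  have hWmem' : ∀ (g : G) (x : X), x ∈ W.map (ρ g) → ∃ u ∈ U, x = (g • θ) • u := by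
    rintro g x ⟨y, ⟨u, hu, rfl⟩, rfl⟩
    refine ⟨u, hu, ?_⟩
    rw [smulLin_apply, hsemi, hu g]
  -- independence
  have hD2 : ∀ u : G → X, (∀ g, u g ∈ U) → ∑ g, (g • θ) • u g = 0 → ∀ g, u g = 0 := by
    intro u hu hsum
    have h1 : ∀ τ : G, ∑ g, M τ g • u g = 0 := by
      intro τ
      have := congrArg (ρ τ) hsum
      rw [map_sum, map_zero] at this
      rw [← this]
      refine Finset.sum_congr rfl fun g _ => ?_
      rw [hsemi, hu g τ, hM, Matrix.of_apply, mul_smul]
    intro h
    have h2 : u h = ∑ g, (B * M) h g • u g := by
      rw [hBM]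
      simp [Matrix.one_apply]
    rw [h2]
    calc ∑ g, (B * M) h g • u g = ∑ g, ∑ τ, (B h τ * M τ g) • u g := by
          refine Finset.sum_congr rfl fun g _ => ?_
          rw [Matrix.mul_apply, Finset.sum_smul]
      _ = ∑ τ, B h τ • ∑ g, M τ g • u g := by
          rw [Finset.sum_comm]
          refine Finset.sum_congr rfl fun τ _ => ?_
          rw [Finset.smul_sum]
          refine Finset.sum_congr rfl fun g _ => ?_
          rw [mul_smul]
      _ = 0 := by simp [h1]
  refine ⟨W, ?_, ?_⟩
  · rw [iSupIndep_iff_finsetSum_eq_zero_imp_eq_zero]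
    intro s v hv hsum
    choose! u hu huv using fun g (hg : g ∈ s) => hWmem' g (v g) (hv g hg)
    let u' : G → X := fun g => if g ∈ s then u g else 0
    have hu' : ∀ g, u' g ∈ U := by
      intro g
      by_cases hg : g ∈ s
      · simp only [u', hg, if_true]; exact hu g hg
      · simp only [u', hg, if_false]; exact U.zero_mem
    have hsum' : ∑ g, (g • θ) • u' g = 0 := by
      rw [← hsum, ← Finset.sum_subset (Finset.subset_univ s)]
      · refine Finset.sum_congr rfl fun g hg => ?_
        simp only [u', hg, if_true]
        exact (huv g hg).symm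
      · intro g _ hg
        simp only [u', hg, if_false, smul_zero]
    intro g hg
    have := hD2 u' hu' hsum' g
    simp only [u', hg, if_true] at this
    rw [huv g hg, this, smul_zero]
  · rw [eq_top_iff]
    intro x _
    -- traces
    let T : G → X := fun h => ∑ g, ρ g ((h • θ) • x)
    have hT : ∀ h, T h ∈ U := by
      intro h τ
      simp only [T]
      rw [map_sum]
      have : ∀ g, ρ τ (ρ g ((h • θ) • x)) = ρ (τ * g) ((h • θ) • x) := by
        intro g; rw [map_mul]; rfl
      simp_rw [this]
      exact Fintype.sum_equiv (Equiv.mulLeft τ) _ _ (fun g => rfl)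
    have hT2 : ∀ h, T h = ∑ g, M g h • ρ g x := by
      intro h
      refine Finset.sum_congr rfl fun g _ => ?_
      rw [hsemi, hM, Matrix.of_apply, mul_smul]
    have hx : x = ∑ h, B h 1 • T h := by
      have h1 : x = ∑ g, (M * B) g 1 • ρ g x := by
        rw [hMB]
        simp [Matrix.one_apply]
      calc x = ∑ g, (M * B) g 1 • ρ g x := h1
        _ = ∑ g, ∑ h, (M g h * B h 1) • ρ g x := by
            refine Finset.sum_congr rfl fun g _ => ?_
            rw [Matrix.mul_apply, Finset.sum_smul]
        _ = ∑ h, B h 1 • T h := by
            rw [Finset.sum_comm]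
            refine Finset.sum_congr rfl fun h _ => ?_
            rw [hT2, Finset.smul_sum]
            refine Finset.sum_congr rfl fun g _ => ?_
            rw [smul_smul, mul_comm]
    choose d hd hdB using fun h : G => exists_expansion hθ (B h 1)
    have hx2 : x = ∑ g, (g • θ) • ∑ h, d h g • T h := by
      rw [hx]
      calc ∑ h, B h 1 • T h = ∑ h, ∑ g, (g • θ) • (d h g • T h) := by
            refine Finset.sum_congr rfl fun h _ => ?_
            conv_lhs => rw [hdB h]
            rw [Finset.sum_smul]
            refine Finset.sum_congr rfl fun g _ => ?_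
            rw [smul_smul, mul_comm]
        _ = ∑ g, (g • θ) • ∑ h, d h g • T h := by
            rw [Finset.sum_comm]
            refine Finset.sum_congr rfl fun g _ => ?_
            rw [Finset.smul_sum]
    rw [hx2]
    refine Submodule.sum_mem _ fun g _ => ?_
    refine Submodule.mem_iSup_of_mem g (hWmem g _ ?_)
    exact Submodule.sum_mem _ fun h _ => hUsmul _ (hd h g) _ (hT h)

end Main

end Cfsg.Agent.Lib.Helper2.GaloisFree
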