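import Mathlib
import Cfsg.Agent.Lib.Helper2.GaloisFree
import Cfsg.Agent.Lib.Helper2.FreeAssembly

/-!
# Modules over a semisimple commutative algebra with a compatible semilinear group action

Abstract core of the "free module" lemma for Frobenius groups: `A` is a commutative Artinian
`k`-algebra with trivial Jacobson radical, `H` a finite group acting on `A` by ring automorphisms
and semilinearly on the `A`-module `V`.  If no non-identity element of `H` acts trivially on a
residue field `A/𝔪` with nonzero `𝔪`-torsion in `V`, then `V` is a free `k[H]`-module.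
-/

set_option autoImplicit false

namespace Cfsg.Agent.Lib.Helper2.FrobCore

open scoped BigOperators Pointwise
open Cfsg.Agent.Lib.Helper2.FreeAssembly

variable {k A H V : Type*} [Field k] [CommRing A] [Algebra k A] [Group H]
  [MulSemiringAction H A] [AddCommGroup V] [Module k V] [Module A V] [IsScalarTower k A V]

/-- The `𝔪`-torsion of `V`, as a `k`-subspace. -/
def tors (𝔪 : Ideal A) : Submodule k V :=
  (Submodule.torsionBySet A V (𝔪 : Set A)).restrictScalars k

omit [Group H] [MulSemiringAction H A] in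
theorem mem_tors {𝔪 : Ideal A} {v : V} : v ∈ tors (k := k) 𝔪 ↔ ∀ a ∈ 𝔪, a • v = 0 := by
  unfold tors
  rw [Submodule.restrictScalars_mem, Submodule.mem_torsionBySet_iff]
  exact ⟨fun h a ha => h ⟨a, ha⟩, fun h a => h a.1 a.2⟩

variable (ρ : Representation k H V) (hsemi : ∀ (h : H) (a : A) (v : V), ρ h (a • v) = (h • a) • ρ h v)

include hsemi in
theorem map_tors (h : H) (𝔪 : Ideal A) : (tors (k := k) (V := V) 𝔪).map (ρ h) = tors (h • 𝔪) := by
  have key : ∀ (h : H) (𝔪 : Ideal A) (v : V), v ∈ tors (k := k) 𝔪 → ρ h v ∈ tors (k := k) (h • 𝔪) := by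
    intro h 𝔪 v hv
    rw [mem_tors] at hv ⊢
    intro b hb
    have hb' : h⁻¹ • b ∈ 𝔪 := by
      rwa [← Ideal.mem_pointwise_smul_iff_inv_smul_mem]
    have := hsemi h (h⁻¹ • b) v
    rw [smul_inv_smul, hv _ hb', map_zero] at this
    exact this.symm
  apply le_antisymm
  · rintro _ ⟨v, hv, rfl⟩
    exact key h 𝔪 v hv
  · intro w hw
    refine ⟨ρ h⁻¹ w, ?_, ?_⟩
    · have := key h⁻¹ (h • 𝔪) w hw
      rwa [inv_smul_smul] at this
    · rw [← Module.End.mul_apply, ← map_mul, mul_inv_cancel, map_one]; rfl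

include hsemi in
/-- The local statement at one maximal ideal: the torsion part is free over the stabilizer. -/
theorem local_free [Finite H] (𝔪 : Ideal A) [h𝔪 : 𝔪.IsMaximal]
    (hgal : ∀ h : H, h • 𝔪 = 𝔪 → (∀ a : A, h • a - a ∈ 𝔪) →
      tors (k := k) (V := V) 𝔪 ≠ ⊥ → h = 1) :
    ∃ W : Submodule k V,
      iSupIndep (fun g : MulAction.stabilizer H 𝔪 => W.map (ρ (g : H))) ∧
      ⨆ g : MulAction.stabilizer H 𝔪, W.map (ρ (g : H)) = tors 𝔪 := by
  classical
  by_cases hT : tors (k := k) (V := V) 𝔪 = ⊥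
  · refine ⟨⊥, ?_, ?_⟩
    · simp only [Submodule.map_bot]
      rw [iSupIndep_def]; intro i; simp
    · simp [hT]
  let _ : Field (A ⧸ 𝔪) := Ideal.Quotient.field 𝔪
  let _ : MulSemiringAction (MulAction.stabilizer H 𝔪) (A ⧸ 𝔪) :=
    MulSemiringAction.compHom (A ⧸ 𝔪) (Ideal.Quotient.stabilizerHom 𝔪 (𝔪.under ℤ) H)
  have hact : ∀ (g : MulAction.stabilizer H 𝔪) (a : A),
      g • (Ideal.Quotient.mk 𝔪 a) = Ideal.Quotient.mk 𝔪 ((g : H) • a) := fun g a => rfl
  have : FaithfulSMul (MulAction.stabilizer H 𝔪) (A ⧸ 𝔪) := by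
    refine ⟨fun {g₁ g₂} h => ?_⟩
    have h1 : ((g₂⁻¹ * g₁ : MulAction.stabilizer H 𝔪) : H) = 1 := by
      apply hgal _ (g₂⁻¹ * g₁).2 _ hT
      intro a
      have := h (Ideal.Quotient.mk 𝔪 a)
      rw [hact, hact] at this
      have h2 : Ideal.Quotient.mk 𝔪 ((g₂ : H)⁻¹ • (g₁ : H) • a) = Ideal.Quotient.mk 𝔪 a := by
        have h3 := congrArg (fun c => (g₂⁻¹ : MulAction.stabilizer H 𝔪) • c) this
        simp only [hact] at h3
        simpa using h3
      rw [← Ideal.Quotient.eq]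
      simpa [mul_smul] using h2
    have h2 : g₂⁻¹ * g₁ = 1 := Subtype.ext h1
    exact (inv_mul_eq_one.mp h2).symm
  -- the representation on the torsion submodule
  have hstab : ∀ (g : MulAction.stabilizer H 𝔪) (x : V),
      x ∈ Submodule.torsionBySet A V (𝔪 : Set A) →
      ρ (g : H) x ∈ Submodule.torsionBySet A V (𝔪 : Set A) := by
    intro g x hx
    have h1 : x ∈ tors (k := k) 𝔪 := hx
    have h2 : ρ (g : H) x ∈ (tors (k := k) (V := V) 𝔪).map (ρ (g : H)) :=
      Submodule.mem_map_of_mem h1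
    rw [map_tors ρ hsemi, g.2] at h2
    exact h2
  let ρX : Representation k (MulAction.stabilizer H 𝔪)
      ↥(Submodule.torsionBySet A V (𝔪 : Set A)) :=
    { toFun := fun g =>
        { toFun := fun x => ⟨ρ (g : H) x.1, hstab g x.1 x.2⟩
          map_add' := fun x y => Subtype.ext (by simp)
          map_smul' := fun c x => Subtype.ext (by simp) }
      map_one' := by
        ext x
        simp
      map_mul' := fun g₁ g₂ => by
        ext x
        simp }
  have hρX : ∀ (g : MulAction.stabilizer H 𝔪) (x : ↥(Submodule.torsionBySet A V (𝔪 : Set A))),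
      ((ρX g x : ↥(Submodule.torsionBySet A V (𝔪 : Set A))) : V) = ρ (g : H) (x : V) :=
    fun g x => rfl
  have hsemiX : ∀ (g : MulAction.stabilizer H 𝔪) (c : A ⧸ 𝔪)
      (x : ↥(Submodule.torsionBySet A V (𝔪 : Set A))), ρX g (c • x) = (g • c) • ρX g x := by
    intro g c x
    obtain ⟨a, rfl⟩ := Ideal.Quotient.mk_surjective c
    apply Subtype.ext
    rw [hact, Submodule.torsionBySet.mk_smul, Submodule.torsionBySet.mk_smul, hρX,
      Submodule.coe_smul, Submodule.coe_smul, hρX, hsemi]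
  obtain ⟨W', hW'i, hW's⟩ := GaloisFree.exists_free (k := k) (K := A ⧸ 𝔪) ρX hsemiX
  let ι : ↥(Submodule.torsionBySet A V (𝔪 : Set A)) →ₗ[k] V :=
    (Submodule.torsionBySet A V (𝔪 : Set A)).subtype.restrictScalars k
  have hι : Function.Injective ι := Subtype.val_injective
  have hcomm : ∀ g : MulAction.stabilizer H 𝔪, (W'.map ι).map (ρ (g : H)) = (W'.map (ρX g)).map ι := by
    intro g
    rw [← Submodule.map_comp, ← Submodule.map_comp]
    congr 1
  have := Fintype.ofFinite (MulAction.stabilizer H 𝔪)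
  refine ⟨W'.map ι, ?_, ?_⟩
  · rw [iSupIndep_iff_sum_eq_zero] at hW'i ⊢
    intro v hv hsum
    have hv' : ∀ g, ∃ x ∈ W'.map (ρX g), ι x = v g := by
      intro g
      have := hv g
      rw [hcomm] at this
      exact this
    choose x hx hxv using hv'
    have h0 : ∑ g, x g = 0 := by
      apply hι
      rw [map_sum, map_zero, ← hsum]
      exact Finset.sum_congr rfl fun g _ => hxv g
    intro g
    rw [← hxv g, hW'i x hx h0 g, map_zero]
  · simp_rw [hcomm]
    rw [← Submodule.map_iSup, hW's, Submodule.map_top]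
    ext v
    simp only [LinearMap.mem_range]
    constructor
    · rintro ⟨x, rfl⟩
      exact x.2
    · intro hv
      exact ⟨⟨v, hv⟩, rfl⟩

omit [Group H] [MulSemiringAction H A] in
/-- Independence of the torsion parts at distinct maximal ideals, elementwise. -/
theorem tors_indep {ι : Type*} [Fintype ι] (f : ι → Ideal A) (hmax : ∀ i, (f i).IsMaximal)
    (hinj : Function.Injective f) (v : ι → V) (hv : ∀ i, v i ∈ tors (k := k) (f i))
    (hsum : ∑ i, v i = 0) : ∀ i, v i = 0 := by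
  classical
  have hp : ((Finset.univ : Finset ι) : Set ι).Pairwise fun i j => f i ⊔ f j = ⊤ := by
    intro i _ j _ hij
    exact (hmax i).coprime_of_ne (hmax j) (fun h => hij (hinj h))
  have h1 := Submodule.supIndep_torsionBySet_ideal (M := V) hp
  rw [← iSupIndep_iff_supIndep_univ, iSupIndep_iff_sum_eq_zero] at h1
  exact h1 v hv hsum

omit [Group H] [MulSemiringAction H A] in
theorem tors_indep_finset (s : Finset (Ideal A)) (hmax : ∀ 𝔪 ∈ s, 𝔪.IsMaximal)
    (v : Ideal A → V) (hv : ∀ 𝔪 ∈ s, v 𝔪 ∈ tors (k := k) 𝔪)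
    (hsum : ∑ 𝔪 ∈ s, v 𝔪 = 0) : ∀ 𝔪 ∈ s, v 𝔪 = 0 := by
  classical
  have := tors_indep (k := k) (V := V) (fun i : s => (i : Ideal A)) (fun i => hmax i i.2)
    Subtype.val_injective (fun i => v i) (fun i => hv i i.2)
    (by rw [← hsum]; exact Finset.sum_coe_sort s v)
  intro 𝔪 h𝔪
  exact this ⟨𝔪, h𝔪⟩

omit [Group H] [MulSemiringAction H A] in
/-- The torsion parts at all maximal ideals span `V`, when the Jacobson radical is trivial. -/
theorem tors_span [IsArtinianRing A]
    (hJ : ∀ a : A, (∀ 𝔪 : Ideal A, 𝔪.IsMaximal → a ∈ 𝔪) → a = 0) :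
    ⨆ 𝔪 ∈ (IsArtinianRing.setOfPred_isMaximal_finite A).toFinset, tors (k := k) (V := V) 𝔪 = ⊤ := by
  classical
  set S := (IsArtinianRing.setOfPred_isMaximal_finite A).toFinset with hS
  have hp : ((S : Finset (Ideal A)) : Set (Ideal A)).Pairwise fun i j => i ⊔ j = ⊤ := by
    intro i hi j hj hij
    simp only [hS, Set.Finite.coe_toFinset, Set.mem_ofPred_eq] at hi hj
    exact hi.coprime_of_ne hj hij
  have h1 := Submodule.iSup_torsionBySet_ideal_eq_torsionBySet_iInf (M := V) (p := fun i => i) hp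
  have h2 : (⨅ i ∈ S, i : Ideal A) = ⊥ := by
    rw [eq_bot_iff]
    intro a ha
    rw [Ideal.mem_bot]
    apply hJ
    intro 𝔪 h𝔪
    simp only [Ideal.mem_iInf] at ha
    exact ha 𝔪 (by simp [hS, h𝔪])
  rw [eq_top_iff]
  intro x _
  have hx : x ∈ ⨆ i ∈ S, Submodule.torsionBySet A V ((i : Ideal A) : Set A) := by
    rw [h1, h2, Submodule.mem_torsionBySet_iff]
    rintro ⟨a, ha⟩
    have : a = 0 := by simpa using ha
    simp [this]
  rw [Submodule.mem_iSup_finset_iff_exists_sum] at hx ⊢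
  obtain ⟨μ, hμ⟩ := hx
  exact ⟨fun i => ⟨μ i, (μ i).2⟩, hμ⟩

include hsemi in
/-- **Abstract core**: `V` is a free `k[H]`-module. -/
theorem freeOn_top [Finite H] [IsArtinianRing A]
    (hJ : ∀ a : A, (∀ 𝔪 : Ideal A, 𝔪.IsMaximal → a ∈ 𝔪) → a = 0)
    (hgal : ∀ (h : H) (𝔪 : Ideal A), 𝔪.IsMaximal → h • 𝔪 = 𝔪 → (∀ a : A, h • a - a ∈ 𝔪) →
      tors (k := k) (V := V) 𝔪 ≠ ⊥ → h = 1) :
    FreeOn ρ ⊤ := by
  classical
  have := Fintype.ofFinite H
  have key : ∀ (n : ℕ) (s : Finset (Ideal A)), s.card = n → (∀ 𝔪 ∈ s, 𝔪.IsMaximal) →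
      (∀ h : H, ∀ 𝔪 ∈ s, h • 𝔪 ∈ s) → FreeOn ρ (⨆ 𝔪 ∈ s, tors (k := k) (V := V) 𝔪) := by
    intro n
    induction n using Nat.strong_induction_on with
    | _ n ih =>
      intro s hcard hmax hstab
      rcases s.eq_empty_or_nonempty with rfl | ⟨𝔪, h𝔪⟩
      · simpa using freeOn_bot ρ
      have h𝔪max : 𝔪.IsMaximal := hmax 𝔪 h𝔪
      let ω : Finset (Ideal A) := Finset.univ.image fun h : H => h • 𝔪
      have hωs : ω ⊆ s := by
        intro 𝔫 h𝔫
        obtain ⟨h, -, rfl⟩ := Finset.mem_image.mp h𝔫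
        exact hstab h 𝔪 h𝔪
      have h𝔪ω : 𝔪 ∈ ω := Finset.mem_image.mpr ⟨1, Finset.mem_univ _, one_smul _ _⟩
      have hs'stab : ∀ h : H, ∀ 𝔫 ∈ s \ ω, h • 𝔫 ∈ s \ ω := by
        intro h 𝔫 h𝔫
        rw [Finset.mem_sdiff] at h𝔫 ⊢
        refine ⟨hstab h 𝔫 h𝔫.1, fun hmem => h𝔫.2 ?_⟩
        obtain ⟨h', -, hh'⟩ := Finset.mem_image.mp hmem
        refine Finset.mem_image.mpr ⟨h⁻¹ * h', Finset.mem_univ _, ?_⟩
        rw [mul_smul, hh', inv_smul_smul]
      have hcard' : (s \ ω).card < n := by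
        rw [← hcard]
        exact Finset.card_lt_card (Finset.sdiff_ssubset hωs ⟨𝔪, h𝔪ω⟩)
      have hfree' := ih _ hcard' (s \ ω) rfl
        (fun 𝔫 h𝔫 => hmax 𝔫 (Finset.mem_sdiff.mp h𝔫).1) hs'stab
      -- the orbit part
      have hωeq : ⨆ 𝔫 ∈ ω, tors (k := k) (V := V) 𝔫 = ⨆ h : H, (tors (k := k) (V := V) 𝔪).map (ρ h) := by
        simp only [ω, Finset.iSup_finset_image, Finset.mem_univ, iSup_pos]
        exact iSup_congr fun h => (map_tors ρ hsemi h 𝔪).symm
      have hfreeω : FreeOn ρ (⨆ 𝔫 ∈ ω, tors (k := k) (V := V) 𝔫) := by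
        rw [hωeq]
        obtain ⟨W, hW1, hW2⟩ := local_free ρ hsemi 𝔪 (fun h => hgal h 𝔪 h𝔪max)
        refine freeOn_of_subgroup ρ (MulAction.stabilizer H 𝔪) W _ hW1 hW2 ?_
        have := Fintype.ofFinite (H ⧸ MulAction.stabilizer H 𝔪)
        rw [iSupIndep_iff_sum_eq_zero]
        intro v hv hsum
        refine tors_indep (k := k) (V := V) (fun q : H ⧸ MulAction.stabilizer H 𝔪 => q.out • 𝔪)
          (fun q => ?_) ?_ v (fun q => ?_) hsum
        · exact hmax _ (hstab _ 𝔪 h𝔪)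
        · intro q q' hqq'
          have h1 : (q'.out)⁻¹ * q.out ∈ MulAction.stabilizer H 𝔪 := by
            rw [MulAction.mem_stabilizer_iff, mul_smul]
            simp only at hqq'
            rw [hqq', inv_smul_smul]
          have h2 : (QuotientGroup.mk q'.out : H ⧸ MulAction.stabilizer H 𝔪) = QuotientGroup.mk q.out :=
            QuotientGroup.eq.mpr h1
          rw [QuotientGroup.out_eq', QuotientGroup.out_eq'] at h2
          exact h2.symm
        · have := hv q
          rwa [map_tors ρ hsemi] at this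
      -- disjointness
      have hdisj : Disjoint (⨆ 𝔫 ∈ ω, tors (k := k) (V := V) 𝔫) (⨆ 𝔫 ∈ s \ ω, tors (k := k) (V := V) 𝔫) := by
        rw [Submodule.disjoint_def]
        intro x hx1 hx2
        rw [Submodule.mem_iSup_finset_iff_exists_sum] at hx1 hx2
        obtain ⟨a, ha⟩ := hx1
        obtain ⟨b, hb⟩ := hx2
        let c : Ideal A → V := fun 𝔫 => if 𝔫 ∈ ω then (a 𝔫 : V) else -(b 𝔫 : V)
        have hc : ∀ 𝔫 ∈ s, c 𝔫 ∈ tors (k := k) (V := V) 𝔫 := by
          intro 𝔫 _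
          by_cases h : 𝔫 ∈ ω
          · simp only [c, h, if_true]; exact (a 𝔫).2
          · simp only [c, h, if_false]; exact Submodule.neg_mem _ (b 𝔫).2
        have hsum : ∑ 𝔫 ∈ s, c 𝔫 = 0 := by
          rw [← Finset.sdiff_union_of_subset hωs, Finset.sum_union Finset.sdiff_disjoint]
          have h1 : ∑ 𝔫 ∈ ω, c 𝔫 = x := by
            rw [← ha]
            refine Finset.sum_congr rfl fun 𝔫 h𝔫 => ?_
            simp only [c, h𝔫, if_true]
          have h2 : ∑ 𝔫 ∈ s \ ω, c 𝔫 = -x := by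
            rw [← hb, ← Finset.sum_neg_distrib]
            refine Finset.sum_congr rfl fun 𝔫 h𝔫 => ?_
            simp only [c, (Finset.mem_sdiff.mp h𝔫).2, if_false]
          rw [h1, h2, neg_add_cancel]
        have hzero := tors_indep_finset (k := k) (V := V) s hmax c hc hsum
        rw [← ha]
        refine Finset.sum_eq_zero fun 𝔫 h𝔫 => ?_
        have := hzero 𝔫 (hωs h𝔫)
        simpa only [c, h𝔫, if_true] using this
      have hunion : ⨆ 𝔫 ∈ s, tors (k := k) (V := V) 𝔫 =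
          (⨆ 𝔫 ∈ ω, tors (k := k) (V := V) 𝔫) ⊔ ⨆ 𝔫 ∈ s \ ω, tors (k := k) (V := V) 𝔫 := by
        conv_lhs => rw [← Finset.union_sdiff_of_subset hωs]
        exact Finset.iSup_union
      rw [hunion]
      exact hfreeω.sup ρ hfree' hdisj
  have h1 := key _ (IsArtinianRing.setOfPred_isMaximal_finite A).toFinset rfl
    (fun 𝔪 h𝔪 => by simpa using h𝔪)
    (fun h 𝔪 h𝔪 => by
      simp only [Set.Finite.mem_toFinset, Set.mem_ofPred_eq] at h𝔪 ⊢
      rw [Ideal.pointwise_smul_eq_comap]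
      exact Ideal.comap_isMaximal_of_surjective _ (RingEquiv.surjective _))
  rwa [tors_span hJ] at h1

end Cfsg.Agent.Lib.Helper2.FrobCore
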