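import Mathlib
import Cfsg.Agent.Lib.Helper2.FrobCore

/-!
# Free modules for Frobenius-type actions with abelian kernel

`N` is a finite abelian group of order invertible in `k`, acted on fixed-point-freely by the finite
group `H`; both act on `V` compatibly and `N` has no nonzero fixed vector.  Then `V` is a free
`k[H]`-module.
-/

set_option autoImplicit false

namespace Cfsg.Agent.Lib.Helper2.FrobAbelian

open scoped BigOperators Pointwise
open MonoidAlgebra
open Cfsg.Agent.Lib.Helper2.FreeAssembly

variable {k : Type*} [Field k] {N H V : Type*} [CommGroup N] [Finite N] [Group H] [Finite H]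
  [AddCommGroup V] [Module k V]

/-- The action of `H` on the group algebra `k[N]` induced by an action on `N`. -/
@[instance_reducible] noncomputable def algAction (φ : H →* MulAut N) : MulSemiringAction H k[N] :=
  MulSemiringAction.compHom k[N] ((MonoidAlgebra.domCongrAut (R := k) (A := k)).comp φ)

omit [Finite N] [Finite H] in
theorem algAction_single (φ : H →* MulAut N) (h : H) (n : N) (c : k) :
    (algAction (k := k) φ).smul h (single n c) = single (φ h n) c := by
  show (MonoidAlgebra.domCongr k k (φ h)) (single n c) = _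
  simp

omit [Finite H] in
/-- The map `n ↦ n * (φ h n)⁻¹` is a bijection of `N` when `h` acts without fixed points. -/
theorem bijective_mul_inv (φ : H →* MulAut N) (h : H)
    (hfpf : ∀ n : N, φ h n = n → n = 1) : Function.Bijective fun n : N => n * (φ h n)⁻¹ := by
  rw [← Finite.injective_iff_bijective]
  intro n m hnm
  have h1 : φ h (m⁻¹ * n) = m⁻¹ * n := by
    rw [map_mul, map_inv]
    have : n * (φ h m) = m * (φ h n) := by
      have h2 := congrArg (fun x => x * (φ h n) * (φ h m)) hnm
      simp only at h2
      calc n * φ h m = n * (φ h n)⁻¹ * φ h n * φ h m := by group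
        _ = m * (φ h m)⁻¹ * φ h n * φ h m := h2
        _ = m * φ h n := by
            rw [mul_assoc, mul_assoc, mul_comm (φ h n), ← mul_assoc m, ← mul_assoc]
            simp
    calc (φ h m)⁻¹ * φ h n = m⁻¹ * (m * φ h n) * (φ h m)⁻¹ := by
          rw [inv_mul_cancel_left, mul_comm]
      _ = m⁻¹ * (n * φ h m) * (φ h m)⁻¹ := by rw [this]
      _ = m⁻¹ * n := by rw [← mul_assoc, mul_inv_cancel_right]
  have := hfpf _ h1
  exact (inv_mul_eq_one.mp this).symm

theorem abelian_free (φ : H →* MulAut N) (hfpf : ∀ h : H, h ≠ 1 → ∀ n : N, φ h n = n → n = 1)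
    (hN : (Nat.card N : k) ≠ 0) (ρN : Representation k N V) (ρH : Representation k H V)
    (hcompat : ∀ (h : H) (n : N) (v : V), ρH h (ρN n v) = ρN (φ h n) (ρH h v))
    (hfix : ∀ v : V, (∀ n : N, ρN n v = v) → v = 0) : FreeOn ρH ⊤ := by
  classical
  let _ : MulSemiringAction H k[N] := algAction (k := k) φ
  have : NeZero (Nat.card N : k) := ⟨hN⟩
  have := Fintype.ofFinite N
  have hact : ∀ (h : H) (n : N) (c : k), h • (single n c : k[N]) = single (φ h n) c :=
    fun h n c => algAction_single φ h n c
  have hactk : ∀ (h : H) (r : k) (x : k[N]), h • (r • x) = r • (h • x) := by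
    intro h r x
    show (MonoidAlgebra.domCongr k k (φ h)) (r • x) = r • (MonoidAlgebra.domCongr k k (φ h)) x
    exact map_smul _ _ _
  have hsm : ∀ (n : N) (c : k) (v : ρN.asModule), (single n c : k[N]) • v = c • ρN n v :=
    fun n c v => ρN.single_smul c n v
  have : IsArtinianRing k[N] := IsArtinianRing.of_finite k k[N]
  let ρH' : Representation k H ρN.asModule := ρH
  have hcore := FrobCore.freeOn_top (k := k) (A := k[N]) (H := H) (V := ρN.asModule) ρH' ?_ ?_ ?_
  · exact hcore
  · -- semilinearity
    intro h a v
    induction a using MonoidAlgebra.induction_on with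
    | of n =>
      rw [MonoidAlgebra.of_apply, hact, hsm, hsm, one_smul, one_smul]
      exact hcompat h n v
    | add x y hx hy =>
      rw [add_smul, map_add, hx, hy, smul_add, add_smul]
    | smul r x hx =>
      rw [smul_assoc r x v, map_smul, hx, hactk, smul_assoc r (h • x)]
  · -- trivial Jacobson radical
    intro a ha
    have hj := IsSemisimpleRing.jacobson_eq_bot k[N]
    have hmem : a ∈ Ring.jacobson k[N] := by
      rw [Ring.jacobson, Module.jacobson, Submodule.mem_sInf]
      intro m hm
      exact ha m (Ideal.isMaximal_def.mpr hm)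
    rw [hj] at hmem
    simpa using hmem
  · -- Galois condition
    intro h 𝔪 h𝔪 hstab htriv hT
    by_contra hne
    obtain ⟨v, hv, hv0⟩ := Submodule.exists_mem_ne_zero_of_ne_bot hT
    rw [FrobCore.mem_tors] at hv
    have hbij := bijective_mul_inv φ h (hfpf h hne)
    -- the element `E`
    have hE : ∑ n : N, (single n (1 : k) : k[N]) * (h • (single n⁻¹ (1 : k) : k[N])) =
        ∑ m : N, (single m (1 : k) : k[N]) := by
      rw [← Fintype.sum_bijective _ hbij (fun n => (single (n * (φ h n)⁻¹) (1 : k) : k[N]))
        (fun m => (single m (1 : k) : k[N])) (fun n => rfl)]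
      refine Finset.sum_congr rfl fun n _ => ?_
      rw [hact, MonoidAlgebra.single_mul_single, map_inv, one_mul]
    have hD : ∑ n : N, (single n (1 : k) : k[N]) * (h • (single n⁻¹ (1 : k) : k[N])) -
        (Nat.card N : k[N]) ∈ 𝔪 := by
      have h1 : (Nat.card N : k[N]) = ∑ n : N, (single n (1 : k) : k[N]) * (single n⁻¹ (1 : k) : k[N]) := by
        simp_rw [MonoidAlgebra.single_mul_single, mul_inv_cancel, one_mul]
        rw [Finset.sum_const, Finset.card_univ, Nat.card_eq_fintype_card, nsmul_eq_mul]
        rw [← MonoidAlgebra.one_def, mul_one]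
      rw [h1, ← Finset.sum_sub_distrib]
      refine Ideal.sum_mem _ fun n _ => ?_
      rw [← mul_sub]
      exact Ideal.mul_mem_left _ _ (htriv _)
    have h2 := hv _ hD
    rw [hE, sub_smul, Finset.sum_smul] at h2
    have h3 : ∑ m : N, (single m (1 : k) : k[N]) • v = 0 := by
      have hfixed : ∀ n : N, ρN n (∑ m : N, ρN m v) = ∑ m : N, ρN m v := by
        intro n
        rw [map_sum]
        have : ∀ m, ρN n (ρN m v) = ρN (n * m) v := fun m => by rw [map_mul]; rfl
        simp_rw [this]
        exact Fintype.sum_equiv (Equiv.mulLeft n) _ _ (fun m => rfl)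
      have hz : ∑ m : N, ρN m v = 0 := hfix _ hfixed
      have he : ∑ m : N, (single m (1 : k) : k[N]) • v = ∑ m : N, ρN m v := by
        refine Finset.sum_congr rfl fun m _ => ?_
        rw [hsm, one_smul]
      rw [he]; exact hz
    rw [h3, zero_sub, neg_eq_zero] at h2
    have h4 : (Nat.card N : k[N]) • v = (Nat.card N : k) • v := by
      have : (Nat.card N : k[N]) = (single 1 (Nat.card N : k) : k[N]) := by
        rw [← MonoidAlgebra.natCast_def]
      rw [this, hsm, map_one]; rfl
    rw [h4] at h2
    exact hv0 ((smul_eq_zero.mp h2).resolve_left hN)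

end Cfsg.Agent.Lib.Helper2.FrobAbelian
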