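import Mathlib
import Cfsg.Agent.Lib.Helper2.FrobAbelian

/-!
# Free modules for Frobenius-type actions with nilpotent kernel

`F` is a finite nilpotent group acted on fixed-point-freely by the finite group `H`; both act on
the `k`-space `V` compatibly and `F` has no nonzero fixed vector.  Then `V` is a free
`k[H]`-module (`nilpotent_free`).
-/

set_option autoImplicit false

namespace Cfsg.Agent.Lib.Helper2.FrobFree

open scoped BigOperators
open Cfsg.Agent.Lib.Helper2.FreeAssembly

universe uk uH uF uV

section PGroup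

variable {k : Type*} [Field k] {V : Type*} [AddCommGroup V] [Module k V]

/-- A finite `p`-group acting linearly on a nonzero space of characteristic `p` fixes a nonzero
vector. -/
theorem exists_fixed_of_pgroup {p : ℕ} [hp : Fact p.Prime] [CharP k p] {F : Type*} [Group F]
    [Finite F] (hF : IsPGroup p F) (ρF : Representation k F V) {v : V} (hv : v ≠ 0) :
    ∃ w : V, w ≠ 0 ∧ ∀ f : F, ρF f w = w := by
  classical
  let S : Set V := Set.range fun f : F => ρF f v
  let M : AddSubgroup V := AddSubgroup.closure S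
  have hpV : ∀ x : V, p • x = 0 := by
    intro x
    rw [← Nat.cast_smul_eq_nsmul k, CharP.cast_eq_zero, zero_smul]
  have hinv : ∀ f : F, ∀ x ∈ M, ρF f x ∈ M := by
    intro f x hx
    induction hx using AddSubgroup.closure_induction with
    | mem x hx =>
      obtain ⟨g, rfl⟩ := hx
      apply AddSubgroup.subset_closure
      exact ⟨f * g, by simp [map_mul]⟩
    | zero => rw [map_zero]; exact M.zero_mem
    | add x y _ _ hx hy => rw [map_add]; exact M.add_mem hx hy
    | neg x _ hx => rw [map_neg]; exact M.neg_mem hx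
  have hfin : Finite ↥M := by
    have : AddGroup.FG ↥M := AddGroup.closure_finite_fg S
    apply AddCommGroup.finite_of_fg_isAddTorsion
    intro x
    rw [isOfFinAddOrder_iff_nsmul_eq_zero]
    refine ⟨p, hp.out.pos, ?_⟩
    ext
    simp [hpV]
  let _ : MulAction F ↥M :=
    { smul := fun f m => ⟨ρF f m, hinv f m m.2⟩
      one_smul := fun m => Subtype.ext (by
        show ρF 1 (m : V) = m
        rw [map_one]; rfl)
      mul_smul := fun f g m => Subtype.ext (by
        show ρF (f * g) (m : V) = ρF f (ρF g (m : V))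
        rw [map_mul]; rfl) }
  have hvM : v ∈ M := AddSubgroup.subset_closure ⟨1, by simp⟩
  have hdvd : p ∣ Nat.card ↥M := by
    have h1 : addOrderOf (⟨v, hvM⟩ : ↥M) = p := by
      apply addOrderOf_eq_prime
      · ext
        simp [hpV]
      · intro h
        exact hv (congrArg Subtype.val h)
    rw [← h1]
    exact addOrderOf_dvd_natCard _
  have h0 : (0 : ↥M) ∈ MulAction.fixedPoints F ↥M := by
    intro f
    exact Subtype.ext (map_zero (ρF f))
  obtain ⟨b, hb, hb0⟩ := hF.exists_fixed_point_of_prime_dvd_card_of_fixed_point ↥M hdvd h0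
  refine ⟨b, ?_, ?_⟩
  · intro h
    exact hb0 (Subtype.ext h.symm)
  · intro f
    exact congrArg Subtype.val (hb f)

end PGroup

section Transfer

variable {k : Type*} [Field k] {H : Type*} [Group H] {V : Type*} [AddCommGroup V] [Module k V]

/-- Freeness of a subrepresentation, seen inside the ambient space. -/
theorem freeOn_of_subrepresentation [Finite H] (ρ : Representation k H V) (X : Submodule k V)
    (hX : ∀ g, X ≤ X.comap (ρ g)) (h : FreeOn (ρ.subrepresentation X hX) ⊤) : FreeOn ρ X := by
  classical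
  have := Fintype.ofFinite H
  obtain ⟨W', hi, hs⟩ := h
  have key : ∀ g : H, (W'.map X.subtype).map (ρ g) =
      (W'.map (ρ.subrepresentation X hX g)).map X.subtype := by
    intro g
    rw [← Submodule.map_comp, ← Submodule.map_comp]
    congr 1
  refine ⟨W'.map X.subtype, ?_, ?_⟩
  · rw [iSupIndep_iff_sum_eq_zero] at hi ⊢
    intro v hv hsum
    have hv' : ∀ g, ∃ y ∈ W'.map (ρ.subrepresentation X hX g), X.subtype y = v g := by
      intro g
      have := hv g
      rw [key] at this
      exact this
    choose y hy hyv using hv'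
    have hsum' : ∑ g, y g = 0 := by
      apply Subtype.ext
      rw [Submodule.coe_sum, Submodule.coe_zero, ← hsum]
      exact Finset.sum_congr rfl fun g _ => hyv g
    intro g
    rw [← hyv g, hi y hy hsum' g, map_zero]
  · simp_rw [key]
    rw [← Submodule.map_iSup, hs, Submodule.map_subtype_top]

end Transfer

section Auts

variable {H : Type*} [Group H] {F : Type*} [Group F]

/-- Restriction of an action by automorphisms to an invariant subgroup. -/
def restrictAut (φ : H →* MulAut F) (N : Subgroup F) (hN : ∀ h : H, ∀ x ∈ N, φ h x ∈ N) :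
    H →* MulAut ↥N where
  toFun h :=
    { toFun := fun x => ⟨φ h x, hN h x x.2⟩
      invFun := fun x => ⟨φ h⁻¹ x, hN h⁻¹ x x.2⟩
      left_inv := fun x => Subtype.ext (by
        show φ h⁻¹ (φ h x) = x
        rw [map_inv, MulAut.inv_apply_self])
      right_inv := fun x => Subtype.ext (by
        show φ h (φ h⁻¹ x) = x
        rw [map_inv, MulAut.apply_inv_self])
      map_mul' := fun x y => Subtype.ext (by
        show φ h ((x : F) * (y : F)) = φ h x * φ h y
        rw [map_mul]) }
  map_one' := by
    ext x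
    show φ 1 (x : F) = x
    rw [map_one]; rfl
  map_mul' a b := by
    ext x
    show φ (a * b) (x : F) = φ a (φ b x)
    rw [map_mul]; rfl

@[simp]
theorem restrictAut_apply (φ : H →* MulAut F) (N : Subgroup F)
    (hN : ∀ h : H, ∀ x ∈ N, φ h x ∈ N) (h : H) (x : ↥N) :
    ((restrictAut φ N hN h x : ↥N) : F) = φ h x := rfl

theorem map_eq_of_invariant (φ : H →* MulAut F) (N : Subgroup F)
    (hN : ∀ h : H, ∀ x ∈ N, φ h x ∈ N) (h : H) : N.map ((φ h : F ≃* F) : F →* F) = N := by
  apply le_antisymm
  · rintro _ ⟨x, hx, rfl⟩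
    exact hN h x hx
  · intro x hx
    refine ⟨φ h⁻¹ x, hN h⁻¹ x hx, ?_⟩
    show φ h (φ h⁻¹ x) = x
    rw [map_inv, MulAut.apply_inv_self]

/-- The induced action by automorphisms on the quotient by an invariant normal subgroup. -/
def quotientAut (φ : H →* MulAut F) (N : Subgroup F) [N.Normal]
    (hN : ∀ h : H, ∀ x ∈ N, φ h x ∈ N) : H →* MulAut (F ⧸ N) where
  toFun h := QuotientGroup.congr N N (φ h) (map_eq_of_invariant φ N hN h)
  map_one' := by
    ext x
    induction x using QuotientGroup.induction_on with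
    | H x =>
      show ((φ 1 x : F) : F ⧸ N) = (x : F ⧸ N)
      rw [map_one]; rfl
  map_mul' a b := by
    ext x
    induction x using QuotientGroup.induction_on with
    | H x =>
      show ((φ (a * b) x : F) : F ⧸ N) = ((φ a (φ b x) : F) : F ⧸ N)
      rw [map_mul]; rfl

@[simp]
theorem quotientAut_mk (φ : H →* MulAut F) (N : Subgroup F) [N.Normal]
    (hN : ∀ h : H, ∀ x ∈ N, φ h x ∈ N) (h : H) (x : F) :
    quotientAut φ N hN h (x : F ⧸ N) = ((φ h x : F) : F ⧸ N) := rfl

/-- For a fixed-point-free automorphism of a finite group, `x ↦ x⁻¹ * φ x` is injective. -/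
theorem injective_inv_mul (ψ : MulAut F) (hψ : ∀ f : F, ψ f = f → f = 1) :
    Function.Injective fun x : F => x⁻¹ * ψ x := by
  intro x y hxy
  simp only at hxy
  have h1 : ψ (y * x⁻¹) = y * x⁻¹ := by
    rw [map_mul, map_inv]
    have h2 : y * (x⁻¹ * ψ x) * (ψ x)⁻¹ = y * (y⁻¹ * ψ y) * (ψ x)⁻¹ := by rw [hxy]
    rw [← mul_assoc, mul_inv_cancel_right, mul_inv_cancel_left] at h2
    exact h2.symm
  have := hψ _ h1
  exact (mul_inv_eq_one.mp this).symm

/-- A fixed-point-free action stays fixed-point-free on quotients by invariant normal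
subgroups. -/
theorem quotientAut_fpf [Finite F] (φ : H →* MulAut F) (N : Subgroup F) [N.Normal]
    (hN : ∀ h : H, ∀ x ∈ N, φ h x ∈ N)
    (hfpf : ∀ h : H, h ≠ 1 → ∀ f : F, φ h f = f → f = 1) :
    ∀ h : H, h ≠ 1 → ∀ f : F ⧸ N, quotientAut φ N hN h f = f → f = 1 := by
  intro h hh f hf
  induction f using QuotientGroup.induction_on with
  | H x =>
    rw [quotientAut_mk, QuotientGroup.eq] at hf
    -- `(φ h x)⁻¹ * x ∈ N`, hence `x⁻¹ * φ h x ∈ N`
    have hmem : x⁻¹ * φ h x ∈ N := by
      have := N.inv_mem hf
      rwa [mul_inv_rev, inv_inv] at this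
    have hinj := injective_inv_mul (φ h) (hfpf h hh)
    -- the restriction to `N` is injective, hence surjective
    let g : ↥N → ↥N := fun n => ⟨(n : F)⁻¹ * φ h n, N.mul_mem (N.inv_mem n.2) (hN h n n.2)⟩
    have hg : Function.Injective g := by
      intro a b hab
      apply Subtype.ext
      apply hinj
      exact congrArg Subtype.val hab
    have hgs : Function.Surjective g := Finite.surjective_of_injective hg
    obtain ⟨n, hn⟩ := hgs ⟨_, hmem⟩
    have : (n : F) = x := hinj (congrArg Subtype.val hn)
    rw [QuotientGroup.eq_one_iff, ← this]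
    exact n.2

end Auts

section Average

variable {k : Type*} [Field k] {F : Type*} [Group F] {V : Type*} [AddCommGroup V] [Module k V]

/-- The vectors fixed by the subgroup `N`. -/
def fixedSub (ρF : Representation k F V) (N : Subgroup F) : Submodule k V where
  carrier := {v | ∀ n ∈ N, ρF n v = v}
  add_mem' := fun {a b} ha hb n hn => by rw [map_add, ha n hn, hb n hn]
  zero_mem' := fun n _ => map_zero _
  smul_mem' := fun r v hv n hn => by rw [map_smul, hv n hn]

theorem mem_fixedSub {ρF : Representation k F V} {N : Subgroup F} {v : V} :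
    v ∈ fixedSub ρF N ↔ ∀ n ∈ N, ρF n v = v := Iff.rfl

/-- The averaging operator over the finite subgroup `N`. -/
noncomputable def avg (ρF : Representation k F V) (N : Subgroup F) [Fintype ↥N] : V →ₗ[k] V :=
  (Nat.card ↥N : k)⁻¹ • ∑ n : ↥N, ρF (n : F)

theorem avg_apply (ρF : Representation k F V) (N : Subgroup F) [Fintype ↥N] (v : V) :
    avg ρF N v = (Nat.card ↥N : k)⁻¹ • ∑ n : ↥N, ρF (n : F) v := by
  rw [avg, LinearMap.smul_apply, LinearMap.sum_apply]

theorem avg_mem_fixedSub (ρF : Representation k F V) (N : Subgroup F) [Fintype ↥N] (v : V) :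
    avg ρF N v ∈ fixedSub ρF N := by
  intro m hm
  rw [avg_apply, map_smul, map_sum]
  congr 1
  have : ∀ n : ↥N, ρF m (ρF (n : F) v) = ρF ((⟨m, hm⟩ * n : ↥N) : F) v := by
    intro n
    rw [Subgroup.coe_mul, map_mul]; rfl
  simp_rw [this]
  exact Fintype.sum_equiv (Equiv.mulLeft (⟨m, hm⟩ : ↥N)) _ _ (fun n => rfl)

theorem avg_of_mem_fixedSub (ρF : Representation k F V) (N : Subgroup F) [Fintype ↥N]
    (hNk : (Nat.card ↥N : k) ≠ 0) {v : V} (hv : v ∈ fixedSub ρF N) : avg ρF N v = v := by
  rw [avg_apply]
  have : ∀ n : ↥N, ρF (n : F) v = v := fun n => hv n n.2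
  simp_rw [this]
  rw [Finset.sum_const, Finset.card_univ, ← Nat.card_eq_fintype_card,
    ← Nat.cast_smul_eq_nsmul k, smul_smul, inv_mul_cancel₀ hNk, one_smul]

theorem avg_idem (ρF : Representation k F V) (N : Subgroup F) [Fintype ↥N]
    (hNk : (Nat.card ↥N : k) ≠ 0) (v : V) : avg ρF N (avg ρF N v) = avg ρF N v :=
  avg_of_mem_fixedSub ρF N hNk (avg_mem_fixedSub ρF N v)

theorem disjoint_fixedSub_ker (ρF : Representation k F V) (N : Subgroup F) [Fintype ↥N]
    (hNk : (Nat.card ↥N : k) ≠ 0) : Disjoint (fixedSub ρF N) (LinearMap.ker (avg ρF N)) := by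
  rw [Submodule.disjoint_def]
  intro v hv hv'
  rw [← avg_of_mem_fixedSub ρF N hNk hv]
  exact hv'

theorem fixedSub_sup_ker (ρF : Representation k F V) (N : Subgroup F) [Fintype ↥N]
    (hNk : (Nat.card ↥N : k) ≠ 0) : fixedSub ρF N ⊔ LinearMap.ker (avg ρF N) = ⊤ := by
  rw [eq_top_iff]
  intro v _
  have : v = avg ρF N v + (v - avg ρF N v) := by abel
  rw [this]
  refine Submodule.add_mem_sup (avg_mem_fixedSub ρF N v) ?_
  rw [LinearMap.mem_ker, map_sub, avg_idem ρF N hNk, sub_self]

end Average

section Step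

open scoped IsMulCommutative

variable {k : Type uk} [Field k] {H : Type uH} [Group H] [Finite H]

/-- The statement to be proved, for a fixed kernel type `F`. -/
def Good.{u1, u2, u3, u4} (k : Type u1) [Field k] (H : Type u2) [Group H] (F : Type u3)
    [Group F] : Prop :=
  ∀ (φ : H →* MulAut F), (∀ h : H, h ≠ 1 → ∀ f : F, φ h f = f → f = 1) →
    ∀ (V : Type u4) [AddCommGroup V] [Module k V] (ρF : Representation k F V)
      (ρH : Representation k H V),
      (∀ (h : H) (f : F) (v : V), ρH h (ρF f v) = ρF (φ h f) (ρH h v)) →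
      (∀ v : V, (∀ f : F, ρF f v = v) → v = 0) → FreeOn ρH ⊤

/-- The inductive step: splitting off the fixed space of an invariant abelian normal subgroup of
order invertible in `k`. -/
theorem step {F : Type uF} [Group F] [Finite F] (N : Subgroup F) [N.Normal] [IsMulCommutative ↥N]
    (hNk : (Nat.card ↥N : k) ≠ 0) (IH : Good.{uk, uH, uF, uV} k H (F ⧸ N))
    (φ : H →* MulAut F) (hNinv : ∀ h : H, ∀ x ∈ N, φ h x ∈ N)
    (hfpf : ∀ h : H, h ≠ 1 → ∀ f : F, φ h f = f → f = 1)
    (V : Type uV) [AddCommGroup V] [Module k V] (ρF : Representation k F V)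
    (ρH : Representation k H V)
    (hcompat : ∀ (h : H) (f : F) (v : V), ρH h (ρF f v) = ρF (φ h f) (ρH h v))
    (hfix : ∀ v : V, (∀ f : F, ρF f v = v) → v = 0) : FreeOn ρH ⊤ := by
  classical
  have := Fintype.ofFinite ↥N
  -- the averaging operator commutes with `H` and with `N`
  have havgH : ∀ (h : H) (v : V), ρH h (avg ρF N v) = avg ρF N (ρH h v) := by
    intro h v
    rw [avg_apply, avg_apply, map_smul, map_sum]
    congr 1
    simp_rw [hcompat]
    exact Fintype.sum_equiv (restrictAut φ N hNinv h).toEquiv _ _ (fun n => rfl)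
  have havgN : ∀ m ∈ N, ∀ v : V, ρF m (avg ρF N v) = avg ρF N (ρF m v) := by
    intro m hm v
    rw [avg_apply, avg_apply, map_smul, map_sum]
    congr 1
    refine Finset.sum_congr rfl fun n _ => ?_
    have hc : m * (n : F) = (n : F) * m := setLike_mul_comm hm n.2
    rw [← Module.End.mul_apply, ← map_mul, hc, map_mul]; rfl
  -- invariance of the two pieces
  have hV₁H : ∀ h, fixedSub ρF N ≤ (fixedSub ρF N).comap (ρH h) := by
    intro h v hv
    rw [Submodule.mem_comap, mem_fixedSub]
    intro n hn
    have h1 := hcompat h (φ h⁻¹ n) v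
    rw [hv _ (hNinv h⁻¹ n hn)] at h1
    have h2 : φ h (φ h⁻¹ n) = n := by rw [map_inv, MulAut.apply_inv_self]
    rw [h2] at h1
    exact h1.symm
  have hV₁F : ∀ f, fixedSub ρF N ≤ (fixedSub ρF N).comap (ρF f) := by
    intro f v hv
    rw [Submodule.mem_comap, mem_fixedSub]
    intro n hn
    have h1 : n * f = f * (f⁻¹ * n * f) := by group
    have h2 : f⁻¹ * n * f ∈ N := ‹N.Normal›.conj_mem' n hn f
    rw [← Module.End.mul_apply, ← map_mul, h1, map_mul, Module.End.mul_apply, hv _ h2]
  have hV₂H : ∀ h, LinearMap.ker (avg ρF N) ≤ (LinearMap.ker (avg ρF N)).comap (ρH h) := by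
    intro h v hv
    rw [Submodule.mem_comap, LinearMap.mem_ker, ← havgH, LinearMap.mem_ker.mp hv, map_zero]
  let ρN : Representation k ↥N V := ρF.comp N.subtype
  have hV₂N : ∀ n : ↥N, LinearMap.ker (avg ρF N) ≤ (LinearMap.ker (avg ρF N)).comap (ρN n) := by
    intro n v hv
    rw [Submodule.mem_comap, LinearMap.mem_ker]
    show avg ρF N (ρF (n : F) v) = 0
    rw [← havgN _ n.2, LinearMap.mem_ker.mp hv, map_zero]
  -- the piece without `N`-fixed vectors
  have hfree₂ : FreeOn ρH (LinearMap.ker (avg ρF N)) := by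
    apply freeOn_of_subrepresentation ρH _ hV₂H
    refine FrobAbelian.abelian_free (restrictAut φ N hNinv) ?_ hNk
      (ρN.subrepresentation _ hV₂N) (ρH.subrepresentation _ hV₂H) ?_ ?_
    · intro h hh n hn
      apply Subtype.ext
      exact hfpf h hh n (congrArg Subtype.val hn)
    · intro h n v
      apply Subtype.ext
      exact hcompat h n v
    · intro v hv
      apply Subtype.ext
      have h1 : (v : V) ∈ fixedSub ρF N := by
        intro n hn
        exact congrArg Subtype.val (hv ⟨n, hn⟩)
      have h2 := avg_of_mem_fixedSub ρF N hNk h1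
      rw [LinearMap.mem_ker.mp v.2] at h2
      exact h2.symm
  -- the piece fixed by `N`
  have hfree₁ : FreeOn ρH (fixedSub ρF N) := by
    apply freeOn_of_subrepresentation ρH _ hV₁H
    let ρF₁ : Representation k F ↥(fixedSub ρF N) := ρF.subrepresentation _ hV₁F
    have hker : N ≤ MonoidHom.ker ρF₁ := by
      intro n hn
      rw [MonoidHom.mem_ker]
      ext v
      exact v.2 n hn
    let ρQ : Representation k (F ⧸ N) ↥(fixedSub ρF N) := QuotientGroup.lift N ρF₁ hker
    refine IH (quotientAut φ N hNinv) (quotientAut_fpf φ N hNinv hfpf) _ ρQ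
      (ρH.subrepresentation _ hV₁H) ?_ ?_
    · intro h f v
      induction f using QuotientGroup.induction_on with
      | H x =>
        apply Subtype.ext
        exact hcompat h x v
    · intro v hv
      apply Subtype.ext
      apply hfix
      intro f
      exact congrArg Subtype.val (hv (f : F ⧸ N))
  have := FreeOn.sup ρH hfree₁ hfree₂ (disjoint_fixedSub_ker ρF N hNk)
  rwa [fixedSub_sup_ker ρF N hNk] at this

theorem nilpotent_free_aux : ∀ (n : ℕ) (F : Type uF) [Group F] [Finite F] [Group.IsNilpotent F],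
    Nat.card F = n → Good.{uk, uH, uF, uV} k H F := by
  intro n
  induction n using Nat.strong_induction_on with
  | _ n ih =>
  intro F _ _ _ hcard φ hfpf V _ _ ρF ρH hcompat hfix
  classical
  by_cases hq : ∃ q : ℕ, q.Prime ∧ q ∣ Nat.card F ∧ (q : k) ≠ 0
  · obtain ⟨q, hqp, hqd, hqk⟩ := hq
    have : Fact q.Prime := ⟨hqp⟩
    obtain ⟨Q⟩ : Nonempty (Sylow q F) := inferInstance
    have hQn : (Q : Subgroup F).Normal := inferInstance
    have hQc : (Q : Subgroup F).Characteristic := Q.characteristic_of_normal hQn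
    let N : Subgroup F := (Q : Subgroup F) ⊓ Subgroup.centralizer ((Q : Subgroup F) : Set F)
    have hNc : N.Characteristic :=
      show ((Q : Subgroup F) ⊓ Subgroup.centralizer ((Q : Subgroup F) : Set F)).Characteristic from inferInstance
    have hNcomm : IsMulCommutative ↥N := ⟨⟨fun a b => Subtype.ext (by
      have := (Subgroup.mem_centralizer_iff.mp a.2.2) b.1 b.2.1
      exact this.symm)⟩⟩
    have hNinv : ∀ h : H, ∀ x ∈ N, φ h x ∈ N := fun h x hx =>
      Subgroup.characteristic_iff_le_comap.mp hNc (φ h) hx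
    -- `N` is nontrivial
    have hQnt : Nontrivial ↥(Q : Subgroup F) :=
      (Subgroup.nontrivial_iff_ne_bot _).mpr (Q.ne_bot_of_dvd_card hqd)
    have hcen := IsPGroup.center_nontrivial Q.isPGroup'
    obtain ⟨z, hz⟩ := exists_ne (1 : Subgroup.center ↥(Q : Subgroup F))
    have hzN : ((z : ↥(Q : Subgroup F)) : F) ∈ N := by
      refine ⟨(z : ↥(Q : Subgroup F)).2, ?_⟩
      show ((z : ↥(Q : Subgroup F)) : F) ∈ Subgroup.centralizer ((Q : Subgroup F) : Set F)
      rw [Subgroup.mem_centralizer_iff]
      intro y hy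
      have := (Subgroup.mem_center_iff.mp z.2) ⟨y, hy⟩
      exact congrArg Subtype.val this
    have hN1 : 1 < Nat.card ↥N := by
      rw [Finite.one_lt_card_iff_nontrivial]
      refine ⟨⟨⟨_, hzN⟩, 1, ?_⟩⟩
      intro h
      apply hz
      have h' : ((z : ↥(Q : Subgroup F)) : F) = 1 := congrArg Subtype.val h
      apply Subtype.ext
      apply Subtype.ext
      exact h'
    -- `|N|` is a power of `q`
    have hNq : IsPGroup q ↥N := Q.isPGroup'.to_le inf_le_left
    obtain ⟨m, hm⟩ := IsPGroup.iff_card.mp hNq
    have hNk : (Nat.card ↥N : k) ≠ 0 := by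
      rw [hm, Nat.cast_pow]
      exact pow_ne_zero _ hqk
    have hlt : Nat.card (F ⧸ N) < n := by
      rw [← hcard, Subgroup.card_eq_card_quotient_mul_card_subgroup N]
      have hpos : 0 < Nat.card (F ⧸ N) := Nat.card_pos
      nlinarith
    exact step N hNk (ih _ hlt (F ⧸ N) rfl) φ hNinv hfpf V ρF ρH hcompat hfix
  · -- all primes dividing `|F|` vanish in `k`
    push Not at hq
    have hV : ∀ v : V, v = 0 := by
      intro v
      by_contra hv
      by_cases h1 : Nat.card F = 1
      · have : Subsingleton F := (Nat.card_eq_one_iff_unique.mp h1).1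
        apply hv
        apply hfix
        intro f
        rw [Subsingleton.elim f 1, map_one]
        rfl
      · obtain ⟨p, hp, hpd⟩ := Nat.exists_prime_and_dvd h1
        have hpk : (p : k) = 0 := hq p hp hpd
        have : Fact p.Prime := ⟨hp⟩
        have hchar : CharP k p := by
          have := ringChar.dvd hpk
          rcases (Nat.dvd_prime hp).mp this with h | h
          · exact absurd h CharP.ringChar_ne_one
          · exact ringChar.of_eq h
        have hF : IsPGroup p F := by
          apply IsPGroup.of_card (n := (Nat.card F).primeFactorsList.length)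
          apply Nat.eq_prime_pow_of_unique_prime_dvd Nat.card_pos.ne'
          intro d hd hdd
          have hdk := hq d hd hdd
          have := (CharP.cast_eq_zero_iff k p d).mp hdk
          exact ((Nat.prime_dvd_prime_iff_eq hp hd).mp this).symm
        obtain ⟨w, hw, hwf⟩ := exists_fixed_of_pgroup hF ρF hv
        exact hw (hfix w hwf)
    have : (⊤ : Submodule k V) = ⊥ := by
      ext v
      simp [hV v]
    rw [this]
    exact freeOn_bot ρH

/-- **Free module lemma for nilpotent kernels.**  Let the finite group `H` act on the finite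
nilpotent group `F` by automorphisms, fixed-point-freely, and let both act on the `k`-space `V`
compatibly.  If `F` fixes no nonzero vector, then `V` is the direct sum of the `H`-translates of
a subspace. -/
theorem nilpotent_free {F : Type uF} [Group F] [Finite F] [Group.IsNilpotent F]
    (φ : H →* MulAut F) (hfpf : ∀ h : H, h ≠ 1 → ∀ f : F, φ h f = f → f = 1)
    {V : Type uV} [AddCommGroup V] [Module k V] (ρF : Representation k F V)
    (ρH : Representation k H V)
    (hcompat : ∀ (h : H) (f : F) (v : V), ρH h (ρF f v) = ρF (φ h f) (ρH h v))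
    (hfix : ∀ v : V, (∀ f : F, ρF f v = v) → v = 0) : FreeOn ρH ⊤ :=
  nilpotent_free_aux _ F rfl φ hfpf V ρF ρH hcompat hfix

end Step

end Cfsg.Agent.Lib.Helper2.FrobFree
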