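import Mathlib
import Cfsg.Agent.Lib.Helper2.FrobFree

/-!
# The free complement of the fixed space

In the situation of the free module lemma (`H` acting fixed-point-freely on the finite nilpotent
group `F`, compatible representations on `V`), if `|F|` is invertible then the canonical
complement `ker (avg)` of the fixed space of `F` is a free `k[H]`-module.
-/

set_option autoImplicit false

namespace Cfsg.Agent.Lib.Helper2.FrobFreeCompl

open scoped BigOperators
open Cfsg.Agent.Lib.Helper2.FreeAssembly Cfsg.Agent.Lib.Helper2.FrobFree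

universe uk uH uF uV

variable {k : Type uk} [Field k] {H : Type uH} [Group H] [Finite H]
  {F : Type uF} [Group F] [Finite F] [Group.IsNilpotent F]
  {V : Type uV} [AddCommGroup V] [Module k V]

/-- The kernel of the averaging operator over all of `F` is a free `k[H]`-module. -/
theorem freeOn_ker_avg (φ : H →* MulAut F)
    (hfpf : ∀ h : H, h ≠ 1 → ∀ f : F, φ h f = f → f = 1)
    (ρF : Representation k F V) (ρH : Representation k H V)
    (hcompat : ∀ (h : H) (f : F) (v : V), ρH h (ρF f v) = ρF (φ h f) (ρH h v))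
    [Fintype ↥(⊤ : Subgroup F)] (hk : (Nat.card ↥(⊤ : Subgroup F) : k) ≠ 0) :
    FreeOn ρH (LinearMap.ker (avg ρF ⊤)) := by
  classical
  have hinvT : ∀ h : H, ∀ x ∈ (⊤ : Subgroup F), φ h x ∈ (⊤ : Subgroup F) :=
    fun _ _ _ => Subgroup.mem_top _
  have havgH : ∀ (h : H) (v : V), ρH h (avg ρF ⊤ v) = avg ρF ⊤ (ρH h v) := by
    intro h v
    rw [avg_apply, avg_apply, map_smul, map_sum]
    congr 1
    simp_rw [hcompat]
    exact Fintype.sum_equiv (restrictAut φ ⊤ hinvT h).toEquiv _ _ (fun n => rfl)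
  have havgF : ∀ (m : F) (v : V), avg ρF ⊤ (ρF m v) = avg ρF ⊤ v := by
    intro m v
    rw [avg_apply, avg_apply]
    congr 1
    have : ∀ n : ↥(⊤ : Subgroup F), ρF (n : F) (ρF m v) =
        ρF ((n * ⟨m, Subgroup.mem_top m⟩ : ↥(⊤ : Subgroup F)) : F) v := by
      intro n
      rw [Subgroup.coe_mul, map_mul]; rfl
    simp_rw [this]
    exact Fintype.sum_equiv (Equiv.mulRight (⟨m, Subgroup.mem_top m⟩ : ↥(⊤ : Subgroup F))) _ _
      (fun n => rfl)
  have hVH : ∀ h, LinearMap.ker (avg ρF ⊤) ≤ (LinearMap.ker (avg ρF ⊤)).comap (ρH h) := by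
    intro h v hv
    rw [Submodule.mem_comap, LinearMap.mem_ker, ← havgH, LinearMap.mem_ker.mp hv, map_zero]
  have hVF : ∀ f, LinearMap.ker (avg ρF ⊤) ≤ (LinearMap.ker (avg ρF ⊤)).comap (ρF f) := by
    intro f v hv
    rw [Submodule.mem_comap, LinearMap.mem_ker, havgF, LinearMap.mem_ker.mp hv]
  apply freeOn_of_subrepresentation ρH _ hVH
  refine nilpotent_free φ hfpf (ρF.subrepresentation _ hVF) (ρH.subrepresentation _ hVH) ?_ ?_
  · intro h f v
    apply Subtype.ext
    exact hcompat h f v
  · intro v hv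
    apply Subtype.ext
    have h1 : (v : V) ∈ fixedSub ρF ⊤ := by
      intro n _
      exact congrArg Subtype.val (hv n)
    have h2 := avg_of_mem_fixedSub ρF ⊤ hk h1
    rw [LinearMap.mem_ker.mp v.2] at h2
    exact h2.symm

end Cfsg.Agent.Lib.Helper2.FrobFreeCompl
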