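import Mathlib

/-!
# The counting argument behind the Hall–Higman–Shult fixed vector theorem

`e k`, `k : ι`, are the exponents of the eigenvalues (powers of a primitive `r`-th root of unity)
of an operator `τ` of order `r` on a space with eigenbasis indexed by `ι`.  The number of pairs
`(k, l)` with `e k = e l + j` is the dimension of the `ζ ^ j`-eigenspace of conjugation by `τ` on
the endomorphism algebra.  If the endomorphism algebra is "trivial plus free of rank `b`" and some
eigenvalue is missing, then the dimension is `1` or `r - 1`.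
-/

set_option autoImplicit false

namespace Cfsg.Agent.Lib.Helper2.ShultArith

open scoped BigOperators

variable {r : ℕ} [NeZero r] {ι : Type*} [Fintype ι]

/-- multiplicity of an exponent -/
noncomputable def mult (e : ι → ZMod r) (i : ZMod r) : ℕ :=
  Nat.card {k : ι // e k = i}

/-- number of pairs with exponent difference `j` -/
noncomputable def pairs (e : ι → ZMod r) (j : ZMod r) : ℕ :=
  Nat.card {kl : ι × ι // e kl.1 = e kl.2 + j}

omit [NeZero r] in
theorem mult_eq_sum (e : ι → ZMod r) (i : ZMod r) :
    mult e i = ∑ k : ι, if e k = i then 1 else 0 := by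
  classical
  rw [mult, Nat.card_eq_fintype_card, Fintype.card_subtype, Finset.card_filter]

theorem sum_mult (e : ι → ZMod r) : ∑ i : ZMod r, mult e i = Fintype.card ι := by
  classical
  simp_rw [mult_eq_sum]
  rw [Finset.sum_comm]
  simp

theorem sum_comp_eq (e : ι → ZMod r) (f : ZMod r → ℕ) :
    ∑ l : ι, f (e l) = ∑ i : ZMod r, mult e i * f i := by
  classical
  simp_rw [mult_eq_sum, Finset.sum_mul]
  rw [Finset.sum_comm]
  refine Finset.sum_congr rfl fun l _ => ?_
  simp

theorem pairs_eq_sum (e : ι → ZMod r) (j : ZMod r) :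
    pairs e j = ∑ i : ZMod r, mult e i * mult e (i + j) := by
  classical
  rw [← sum_comp_eq e (fun i => mult e (i + j))]
  rw [pairs, Nat.card_eq_fintype_card, Fintype.card_subtype, Finset.card_filter,
    Fintype.sum_prod_type_right]
  refine Finset.sum_congr rfl fun l _ => ?_
  rw [mult_eq_sum]

theorem sum_pairs (e : ι → ZMod r) : ∑ j : ZMod r, pairs e j = Fintype.card ι ^ 2 := by
  classical
  simp_rw [pairs_eq_sum]
  rw [Finset.sum_comm]
  have : ∀ i : ZMod r, ∑ j : ZMod r, mult e i * mult e (i + j) = mult e i * Fintype.card ι := by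
    intro i
    rw [← Finset.mul_sum, ← sum_mult e]
    congr 1
    exact Fintype.sum_equiv (Equiv.addLeft i) _ _ (fun j => rfl)
  simp_rw [this]
  rw [← Finset.sum_mul, sum_mult, sq]

/-- **The counting lemma.** -/
theorem main (e : ι → ZMod r) (b : ℕ)
    (hN : ∀ j : ZMod r, b ≤ pairs e j) (hN0 : b + 1 ≤ pairs e 0)
    (hdim : Fintype.card ι ^ 2 = 1 + r * b)
    (i₀ : ZMod r) (hi₀ : ∀ k, e k ≠ i₀) :
    Fintype.card ι = 1 ∨ Fintype.card ι + 1 = r := by
  classical
  -- exact values of `pairs`
  have hsum := sum_pairs e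
  rw [hdim] at hsum
  have hcard : (Finset.univ : Finset (ZMod r)).card = r := by
    rw [Finset.card_univ, ZMod.card]
  have hexact : pairs e 0 = b + 1 ∧ ∀ j : ZMod r, j ≠ 0 → pairs e j = b := by
    -- compare with the lower bounds
    let lb : ZMod r → ℕ := fun j => if j = 0 then b + 1 else b
    have hlb : ∀ j, lb j ≤ pairs e j := by
      intro j
      by_cases hj : j = 0
      · simp only [lb, hj, if_true]; exact hN0
      · simp only [lb, hj, if_false]; exact hN j
    have hlbsum : ∑ j : ZMod r, lb j = 1 + r * b := by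
      have : ∀ j : ZMod r, lb j = b + if j = 0 then 1 else 0 := by
        intro j; by_cases hj : j = 0 <;> simp [lb, hj]
      simp_rw [this]
      rw [Finset.sum_add_distrib, Finset.sum_const, hcard, Finset.sum_ite_eq' Finset.univ 0]
      simp only [Finset.mem_univ, if_true, smul_eq_mul]
      ring
    have heq : ∀ j ∈ (Finset.univ : Finset (ZMod r)), lb j = pairs e j := by
      have := (Finset.sum_eq_sum_iff_of_le (fun j _ => hlb j)).mp (by rw [hlbsum, hsum])
      exact this
    constructor
    · have := heq 0 (Finset.mem_univ _)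
      simpa [lb] using this.symm
    · intro j hj
      have := heq j (Finset.mem_univ _)
      simpa [lb, hj] using this.symm
  obtain ⟨h0, h1⟩ := hexact
  -- the multiplicity of `i₀` vanishes
  have ha0 : mult e i₀ = 0 := by
    rw [mult_eq_sum]
    refine Finset.sum_eq_zero fun k _ => ?_
    rw [if_neg (hi₀ k)]
  -- all multiplicities are at most one
  have hle : ∀ i : ZMod r, mult e i ≤ 1 := by
    intro i
    by_cases hi : i = i₀
    · rw [hi, ha0]; exact Nat.zero_le _
    set j : ZMod r := i - i₀ with hj
    have hj0 : j ≠ 0 := sub_ne_zero.mpr hi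
    have hshift : ∑ m : ZMod r, (mult e (m + j) : ℤ) ^ 2 = ∑ m : ZMod r, (mult e m : ℤ) ^ 2 :=
      Fintype.sum_equiv (Equiv.addRight j) _ _ (fun m => rfl)
    have hp0 : ∑ m : ZMod r, (mult e m : ℤ) ^ 2 = (b : ℤ) + 1 := by
      have := pairs_eq_sum e 0
      rw [h0] at this
      simp only [add_zero] at this
      have h2 : ((b + 1 : ℕ) : ℤ) = ∑ m : ZMod r, ((mult e m * mult e m : ℕ) : ℤ) := by
        rw [this]; push_cast; rfl
      push_cast at h2
      rw [h2]
      exact Finset.sum_congr rfl fun m _ => by ring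
    have hpj : ∑ m : ZMod r, (mult e m : ℤ) * (mult e (m + j) : ℤ) = (b : ℤ) := by
      have := pairs_eq_sum e j
      rw [h1 j hj0] at this
      have h2 : ((b : ℕ) : ℤ) = ∑ m : ZMod r, ((mult e m * mult e (m + j) : ℕ) : ℤ) := by
        rw [this]; push_cast; rfl
      push_cast at h2
      exact h2.symm
    have hsq : ∑ m : ZMod r, ((mult e m : ℤ) - (mult e (m + j) : ℤ)) ^ 2 = 2 := by
      have : ∀ m : ZMod r, ((mult e m : ℤ) - (mult e (m + j) : ℤ)) ^ 2 =
          (mult e m : ℤ) ^ 2 + (mult e (m + j) : ℤ) ^ 2 -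
            2 * ((mult e m : ℤ) * (mult e (m + j) : ℤ)) := by
        intro m; ring
      simp_rw [this]
      rw [Finset.sum_sub_distrib, Finset.sum_add_distrib, ← Finset.mul_sum, hshift, hp0, hpj]
      ring
    have hterm : ((mult e i₀ : ℤ) - (mult e (i₀ + j) : ℤ)) ^ 2 ≤ 2 := by
      rw [← hsq]
      exact Finset.single_le_sum (f := fun m : ZMod r =>
        ((mult e m : ℤ) - (mult e (m + j) : ℤ)) ^ 2) (fun m _ => sq_nonneg _) (Finset.mem_univ i₀)
    have hij : i₀ + j = i := by rw [hj]; ring
    rw [ha0, hij] at hterm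
    simp only [Nat.cast_zero, zero_sub, neg_sq] at hterm
    have : (mult e i : ℤ) ≤ 1 := by nlinarith [sq_nonneg ((mult e i : ℤ) - 1)]
    exact_mod_cast this
  -- hence `card ι = pairs 0 = b + 1`
  have hu : Fintype.card ι = b + 1 := by
    rw [← sum_mult e, ← h0, pairs_eq_sum]
    refine Finset.sum_congr rfl fun i _ => ?_
    rw [add_zero]
    have := hle i
    interval_cases mult e i <;> simp
  rw [hu] at hdim ⊢
  -- `(b + 1) ^ 2 = 1 + r * b`
  rcases Nat.eq_zero_or_pos b with hb | hb
  · left; rw [hb]
  · right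
    have h3 : b * (b + 2) = b * r := by nlinarith
    have := Nat.eq_of_mul_eq_mul_left hb h3
    omega

end Cfsg.Agent.Lib.Helper2.ShultArith
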