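import Mathlib
import Cfsg.Agent.Lib.Helper2.ShultCore

/-!
# Burnside's theorem and representations of central type

* `linearIndependent_of_joint_eigen`: joint eigenvectors with pairwise distinct joint eigenvalues
  are linearly independent;
* `span_range_eq_top`: the image of an irreducible representation over an algebraically closed
  field spans the endomorphism algebra (via the Jacobson density theorem);
* `card_quotient_scalarKer`: if `P` is abelian modulo the subgroup of elements acting as scalars on
  the irreducible module `U`, then that subgroup has index `(dim U)²`.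
-/

set_option autoImplicit false

namespace Cfsg.Agent.Lib.Helper2.IrrSpan

open Module Cfsg.Agent.Lib.Helper2.ShultCore
open scoped commutatorElement

section General

variable {K : Type*} [Field K]

/-- Vectors that are joint eigenvectors of a family of operators, with pairwise distinct joint
eigenvalues, are linearly independent. -/
theorem linearIndependent_of_joint_eigen {ι κ M : Type*} [AddCommGroup M] [Module K M]
    (C : ι → M →ₗ[K] M) (v : κ → M) (lam : κ → ι → K) (hv0 : ∀ k, v k ≠ 0)
    (hC : ∀ i k, C i (v k) = lam k i • v k)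
    (hsep : ∀ k k', k ≠ k' → ∃ i, lam k i ≠ lam k' i) : LinearIndependent K v := by
  classical
  rw [linearIndependent_iff']
  intro s
  induction s using Finset.induction_on with
  | empty => intro a _ i hi; simp at hi
  | insert k₀ s hk₀ ih =>
    intro a ha
    rw [Finset.sum_insert hk₀] at ha
    -- coefficients on `s` vanish
    have hs : ∀ k ∈ s, a k = 0 := by
      intro k hk
      have hne : k ≠ k₀ := fun h => hk₀ (h ▸ hk)
      obtain ⟨i, hi⟩ := hsep k k₀ hne
      have h1 : ∑ k ∈ s, (a k * (lam k i - lam k₀ i)) • v k = 0 := by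
        have h2 := congrArg (C i) ha
        rw [map_add, map_smul, map_sum, hC, map_zero] at h2
        have h3 : lam k₀ i • (a k₀ • v k₀ + ∑ k ∈ s, a k • v k) = 0 := by rw [ha, smul_zero]
        rw [smul_add, Finset.smul_sum] at h3
        have h4 := congrArg₂ (· - ·) h2 h3
        simp only [sub_zero] at h4
        rw [← h4]
        simp only [map_smul, hC, smul_smul]
        rw [mul_comm (a k₀), add_sub_add_left_eq_sub, ← Finset.sum_sub_distrib]
        refine Finset.sum_congr rfl fun k _ => ?_
        rw [← sub_smul]; congr 1; ring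
      have h5 := ih _ h1 k hk
      rcases mul_eq_zero.mp h5 with h | h
      · exact h
      · exact absurd (sub_eq_zero.mp h) hi
    have h6 : a k₀ • v k₀ = 0 := by
      rw [Finset.sum_eq_zero (fun k hk => by rw [hs k hk, zero_smul]), add_zero] at ha
      exact ha
    have h7 : a k₀ = 0 := by
      rcases smul_eq_zero.mp h6 with h | h
      · exact h
      · exact absurd h (hv0 k₀)
    intro k hk
    rcases Finset.mem_insert.mp hk with rfl | hk
    · exact h7
    · exact hs k hk

end General

section Irr

variable {K : Type*} [Field K] [IsAlgClosed K] {P : Type*} [Group P] {U : Type*} [AddCommGroup U]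
  [Module K U] [FiniteDimensional K U] [Nontrivial U]

/-- Burnside's theorem: the image of an irreducible representation over an algebraically closed
field spans the endomorphism algebra. -/
theorem span_range_eq_top (ρ : Representation K P U)
    (hirr : ∀ W : Submodule K U, (∀ g, W ≤ W.comap (ρ g)) → W = ⊥ ∨ W = ⊤) :
    Submodule.span K (Set.range ρ) = ⊤ := by
  classical
  let A : Subalgebra K (Module.End K U) := Algebra.adjoin K (Set.range ρ)
  have hρA : ∀ g, ρ g ∈ A := fun g => Algebra.subset_adjoin ⟨g, rfl⟩
  have hsimple : IsSimpleModule A U := by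
    rw [isSimpleModule_iff]
    refine { exists_pair_ne := ⟨⊥, ⊤, ?_⟩, eq_bot_or_eq_top := ?_ }
    · intro h
      obtain ⟨u, hu⟩ := exists_ne (0 : U)
      have : u ∈ (⊥ : Submodule A U) := by rw [h]; trivial
      exact hu ((Submodule.mem_bot A).mp this)
    · intro W
      have hinv : ∀ g, W.restrictScalars K ≤ (W.restrictScalars K).comap (ρ g) := by
        intro g u hu
        rw [Submodule.mem_comap, Submodule.restrictScalars_mem]
        exact W.smul_mem (⟨ρ g, hρA g⟩ : A) hu
      rcases hirr _ hinv with h | h
      · left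
        exact (Submodule.restrictScalars_eq_bot_iff K A U).mp h
      · right
        exact (Submodule.restrictScalars_eq_top_iff K A U).mp h
  have hfin : Module.Finite (Module.End A U) U := Module.Finite.of_restrictScalars_finite K _ _
  have hsurj := Module.Finite.toModuleEnd_moduleEnd_surjective (R := A) (M := U)
  have hschur := IsSimpleModule.algebraMap_end_bijective_of_isAlgClosed (A := A) (V := U) K
  have hAtop : A = ⊤ := by
    rw [eq_top_iff]
    intro S _
    let f : Module.End (Module.End A U) U :=
      { toFun := fun u => S u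
        map_add' := fun a b => map_add S a b
        map_smul' := fun φ u => by
          obtain ⟨c, rfl⟩ := hschur.2 φ
          simp }
    obtain ⟨a, ha⟩ := hsurj f
    have : (a : Module.End K U) = S := by
      ext u
      have := LinearMap.congr_fun ha u
      exact this
    rw [← this]
    exact a.2
  have hspan : Subalgebra.toSubmodule A = Submodule.span K (Set.range ρ) := by
    rw [Algebra.adjoin_eq_span]
    congr 1
    have : Submonoid.closure (Set.range ρ) = MonoidHom.mrange ρ := by
      rw [← MonoidHom.coe_mrange, Submonoid.closure_eq]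
    rw [this]
    rfl
  rw [← hspan, hAtop]
  rfl

/-- If `P` is abelian modulo the elements acting as scalars on the irreducible module `U`, then
the index of that subgroup is `(dim U)²`. -/
theorem card_quotient_scalarKer [Finite P] (ρ : Representation K P U)
    (hirr : ∀ W : Submodule K U, (∀ g, W ≤ W.comap (ρ g)) → W = ⊥ ∨ W = ⊤)
    (hab : ∀ g h : P, ⁅g, h⁆ ∈ scalarKer ρ) :
    Nat.card (P ⧸ scalarKer ρ) = finrank K U ^ 2 := by
  classical
  have := Fintype.ofFinite (P ⧸ scalarKer ρ)
  -- the scalar by which an element of the kernel acts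
  have hex : ∀ n : P, n ∈ scalarKer ρ → ∃ c : K, ρ n = c • LinearMap.id :=
    fun n hn => (mem_scalarKer_iff ρ hirr n).mp hn
  let sc : P → K := fun n => if h : ∃ c : K, ρ n = c • LinearMap.id then h.choose else 0
  have hsc : ∀ n ∈ scalarKer ρ, ρ n = sc n • LinearMap.id := by
    intro n hn
    have h := hex n hn
    simp only [sc, dif_pos h]
    exact h.choose_spec
  let v : P ⧸ scalarKer ρ → Module.End K U := fun f => ρ f.out
  have hid0 : (LinearMap.id : Module.End K U) ≠ 0 := by
    intro h
    obtain ⟨u, hu⟩ := exists_ne (0 : U)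
    exact hu (by simpa using LinearMap.congr_fun h u)
  have hv0 : ∀ g : P, ρ g ≠ 0 := by
    intro g h
    have := rho_inv_comp ρ g
    rw [h, LinearMap.comp_zero] at this
    exact hid0 this.symm
  have hconj : ∀ h g : P, conjRep ρ h (ρ g) = sc ⁅h, g⁆ • ρ g := by
    intro h g
    rw [Representation.linHom_apply]
    have h1 : ρ h ∘ₗ ρ g ∘ₗ ρ h⁻¹ = ρ (⁅h, g⁆ * g) := by
      have : ⁅h, g⁆ * g = h * g * h⁻¹ := by rw [commutatorElement_def]; group
      rw [this, map_mul, map_mul]
      rfl
    rw [h1, map_mul, hsc _ (hab h g)]
    ext u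
    simp
  -- independence
  have hli : LinearIndependent K v := by
    refine linearIndependent_of_joint_eigen (fun h : P => conjRep ρ h) v
      (fun f h => sc ⁅h, f.out⁆) (fun f => hv0 _) (fun h f => hconj h f.out) ?_
    intro f f' hne
    by_contra hall
    push Not at hall
    apply hne
    -- `(out f)⁻¹ * out f'` acts as a scalar
    have hρeq : ∀ h : P, ρ ⁅h, f.out⁆ = ρ ⁅h, f'.out⁆ := by
      intro h
      rw [hsc _ (hab h _), hsc _ (hab h _), hall h]
    have hcomm : ∀ h : P, ρ h ∘ₗ ρ (f.out⁻¹ * f'.out) = ρ (f.out⁻¹ * f'.out) ∘ₗ ρ h := by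
      intro h
      have h1 : h * (f.out⁻¹ * f'.out) =
          f.out⁻¹ * (⁅h, f.out⁆⁻¹ * ⁅h, f'.out⁆) * f'.out * h := by
        rw [commutatorElement_def, commutatorElement_def]; group
      have h2 : ρ (⁅h, f.out⁆⁻¹ * ⁅h, f'.out⁆) = 1 := by
        rw [map_mul, ← hρeq h, ← map_mul, inv_mul_cancel, map_one]
      have h3 : ρ h * ρ (f.out⁻¹ * f'.out) = ρ (f.out⁻¹ * f'.out) * ρ h := by
        rw [← map_mul, h1, map_mul, map_mul, map_mul, h2, mul_one, ← map_mul ρ f.out⁻¹]
      exact h3
    have hmem : f.out⁻¹ * f'.out ∈ scalarKer ρ := by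
      rw [mem_scalarKer_iff ρ hirr]
      exact schur ρ hirr _ hcomm
    rw [← QuotientGroup.out_eq' f, ← QuotientGroup.out_eq' f']
    exact QuotientGroup.eq.mpr hmem
  -- spanning
  have hspan : Submodule.span K (Set.range v) = ⊤ := by
    rw [eq_top_iff, ← span_range_eq_top ρ hirr]
    refine Submodule.span_le.mpr ?_
    rintro _ ⟨g, rfl⟩
    set g₀ := (g : P ⧸ scalarKer ρ).out with hg₀
    have hn : g₀⁻¹ * g ∈ scalarKer ρ := by
      apply QuotientGroup.eq.mp
      exact QuotientGroup.out_eq' _
    have h1 : ρ g = sc (g₀⁻¹ * g) • v (g : P ⧸ scalarKer ρ) := by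
      have : g = g₀ * (g₀⁻¹ * g) := by group
      conv_lhs => rw [this]
      rw [map_mul, hsc _ hn]
      ext u
      simp [v, hg₀]
    rw [SetLike.mem_coe, h1]
    exact Submodule.smul_mem _ _ (Submodule.subset_span ⟨_, rfl⟩)
  have hle1 : Fintype.card (P ⧸ scalarKer ρ) ≤ finrank K (Module.End K U) :=
    hli.fintype_card_le_finrank
  have hle2 : finrank K (Module.End K U) ≤ Fintype.card (P ⧸ scalarKer ρ) := by
    have h1 := finrank_range_le_card (R := K) v
    unfold Set.finrank at h1
    rw [hspan, finrank_top] at h1
    exact h1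
  rw [Nat.card_eq_fintype_card, le_antisymm hle1 hle2, Module.finrank_linearMap, sq]

end Irr

end Cfsg.Agent.Lib.Helper2.IrrSpan
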