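import Mathlib.GroupTheory.Sylow
import Mathlib.GroupTheory.Nilpotent
import Mathlib.GroupTheory.PGroup
import Mathlib.Tactic.Group
import Cfsg.Agent.Lib.Helper34.PResidual
import Cfsg.Agent.Lib.Helper34.AlperinTame

/-!
# Frobenius' criterion, part A (helper2)

If every `p'`-element normalizing a `p`-subgroup centralizes it, then a Sylow `p`-subgroup `P`
controls its own fusion: `P`-elements conjugate in `G` are conjugate in `P`.
-/

set_option autoImplicit false

namespace Cfsg.Agent.Lib.Helper2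

open Cfsg

section
variable {G : Type*} [Group G] {p : ℕ} [Fact p.Prime]

omit [Fact p.Prime] in
/-- membership in a conjugate Sylow subgroup -/
theorem mem_smul_sylow (P : Sylow p G) (g x : G) :
    x ∈ ((g • P : Sylow p G) : Subgroup G) ↔ g⁻¹ * x * g ∈ (P : Subgroup G) := by
  rw [Sylow.coe_subgroup_smul, Subgroup.mem_pointwise_smul_iff_inv_smul_mem]
  simp [MulAut.smul_def]

/-- The coprime-centralizing hypothesis `(c)` of Frobenius' theorem. -/
def CoprimeCentralizes (p : ℕ) (G : Type*) [Group G] : Prop :=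
  ∀ Q : Subgroup G, IsPGroup p Q → ∀ g ∈ Subgroup.normalizer (Q : Set G),
    (orderOf g).Coprime p → g ∈ Subgroup.centralizer (Q : Set G)

/-- Self-control of fusion. -/
def ControlsOwnFusion (P : Subgroup G) : Prop :=
  ∀ x ∈ P, ∀ g : G, g * x * g⁻¹ ∈ P → ∃ u ∈ P, g * x * g⁻¹ = u * x * u⁻¹

variable [Finite G]

omit [Fact p.Prime] [Finite G] in
/-- Under `(c)`, `O^p(N_G(D))` centralizes the `p`-subgroup `D`. -/
theorem pResidual_normalizer_le_centralizer (hc : CoprimeCentralizes p G) (D : Subgroup G)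
    (hD : IsPGroup p D) (k : Subgroup.normalizer (D : Set G))
    (hk : k ∈ pResidual p (Subgroup.normalizer (D : Set G))) :
    (k : G) ∈ Subgroup.centralizer (D : Set G) := by
  have hle : pResidual p (Subgroup.normalizer (D : Set G)) ≤
      (Subgroup.centralizer (D : Set G)).subgroupOf (Subgroup.normalizer (D : Set G)) := by
    unfold pResidual
    rw [Subgroup.closure_le]
    intro g hg
    rw [SetLike.mem_coe, Subgroup.mem_subgroupOf]
    apply hc D hD (g : G) g.2
    rw [Subgroup.orderOf_coe]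
    exact hg
  exact Subgroup.mem_subgroupOf.mp (hle hk)

/-- Normalizers grow in `p`-groups. -/
theorem exists_mem_normalizer_not_mem (R : Subgroup G) (hR : IsPGroup p R) (D : Subgroup G)
    (hDR : D ≤ R) (hne : D ≠ R) : ∃ a ∈ R, a ∉ D ∧ a ∈ Subgroup.normalizer (D : Set G) := by
  have hnil : Group.IsNilpotent R := hR.isNilpotent
  have hNC : NormalizerCondition R := Group.normalizerCondition_of_isNilpotent
  have hlt : D.subgroupOf R < ⊤ := by
    rw [lt_top_iff_ne_top]
    intro h
    apply hne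
    exact le_antisymm hDR (Subgroup.subgroupOf_eq_top.mp h)
  have hlt2 := hNC _ hlt
  obtain ⟨a, haN, haD⟩ := SetLike.exists_of_lt hlt2
  refine ⟨a, a.2, ?_, ?_⟩
  · intro h
    exact haD (Subgroup.mem_subgroupOf.mpr h)
  · apply Subgroup.mem_normalizer_fintype
    intro d hd
    have hdR : d ∈ R := hDR hd
    have h1 : (⟨d, hdR⟩ : R) ∈ D.subgroupOf R := Subgroup.mem_subgroupOf.mpr hd
    have h2 := (Subgroup.mem_normalizer_iff.mp haN ⟨d, hdR⟩).mp h1
    exact Subgroup.mem_subgroupOf.mp h2

open Cfsg.Agent.Lib.Helper34 in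
/-- Under `(c)`, conjugation along a tame chain is realized inside `P`. -/
theorem exists_mem_conj_eq_of_tchain (hc : CoprimeCentralizes p G) (P : Sylow p G)
    (A : Set G) (g : G) (h : TChain P A g) :
    ∃ u ∈ (P : Subgroup G), ∀ a ∈ A, g⁻¹ * a * g = u⁻¹ * a * u := by
  induction h with
  | nil A => exact ⟨1, Subgroup.one_mem _, fun a _ => by simp⟩
  | cons A Q x g hx ht _ hA _ ih =>
    obtain ⟨u, huP, hu⟩ := ih
    set D : Subgroup G := (P : Subgroup G) ⊓ (Q : Subgroup G) with hD
    have hDp : IsPGroup p D := P.isPGroup'.to_le inf_le_left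
    set L : Subgroup G := Subgroup.normalizer (D : Set G) with hL
    -- the Sylow subgroup `P ⊓ L` of `L`
    have hS : ¬ p ∣ (((P : Subgroup G) ⊓ L).subgroupOf L).index := ht.1
    have htop := pResidual_sup_eq_top p (((P : Subgroup G) ⊓ L).subgroupOf L) hS
    have hn := pResidual_normal p L
    have hxmem : (⟨x, hx⟩ : L) ∈ pResidual p L ⊔ ((P : Subgroup G) ⊓ L).subgroupOf L := by
      rw [htop]; exact Subgroup.mem_top _
    rw [← SetLike.mem_coe, Subgroup.normal_mul] at hxmem
    obtain ⟨k, hk, v, hv, hkv⟩ := hxmem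
    have hkc : (k : G) ∈ Subgroup.centralizer (D : Set G) :=
      pResidual_normalizer_le_centralizer hc D hDp k hk
    have hvP : (v : G) ∈ (P : Subgroup G) := (Subgroup.mem_subgroupOf.mp hv).1
    have hxe : x = (k : G) * (v : G) := by
      have := congrArg Subtype.val hkv
      simpa using this.symm
    refine ⟨(v : G) * u, Subgroup.mul_mem _ hvP huP, ?_⟩
    intro a ha
    have haD : a ∈ D := hA ha
    have hka : (k : G)⁻¹ * a * (k : G) = a := by
      have := Subgroup.mem_centralizer_iff.mp hkc a haD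
      -- a * k = k * a
      rw [mul_assoc, this, ← mul_assoc, inv_mul_cancel, one_mul]
    have hxa : x⁻¹ * a * x = (v : G)⁻¹ * a * (v : G) := by
      rw [hxe]
      calc ((k : G) * (v : G))⁻¹ * a * ((k : G) * (v : G))
          = (v : G)⁻¹ * ((k : G)⁻¹ * a * (k : G)) * (v : G) := by group
        _ = (v : G)⁻¹ * a * (v : G) := by rw [hka]
    have hmem : x⁻¹ * a * x ∈ rcj x A := ⟨a, ha, rfl⟩
    have h1 := hu _ hmem
    calc (x * g)⁻¹ * a * (x * g) = g⁻¹ * (x⁻¹ * a * x) * g := by group
      _ = u⁻¹ * (x⁻¹ * a * x) * u := h1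
      _ = u⁻¹ * ((v : G)⁻¹ * a * (v : G)) * u := by rw [hxa]
      _ = ((v : G) * u)⁻¹ * a * ((v : G) * u) := by group

open Cfsg.Agent.Lib.Helper34 in
/-- **Frobenius, part A**: under `(c)`, a Sylow `p`-subgroup controls its own fusion. -/
theorem controlsOwnFusion_of_coprimeCentralizes (hc : CoprimeCentralizes p G) (P : Sylow p G) :
    ControlsOwnFusion (P : Subgroup G) := by
  intro x hx g hgx
  have hA : ({x} : Set G) ⊆ ((P : Subgroup G) : Set G) := by
    intro a ha
    rw [Set.mem_singleton_iff] at ha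
    rw [ha]; exact hx
  have hAg : rcj g⁻¹ ({x} : Set G) ⊆ ((P : Subgroup G) : Set G) := by
    rintro _ ⟨a, ha, rfl⟩
    rw [Set.mem_singleton_iff] at ha
    subst ha
    show g⁻¹⁻¹ * a * g⁻¹ ∈ (P : Subgroup G)
    rw [inv_inv]; exact hgx
  have hch := alperin_tame_chain P {x} g⁻¹ hA hAg
  obtain ⟨u, hu, h⟩ := exists_mem_conj_eq_of_tchain hc P _ _ hch
  refine ⟨u⁻¹, Subgroup.inv_mem _ hu, ?_⟩
  have := h x rfl
  simpa using this

end

end Cfsg.Agent.Lib.Helper2
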