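import Mathlib.GroupTheory.Focal
import Mathlib.GroupTheory.Transfer
import Cfsg.Agent.Lib.Helper2.FusionControl
import Cfsg.Agent.Lib.Helper34.NormalPComplement
import Cfsg.Agent.Lib.Helper71.Fitting

/-!
# Frobenius' criterion, part B (helper2)

If a Sylow `p`-subgroup `P` of a finite group `G` controls its own fusion then `G` has a normal
`p`-complement.
-/

set_option autoImplicit false

universe u

namespace Cfsg.Agent.Lib.Helper2

open Cfsg
open scoped commutatorElement

section
variable {G : Type*} [Group G] {p : ℕ} [Fact p.Prime]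

omit [Fact p.Prime] in
/-- If `G ⧸ N` is a `p`-group then `O^p(G) = O^p(N)`. -/
theorem pResidual_eq_map_of_isPGroup_quotient (N : Subgroup G) [N.Normal]
    (hN : IsPGroup p (G ⧸ N)) : pResidual p G = (pResidual p N).map N.subtype := by
  unfold pResidual
  rw [MonoidHom.map_closure]
  congr 1
  ext g
  constructor
  · intro hg
    have hg' : Nat.Coprime (orderOf g) p := hg
    have hgN : g ∈ N := by
      obtain ⟨k, hk⟩ := hN (QuotientGroup.mk g)
      have h1 : orderOf (QuotientGroup.mk g : G ⧸ N) ∣ p ^ k := orderOf_dvd_of_pow_eq_one hk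
      have h2 : orderOf (QuotientGroup.mk g : G ⧸ N) ∣ orderOf g :=
        orderOf_map_dvd (QuotientGroup.mk' N) g
      have h3 : Nat.Coprime (orderOf g) (p ^ k) := Nat.Coprime.pow_right k hg'
      have h4 : orderOf (QuotientGroup.mk g : G ⧸ N) = 1 := Nat.eq_one_of_dvd_coprimes h3 h2 h1
      rw [orderOf_eq_one_iff, QuotientGroup.eq_one_iff] at h4
      exact h4
    refine ⟨⟨g, hgN⟩, ?_, rfl⟩
    show Nat.Coprime (orderOf (⟨g, hgN⟩ : N)) p
    rw [← Subgroup.orderOf_coe]
    exact hg'
  · rintro ⟨n, hn, rfl⟩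
    have hn' : Nat.Coprime (orderOf n) p := hn
    show Nat.Coprime (orderOf ((N.subtype n : G))) p
    rw [Subgroup.coe_subtype, Subgroup.orderOf_coe]
    exact hn'

variable [Finite G]

/-- If `P` controls its own fusion then `C_P(x)` is a Sylow `p`-subgroup of `C_G(x)`. -/
theorem not_dvd_relIndex_centralizer (P : Sylow p G)
    (hP : ControlsOwnFusion (P : Subgroup G)) (x : G) (hx : x ∈ (P : Subgroup G)) :
    ¬ p ∣ ((P : Subgroup G) ⊓ Subgroup.centralizer {x}).relIndex (Subgroup.centralizer {x}) := by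
  set C : Subgroup G := Subgroup.centralizer ({x} : Set G) with hC
  have hxC : x ∈ C := Subgroup.mem_centralizer_singleton_iff.mpr rfl
  have hS₀ : IsPGroup p (((P : Subgroup G) ⊓ C).subgroupOf C) := by
    have h1 : IsPGroup p ((P : Subgroup G) ⊓ C : Subgroup G) := P.isPGroup'.to_le inf_le_left
    exact h1.comap_of_injective C.subtype C.subtype_injective
  obtain ⟨R, hR⟩ := hS₀.exists_le_sylow
  have hR'p : IsPGroup p ((R : Subgroup C).map C.subtype) := R.isPGroup'.map C.subtype
  obtain ⟨P', hP'⟩ := hR'p.exists_le_sylow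
  obtain ⟨g, hg⟩ := MulAction.exists_smul_eq G P P'
  have hxR : x ∈ (R : Subgroup C).map C.subtype := by
    refine ⟨⟨x, hxC⟩, hR ?_, rfl⟩
    exact Subgroup.mem_subgroupOf.mpr ⟨hx, hxC⟩
  have hgx : g⁻¹ * x * g ∈ (P : Subgroup G) := by
    rw [← mem_smul_sylow, hg]; exact hP' hxR
  obtain ⟨u, hu, hux⟩ := hP x hx g⁻¹ (by simpa using hgx)
  rw [inv_inv] at hux
  -- h = g * u centralizes x
  have hhC : g * u ∈ C := by
    rw [hC, Subgroup.mem_centralizer_singleton_iff]
    calc g * u * x = g * (u * x * u⁻¹) * u := by group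
      _ = g * (g⁻¹ * x * g) * u := by rw [hux]
      _ = x * (g * u) := by group
  -- conjugation by `(g u)⁻¹` maps `R'` into `P ⊓ C`
  have hmap : ((R : Subgroup C).map C.subtype).map (MulAut.conj (g * u)⁻¹).toMonoidHom ≤
      (P : Subgroup G) ⊓ C := by
    rintro _ ⟨r, hr, rfl⟩
    have hrC : r ∈ C := by
      obtain ⟨r', _, rfl⟩ := hr
      exact r'.2
    have hrP : g⁻¹ * r * g ∈ (P : Subgroup G) := by
      rw [← mem_smul_sylow, hg]; exact hP' hr
    refine ⟨?_, ?_⟩
    · have : (MulAut.conj (g * u)⁻¹).toMonoidHom r = u⁻¹ * (g⁻¹ * r * g) * u := by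
        simp only [MulEquiv.coe_toMonoidHom, MulAut.conj_apply]; group
      rw [this]
      exact Subgroup.mul_mem _ (Subgroup.mul_mem _ (Subgroup.inv_mem _ hu) hrP) hu
    · have : (MulAut.conj (g * u)⁻¹).toMonoidHom r = (g * u)⁻¹ * r * (g * u) := by
        simp only [MulEquiv.coe_toMonoidHom, MulAut.conj_apply, inv_inv]
      rw [this]
      exact Subgroup.mul_mem _ (Subgroup.mul_mem _ (Subgroup.inv_mem _ hhC) hrC) hhC
  have hcard1 : Nat.card (R : Subgroup C) ≤ Nat.card ((P : Subgroup G) ⊓ C : Subgroup G) := by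
    calc Nat.card (R : Subgroup C) = Nat.card ((R : Subgroup C).map C.subtype) :=
          (Subgroup.card_map_of_injective C.subtype_injective).symm
      _ = Nat.card (((R : Subgroup C).map C.subtype).map (MulAut.conj (g * u)⁻¹).toMonoidHom) :=
          (Subgroup.card_map_of_injective (MulAut.conj (g * u)⁻¹).injective).symm
      _ ≤ _ := Subgroup.card_le_of_le hmap
  have hcard2 : Nat.card (((P : Subgroup G) ⊓ C).subgroupOf C) =
      Nat.card ((P : Subgroup G) ⊓ C : Subgroup G) :=
    Nat.card_congr (Subgroup.subgroupOfEquivOfLe inf_le_right).toEquiv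
  have heq : ((P : Subgroup G) ⊓ C).subgroupOf C = (R : Subgroup C) := by
    apply Subgroup.eq_of_le_of_card_ge hR
    rw [hcard2]; exact hcard1
  show ¬ p ∣ (((P : Subgroup G) ⊓ C).subgroupOf C).index
  rw [heq]
  exact R.not_dvd_index

/-- `C_G(x) = C_P(x) (C_G(x) ∩ N)` when `P` controls its own fusion and `G ⧸ N` is a `p`-group. -/
theorem exists_mem_inf_centralizer_inv_mul_mem (P : Sylow p G)
    (hP : ControlsOwnFusion (P : Subgroup G)) (N : Subgroup G) [N.Normal]
    (hN : IsPGroup p (G ⧸ N)) (x : G) (hx : x ∈ (P : Subgroup G)) (c : G)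
    (hc : c ∈ Subgroup.centralizer ({x} : Set G)) :
    ∃ s ∈ (P : Subgroup G) ⊓ Subgroup.centralizer {x}, s⁻¹ * c ∈ N := by
  set C : Subgroup G := Subgroup.centralizer ({x} : Set G) with hC
  have hS : ¬ p ∣ (((P : Subgroup G) ⊓ C).subgroupOf C).index :=
    not_dvd_relIndex_centralizer P hP x hx
  have hMn : (N.subgroupOf C).Normal := inferInstance
  obtain ⟨k, hk⟩ := hN.exists_card_eq
  have hNidx : N.index = p ^ k := by rw [Subgroup.index_eq_card, hk]
  have hMidx : (N.subgroupOf C).index ∣ p ^ k := by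
    rw [← hNidx]
    exact Subgroup.relIndex_dvd_index_of_normal N C
  have h1 : (((P : Subgroup G) ⊓ C).subgroupOf C ⊔ N.subgroupOf C).index ∣
      (((P : Subgroup G) ⊓ C).subgroupOf C).index := Subgroup.index_dvd_of_le le_sup_left
  have h2 : (((P : Subgroup G) ⊓ C).subgroupOf C ⊔ N.subgroupOf C).index ∣ p ^ k :=
    dvd_trans (Subgroup.index_dvd_of_le le_sup_right) hMidx
  have hcop : Nat.Coprime (p ^ k) (((P : Subgroup G) ⊓ C).subgroupOf C).index :=
    Nat.Coprime.pow_left k ((Nat.Prime.coprime_iff_not_dvd Fact.out).mpr hS)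
  have htop : ((P : Subgroup G) ⊓ C).subgroupOf C ⊔ N.subgroupOf C = ⊤ :=
    Subgroup.index_eq_one.mp (Nat.eq_one_of_dvd_coprimes hcop h2 h1)
  have hcm : (⟨c, hc⟩ : C) ∈ ((P : Subgroup G) ⊓ C).subgroupOf C ⊔ N.subgroupOf C := by
    rw [htop]; exact Subgroup.mem_top _
  rw [← SetLike.mem_coe, Subgroup.mul_normal] at hcm
  obtain ⟨s, hs, m, hm, hsm⟩ := hcm
  refine ⟨(s : G), Subgroup.mem_subgroupOf.mp hs, ?_⟩
  have hm' : (m : G) ∈ N := Subgroup.mem_subgroupOf.mp hm
  have hc' : c = (s : G) * (m : G) := by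
    have := congrArg Subtype.val hsm
    simpa using this.symm
  rw [hc']
  simpa using hm'

/-- Control of own fusion passes to a normal subgroup of `p`-power index. -/
theorem controlsOwnFusion_subgroupOf (P : Sylow p G)
    (hP : ControlsOwnFusion (P : Subgroup G)) (N : Subgroup G) [N.Normal]
    (hN : IsPGroup p (G ⧸ N)) : ControlsOwnFusion ((P : Subgroup G).subgroupOf N) := by
  intro x hx n hnx
  have hx' : (x : G) ∈ (P : Subgroup G) := Subgroup.mem_subgroupOf.mp hx
  have hnx' : (n : G) * (x : G) * (n : G)⁻¹ ∈ (P : Subgroup G) := by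
    have := Subgroup.mem_subgroupOf.mp hnx
    simpa using this
  obtain ⟨u, hu, hux⟩ := hP (x : G) hx' (n : G) hnx'
  have hc : u⁻¹ * (n : G) ∈ Subgroup.centralizer ({(x : G)} : Set G) := by
    rw [Subgroup.mem_centralizer_singleton_iff]
    calc u⁻¹ * (n : G) * (x : G) = u⁻¹ * ((n : G) * (x : G) * (n : G)⁻¹) * (n : G) := by group
      _ = u⁻¹ * (u * (x : G) * u⁻¹) * (n : G) := by rw [hux]
      _ = (x : G) * (u⁻¹ * (n : G)) := by group
  obtain ⟨s, hs, hsN⟩ := exists_mem_inf_centralizer_inv_mul_mem P hP N hN (x : G) hx' _ hc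
  have hsx : s * (x : G) = (x : G) * s := Subgroup.mem_centralizer_singleton_iff.mp hs.2
  have husN : u * s ∈ N := by
    have h1 : u * s = (n : G) * (s⁻¹ * (u⁻¹ * (n : G)))⁻¹ := by group
    rw [h1]
    exact N.mul_mem n.2 (N.inv_mem hsN)
  refine ⟨⟨u * s, husN⟩, ?_, ?_⟩
  · rw [Subgroup.mem_subgroupOf]
    exact Subgroup.mul_mem _ hu hs.1
  · apply Subtype.ext
    simp only [Subgroup.coe_mul, Subgroup.coe_inv]
    rw [hux]
    calc u * (x : G) * u⁻¹ = u * ((x : G) * s) * s⁻¹ * u⁻¹ := by group
      _ = u * (s * (x : G)) * s⁻¹ * u⁻¹ := by rw [hsx]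
      _ = u * s * (x : G) * (u * s)⁻¹ := by group

omit [Finite G] in
/-- If `P` controls its own fusion then its focal subgroup is its derived subgroup. -/
theorem focalSubgroup_le_commutator_of_controlsOwnFusion (P : Subgroup G)
    (h : ControlsOwnFusion P) : P.focalSubgroup ≤ ⁅P, P⁆ := by
  rw [Subgroup.focalSubgroup_def, Subgroup.closure_le]
  rintro g ⟨hgP, x, hxP, u, rfl⟩
  have hxinv : x⁻¹ ∈ P := Subgroup.inv_mem _ hxP
  have hconj : u * x⁻¹ * u⁻¹ ∈ P := by
    have := Subgroup.mul_mem _ hxinv hgP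
    rw [commutatorElement_def] at this
    simpa [mul_assoc] using this
  obtain ⟨z, hz, hzx⟩ := h x⁻¹ hxinv u hconj
  have : ⁅x, u⁆ = ⁅x, z⁆ := by
    rw [commutatorElement_def, commutatorElement_def]
    calc x * u * x⁻¹ * u⁻¹ = x * (u * x⁻¹ * u⁻¹) := by group
      _ = x * (z * x⁻¹ * z⁻¹) := by rw [hzx]
      _ = x * z * x⁻¹ * z⁻¹ := by group
  rw [SetLike.mem_coe, this]
  exact Subgroup.commutator_mem_commutator hxP hz

end

section
variable {p : ℕ} [Fact p.Prime]

/-- Main induction: control of own fusion forces `O^p(G)` to be a `p'`-group. -/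
theorem coprime_card_pResidual_of_controlsOwnFusion :
    ∀ (n : ℕ) (G : Type u) [Group G] [Finite G] (P : Sylow p G), Nat.card G = n →
      ControlsOwnFusion (P : Subgroup G) → (Nat.card (pResidual p G)).Coprime p := by
  intro n
  induction n using Nat.strong_induction_on with
  | _ n ih =>
  intro G _ _ P hn hP
  have hp : p.Prime := Fact.out
  by_cases hbot : (P : Subgroup G) = ⊥
  · -- `p ∤ |G|`
    have hnd : ¬ p ∣ Nat.card G := fun hd => P.ne_bot_of_dvd_card hd hbot
    have h1 : Nat.card (pResidual p G) ∣ Nat.card G := Subgroup.card_subgroup_dvd_card _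
    exact Nat.Coprime.coprime_dvd_left h1 ((Nat.Prime.coprime_iff_not_dvd hp).mpr hnd).symm
  · -- the focal subgroup is proper in `P`
    have hfle := focalSubgroup_le_commutator_of_controlsOwnFusion (P : Subgroup G) hP
    have : Group.IsNilpotent (P : Subgroup G) := P.isPGroup'.isNilpotent
    have : Nontrivial (P : Subgroup G) := (Subgroup.nontrivial_iff_ne_bot _).mpr hbot
    have hlt : commutator (P : Subgroup G) < ⊤ :=
      Group.IsSolvable.commutator_lt_top_of_nontrivial (P : Subgroup G)
    have hlt' : ⁅(P : Subgroup G), (P : Subgroup G)⁆ < (P : Subgroup G) := by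
      rw [← Subgroup.map_subtype_commutator]
      have := (Subgroup.map_subtype_lt_map_subtype (G := G) (G' := (P : Subgroup G))).mpr hlt
      rw [← MonoidHom.range_eq_map, Subgroup.range_subtype] at this
      exact this
    have hfoc : (P : Subgroup G).focalSubgroup < (P : Subgroup G) := lt_of_le_of_lt hfle hlt'
    -- the kernel of the transfer
    set N : Subgroup G := (P : Subgroup G).transferFocal.ker with hNdef
    have hNn : N.Normal := inferInstance
    have hNP : N ⊓ (P : Subgroup G) = (P : Subgroup G).focalSubgroup :=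
      Subgroup.ker_transferFocal_inf_eq_focalSubgroup P
    have hNtop : N ≠ ⊤ := by
      intro htop
      rw [htop, top_inf_eq] at hNP
      exact absurd hNP.symm (ne_of_lt hfoc)
    have hNq : IsPGroup p (G ⧸ N) := by
      have e := Subgroup.transferFocal.quotientKerMulEquivQuotientFocalSubroupOf P
      have hq : IsPGroup p ((P : Subgroup G) ⧸ (P : Subgroup G).focalSubgroupOf) :=
        P.isPGroup'.to_quotient _
      exact hq.of_equiv e.symm
    have hcardN : Nat.card N < n := by
      rw [← hn]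
      apply lt_of_le_of_ne (Subgroup.card_le_card_group N)
      intro hcard
      exact hNtop (Subgroup.eq_top_of_card_eq N hcard)
    -- the Sylow subgroup of `N`
    have hQp : IsPGroup p ((P : Subgroup G).subgroupOf N) :=
      P.isPGroup'.comap_of_injective N.subtype N.subtype_injective
    have hQidx : ¬ p ∣ ((P : Subgroup G).subgroupOf N).index := by
      intro hd
      have h1 : (P : Subgroup G).relIndex N ∣ (P : Subgroup G).index :=
        Cfsg.Agent.Lib.Helper71.relIndex_dvd_index_of_normal_right (P : Subgroup G) N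
      exact P.not_dvd_index (dvd_trans hd h1)
    have hQ := controlsOwnFusion_subgroupOf P hP N hNq
    have hres := ih (Nat.card N) hcardN N (hQp.toSylow hQidx) rfl hQ
    rw [pResidual_eq_map_of_isPGroup_quotient N hNq,
      Subgroup.card_map_of_injective N.subtype_injective]
    exact hres

end

/-- **Frobenius, part B**: if a Sylow `p`-subgroup controls its own fusion then `G` has a normal
`p`-complement. -/
theorem hasNormalPComplement_of_controlsOwnFusion {G : Type*} [Group G] [Finite G] {p : ℕ}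
    [Fact p.Prime] (P : Sylow p G) (hP : ControlsOwnFusion (P : Subgroup G)) :
    HasNormalPComplement p G :=
  Cfsg.Agent.Lib.Helper34.hasNormalPComplement_iff_pResidual_coprime.mpr
    (coprime_card_pResidual_of_controlsOwnFusion _ G P rfl hP)

/-- **Frobenius' criterion**: `(c)` implies a normal `p`-complement. -/
theorem hasNormalPComplement_of_coprimeCentralizes {G : Type*} [Group G] [Finite G] {p : ℕ}
    [Fact p.Prime] (hc : CoprimeCentralizes p G) : HasNormalPComplement p G := by
  obtain ⟨P⟩ : Nonempty (Sylow p G) := inferInstance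
  exact hasNormalPComplement_of_controlsOwnFusion P (controlsOwnFusion_of_coprimeCentralizes hc P)

section
variable {G : Type*} [Group G] [Finite G] {p : ℕ} [Fact p.Prime]

/-- `(c)` for the subgroups of one Sylow `p`-subgroup gives `(c)` for all `p`-subgroups. -/
theorem coprimeCentralizes_of_forall_le_sylow (P : Sylow p G)
    (h : ∀ Q : Subgroup G, Q ≤ (P : Subgroup G) → ∀ g ∈ Subgroup.normalizer (Q : Set G),
      Nat.Coprime (orderOf g) p → g ∈ Subgroup.centralizer (Q : Set G)) :
    CoprimeCentralizes p G := by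
  intro Q' hQ' g hg hcop
  obtain ⟨P', hP'⟩ := hQ'.exists_le_sylow
  obtain ⟨a, ha⟩ := MulAction.exists_smul_eq G P P'
  -- `Q = a⁻¹ Q' a ≤ P`
  set Q : Subgroup G := Q'.map (MulAut.conj a⁻¹).toMonoidHom with hQdef
  have hmemQ : ∀ y : G, y ∈ Q ↔ a * y * a⁻¹ ∈ Q' := by
    intro y
    rw [hQdef, Cfsg.Agent.Lib.Helper34.mem_map_conj_iff, inv_inv]
  have hQP : Q ≤ (P : Subgroup G) := by
    intro y hy
    have h1 : a * y * a⁻¹ ∈ ((a • P : Sylow p G) : Subgroup G) := by
      rw [ha]; exact hP' ((hmemQ y).mp hy)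
    rw [mem_smul_sylow] at h1
    have h2 : a⁻¹ * (a * y * a⁻¹) * a = y := by group
    rw [h2] at h1
    exact h1
  have hgN : a⁻¹ * g * a ∈ Subgroup.normalizer (Q : Set G) := by
    rw [Subgroup.mem_normalizer_iff]
    intro y
    rw [hmemQ, hmemQ]
    have h1 := Subgroup.mem_normalizer_iff.mp hg (a * y * a⁻¹)
    have h2 : a * (a⁻¹ * g * a * y * (a⁻¹ * g * a)⁻¹) * a⁻¹ = g * (a * y * a⁻¹) * g⁻¹ := by group
    rw [h2]
    exact h1
  have hord : orderOf (a⁻¹ * g * a) = orderOf g := by
    have := (MulAut.conj a⁻¹).orderOf_eq g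
    simpa [MulAut.conj_apply] using this
  have hcen := h Q hQP _ hgN (by rw [hord]; exact hcop)
  rw [Subgroup.mem_centralizer_iff]
  intro q hq
  have hy : a⁻¹ * q * a ∈ Q := by
    rw [hmemQ]
    have : a * (a⁻¹ * q * a) * a⁻¹ = q := by group
    rw [this]; exact hq
  have h3 := Subgroup.mem_centralizer_iff.mp hcen _ hy
  -- (a⁻¹ q a) (a⁻¹ g a) = (a⁻¹ g a) (a⁻¹ q a)
  calc q * g = a * ((a⁻¹ * q * a) * (a⁻¹ * g * a)) * a⁻¹ := by group
    _ = a * ((a⁻¹ * g * a) * (a⁻¹ * q * a)) * a⁻¹ := by rw [h3]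
    _ = g * q := by group

/-- Subgroups of groups with a normal `p`-complement have a normal `p`-complement. -/
theorem hasNormalPComplement_subgroup (h : HasNormalPComplement p G) (H : Subgroup G) :
    HasNormalPComplement p H := by
  rw [Cfsg.Agent.Lib.Helper34.hasNormalPComplement_iff_pResidual_coprime] at h ⊢
  have hle : (pResidual p H).map H.subtype ≤ pResidual p G := by
    unfold pResidual
    rw [MonoidHom.map_closure]
    apply Subgroup.closure_mono
    rintro _ ⟨x, hx, rfl⟩
    have hx' : Nat.Coprime (orderOf x) p := hx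
    show Nat.Coprime (orderOf (H.subtype x)) p
    rw [Subgroup.coe_subtype, Subgroup.orderOf_coe]
    exact hx'
  have hdvd : Nat.card (pResidual p H) ∣ Nat.card (pResidual p G) := by
    rw [← Subgroup.card_map_of_injective H.subtype_injective]
    exact Subgroup.card_dvd_of_le hle
  exact Nat.Coprime.coprime_dvd_left hdvd h

end

end Cfsg.Agent.Lib.Helper2
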