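import Mathlib.GroupTheory.Sylow
import Mathlib.GroupTheory.Transfer
import Mathlib.GroupTheory.PGroup
import Cfsg.Prelude.Def_Transfer

/-!
# Helper lemmas around Burnside's normal p-complement theorem (helper2)

* `exists_fixed_subgroup_modEq`: an automorphism of prime order `q` of a finite group `T` has a
  proper fixed subgroup `F` with `|T| ≡ |F| [MOD q]`.
* `normalizer_le_centralizer_of_no_fixed`: a criterion for `N_G(P) ≤ C_G(P)` for an abelian Sylow
  subgroup.
* `hasNormalPComplement_of_normalizer_le_centralizer`: Burnside's theorem in the vocabulary of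
  `Cfsg.HasNormalPComplement`.
-/

set_option autoImplicit false

namespace Cfsg.Agent.Lib.Helper2

/-- An automorphism of prime order `q` of a finite group `T` has a proper fixed subgroup `F`
with `|T| ≡ |F| [MOD q]`. -/
theorem exists_fixed_subgroup_modEq {T : Type*} [Group T] [Finite T] (a : MulAut T) (q : ℕ)
    [Fact q.Prime] (ha : orderOf a = q) :
    ∃ F : Subgroup T, F ≠ ⊤ ∧ Nat.card T ≡ Nat.card F [MOD q] := by
  have hq : q.Prime := Fact.out
  refine ⟨FixedPoints.subgroup (Subgroup.zpowers a) T, ?_, ?_⟩
  · intro htop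
    have h1 : a = 1 := by
      ext t
      have ht : t ∈ FixedPoints.subgroup (Subgroup.zpowers a) T := by rw [htop]; trivial
      rw [FixedPoints.mem_subgroup] at ht
      exact ht ⟨a, Subgroup.mem_zpowers a⟩
    rw [h1, orderOf_one] at ha
    exact hq.one_lt.ne ha
  · have hP : IsPGroup q (Subgroup.zpowers a) := by
      apply IsPGroup.of_card (n := 1)
      rw [Nat.card_zpowers, ha, pow_one]
    exact hP.card_modEq_card_fixedPoints T

/-- If no prime `q ≠ p` dividing `|G|` admits a proper subgroup `F` of the abelian Sylow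
`p`-subgroup `P` with `|P| ≡ |F| [MOD q]`, then `N_G(P) ≤ C_G(P)`. -/
theorem normalizer_le_centralizer_of_no_fixed {G : Type*} [Group G] [Finite G] {p : ℕ}
    [Fact p.Prime] (P : Sylow p G) (hcomm : IsMulCommutative P)
    (h : ∀ q : ℕ, q.Prime → q ∣ Nat.card G → q ≠ p → ∀ F : Subgroup (P : Subgroup G), F ≠ ⊤ →
      ¬ Nat.card (P : Subgroup G) ≡ Nat.card F [MOD q]) :
    Subgroup.normalizer ((P : Subgroup G) : Set G) ≤ Subgroup.centralizer ((P : Subgroup G) : Set G) := by
  have hp : p.Prime := Fact.out
  have hPC : (P : Subgroup G) ≤ Subgroup.centralizer ((P : Subgroup G) : Set G) := by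
    intro x hx y hy
    have := hcomm.is_comm.comm (⟨y, hy⟩ : (P : Subgroup G)) ⟨x, hx⟩
    exact congrArg Subtype.val this
  have key := Subgroup.card_dvd_of_injective _
    (QuotientGroup.kerLift_injective (P : Subgroup G).normalizerMonoidHom)
  rw [Subgroup.normalizerMonoidHom_ker, ← Subgroup.index, ← Subgroup.relIndex] at key
  set r := (Subgroup.centralizer ((P : Subgroup G) : Set G)).relIndex
    (Subgroup.normalizer ((P : Subgroup G) : Set G)) with hr
  refine Subgroup.relIndex_eq_one.mp ?_
  by_contra hr1
  obtain ⟨q, hq, hqr⟩ := Nat.exists_prime_and_dvd hr1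
  have : Fact q.Prime := ⟨hq⟩
  -- q divides the index of P
  have hqidx : q ∣ (P : Subgroup G).index := by
    have h1 : r ∣ (P : Subgroup G).relIndex (Subgroup.normalizer ((P : Subgroup G) : Set G)) :=
      Subgroup.relIndex_dvd_of_le_left _ hPC
    have h2 : (P : Subgroup G).relIndex (Subgroup.normalizer ((P : Subgroup G) : Set G)) ∣
        (P : Subgroup G).index := Subgroup.relIndex_dvd_index_of_le Subgroup.le_normalizer
    exact hqr.trans (h1.trans h2)
  have hqG : q ∣ Nat.card G := hqidx.trans (Subgroup.index_dvd_card _)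
  have hqp : q ≠ p := by
    rintro rfl
    exact P.not_dvd_index hqidx
  -- Cauchy inside the range of `N_G(P) → Aut P`
  have hrange : Nat.card (P : Subgroup G).normalizerMonoidHom.range = r := by
    rw [hr, Subgroup.relIndex, Subgroup.index, ← Subgroup.normalizerMonoidHom_ker]
    exact (Nat.card_congr
      (QuotientGroup.quotientKerEquivRange (P : Subgroup G).normalizerMonoidHom).toEquiv).symm
  have hqR : q ∣ Nat.card (P : Subgroup G).normalizerMonoidHom.range := by rw [hrange]; exact hqr
  obtain ⟨b, hb⟩ := exists_prime_orderOf_dvd_card' (G := (P : Subgroup G).normalizerMonoidHom.range) q hqR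
  have hb' : orderOf (b : MulAut (P : Subgroup G)) = q := by rw [Subgroup.orderOf_coe]; exact hb
  obtain ⟨F, hF, hmod⟩ := exists_fixed_subgroup_modEq (b : MulAut (P : Subgroup G)) q hb'
  exact h q hq hqG hqp F hF hmod

/-- Burnside's normal `p`-complement theorem in the vocabulary of `Cfsg.HasNormalPComplement`. -/
theorem hasNormalPComplement_of_normalizer_le_centralizer {G : Type*} [Group G] [Finite G] {p : ℕ}
    [Fact p.Prime] (P : Sylow p G)
    (h : Subgroup.normalizer ((P : Subgroup G) : Set G) ≤ Subgroup.centralizer ((P : Subgroup G) : Set G)) :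
    Cfsg.HasNormalPComplement p G :=
  ⟨P, (MonoidHom.transferSylow P h).ker, inferInstance, MonoidHom.ker_transferSylow_isComplement' P h⟩

/-- If `G` has a normal `p`-complement then *every* Sylow `p`-subgroup has a normal complement
(the same one). -/
theorem exists_normal_complement_of_hasNormalPComplement {G : Type*} [Group G] [Finite G] {p : ℕ}
    [Fact p.Prime] (h : Cfsg.HasNormalPComplement p G) (P : Sylow p G) :
    ∃ N : Subgroup G, N.Normal ∧ N.IsComplement' (P : Subgroup G) := by
  have hp : p.Prime := Fact.out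
  obtain ⟨P', N, hN, hc⟩ := h
  refine ⟨N, hN, ?_⟩
  have hcard : Nat.card (P : Subgroup G) = Nat.card (P' : Subgroup G) := by
    rw [P.card_eq_multiplicity, P'.card_eq_multiplicity]
  apply Subgroup.isComplement'_of_coprime
  · rw [hcard]; exact hc.card_mul_card
  · have h1 : Nat.card N = (P' : Subgroup G).index := hc.index_eq_card.symm
    obtain ⟨k, hk⟩ := IsPGroup.iff_card.mp P.isPGroup'
    rw [hk, h1]
    apply Nat.Coprime.pow_right
    rw [Nat.coprime_comm, hp.coprime_iff_not_dvd]
    exact P'.not_dvd_index

end Cfsg.Agent.Lib.Helper2
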