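import Mathlib

/-!
# Critical groups for a coprime action of a group of prime order

`H` (of prime order) acts on the finite nilpotent group `P` of order prime to `|H|`, nontrivially,
but trivially on every proper invariant subgroup.  Then `P = [P, H]`, and
* if `P` is abelian, the action is fixed-point-free;
* if `P` is not abelian, then `P' ≤ Z(P) = C_P(H)` and the action is fixed-point-free on
  `P / Z(P)`.
-/

set_option autoImplicit false

namespace Cfsg.Agent.Lib.Helper2.Critical

open scoped commutatorElement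

variable {P H : Type*} [Group P] [Group H] (φ : H →* MulAut P)

/-- The action is nontrivial, but trivial on every proper invariant subgroup. -/
structure IsCritical : Prop where
  min : ∀ P₁ : Subgroup P, P₁ ≠ ⊤ → (∀ h, ∀ g ∈ P₁, φ h g ∈ P₁) → ∀ h, ∀ g ∈ P₁, φ h g = g
  nontriv : ∃ h g, φ h g ≠ g

/-- iterating an automorphism on an element moved by a fixed element -/
theorem iterate_mul (α : MulAut P) (g w : P) (hg : α g = g * w) (hw : α w = w) (k : ℕ) :
    (α ^ k) g = g * w ^ k := by
  induction k with
  | zero => simp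
  | succ k ih =>
    rw [pow_succ', MulAut.mul_apply, ih, map_mul, map_pow, hg, hw, mul_assoc, ← pow_succ']

variable [Finite P] [Finite H]

omit [Finite P] [Finite H] in
/-- An element `w = g⁻¹ * φ h g` fixed by `φ h` is trivial, by coprimality. -/
theorem eq_of_fixed_comm (hcop : (Nat.card P).Coprime (Nat.card H)) (h : H) (g : P)
    (hw : φ h (g⁻¹ * φ h g) = g⁻¹ * φ h g) : φ h g = g := by
  set w := g⁻¹ * φ h g with hwdef
  have hg : φ h g = g * w := by rw [hwdef, mul_inv_cancel_left]
  have h1 := iterate_mul (φ h) g w hg hw (Nat.card H)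
  rw [← map_pow, pow_card_eq_one', map_one, MulAut.one_apply] at h1
  have h2 : w ^ Nat.card H = 1 := by
    have := mul_left_cancel (a := g) (b := 1) (c := w ^ Nat.card H) (by rw [mul_one]; exact h1)
    exact this.symm
  have h3 : orderOf w ∣ Nat.card H := orderOf_dvd_of_pow_eq_one h2
  have h4 : orderOf w ∣ Nat.card P := orderOf_dvd_natCard w
  have h5 : orderOf w = 1 := Nat.eq_one_of_dvd_coprimes hcop h4 h3
  rw [hg, orderOf_eq_one_iff.mp h5, mul_one]

omit [Finite P] [Finite H] in
/-- In a group of prime order, an element fixed by a nontrivial element is fixed by all. -/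
theorem fixed_of_ne_one {r : ℕ} [hr : Fact r.Prime] (hH : Nat.card H = r) (h : H) (hh : h ≠ 1)
    (g : P) (hg : φ h g = g) (h' : H) : φ h' g = g := by
  let S : Subgroup H :=
    { carrier := {a | φ a g = g}
      mul_mem' := fun {a b} ha hb => by
        show φ (a * b) g = g
        rw [map_mul, MulAut.mul_apply, hb, ha]
      one_mem' := by show φ 1 g = g; rw [map_one]; rfl
      inv_mem' := fun {a} ha => by
        show φ a⁻¹ g = g
        rw [map_inv]
        conv_lhs => rw [← ha]
        exact MulAut.inv_apply_self _ (φ a) g }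
  have hS : S = ⊤ := by
    have : Fact (Nat.card H).Prime := ⟨hH ▸ hr.out⟩
    rcases Subgroup.eq_bot_or_eq_top_of_prime_card S with h0 | h0
    · exact absurd ((Subgroup.mem_bot).mp (h0 ▸ (show h ∈ S from hg))) hh
    · exact h0
  have : h' ∈ S := by rw [hS]; trivial
  exact this

section Crit

variable {r : ℕ} [hr : Fact r.Prime]

/-- The generators of `[P, H]`. -/
def commSet : Set P := {w | ∃ h g, w = g⁻¹ * φ h g}

omit [Finite P] [Finite H] in
theorem mul_comm_of_prime_card (hH : Nat.card H = r) (a b : H) : a * b = b * a := by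
  have : IsCyclic H := isCyclic_of_prime_card hH
  exact (IsCyclic.isMulCommutative (α := H)).is_comm.comm a b

omit [Finite P] [Finite H] in
/-- `P = [P, H]` for a critical action. -/
theorem closure_commSet (hH : Nat.card H = r) (hcop : (Nat.card P).Coprime (Nat.card H))
    (hcrit : IsCritical φ) : Subgroup.closure (commSet φ) = ⊤ := by
  by_contra hne
  have hinv : ∀ h, ∀ c ∈ Subgroup.closure (commSet φ), φ h c ∈ Subgroup.closure (commSet φ) := by
    intro h' c hc
    induction hc using Subgroup.closure_induction with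
    | mem w hw =>
      obtain ⟨h, g, rfl⟩ := hw
      apply Subgroup.subset_closure
      refine ⟨h, φ h' g, ?_⟩
      rw [map_mul, map_inv]
      congr 1
      rw [← MulAut.mul_apply, ← MulAut.mul_apply, ← map_mul, ← map_mul,
        mul_comm_of_prime_card hH]
    | one => rw [map_one]; exact Subgroup.one_mem _
    | mul a b _ _ ha hb => rw [map_mul]; exact Subgroup.mul_mem _ ha hb
    | inv a _ ha => rw [map_inv]; exact Subgroup.inv_mem _ ha
  have hfix := hcrit.min _ hne hinv
  obtain ⟨h, g, hg⟩ := hcrit.nontriv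
  apply hg
  apply eq_of_fixed_comm φ hcop h g
  exact hfix h _ (Subgroup.subset_closure ⟨h, g, rfl⟩)

omit [Finite P] [Finite H] in
/-- A proper invariant normal subgroup is central. -/
theorem le_center_of_normal (hH : Nat.card H = r) (hcop : (Nat.card P).Coprime (Nat.card H))
    (hcrit : IsCritical φ) (N : Subgroup P) [N.Normal] (hN : N ≠ ⊤)
    (hNinv : ∀ h, ∀ g ∈ N, φ h g ∈ N) : N ≤ Subgroup.center P := by
  have hfix := hcrit.min N hN hNinv
  intro n hn
  have hsub : commSet φ ⊆ (Subgroup.centralizer ({n} : Set P) : Set P) := by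
    rintro _ ⟨h, g, rfl⟩
    rw [SetLike.mem_coe, Subgroup.mem_centralizer_iff]
    intro m hm
    rw [Set.mem_singleton_iff] at hm
    subst hm
    have h1 : φ h (g * m * g⁻¹) = g * m * g⁻¹ :=
      hfix h _ (‹N.Normal›.conj_mem m hn g)
    rw [map_mul, map_mul, map_inv, hfix h m hn] at h1
    -- `φ h g * m * (φ h g)⁻¹ = g * m * g⁻¹`
    have h2 : m * (g⁻¹ * φ h g) = g⁻¹ * (g * m * g⁻¹) * φ h g := by group
    rw [h2, ← h1]
    group
  have hle : Subgroup.closure (commSet φ) ≤ Subgroup.centralizer ({n} : Set P) :=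
    (Subgroup.closure_le _).mpr hsub
  rw [closure_commSet φ hH hcop hcrit] at hle
  rw [Subgroup.mem_center_iff]
  intro g
  have := Subgroup.mem_centralizer_iff.mp (hle (Subgroup.mem_top g)) n rfl
  exact this.symm

omit [Finite P] [Finite H] in
theorem map_mem_of_characteristic (N : Subgroup P) [hN : N.Characteristic] (h : H) (g : P)
    (hg : g ∈ N) : φ h g ∈ N :=
  (Subgroup.characteristic_iff_map_le.mp hN) (φ h) ⟨g, hg, rfl⟩

omit [Finite P] [Finite H] in
theorem nontrivial_of_critical (hcrit : IsCritical φ) : Nontrivial P := by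
  obtain ⟨h, g, hg⟩ := hcrit.nontriv
  refine ⟨⟨g, 1, ?_⟩⟩
  rintro rfl
  exact hg (map_one _)

omit [Finite P] [Finite H] in
/-- `H` acts trivially on the derived subgroup. -/
theorem fixed_commutator [Group.IsNilpotent P] (hcrit : IsCritical φ) (h : H) (g : P)
    (hg : g ∈ commutator P) : φ h g = g := by
  have := nontrivial_of_critical φ hcrit
  have hne : commutator P ≠ ⊤ := (Group.IsSolvable.commutator_lt_top_of_nontrivial P).ne
  exact hcrit.min _ hne (fun h g hg => map_mem_of_characteristic φ _ h g hg) h g hg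

omit [Finite P] [Finite H] in
/-- The elements fixed by `H` are central. -/
theorem fixed_mem_center [Group.IsNilpotent P] (hH : Nat.card H = r)
    (hcop : (Nat.card P).Coprime (Nat.card H)) (hcrit : IsCritical φ) (c : P)
    (hc : ∀ h, φ h c = c) : c ∈ Subgroup.center P := by
  have hsub : commSet φ ⊆ (Subgroup.centralizer ({c} : Set P) : Set P) := by
    rintro _ ⟨h, g, rfl⟩
    rw [SetLike.mem_coe, Subgroup.mem_centralizer_iff]
    intro m hm
    rw [Set.mem_singleton_iff] at hm
    subst hm
    have hmem : ⁅g, m⁆ ∈ commutator P := by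
      rw [commutator_def]
      exact Subgroup.commutator_mem_commutator (Subgroup.mem_top g) (Subgroup.mem_top m)
    have h1 := fixed_commutator φ hcrit h _ hmem
    rw [commutatorElement_def, map_mul, map_mul, map_mul, map_inv, map_inv, hc h] at h1
    have h3 : φ h g * m * (φ h g)⁻¹ = g * m * g⁻¹ := by
      have := congrArg (· * m) h1
      simpa using this
    have h2 : m * (g⁻¹ * φ h g) = g⁻¹ * (g * m * g⁻¹) * φ h g := by group
    rw [h2, ← h3]
    group
  have hle : Subgroup.closure (commSet φ) ≤ Subgroup.centralizer ({c} : Set P) :=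
    (Subgroup.closure_le _).mpr hsub
  rw [closure_commSet φ hH hcop hcrit] at hle
  rw [Subgroup.mem_center_iff]
  intro g
  have := Subgroup.mem_centralizer_iff.mp (hle (Subgroup.mem_top g)) c rfl
  exact this.symm

omit [Finite P] [Finite H] in
/-- The structure of a nonabelian critical group. -/
theorem nonabelian_case [Group.IsNilpotent P] (hH : Nat.card H = r)
    (hcop : (Nat.card P).Coprime (Nat.card H)) (hcrit : IsCritical φ)
    (hnab : ∃ a b : P, a * b ≠ b * a) :
    (∀ a b : P, ⁅a, b⁆ ∈ Subgroup.center P) ∧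
    (∀ h, ∀ z ∈ Subgroup.center P, φ h z = z) ∧
    (∀ h, h ≠ 1 → ∀ g, g⁻¹ * φ h g ∈ Subgroup.center P → g ∈ Subgroup.center P) := by
  have := nontrivial_of_critical φ hcrit
  have hne : commutator P ≠ ⊤ := (Group.IsSolvable.commutator_lt_top_of_nontrivial P).ne
  have hZne : Subgroup.center P ≠ ⊤ := by
    intro htop
    obtain ⟨a, b, hab⟩ := hnab
    apply hab
    have : b ∈ Subgroup.center P := htop ▸ Subgroup.mem_top b
    exact (Subgroup.mem_center_iff.mp this) a
  have h2 : ∀ h, ∀ z ∈ Subgroup.center P, φ h z = z :=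
    hcrit.min _ hZne (fun h g hg => map_mem_of_characteristic φ _ h g hg)
  refine ⟨?_, h2, ?_⟩
  · intro a b
    have hle := le_center_of_normal φ hH hcop hcrit (commutator P) hne
      (fun h g hg => map_mem_of_characteristic φ _ h g hg)
    apply hle
    rw [commutator_def]
    exact Subgroup.commutator_mem_commutator (Subgroup.mem_top a) (Subgroup.mem_top b)
  · intro h hh g hg
    have hfix : φ h g = g := eq_of_fixed_comm φ hcop h g (h2 h _ hg)
    exact fixed_mem_center φ hH hcop hcrit g (fun h' => fixed_of_ne_one φ hH h hh g hfix h')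

omit [Finite H] in
/-- An abelian critical group is acted on without nontrivial fixed points. -/
theorem abelian_case (hH : Nat.card H = r) (hcop : (Nat.card P).Coprime (Nat.card H))
    (hcrit : IsCritical φ) (hab : ∀ a b : P, a * b = b * a) :
    ∀ h, h ≠ 1 → ∀ g, φ h g = g → g = 1 := by
  intro h hh g hg
  -- the range of `β g = g⁻¹ * φ h g` is a subgroup containing `commSet`
  let R : Subgroup P :=
    { carrier := {w | ∃ g, w = g⁻¹ * φ h g}
      mul_mem' := by
        rintro _ _ ⟨a, rfl⟩ ⟨b, rfl⟩
        refine ⟨a * b, ?_⟩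
        rw [map_mul, mul_inv_rev, hab b⁻¹ a⁻¹, mul_assoc, mul_assoc, ← mul_assoc b⁻¹,
          hab b⁻¹ (φ h a), mul_assoc]
      one_mem' := ⟨1, by simp⟩
      inv_mem' := by
        rintro _ ⟨a, rfl⟩
        refine ⟨a⁻¹, ?_⟩
        rw [map_inv, mul_inv_rev, inv_inv, hab] }
  have hpow : ∀ (k : ℕ) (a : P), a⁻¹ * φ (h ^ k) a ∈ R := by
    intro k
    induction k with
    | zero => intro a; simp only [pow_zero, map_one, MulAut.one_apply, inv_mul_cancel]; exact R.one_mem
    | succ k ih =>
      intro a
      have : a⁻¹ * φ (h ^ (k + 1)) a = (a⁻¹ * φ (h ^ k) a) * ((φ (h ^ k) a)⁻¹ * φ h (φ (h ^ k) a)) := by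
        rw [pow_succ', map_mul, MulAut.mul_apply]; group
      rw [this]
      exact R.mul_mem (ih a) ⟨_, rfl⟩
  have hsub : commSet φ ⊆ (R : Set P) := by
    rintro _ ⟨h', a, rfl⟩
    obtain ⟨k, rfl⟩ := (mem_powers_of_prime_card (p := r) hH hh : h' ∈ Submonoid.powers h)
    exact hpow k a
  have hR : R = ⊤ := by
    rw [eq_top_iff, ← closure_commSet φ hH hcop hcrit]
    exact (Subgroup.closure_le _).mpr hsub
  have hsurj : Function.Surjective fun a : P => a⁻¹ * φ h a := by
    intro w
    have : w ∈ R := hR ▸ Subgroup.mem_top w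
    obtain ⟨a, rfl⟩ := this
    exact ⟨a, rfl⟩
  have hinj := Finite.injective_iff_surjective.mpr hsurj
  apply hinj
  simp only [hg, inv_mul_cancel, map_one, inv_one, mul_one]

end Crit

end Cfsg.Agent.Lib.Helper2.Critical
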