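import Mathlib
import Cfsg.Agent.Lib.Helper2.FreeAssembly

/-!
# Simple invariant subspaces: independent or isomorphic

A finite family of subspaces, each invariant and simple under a family of operators, is either
independent, or two of its members are equivariantly isomorphic (`indep_or_iso`).
-/

set_option autoImplicit false

namespace Cfsg.Agent.Lib.Helper2.IndepSimple

open scoped BigOperators
open Cfsg.Agent.Lib.Helper2.FreeAssembly

variable {K V ι G : Type*} [Field K] [AddCommGroup V] [Module K V]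

theorem indep_or_iso [Fintype ι] (o : G → V →ₗ[K] V) (U : ι → Submodule K V)
    (hinv : ∀ i g, U i ≤ (U i).comap (o g))
    (hsimple : ∀ i (W : Submodule K V), W ≤ U i → (∀ g, W ≤ W.comap (o g)) → W = ⊥ ∨ W = U i) :
    iSupIndep U ∨ ∃ i j, i ≠ j ∧ ∃ e : U i ≃ₗ[K] U j,
      ∀ (g : G) (u : U i), (e ⟨o g u, hinv i g u.2⟩ : V) = o g (e u) := by
  classical
  by_cases hind : iSupIndep U
  · exact Or.inl hind
  right
  rw [iSupIndep_iff_sum_eq_zero] at hind
  push Not at hind
  obtain ⟨v₀, hv₀U, hv₀sum, hv₀ne⟩ := hind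
  let supp : (ι → V) → Finset ι := fun w => Finset.univ.filter fun i => w i ≠ 0
  let Q : ℕ → Prop := fun n => ∃ w : ι → V, (∀ i, w i ∈ U i) ∧ ∑ i, w i = 0 ∧ (∃ i, w i ≠ 0) ∧
    (supp w).card = n
  have hQ : ∃ n, Q n := ⟨_, v₀, hv₀U, hv₀sum, hv₀ne, rfl⟩
  obtain ⟨v, hvU, hvsum, hvne, hvcard⟩ := Nat.find_spec hQ
  have hmin : ∀ w : ι → V, (∀ i, w i ∈ U i) → ∑ i, w i = 0 →
      (supp w).card < (supp v).card → ∀ i, w i = 0 := by
    intro w hwU hwsum hlt
    by_contra hne
    push Not at hne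
    have : Q (supp w).card := ⟨w, hwU, hwsum, hne, rfl⟩
    have := Nat.find_min' hQ this
    omega
  set S := supp v with hS
  have hmemS : ∀ i, i ∈ S ↔ v i ≠ 0 := by
    intro i; simp [hS, supp]
  obtain ⟨i₀, hi₀⟩ := hvne
  have hi₀S : i₀ ∈ S := (hmemS i₀).mpr hi₀
  -- there is a second index in the support
  have hex : ∃ i₁ ∈ S, i₁ ≠ i₀ := by
    by_contra hno
    push Not at hno
    have : ∑ i, v i = v i₀ := by
      refine Finset.sum_eq_single i₀ (fun i _ hi => ?_) (fun h => absurd (Finset.mem_univ _) h)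
      by_contra hvi
      exact hi (hno i ((hmemS i).mpr hvi))
    rw [hvsum] at this
    exact hi₀ this.symm
  obtain ⟨i₁, hi₁S, hi₁⟩ := hex
  -- the module of relations supported in `S`
  let R : Submodule K (ι → V) :=
    { carrier := {w | (∀ i, w i ∈ U i) ∧ (∀ i, i ∉ S → w i = 0) ∧ ∑ i, w i = 0}
      add_mem' := by
        rintro a b ⟨ha1, ha2, ha3⟩ ⟨hb1, hb2, hb3⟩
        refine ⟨fun i => (U i).add_mem (ha1 i) (hb1 i), fun i hi => ?_, ?_⟩
        · simp [ha2 i hi, hb2 i hi]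
        · simp [Finset.sum_add_distrib, ha3, hb3]
      zero_mem' := ⟨fun i => (U i).zero_mem, fun _ _ => rfl, by simp⟩
      smul_mem' := by
        rintro c a ⟨ha1, ha2, ha3⟩
        refine ⟨fun i => (U i).smul_mem c (ha1 i), fun i hi => ?_, ?_⟩
        · simp [ha2 i hi]
        · simp [← Finset.smul_sum, ha3] }
  have hvR : v ∈ R := ⟨hvU, fun i hi => by
    by_contra h; exact hi ((hmemS i).mpr h), hvsum⟩
  -- vanishing of one coordinate in the support forces vanishing
  have hzero : ∀ a ∈ S, ∀ w ∈ R, w a = 0 → w = 0 := by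
    intro a ha w hw hwa
    obtain ⟨hw1, hw2, hw3⟩ := hw
    have hsub : supp w ⊆ S.erase a := by
      intro i hi
      have hwi : w i ≠ 0 := by simpa [supp] using hi
      rw [Finset.mem_erase]
      refine ⟨fun h => hwi (h ▸ hwa), ?_⟩
      by_contra hiS
      exact hwi (hw2 i hiS)
    have hlt : (supp w).card < (supp v).card := by
      calc (supp w).card ≤ (S.erase a).card := Finset.card_le_card hsub
        _ < S.card := Finset.card_erase_lt_of_mem ha
    funext i
    exact hmin w hw1 hw3 hlt i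
  -- the operators act on relations
  have hact : ∀ (g : G) (w : ι → V), w ∈ R → (fun i => o g (w i)) ∈ R := by
    rintro g w ⟨hw1, hw2, hw3⟩
    refine ⟨fun i => hinv i g (hw1 i), fun i hi => by simp [hw2 i hi], ?_⟩
    rw [← map_sum, hw3, map_zero]
  -- coordinate projections
  let π : ∀ a : ι, R →ₗ[K] U a := fun a =>
    { toFun := fun w => ⟨w.1 a, w.2.1 a⟩
      map_add' := fun _ _ => rfl
      map_smul' := fun _ _ => rfl }
  have hπinj : ∀ a ∈ S, Function.Injective (π a) := by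
    intro a ha
    rw [← LinearMap.ker_eq_bot, LinearMap.ker_eq_bot']
    intro w hw
    apply Subtype.ext
    exact hzero a ha w.1 w.2 (congrArg Subtype.val hw)
  have hπsurj : ∀ a ∈ S, Function.Surjective (π a) := by
    intro a ha
    let W : Submodule K V := (LinearMap.range (π a)).map (U a).subtype
    have hWle : W ≤ U a := by
      rintro _ ⟨u, -, rfl⟩
      exact u.2
    have hWinv : ∀ g, W ≤ W.comap (o g) := by
      rintro g _ ⟨_, ⟨w, rfl⟩, rfl⟩
      exact ⟨_, ⟨⟨_, hact g w.1 w.2⟩, rfl⟩, rfl⟩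
    have hWne : W ≠ ⊥ := by
      intro h
      have : v a ∈ W := ⟨_, ⟨⟨v, hvR⟩, rfl⟩, rfl⟩
      rw [h, Submodule.mem_bot] at this
      exact (hmemS a).mp ha this
    have hWeq : W = U a := (hsimple a W hWle hWinv).resolve_left hWne
    intro u
    have : (u : V) ∈ W := by rw [hWeq]; exact u.2
    obtain ⟨_, ⟨w, rfl⟩, hw⟩ := this
    exact ⟨w, Subtype.ext hw⟩
  let e₀ : R ≃ₗ[K] U i₀ := LinearEquiv.ofBijective (π i₀) ⟨hπinj i₀ hi₀S, hπsurj i₀ hi₀S⟩
  let e₁ : R ≃ₗ[K] U i₁ := LinearEquiv.ofBijective (π i₁) ⟨hπinj i₁ hi₁S, hπsurj i₁ hi₁S⟩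
  refine ⟨i₀, i₁, hi₁.symm, e₀.symm.trans e₁, ?_⟩
  intro g u
  set w := e₀.symm u with hw
  have hw0 : (w.1 i₀ : V) = u := by
    have : e₀ w = u := by rw [hw, LinearEquiv.apply_symm_apply]
    exact congrArg Subtype.val this
  have hgw : e₀ ⟨_, hact g w.1 w.2⟩ = ⟨o g u, hinv i₀ g u.2⟩ := by
    apply Subtype.ext
    show o g (w.1 i₀) = o g u
    rw [hw0]
  rw [LinearEquiv.trans_apply, ← hgw, LinearEquiv.symm_apply_apply]
  rfl

end Cfsg.Agent.Lib.Helper2.IndepSimple
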