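import Mathlib
import Cfsg.Agent.Lib.Helper2.ShultCore
import Cfsg.Agent.Lib.Helper2.IrrSpan
import Cfsg.Agent.Lib.Helper2.IndepSimple

/-!
# The Hall–Higman–Shult theorem: the class two case

`P` is a finite nilpotent group with `P' ≤ Z(P)`, acted on by the group `H` of prime order `r`
which centralizes `Z(P)` and acts without fixed points on `P / Z(P)`.  If the semidirect product
acts on a module `V` over an algebraically closed field of good characteristic so that `H` has no
fixed vector and a central commutator `c` of prime order has no fixed vector, then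
`|P : N| = (r - 1)²` for a normal subgroup `N ⊇ Z(P)` with `[N, P] ∩ ⟨c⟩ = 1`.
-/

set_option autoImplicit false

namespace Cfsg.Agent.Lib.Helper2.ShultB

open scoped BigOperators commutatorElement
open Module Cfsg.Agent.Lib.Helper2.FreeAssembly Cfsg.Agent.Lib.Helper2.ShultCore

section Gen

variable {K : Type*} [Field K] {G : Type*} {V : Type*} [AddCommGroup V] [Module K V]

/-- A nonzero finite-dimensional space with operators has a simple invariant subspace. -/
theorem exists_simple [FiniteDimensional K V] [Nontrivial V] (o : G → V →ₗ[K] V) :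
    ∃ U : Submodule K V, U ≠ ⊥ ∧ (∀ g, U ≤ U.comap (o g)) ∧
      ∀ W : Submodule K V, W ≤ U → (∀ g, W ≤ W.comap (o g)) → W = ⊥ ∨ W = U := by
  let S : Set (Submodule K V) := {U | U ≠ ⊥ ∧ ∀ g, U ≤ U.comap (o g)}
  have hS : S.Nonempty := ⟨⊤, top_ne_bot, fun g => le_top⟩
  obtain ⟨U, hUS, hmin⟩ := (wellFounded_lt (α := Submodule K V)).has_min S hS
  refine ⟨U, hUS.1, hUS.2, fun W hW hinv => ?_⟩
  by_cases hW0 : W = ⊥
  · exact Or.inl hW0
  · right
    have := hmin W ⟨hW0, hinv⟩
    rcases lt_or_eq_of_le hW with h | h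
    · exact absurd h this
    · exact h

/-- The range of a twisted-equivariant map from an irreducible space is a simple invariant
subspace. -/
theorem simple_range {U₁ : Type*} [AddCommGroup U₁] [Module K U₁] (o₁ : G → U₁ →ₗ[K] U₁)
    (o₂ : G → V →ₗ[K] V)
    (hirr : ∀ W : Submodule K U₁, (∀ g, W ≤ W.comap (o₁ g)) → W = ⊥ ∨ W = ⊤)
    (α : G → G) (hα : Function.Surjective α) (f : U₁ →ₗ[K] V)
    (hf : ∀ g u, f (o₁ g u) = o₂ (α g) (f u)) :
    (∀ g, LinearMap.range f ≤ (LinearMap.range f).comap (o₂ g)) ∧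
    ∀ W : Submodule K V, W ≤ LinearMap.range f → (∀ g, W ≤ W.comap (o₂ g)) →
      W = ⊥ ∨ W = LinearMap.range f := by
  constructor
  · rintro g _ ⟨u, rfl⟩
    obtain ⟨g', rfl⟩ := hα g
    exact ⟨o₁ g' u, hf g' u⟩
  · intro W hW hinv
    have hc : ∀ g, W.comap f ≤ (W.comap f).comap (o₁ g) := by
      intro g u hu
      rw [Submodule.mem_comap] at hu
      show f (o₁ g u) ∈ W
      rw [hf]
      exact hinv (α g) hu
    rcases hirr _ hc with h | h
    · left
      rw [eq_bot_iff]
      intro w hw
      obtain ⟨u, rfl⟩ := hW hw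
      have : u ∈ W.comap f := hw
      rw [h, Submodule.mem_bot] at this
      rw [this, map_zero]; exact Submodule.zero_mem _
    · right
      apply le_antisymm hW
      rintro _ ⟨u, rfl⟩
      have : u ∈ W.comap f := h ▸ Submodule.mem_top
      exact this

end Gen

section Sub

variable {K : Type*} [Field K] {P : Type*} [Group P] {V : Type*} [AddCommGroup V] [Module K V]

/-- A simple invariant subspace carries an irreducible subrepresentation. -/
theorem hirr_of_simple (ρ : Representation K P V) (U : Submodule K V)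
    (hU : ∀ g, U ≤ U.comap (ρ g))
    (hs : ∀ W : Submodule K V, W ≤ U → (∀ g, W ≤ W.comap (ρ g)) → W = ⊥ ∨ W = U) :
    ∀ W : Submodule K ↥U, (∀ g, W ≤ W.comap (ρ.subrepresentation U hU g)) → W = ⊥ ∨ W = ⊤ := by
  intro W hW
  have hle : W.map U.subtype ≤ U := Submodule.map_subtype_le U W
  have hinv : ∀ g, W.map U.subtype ≤ (W.map U.subtype).comap (ρ g) := by
    rintro g _ ⟨w, hw, rfl⟩
    exact ⟨ρ.subrepresentation U hU g w, hW g hw, rfl⟩
  rcases hs _ hle hinv with h | h
  · left
    rw [eq_bot_iff]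
    intro w hw
    have : (w : V) ∈ W.map U.subtype := ⟨w, hw, rfl⟩
    rw [h, Submodule.mem_bot] at this
    rw [Submodule.mem_bot]
    exact Subtype.ext this
  · right
    rw [eq_top_iff]
    intro u _
    have : (u : V) ∈ W.map U.subtype := by rw [h]; exact u.2
    obtain ⟨w, hw, hwu⟩ := this
    have : w = u := Subtype.ext hwu
    exact this ▸ hw

end Sub

section Stable

variable {K : Type*} [Field K] [IsAlgClosed K] {P : Type*} [Group P] {H : Type*} [Group H]
  [Finite H] {V : Type*} [AddCommGroup V] [Module K V] [FiniteDimensional K V] [Nontrivial V]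

omit [IsAlgClosed K] [Finite H] [FiniteDimensional K V] [Nontrivial V] in
theorem tau_inv_apply (τ : Representation K H V) (h : H) (v : V) : τ h⁻¹ (τ h v) = v := by
  rw [← Module.End.mul_apply, ← map_mul, inv_mul_cancel, map_one]; rfl

omit [IsAlgClosed K] [Finite H] [FiniteDimensional K V] [Nontrivial V] in
theorem tau_apply_inv (τ : Representation K H V) (h : H) (v : V) : τ h (τ h⁻¹ v) = v := by
  rw [← Module.End.mul_apply, ← map_mul, mul_inv_cancel, map_one]; rfl

/-- There is a simple `P`-invariant subspace which is stable under `H`, if `H` (of prime order)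
has no fixed vector. -/
theorem exists_stable_simple (φ : H →* MulAut P) (ρ : Representation K P V)
    (τ : Representation K H V)
    (hcompat : ∀ (h : H) (g : P) (v : V), τ h (ρ g v) = ρ (φ h g) (τ h v))
    {r : ℕ} [Fact r.Prime] (hH : Nat.card H = r)
    (hfix : ∀ v : V, (∀ h, τ h v = v) → v = 0) :
    ∃ U : Submodule K V, U ≠ ⊥ ∧ (∀ g, U ≤ U.comap (ρ g)) ∧
      (∀ W : Submodule K V, W ≤ U → (∀ g, W ≤ W.comap (ρ g)) → W = ⊥ ∨ W = U) ∧
      ∀ h, U ≤ U.comap (τ h) := by
  classical
  have := Fintype.ofFinite H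
  obtain ⟨U, hU0, hUinv, hUs⟩ := exists_simple (fun g => (ρ g : V →ₗ[K] V))
  set ρU := ρ.subrepresentation U hUinv with hρU
  have hρUval : ∀ g (u : ↥U), ((ρU g u : ↥U) : V) = ρ g u := fun g u => rfl
  have hirrU := hirr_of_simple ρ U hUinv hUs
  let Uh : H → Submodule K V := fun h => U.map (τ h)
  have hrange : ∀ h, LinearMap.range ((τ h).comp U.subtype) = Uh h := by
    intro h; rw [LinearMap.range_comp, Submodule.range_subtype]
  have hfam : ∀ h, (∀ g, Uh h ≤ (Uh h).comap (ρ g)) ∧ ∀ W, W ≤ Uh h →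
      (∀ g, W ≤ W.comap (ρ g)) → W = ⊥ ∨ W = Uh h := by
    intro h
    have := simple_range (fun g => (ρU g : ↥U →ₗ[K] ↥U)) (fun g => (ρ g : V →ₗ[K] V)) hirrU
      (fun g => φ h g) (φ h).surjective ((τ h).comp U.subtype)
      (by intro g u; exact hcompat h g u)
    rw [hrange h] at this
    exact this
  rcases IndepSimple.indep_or_iso (fun g => (ρ g : V →ₗ[K] V)) Uh (fun h => (hfam h).1)
    (fun h => (hfam h).2) with hind | ⟨i, j, hij, e, he⟩
  · -- independent: the sum over `H` of a nonzero vector is a nonzero fixed vector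
    exfalso
    obtain ⟨u, huU, hu0⟩ := Submodule.exists_mem_ne_zero_of_ne_bot hU0
    have hsum : ∑ h, τ h u ≠ 0 := by
      intro h0
      rw [iSupIndep_iff_sum_eq_zero] at hind
      have := hind (fun h => τ h u) (fun h => Submodule.mem_map_of_mem huU) h0 1
      rw [map_one] at this
      exact hu0 this
    apply hsum
    apply hfix
    intro h'
    rw [map_sum]
    exact Fintype.sum_bijective (fun h => h' * h) (Group.mulLeft_bijective h') _ _
      (fun h => by rw [map_mul]; rfl)
  · -- two of the translates are isomorphic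
    let y : H := j⁻¹ * i
    have hy : y ≠ 1 := by
      intro h1
      apply hij
      have := congrArg (j * ·) h1
      simpa [y] using this
    let A : ↥U →ₗ[K] ↥(Uh i) := (τ i).submoduleMap U
    let B : ↥(Uh j) →ₗ[K] ↥U := LinearMap.codRestrict U ((τ j⁻¹).comp (Uh j).subtype) (by
      rintro ⟨_, u, hu, rfl⟩
      show τ j⁻¹ (τ j u) ∈ U
      rw [tau_inv_apply]; exact hu)
    let S : ↥U →ₗ[K] ↥U := B.comp (e.toLinearMap.comp A)
    have hSval : ∀ u : ↥U, ((S u : ↥U) : V) = τ j⁻¹ (e (A u) : V) := fun u => rfl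
    have hAval : ∀ u : ↥U, ((A u : ↥(Uh i)) : V) = τ i u := fun u => rfl
    have hSinj : Function.Injective S := by
      intro u u' h
      have h1 : (e (A u) : V) = e (A u') := by
        have := congrArg (fun w : ↥U => τ j (w : V)) h
        simp only [hSval, tau_apply_inv] at this
        exact this
      have h2 : A u = A u' := e.injective (Subtype.ext h1)
      have h3 : τ i u = τ i u' := by rw [← hAval, ← hAval, h2]
      have := congrArg (τ i⁻¹) h3
      rw [tau_inv_apply, tau_inv_apply] at this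
      exact Subtype.ext this
    have hSsurj : Function.Surjective S := LinearMap.surjective_of_injective hSinj
    have hStw : ∀ g (u : ↥U), S (ρU g u) = ρU (φ y g) (S u) := by
      intro g u
      apply Subtype.ext
      rw [hSval, hρUval, hSval]
      have h1 : A (ρU g u) = ⟨ρ (φ i g) (A u : V), (hfam i).1 _ (A u).2⟩ :=
        Subtype.ext (hcompat i g u)
      have h2 := he (φ i g) (A u)
      rw [h1, h2, hcompat, ← MulAut.mul_apply, ← map_mul]
    let 𝓗 : Submodule K (↥U →ₗ[K] V) :=
      { carrier := {f | ∀ g u, f (ρU g u) = ρ g (f u)}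
        add_mem' := by
          intro a b ha hb g u
          rw [LinearMap.add_apply, ha, hb, LinearMap.add_apply, map_add]
        zero_mem' := by intro g u; simp
        smul_mem' := by
          intro c a ha g u
          rw [LinearMap.smul_apply, ha, LinearMap.smul_apply, map_smul] }
    let Θ₀ : (↥U →ₗ[K] V) →ₗ[K] (↥U →ₗ[K] V) :=
      { toFun := fun f => (τ y⁻¹).comp (f.comp S)
        map_add' := by intro a b; ext u; simp
        map_smul' := by intro c a; ext u; simp }
    have hΘ : ∀ f ∈ 𝓗, Θ₀ f ∈ 𝓗 := by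
      intro f hf g u
      show τ y⁻¹ (f (S (ρU g u))) = ρ g (τ y⁻¹ (f (S u)))
      rw [hStw, hf, hcompat, ← MulAut.mul_apply, ← map_mul, inv_mul_cancel, map_one]; rfl
    let Θ : Module.End K ↥𝓗 := Θ₀.restrict hΘ
    have hne : Nontrivial ↥𝓗 := by
      refine ⟨⟨⟨U.subtype, fun g u => rfl⟩, 0, ?_⟩⟩
      intro h
      obtain ⟨u, huU, hu0⟩ := Submodule.exists_mem_ne_zero_of_ne_bot hU0
      have := congrArg (fun f : ↥𝓗 => (f : ↥U →ₗ[K] V) ⟨u, huU⟩) h
      exact hu0 this
    obtain ⟨μ, hμ⟩ := Module.End.exists_eigenvalue Θ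
    obtain ⟨F, hF⟩ := hμ.exists_hasEigenvector
    have hF0 : (F : ↥U →ₗ[K] V) ≠ 0 := fun h => hF.2 (Subtype.ext h)
    have hFeq : ∀ u, τ y⁻¹ ((F : ↥U →ₗ[K] V) (S u)) = μ • (F : ↥U →ₗ[K] V) u := by
      intro u
      have h1 := hF.apply_eq_smul
      have h2 := congrArg (fun f : ↥𝓗 => (f : ↥U →ₗ[K] V) u) h1
      exact h2
    have hsr := simple_range (fun g => (ρU g : ↥U →ₗ[K] ↥U)) (fun g => (ρ g : V →ₗ[K] V)) hirrU
      id Function.surjective_id (F : ↥U →ₗ[K] V) (fun g u => F.2 g u)
    refine ⟨LinearMap.range (F : ↥U →ₗ[K] V), ?_, hsr.1, hsr.2, ?_⟩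
    · intro h
      exact hF0 (LinearMap.range_eq_bot.mp h)
    · have hy1 : ∀ w ∈ LinearMap.range (F : ↥U →ₗ[K] V),
          τ y⁻¹ w ∈ LinearMap.range (F : ↥U →ₗ[K] V) := by
        rintro _ ⟨u, rfl⟩
        obtain ⟨u', rfl⟩ := hSsurj u
        rw [hFeq]
        exact Submodule.smul_mem _ _ ⟨u', rfl⟩
      have hpow : ∀ (k : ℕ), ∀ w ∈ LinearMap.range (F : ↥U →ₗ[K] V),
          τ (y⁻¹ ^ k) w ∈ LinearMap.range (F : ↥U →ₗ[K] V) := by
        intro k
        induction k with
        | zero => intro w hw; simpa using hw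
        | succ k ih => intro w hw; rw [pow_succ', map_mul]; exact hy1 _ (ih w hw)
      intro h w hw
      obtain ⟨k, rfl⟩ := (mem_powers_of_prime_card (p := r) hH (inv_ne_one.mpr hy) :
        h ∈ Submonoid.powers y⁻¹)
      exact hpow k w hw

end Stable

section Main

universe uK uP uH uV

variable {K : Type uK} [Field K] [IsAlgClosed K] {P : Type uP} [Group P] [Finite P]
  [Group.IsNilpotent P] {H : Type uH} [Group H] [Finite H] {V : Type uV} [AddCommGroup V]
  [Module K V] [FiniteDimensional K V] [Nontrivial V]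

/-- **The class two case** over an algebraically closed field. -/
theorem main (φ : H →* MulAut P) (ρ : Representation K P V) (τ : Representation K H V)
    (hcompat : ∀ (h : H) (g : P) (v : V), τ h (ρ g v) = ρ (φ h g) (τ h v))
    {r : ℕ} [Fact r.Prime] (hH : Nat.card H = r)
    (h1 : ∀ a b : P, ⁅a, b⁆ ∈ Subgroup.center P)
    (h2 : ∀ h, ∀ z ∈ Subgroup.center P, φ h z = z)
    (h3 : ∀ h, h ≠ 1 → ∀ g, g⁻¹ * φ h g ∈ Subgroup.center P → g ∈ Subgroup.center P)
    (c : P) (hcP : c ∈ commutator P) (hco : (orderOf c).Prime)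
    (hc : ∀ v : V, ρ c v = v → v = 0)
    (hPK : (Nat.card P : K) ≠ 0) (hHK : (Nat.card H : K) ≠ 0)
    (hfix : ∀ v : V, (∀ h, τ h v = v) → v = 0) :
    ∃ N : Subgroup P, N.Normal ∧ Subgroup.center P ≤ N ∧
      (∀ n ∈ N, ∀ g, ⁅n, g⁆ ∈ Subgroup.zpowers c → ⁅n, g⁆ = 1) ∧
      ∃ u : ℕ, 2 ≤ u ∧ u + 1 = r ∧ Nat.card N * u ^ 2 = Nat.card P := by
  classical
  obtain ⟨U, hU0, hUinv, hUs, hUτ⟩ := exists_stable_simple φ ρ τ hcompat hH hfix
  set ρ' := ρ.subrepresentation U hUinv with hρ'
  set τ' := τ.subrepresentation U hUτ with hτ'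
  have hρ'val : ∀ g (u : ↥U), ((ρ' g u : ↥U) : V) = ρ g u := fun g u => rfl
  have hτ'val : ∀ h (u : ↥U), ((τ' h u : ↥U) : V) = τ h u := fun h u => rfl
  have hirr := hirr_of_simple ρ U hUinv hUs
  have hnt : Nontrivial ↥U := Submodule.nontrivial_iff_ne_bot.mpr hU0
  -- a generator of `H`
  obtain ⟨x, hx1⟩ : ∃ x : H, x ≠ 1 := by
    have h1 : 1 < Nat.card H := hH ▸ (Fact.out : r.Prime).one_lt
    have := Finite.one_lt_card_iff_nontrivial.mp h1
    exact exists_ne 1
  have hx : ∀ h : H, h ∈ Subgroup.zpowers x := fun h => mem_zpowers_of_prime_card hH hx1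
  -- the centre acts by scalars
  have hZ : Subgroup.center P ≤ scalarKer ρ' := by
    intro z hz
    rw [mem_scalarKer_iff ρ' hirr]
    refine schur ρ' hirr (ρ' z) fun g => ?_
    have e1 : ρ' g ∘ₗ ρ' z = ρ' (g * z) := by rw [map_mul]; rfl
    have e2 : ρ' z ∘ₗ ρ' g = ρ' (z * g) := by rw [map_mul]; rfl
    rw [e1, e2, (Subgroup.mem_center_iff.mp hz) g]
  have hfix' : ∀ u : ↥U, τ' x u = u → u = 0 := by
    intro u hu
    apply Subtype.ext
    apply hfix
    let St : Subgroup H :=
      { carrier := {h | τ h (u : V) = u}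
        mul_mem' := fun {a b} ha hb => by
          show τ (a * b) (u : V) = u
          rw [map_mul, Module.End.mul_apply, hb, ha]
        one_mem' := by show τ 1 (u : V) = u; rw [map_one]; rfl
        inv_mem' := fun {a} ha => by
          show τ a⁻¹ (u : V) = u
          conv_lhs => rw [← ha]
          exact tau_inv_apply τ a _ }
    have hxS : x ∈ St := by
      show τ x (u : V) = u
      rw [← hτ'val, hu]
    intro h
    exact (Subgroup.zpowers_le.mpr hxS) (hx h)
  have hmain := ShultCore.main φ ρ' τ' (fun h g u => Subtype.ext (hcompat h g u)) hirr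
    (Subgroup.center P) hZ (fun h g hg => by rw [h2 h g hg]; exact hg) h3 x hx hPK hHK hfix'
  -- commutators land in the scalar kernel
  have hab : ∀ g h : P, ⁅g, h⁆ ∈ scalarKer ρ' := fun g h => hZ (h1 g h)
  have hcard := IrrSpan.card_quotient_scalarKer ρ' hirr hab
  -- `ρ' c` has no fixed vector
  have hc' : ρ' c ≠ 1 := by
    intro h
    obtain ⟨u, hu0⟩ := exists_ne (0 : ↥U)
    apply hu0
    apply Subtype.ext
    apply hc
    rw [← hρ'val, h]; rfl
  -- the kernel of `ρ'`
  have hker : ∀ g : P, g ∈ MonoidHom.ker ρ' ↔ ρ' g = 1 := fun g => MonoidHom.mem_ker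
  refine ⟨scalarKer ρ', inferInstance, hZ, ?_, finrank K ↥U, ?_, ?_, ?_⟩
  · -- commutators with the scalar kernel
    intro n hn g hng
    have hcomm : ⁅n, g⁆ ∈ MonoidHom.ker ρ' := by
      rw [hker, commutatorElement_def, map_mul, map_mul, map_mul]
      have h4 := (mem_scalarKer_iff_comm ρ' n).mp hn (ρ' g)
      have h5 : ρ' n * ρ' g = ρ' g * ρ' n := h4
      rw [h5, mul_assoc (ρ' g), ← map_mul, mul_inv_cancel, map_one, mul_one, ← map_mul,
        mul_inv_cancel, map_one]
    by_contra hne
    apply hc'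
    rw [← hker]
    -- `c` is a power of `⁅n, g⁆`
    have hfact : Fact (Nat.card ↥(Subgroup.zpowers c)).Prime := ⟨by rw [Nat.card_zpowers]; exact hco⟩
    have hne' : (⟨⁅n, g⁆, hng⟩ : ↥(Subgroup.zpowers c)) ≠ 1 := by
      intro h
      exact hne (congrArg Subtype.val h)
    have hmem := mem_zpowers_of_prime_card (G := ↥(Subgroup.zpowers c)) rfl hne'
      (g' := ⟨c, Subgroup.mem_zpowers c⟩)
    obtain ⟨m, hm⟩ := Subgroup.mem_zpowers_iff.mp hmem
    have hm' : ⁅n, g⁆ ^ m = c := by
      have := congrArg Subtype.val hm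
      simpa using this
    rw [← hm']
    exact Subgroup.zpow_mem _ hcomm m
  · -- the dimension is not one
    rcases hmain with h | h
    · exfalso
      -- all operators commute in dimension one
      have hcommAll : ∀ a b : P, ρ' a * ρ' b = ρ' b * ρ' a := by
        intro a b
        obtain ⟨v₀, hv₀, hspan⟩ := finrank_eq_one_iff'.mp h
        obtain ⟨ca, hca⟩ := hspan (ρ' a v₀)
        obtain ⟨cb, hcb⟩ := hspan (ρ' b v₀)
        ext w
        obtain ⟨cw, rfl⟩ := hspan w
        simp only [Module.End.mul_apply, map_smul, ← hca, ← hcb, smul_smul, mul_comm]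
      apply hc'
      rw [← hker]
      have hle : commutator P ≤ MonoidHom.ker ρ' := by
        rw [commutator_def, Subgroup.commutator_le]
        intro a _ b _
        rw [hker, commutatorElement_def, map_mul, map_mul, map_mul, hcommAll a b,
          mul_assoc (ρ' b), ← map_mul, mul_inv_cancel, map_one, mul_one, ← map_mul,
          mul_inv_cancel, map_one]
      exact hle hcP
    · have hpos : 0 < finrank K ↥U := Module.finrank_pos
      have hr2 : 2 ≤ r := (Fact.out : r.Prime).two_le
      by_contra hlt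
      push Not at hlt
      have h1' : finrank K ↥U = 1 := by omega
      -- then `r = 2`, and dimension one: same contradiction as above
      have hcommAll : ∀ a b : P, ρ' a * ρ' b = ρ' b * ρ' a := by
        intro a b
        obtain ⟨v₀, hv₀, hspan⟩ := finrank_eq_one_iff'.mp h1'
        obtain ⟨ca, hca⟩ := hspan (ρ' a v₀)
        obtain ⟨cb, hcb⟩ := hspan (ρ' b v₀)
        ext w
        obtain ⟨cw, rfl⟩ := hspan w
        simp only [Module.End.mul_apply, map_smul, ← hca, ← hcb, smul_smul, mul_comm]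
      apply hc'
      rw [← hker]
      have hle : commutator P ≤ MonoidHom.ker ρ' := by
        rw [commutator_def, Subgroup.commutator_le]
        intro a _ b _
        rw [hker, commutatorElement_def, map_mul, map_mul, map_mul, hcommAll a b,
          mul_assoc (ρ' b), ← map_mul, mul_inv_cancel, map_one, mul_one, ← map_mul,
          mul_inv_cancel, map_one]
      exact hle hcP
  · rcases hmain with h | h
    · exfalso
      have hcommAll : ∀ a b : P, ρ' a * ρ' b = ρ' b * ρ' a := by
        intro a b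
        obtain ⟨v₀, hv₀, hspan⟩ := finrank_eq_one_iff'.mp h
        obtain ⟨ca, hca⟩ := hspan (ρ' a v₀)
        obtain ⟨cb, hcb⟩ := hspan (ρ' b v₀)
        ext w
        obtain ⟨cw, rfl⟩ := hspan w
        simp only [Module.End.mul_apply, map_smul, ← hca, ← hcb, smul_smul, mul_comm]
      apply hc'
      rw [← hker]
      have hle : commutator P ≤ MonoidHom.ker ρ' := by
        rw [commutator_def, Subgroup.commutator_le]
        intro a _ b _
        rw [hker, commutatorElement_def, map_mul, map_mul, map_mul, hcommAll a b,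
          mul_assoc (ρ' b), ← map_mul, mul_inv_cancel, map_one, mul_one, ← map_mul,
          mul_inv_cancel, map_one]
      exact hle hcP
    · rw [h, hH]
  · rw [← hcard, mul_comm, ← Subgroup.card_eq_card_quotient_mul_card_subgroup]

end Main

end Cfsg.Agent.Lib.Helper2.ShultB
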