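import Mathlib
import Cfsg.Agent.Lib.Helper2.ShultB

/-!
# The class two case of the Hall–Higman–Shult theorem over an arbitrary field

Base change to the algebraic closure, and the reduction to the case where the central commutator
`c` has no fixed vector.
-/

set_option autoImplicit false

namespace Cfsg.Agent.Lib.Helper2.ShultBase

open scoped BigOperators commutatorElement TensorProduct
open Module

section BaseChange

variable {k : Type*} [Field k] (K : Type*) [Field K] [Algebra k K] {G : Type*} [Group G]
  {V : Type*} [AddCommGroup V] [Module k V]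

/-- The base change of a representation. -/
noncomputable def bcRep (ρ : Representation k G V) : Representation K G (K ⊗[k] V) where
  toFun g := (ρ g).baseChange K
  map_one' := by rw [map_one]; exact LinearMap.baseChange_one k V
  map_mul' a b := by rw [map_mul]; exact LinearMap.baseChange_mul (ρ a) (ρ b)

theorem bcRep_apply (ρ : Representation k G V) (g : G) : bcRep K ρ g = (ρ g).baseChange K := rfl

/-- An operator without fixed vectors on a finite-dimensional space keeps this property after
base change. -/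
theorem baseChange_no_fixed [FiniteDimensional k V] (f : Module.End k V)
    (hf : ∀ v, f v = v → v = 0) (w : K ⊗[k] V) (hw : f.baseChange K w = w) : w = 0 := by
  have hker : LinearMap.ker (f - 1) = ⊥ := by
    rw [eq_bot_iff]
    intro v hv
    rw [LinearMap.mem_ker, LinearMap.sub_apply, Module.End.one_apply, sub_eq_zero] at hv
    rw [Submodule.mem_bot]
    exact hf v hv
  have hunit : IsUnit (f - 1) := (LinearMap.isUnit_iff_ker_eq_bot _).mpr hker
  obtain ⟨g, hg⟩ := hunit.exists_left_inv
  have h1 : g.baseChange K * (f.baseChange K - 1) = 1 := by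
    rw [← LinearMap.baseChange_one k V (A := K), ← LinearMap.baseChange_sub,
      ← LinearMap.baseChange_mul, hg]
  have h2 : (f.baseChange K - 1) w = 0 := by
    rw [LinearMap.sub_apply, hw, Module.End.one_apply, sub_self]
  have h3 := congrArg (fun F : Module.End K (K ⊗[k] V) => F w) h1
  simp only [Module.End.mul_apply, h2, map_zero, Module.End.one_apply] at h3
  exact h3.symm

end BaseChange

section Field

variable {k : Type*} [Field k] {P : Type*} [Group P] [Finite P] [Group.IsNilpotent P]
  {H : Type*} [Group H] [Finite H] {V : Type*} [AddCommGroup V] [Module k V]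
  [FiniteDimensional k V]

/-- The class two case over an arbitrary field, when `c` has no fixed vector. -/
theorem main_no_fixed [Nontrivial V] (φ : H →* MulAut P) (ρ : Representation k P V)
    (τ : Representation k H V)
    (hcompat : ∀ (h : H) (g : P) (v : V), τ h (ρ g v) = ρ (φ h g) (τ h v))
    {r : ℕ} [Fact r.Prime] (hH : Nat.card H = r)
    (h1 : ∀ a b : P, ⁅a, b⁆ ∈ Subgroup.center P)
    (h2 : ∀ h, ∀ z ∈ Subgroup.center P, φ h z = z)
    (h3 : ∀ h, h ≠ 1 → ∀ g, g⁻¹ * φ h g ∈ Subgroup.center P → g ∈ Subgroup.center P)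
    (c : P) (hcP : c ∈ commutator P) (hco : (orderOf c).Prime)
    (hc : ∀ v : V, ρ c v = v → v = 0)
    (hPk : (Nat.card P : k) ≠ 0) (hHk : (Nat.card H : k) ≠ 0)
    (hfix : ∀ v : V, (∀ h, τ h v = v) → v = 0) :
    ∃ N : Subgroup P, N.Normal ∧ Subgroup.center P ≤ N ∧
      (∀ n ∈ N, ∀ g, ⁅n, g⁆ ∈ Subgroup.zpowers c → ⁅n, g⁆ = 1) ∧
      ∃ u : ℕ, 2 ≤ u ∧ u + 1 = r ∧ Nat.card N * u ^ 2 = Nat.card P := by
  classical
  have := Fintype.ofFinite H
  let K := AlgebraicClosure k
  have hinj : Function.Injective (algebraMap k K) := (algebraMap k K).injective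
  have hcast : ∀ n : ℕ, (n : k) ≠ 0 → (n : K) ≠ 0 := by
    intro n hn h0
    apply hn
    apply hinj
    rw [map_natCast, map_zero]; exact h0
  have hfin : FiniteDimensional K (K ⊗[k] V) := inferInstance
  have hnt : Nontrivial (K ⊗[k] V) := by
    apply Module.nontrivial_of_finrank_pos (R := K)
    rw [Module.finrank_baseChange]
    exact Module.finrank_pos
  -- the sum over `H` vanishes
  have hsum : ∑ h : H, τ h = 0 := by
    ext v
    rw [LinearMap.sum_apply, LinearMap.zero_apply]
    apply hfix
    intro h'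
    rw [map_sum]
    exact Fintype.sum_bijective (fun h => h' * h) (Group.mulLeft_bijective h') _ _
      (fun h => by rw [map_mul]; rfl)
  have hsum' : ∑ h : H, bcRep K τ h = 0 := by
    have : ∑ h : H, bcRep K τ h = (∑ h : H, τ h).baseChange K := by
      rw [← LinearMap.baseChangeHom_apply, map_sum]
      rfl
    rw [this, hsum, LinearMap.baseChange_zero]
  refine ShultB.main (K := K) φ (bcRep K ρ) (bcRep K τ) ?_ hH h1 h2 h3 c hcP hco ?_
    (hcast _ hPk) (hcast _ hHk) ?_
  · intro h g w
    have e : τ h * ρ g = ρ (φ h g) * τ h := by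
      ext v; exact hcompat h g v
    have e' := congrArg (fun F : Module.End k V => F.baseChange K) e
    simp only [LinearMap.baseChange_mul] at e'
    exact LinearMap.congr_fun e' w
  · intro w hw
    exact baseChange_no_fixed K (ρ c) hc w hw
  · intro w hw
    have h0 := LinearMap.congr_fun hsum' w
    rw [LinearMap.sum_apply, LinearMap.zero_apply] at h0
    simp_rw [hw] at h0
    rw [Finset.sum_const, Finset.card_univ, ← Nat.card_eq_fintype_card,
      ← Nat.cast_smul_eq_nsmul K] at h0
    exact (smul_eq_zero.mp h0).resolve_left (hcast _ hHk)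

end Field

section Field2

variable {k : Type*} [Field k] {P : Type*} [Group P] [Finite P] [Group.IsNilpotent P]
  {H : Type*} [Group H] [Finite H] {V : Type*} [AddCommGroup V] [Module k V]
  [FiniteDimensional k V]

/-- **The class two case** over an arbitrary field. -/
theorem main_field (φ : H →* MulAut P) (ρ : Representation k P V)
    (τ : Representation k H V)
    (hcompat : ∀ (h : H) (g : P) (v : V), τ h (ρ g v) = ρ (φ h g) (τ h v))
    {r : ℕ} [Fact r.Prime] (hH : Nat.card H = r)
    (h1 : ∀ a b : P, ⁅a, b⁆ ∈ Subgroup.center P)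
    (h2 : ∀ h, ∀ z ∈ Subgroup.center P, φ h z = z)
    (h3 : ∀ h, h ≠ 1 → ∀ g, g⁻¹ * φ h g ∈ Subgroup.center P → g ∈ Subgroup.center P)
    (c : P) (hcP : c ∈ commutator P) (hco : (orderOf c).Prime)
    (hc : ρ c ≠ 1)
    (hPk : (Nat.card P : k) ≠ 0) (hHk : (Nat.card H : k) ≠ 0)
    (hfix : ∀ v : V, (∀ h, τ h v = v) → v = 0) :
    ∃ N : Subgroup P, N.Normal ∧ Subgroup.center P ≤ N ∧
      (∀ n ∈ N, ∀ g, ⁅n, g⁆ ∈ Subgroup.zpowers c → ⁅n, g⁆ = 1) ∧
      ∃ u : ℕ, 2 ≤ u ∧ u + 1 = r ∧ Nat.card N * u ^ 2 = Nat.card P := by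
  classical
  -- `c` is central
  have hcZ : c ∈ Subgroup.center P := by
    have hle : commutator P ≤ Subgroup.center P := by
      rw [commutator_def, Subgroup.commutator_le]
      intro a _ b _
      exact h1 a b
    exact hle hcP
  set o := orderOf c with ho
  have hok : (o : k) ≠ 0 := by
    intro h0
    apply hPk
    obtain ⟨m, hm⟩ := orderOf_dvd_natCard c
    rw [hm, Nat.cast_mul, ← ho, h0, zero_mul]
  let Sc : Module.End k V := ∑ i ∈ Finset.range o, (ρ c) ^ i
  have hgeom : Sc * (ρ c - 1) = 0 := by
    rw [geom_sum_mul, ← map_pow, ho, pow_orderOf_eq_one, map_one, sub_self]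
  have hcommg : ∀ g, Commute (ρ g) (ρ c) := by
    intro g
    show ρ g * ρ c = ρ c * ρ g
    rw [← map_mul, ← map_mul, (Subgroup.mem_center_iff.mp hcZ) g]
  have hcommSg : ∀ g, Commute (ρ g) Sc := fun g =>
    Commute.sum_right _ _ _ fun i _ => (hcommg g).pow_right i
  have hcommh : ∀ h, Commute (τ h) (ρ c) := by
    intro h
    show τ h * ρ c = ρ c * τ h
    ext v
    have := hcompat h c v
    rw [h2 h c hcZ] at this
    exact this
  have hcommSh : ∀ h, Commute (τ h) Sc := fun h =>
    Commute.sum_right _ _ _ fun i _ => (hcommh h).pow_right i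
  let M : Submodule k V := LinearMap.ker Sc
  have hMρ : ∀ g, M ≤ M.comap (ρ g) := by
    intro g v hv
    rw [Submodule.mem_comap, LinearMap.mem_ker]
    have : Sc (ρ g v) = ρ g (Sc v) := (LinearMap.congr_fun (hcommSg g).eq v).symm
    rw [this, LinearMap.mem_ker.mp hv, map_zero]
  have hMτ : ∀ h, M ≤ M.comap (τ h) := by
    intro h v hv
    rw [Submodule.mem_comap, LinearMap.mem_ker]
    have : Sc (τ h v) = τ h (Sc v) := (LinearMap.congr_fun (hcommSh h).eq v).symm
    rw [this, LinearMap.mem_ker.mp hv, map_zero]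
  have hM0 : M ≠ ⊥ := by
    intro hbot
    apply hc
    have hinj : Function.Injective Sc := LinearMap.ker_eq_bot.mp hbot
    ext v
    have h0 := LinearMap.congr_fun hgeom v
    rw [Module.End.mul_apply, LinearMap.zero_apply, ← map_zero Sc] at h0
    have := hinj h0
    rw [LinearMap.sub_apply, sub_eq_zero] at this
    exact this
  have hnt : Nontrivial ↥M := Submodule.nontrivial_iff_ne_bot.mpr hM0
  have hpowfix : ∀ (v : V), ρ c v = v → ∀ i : ℕ, ((ρ c) ^ i) v = v := by
    intro v hv i
    induction i with
    | zero => rfl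
    | succ i ih => rw [pow_succ, Module.End.mul_apply, hv, ih]
  refine main_no_fixed φ (ρ.subrepresentation M hMρ) (τ.subrepresentation M hMτ)
    (fun h g v => Subtype.ext (hcompat h g v)) hH h1 h2 h3 c hcP hco ?_ hPk hHk ?_
  · intro v hv
    have hv' : ρ c (v : V) = v := congrArg Subtype.val hv
    have hmem : Sc (v : V) = 0 := v.2
    have : Sc (v : V) = (o : k) • (v : V) := by
      show (∑ i ∈ Finset.range o, (ρ c) ^ i) (v : V) = _
      rw [LinearMap.sum_apply]
      simp_rw [hpowfix _ hv']
      rw [Finset.sum_const, Finset.card_range, Nat.cast_smul_eq_nsmul]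
    rw [this] at hmem
    exact Subtype.ext ((smul_eq_zero.mp hmem).resolve_left hok)
  · intro v hv
    apply Subtype.ext
    apply hfix
    intro h
    exact congrArg Subtype.val (hv h)

end Field2

end Cfsg.Agent.Lib.Helper2.ShultBase
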