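import Mathlib
import Cfsg.Agent.Lib.Helper2.ShultBase
import Cfsg.Agent.Lib.Helper2.Critical
import Cfsg.Agent.Lib.Helper2.FrobFreeCompl

/-!
# The Hall–Higman–Shult fixed vector theorem

`H` of prime order `r` acts on the `q`-group `P` (`q ≠ r`), and the semidirect product acts on the
finite-dimensional space `V` over a field of characteristic different from `q` and `r`.  If `H`
has no nonzero fixed vector in `V`, then `[P, H]` acts trivially on `V`, unless `q = 2`,
`r = 2 ^ n + 1` is a Fermat prime and the image of `P` is not abelian.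
-/

set_option autoImplicit false

namespace Cfsg.Agent.Lib.Helper2.ShultG

open scoped BigOperators commutatorElement
open Module Cfsg.Agent.Lib.Helper2.FreeAssembly Cfsg.Agent.Lib.Helper2.FrobFree
  Cfsg.Agent.Lib.Helper2.Critical

/-- The arithmetic at the end: `r = u + 1` prime with `u ≥ 2` a power of the prime `q` forces
`q = 2`. -/
theorem arith {q r u a : ℕ} (hq : q.Prime) (hr : r.Prime) (hu : 2 ≤ u) (hur : u + 1 = r)
    (hdvd : u ∣ q ^ a) : q = 2 ∧ ∃ n : ℕ, u = 2 ^ n := by
  obtain ⟨m, -, rfl⟩ := (Nat.dvd_prime_pow hq).mp hdvd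
  have hq2 : q = 2 := by
    by_contra hne
    have hodd : Odd q := hq.odd_of_ne_two hne
    have hodd' : Odd (q ^ m) := hodd.pow
    have heven : Even r := by
      rw [← hur]
      exact hodd'.add_one
    have : r = 2 := (Nat.Prime.even_iff hr).mp heven
    omega
  exact ⟨hq2, m, by rw [hq2]⟩

section Crit

variable {k : Type*} [Field k] {P : Type*} [Group P] [Finite P] {H : Type*} [Group H] [Finite H]
  {V : Type*} [AddCommGroup V] [Module k V] [FiniteDimensional k V]

omit [FiniteDimensional k V] in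
/-- A free module over `H` on a nonzero space has a nonzero fixed vector. -/
theorem exists_fixed_of_freeOn (τ : Representation k H V) (M : Submodule k V) (hM : M ≠ ⊥)
    (hfree : FreeOn τ M) : ∃ v : V, v ≠ 0 ∧ ∀ h, τ h v = v := by
  classical
  have := Fintype.ofFinite H
  obtain ⟨W, hind, hsup⟩ := hfree
  have hW : W ≠ ⊥ := by
    rintro rfl
    apply hM
    rw [← hsup]
    simp
  obtain ⟨w, hwW, hw0⟩ := Submodule.exists_mem_ne_zero_of_ne_bot hW
  refine ⟨∑ h, τ h w, ?_, ?_⟩
  · intro h0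
    rw [iSupIndep_iff_sum_eq_zero] at hind
    have := hind (fun h => τ h w) (fun h => Submodule.mem_map_of_mem hwW) h0 1
    rw [map_one] at this
    exact hw0 this
  · intro h'
    rw [map_sum]
    exact Fintype.sum_bijective (fun h => h' * h) (Group.mulLeft_bijective h') _ _
      (fun h => by rw [map_mul]; rfl)

variable {q r : ℕ} [hq : Fact q.Prime] [hr : Fact r.Prime]

/-- The critical case. -/
theorem critical_case (hP : IsPGroup q P) (hH : Nat.card H = r) (hqr : q ≠ r)
    (φ : H →* MulAut P) (ρ : Representation k P V) (τ : Representation k H V)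
    (hcompat : ∀ (h : H) (g : P) (v : V), τ h (ρ g v) = ρ (φ h g) (τ h v))
    (hρ : Function.Injective ρ) (hcrit : IsCritical φ)
    (hqk : (q : k) ≠ 0) (hrk : (r : k) ≠ 0)
    (hfix : ∀ v : V, (∀ h, τ h v = v) → v = 0) :
    q = 2 ∧ (∃ n : ℕ, r = 2 ^ n + 1) ∧ ∃ a b : P, a * b ≠ b * a := by
  classical
  have hnil : Group.IsNilpotent P := hP.isNilpotent
  obtain ⟨a, ha⟩ := IsPGroup.iff_card.mp hP
  have hPk : (Nat.card P : k) ≠ 0 := by
    rw [ha, Nat.cast_pow]; exact pow_ne_zero _ hqk
  have hHk : (Nat.card H : k) ≠ 0 := by rw [hH]; exact hrk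
  have hcop : (Nat.card P).Coprime (Nat.card H) := by
    rw [ha, hH]
    exact Nat.Coprime.pow_left a ((Nat.coprime_primes hq.out hr.out).mpr hqr)
  by_cases hab : ∀ a b : P, a * b = b * a
  · -- the abelian case: `V` contains a free module
    exfalso
    have hfpf := abelian_case φ hH hcop hcrit hab
    have hTk : (Nat.card ↥(⊤ : Subgroup P) : k) ≠ 0 := by
      rw [Subgroup.card_top]; exact hPk
    have := Fintype.ofFinite ↥(⊤ : Subgroup P)
    have hfree := FrobFreeCompl.freeOn_ker_avg φ hfpf ρ τ hcompat hTk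
    have hM : LinearMap.ker (avg ρ ⊤) ≠ ⊥ := by
      intro hbot
      have htop := fixedSub_sup_ker ρ ⊤ hTk
      rw [hbot, sup_bot_eq] at htop
      obtain ⟨h, g, hg⟩ := hcrit.nontriv
      apply hg
      have h1 : ∀ g : P, ρ g = 1 := by
        intro g
        ext v
        have : v ∈ fixedSub ρ ⊤ := htop ▸ Submodule.mem_top
        exact this g (Subgroup.mem_top g)
      apply hρ
      rw [h1, h1]
    obtain ⟨v, hv0, hv⟩ := exists_fixed_of_freeOn τ _ hM hfree
    exact hv0 (hfix v hv)
  · -- the nonabelian case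
    push Not at hab
    obtain ⟨h1, h2, h3⟩ := nonabelian_case φ hH hcop hcrit hab
    -- an element of order `q` in the derived subgroup
    obtain ⟨a₀, b₀, hab₀⟩ := hab
    have hcomm_ne : commutator P ≠ ⊥ := by
      intro hbot
      apply hab₀
      have hmem : ⁅a₀, b₀⁆ ∈ commutator P := by
        rw [commutator_def]
        exact Subgroup.commutator_mem_commutator (Subgroup.mem_top _) (Subgroup.mem_top _)
      rw [hbot, Subgroup.mem_bot, commutatorElement_eq_one_iff_mul_comm] at hmem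
      exact hmem
    have hPc : IsPGroup q ↥(commutator P) := hP.to_subgroup _
    obtain ⟨m, hm⟩ := IsPGroup.iff_card.mp hPc
    have hm0 : m ≠ 0 := by
      rintro rfl
      rw [pow_zero] at hm
      exact hcomm_ne (Subgroup.card_eq_one.mp hm)
    have hqdvd : q ∣ Nat.card ↥(commutator P) := by
      rw [hm]; exact dvd_pow_self q hm0
    obtain ⟨c, hc⟩ := exists_prime_orderOf_dvd_card' q hqdvd
    have hco : (orderOf (c : P)).Prime := by
      rw [Subgroup.orderOf_coe, hc]; exact hq.out
    have hc1 : (c : P) ≠ 1 := by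
      intro h
      rw [h, orderOf_one] at hco
      exact Nat.not_prime_one hco
    have hρc : ρ (c : P) ≠ 1 := by
      intro h
      apply hc1
      apply hρ
      rw [h, map_one]
    obtain ⟨N, -, -, -, u, hu2, hur, hcard⟩ :=
      ShultBase.main_field φ ρ τ hcompat hH h1 h2 h3 (c : P) c.2 hco hρc hPk hHk hfix
    have hdvd : u ∣ q ^ a := by
      rw [← ha, ← hcard]
      exact Dvd.dvd.mul_left (dvd_pow_self u two_ne_zero) _
    obtain ⟨hq2, n, hn⟩ := arith hq.out hr.out hu2 hur hdvd
    exact ⟨hq2, ⟨n, by rw [← hur, hn]⟩, a₀, b₀, hab₀⟩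

end Crit

section Induction

universe uk uP uH uV

variable {k : Type uk} [Field k] {H : Type uH} [Group H] [Finite H]
  {V : Type uV} [AddCommGroup V] [Module k V] [FiniteDimensional k V]
  {q r : ℕ} [hq : Fact q.Prime] [hr : Fact r.Prime]

theorem faithful_aux (hH : Nat.card H = r) (hqr : q ≠ r) (τ : Representation k H V)
    (hqk : (q : k) ≠ 0) (hrk : (r : k) ≠ 0)
    (hfix : ∀ v : V, (∀ h, τ h v = v) → v = 0) :
    ∀ (n : ℕ) (P : Type uP) [Group P] [Finite P], Nat.card P = n → IsPGroup q P →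
      ∀ (φ : H →* MulAut P) (ρ : Representation k P V),
      (∀ (h : H) (g : P) (v : V), τ h (ρ g v) = ρ (φ h g) (τ h v)) →
      Function.Injective ρ → (∃ h g, φ h g ≠ g) →
      q = 2 ∧ (∃ n : ℕ, r = 2 ^ n + 1) ∧ ∃ a b : P, a * b ≠ b * a := by
  intro n
  induction n using Nat.strong_induction_on with
  | _ n ih =>
  intro P _ _ hcard hP φ ρ hcompat hρ hnt
  by_cases hcrit : IsCritical φ
  · exact critical_case hP hH hqr φ ρ τ hcompat hρ hcrit hqk hrk hfix
  · -- a proper invariant subgroup with nontrivial action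
    have hex : ∃ P₁ : Subgroup P, P₁ ≠ ⊤ ∧ (∀ h, ∀ g ∈ P₁, φ h g ∈ P₁) ∧
        ∃ h, ∃ g ∈ P₁, φ h g ≠ g := by
      by_contra hno
      apply hcrit
      refine ⟨?_, hnt⟩
      intro P₁ hne hinv h g hg
      by_contra hgne
      exact hno ⟨P₁, hne, hinv, h, g, hg, hgne⟩
    obtain ⟨P₁, hne, hinv, h₀, g₀, hg₀, hne₀⟩ := hex
    have hlt : Nat.card ↥P₁ < n := by
      rw [← hcard]
      apply lt_of_le_of_ne (Subgroup.card_le_card_group P₁)
      intro heq
      exact hne (Subgroup.eq_top_of_card_eq P₁ heq)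
    obtain ⟨hq2, hrn, a, b, hab⟩ := ih _ hlt ↥P₁ rfl (hP.to_subgroup P₁) (restrictAut φ P₁ hinv)
      (ρ.comp P₁.subtype) (fun h g v => hcompat h g v)
      (fun a b hab => Subtype.ext (hρ hab))
      ⟨h₀, ⟨g₀, hg₀⟩, fun h => hne₀ (congrArg Subtype.val h)⟩
    exact ⟨hq2, hrn, a, b, fun h => hab (Subtype.ext h)⟩

/-- The faithful case. -/
theorem faithful {P : Type uP} [Group P] [Finite P] (hP : IsPGroup q P) (hH : Nat.card H = r)
    (hqr : q ≠ r) (φ : H →* MulAut P) (ρ : Representation k P V) (τ : Representation k H V)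
    (hcompat : ∀ (h : H) (g : P) (v : V), τ h (ρ g v) = ρ (φ h g) (τ h v))
    (hρ : Function.Injective ρ) (hqk : (q : k) ≠ 0) (hrk : (r : k) ≠ 0)
    (hfix : ∀ v : V, (∀ h, τ h v = v) → v = 0) :
    (∀ h g, φ h g = g) ∨ (q = 2 ∧ (∃ n : ℕ, r = 2 ^ n + 1) ∧ ∃ a b : P, a * b ≠ b * a) := by
  by_cases hnt : ∃ h g, φ h g ≠ g
  · exact Or.inr (faithful_aux hH hqr τ hqk hrk hfix _ P rfl hP φ ρ hcompat hρ hnt)
  · left
    push Not at hnt
    exact hnt

/-- **The Hall–Higman–Shult fixed vector theorem.** -/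
theorem main {P : Type uP} [Group P] [Finite P] (hP : IsPGroup q P) (hH : Nat.card H = r)
    (hqr : q ≠ r) (φ : H →* MulAut P) (ρ : Representation k P V) (τ : Representation k H V)
    (hcompat : ∀ (h : H) (g : P) (v : V), τ h (ρ g v) = ρ (φ h g) (τ h v))
    (hqk : (q : k) ≠ 0) (hrk : (r : k) ≠ 0)
    (hfix : ∀ v : V, (∀ h, τ h v = v) → v = 0) :
    (∀ h g, ρ (g⁻¹ * φ h g) = 1) ∨
      (q = 2 ∧ (∃ n : ℕ, r = 2 ^ n + 1) ∧ ∃ a b : P, ρ (a * b) ≠ ρ (b * a)) := by
  let N : Subgroup P := MonoidHom.ker ρ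
  have hmemN : ∀ g, g ∈ N ↔ ρ g = 1 := fun g => MonoidHom.mem_ker
  have hτsurj : ∀ h v, ∃ w, τ h w = v := by
    intro h v
    refine ⟨τ h⁻¹ v, ?_⟩
    rw [← Module.End.mul_apply, ← map_mul, mul_inv_cancel, map_one]; rfl
  have hN : ∀ h : H, ∀ g ∈ N, φ h g ∈ N := by
    intro h g hg
    rw [hmemN] at hg ⊢
    ext v
    obtain ⟨w, rfl⟩ := hτsurj h v
    rw [← hcompat, hg]; rfl
  let ρ' : Representation k (P ⧸ N) V := QuotientGroup.lift N ρ le_rfl
  have hρ'mk : ∀ g : P, ρ' (g : P ⧸ N) = ρ g := fun g => rfl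
  have hρ'inj : Function.Injective ρ' := by
    intro a b hab
    induction a using QuotientGroup.induction_on with
    | H a =>
    induction b using QuotientGroup.induction_on with
    | H b =>
    rw [hρ'mk, hρ'mk] at hab
    rw [QuotientGroup.eq, hmemN, map_mul, ← hab, ← map_mul, inv_mul_cancel, map_one]
  have hcompat' : ∀ (h : H) (g : P ⧸ N) (v : V),
      τ h (ρ' g v) = ρ' (quotientAut φ N hN h g) (τ h v) := by
    intro h g v
    induction g using QuotientGroup.induction_on with
    | H g =>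
    rw [quotientAut_mk, hρ'mk, hρ'mk]
    exact hcompat h g v
  rcases faithful (hP.to_quotient N) hH hqr (quotientAut φ N hN) ρ' τ hcompat' hρ'inj hqk hrk hfix
    with h | ⟨hq2, hrn, a, b, hab⟩
  · left
    intro h' g
    have := h h' (g : P ⧸ N)
    rw [quotientAut_mk] at this
    rw [← hmemN]
    exact QuotientGroup.eq.mp this.symm
  · right
    refine ⟨hq2, hrn, ?_⟩
    induction a using QuotientGroup.induction_on with
    | H a =>
    induction b using QuotientGroup.induction_on with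
    | H b =>
    refine ⟨a, b, fun h => hab ?_⟩
    apply hρ'inj
    rw [← QuotientGroup.mk_mul, ← QuotientGroup.mk_mul, hρ'mk, hρ'mk]
    exact h

end Induction

end Cfsg.Agent.Lib.Helper2.ShultG
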