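import Mathlib
import Cfsg.Prelude.Def_Solvable
import Cfsg.Agent.Lib.Helper2.FrobFree

/-!
# Counting corollaries of the free-module lemma for Frobenius-type actions

If `V` is the internal direct sum of the `H`-translates of a subspace `W`, then the `H`-fixed
vectors are in bijection with `W` and `|V| = |C_V(H)| ^ |H|`.
-/

set_option autoImplicit false

namespace Cfsg.Agent.Lib.Helper2.FrobCount

open scoped BigOperators
open Cfsg.Agent.Lib.Helper2.FreeAssembly

section Module

variable {k H V : Type*} [Field k] [Group H] [Finite H] [AddCommGroup V] [Module k V]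
  (ρ : Representation k H V)

/-- The sum over the group of the translates of a family of vectors of `W`. -/
noncomputable def sumMap [Fintype H] (W : Submodule k V) (f : H → W) : V :=
  ∑ h : H, ρ h (f h : V)

omit [Finite H] in
theorem sumMap_bijective [Fintype H] (W : Submodule k V)
    (hi : iSupIndep (fun h : H => W.map (ρ h))) (hs : ⨆ h : H, W.map (ρ h) = ⊤) :
    Function.Bijective (sumMap ρ W) := by
  classical
  have hinj : ∀ h : H, Function.Injective (ρ h) := by
    intro h x y hxy
    have := congrArg (ρ h⁻¹) hxy
    rwa [← Module.End.mul_apply, ← Module.End.mul_apply, ← map_mul, inv_mul_cancel, map_one,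
      Module.End.one_apply, Module.End.one_apply] at this
  rw [iSupIndep_iff_sum_eq_zero] at hi
  constructor
  · intro f g hfg
    have h0 : ∑ h : H, ρ h ((f h : V) - (g h : V)) = 0 := by
      simp only [map_sub, Finset.sum_sub_distrib]
      exact sub_eq_zero.mpr hfg
    have := hi (fun h => ρ h ((f h : V) - (g h : V)))
      (fun h => Submodule.mem_map_of_mem (W.sub_mem (f h).2 (g h).2)) h0
    funext h
    apply Subtype.ext
    have h1 := this h
    have h2 : (f h : V) - (g h : V) = 0 := hinj h (by rw [h1, map_zero])
    exact sub_eq_zero.mp h2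
  · intro v
    have hv : v ∈ ⨆ h : H, W.map (ρ h) := by rw [hs]; trivial
    rw [Submodule.mem_iSup_iff_exists_finsupp] at hv
    obtain ⟨c, hc, hsum⟩ := hv
    have hc' : ∀ h : H, ∃ w : W, ρ h (w : V) = c h := by
      intro h
      obtain ⟨w, hw, hwc⟩ := hc h
      exact ⟨⟨w, hw⟩, hwc⟩
    choose f hf using hc'
    refine ⟨f, ?_⟩
    rw [sumMap, ← hsum, Finsupp.sum_fintype _ _ (fun _ => rfl)]
    exact Finset.sum_congr rfl fun h _ => hf h

/-- The fixed vectors of `H`. -/
def fixedSet : Set V := {v | ∀ h : H, ρ h v = v}

omit [Finite H] in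
theorem card_fixed_eq [Fintype H] (W : Submodule k V)
    (hi : iSupIndep (fun h : H => W.map (ρ h))) (hs : ⨆ h : H, W.map (ρ h) = ⊤) :
    Nat.card (fixedSet ρ) = Nat.card W := by
  classical
  have hbij := sumMap_bijective ρ W hi hs
  -- the constant families correspond to the fixed vectors
  have hfix : ∀ f : H → W, sumMap ρ W f ∈ fixedSet ρ ↔ ∀ h, f h = f 1 := by
    intro f
    constructor
    · intro hf h
      -- compare `f` with its translate
      have h1 : sumMap ρ W (fun x => f (h⁻¹ * x)) = sumMap ρ W f := by
        have h2 : ρ h (sumMap ρ W f) = sumMap ρ W f := hf h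
        rw [sumMap, map_sum] at h2
        have h3 : ∀ x : H, ρ h (ρ x (f x : V)) = ρ (h * x) (f x : V) := by
          intro x; rw [map_mul]; rfl
        simp_rw [h3] at h2
        show ∑ x : H, ρ x ((f (h⁻¹ * x) : W) : V) = ∑ x : H, ρ x (f x : V)
        rw [← h2]
        refine (Fintype.sum_equiv (Equiv.mulLeft h) _ _ (fun x => ?_)).symm
        simp
      have h4 := congrFun (hbij.1 h1) h
      simp only [inv_mul_cancel] at h4
      exact h4.symm
    · intro hf g
      rw [sumMap, map_sum]
      have h3 : ∀ x : H, ρ g (ρ x (f x : V)) = ρ (g * x) (f (g * x) : V) := by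
        intro x; rw [map_mul, hf x, hf (g * x)]; rfl
      simp_rw [h3]
      exact Fintype.sum_equiv (Equiv.mulLeft g) _ _ (fun x => rfl)
  refine (Nat.card_congr (Equiv.ofBijective
    (fun w : W => (⟨sumMap ρ W (fun _ => w), (hfix _).mpr fun _ => rfl⟩ : fixedSet ρ)) ?_)).symm
  constructor
  · intro w w' hww
    have := hbij.1 (congrArg Subtype.val hww)
    exact congrFun this 1
  · intro v
    obtain ⟨f, hf⟩ := hbij.2 v.1
    have hc := (hfix f).mp (by rw [hf]; exact v.2)
    refine ⟨f 1, Subtype.ext ?_⟩
    show sumMap ρ W (fun _ => f 1) = v.1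
    rw [← hf]
    congr 1
    funext h
    exact (hc h).symm

/-- **Counting form of freeness**: if `V` is a free `k[H]`-module then `|V| = |C_V(H)| ^ |H|`. -/
theorem card_eq_card_fixed_pow [Finite V] (hfree : FreeOn ρ ⊤) :
    Nat.card V = Nat.card (fixedSet ρ) ^ Nat.card H := by
  classical
  have := Fintype.ofFinite H
  obtain ⟨W, hi, hs⟩ := hfree
  rw [card_fixed_eq ρ W hi hs]
  have hbij := sumMap_bijective ρ W hi hs
  rw [← Nat.card_congr (Equiv.ofBijective _ hbij), Nat.card_fun]

end Module

section GroupForm

/-- An action by automorphisms on an elementary abelian `r`-group, as a representation over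
`ZMod r` on the additive version of the group. -/
noncomputable def zrep {G V : Type*} [Group G] [CommGroup V] (r : ℕ)
    [Module (ZMod r) (Additive V)] (α : G →* MulAut V) :
    Representation (ZMod r) G (Additive V) where
  toFun g := (MonoidHom.toAdditive (α g).toMonoidHom).toZModLinearMap r
  map_one' := by
    ext x
    show Additive.ofMul (α 1 (Additive.toMul x)) = x
    rw [map_one]; rfl
  map_mul' a b := by
    ext x
    show Additive.ofMul (α (a * b) (Additive.toMul x)) =
      Additive.ofMul (α a (α b (Additive.toMul x)))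
    rw [map_mul]; rfl

theorem zrep_apply {G V : Type*} [Group G] [CommGroup V] (r : ℕ)
    [Module (ZMod r) (Additive V)] (α : G →* MulAut V) (g : G) (x : Additive V) :
    zrep r α g x = Additive.ofMul (α g (Additive.toMul x)) := rfl

variable {F H V : Type*} [Group F] [Finite F] [Group.IsNilpotent F] [Group H] [Finite H]
  [CommGroup V] [Finite V]

/-- **Frobenius-type actions on elementary abelian groups, counting form.**  Let the finite
group `H` act fixed-point-freely by automorphisms on the finite nilpotent group `F`, and let both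
act compatibly on the finite elementary abelian `r`-group `V` (no coprimality assumption).  If `F`
fixes no nonidentity element of `V`, then `|V| = |C_V(H)| ^ |H|`. -/
theorem card_eq_card_fixed_pow_of_fpf (r : ℕ) [hr : Fact r.Prime] (hV : ∀ v : V, v ^ r = 1)
    (φ : H →* MulAut F) (hfpf : ∀ h : H, h ≠ 1 → ∀ f : F, φ h f = f → f = 1)
    (αF : F →* MulAut V) (αH : H →* MulAut V)
    (hcompat : ∀ (h : H) (f : F) (v : V), αH h (αF f v) = αF (φ h f) (αH h v))
    (hfix : ∀ v : V, (∀ f : F, αF f v = v) → v = 1) :
    Nat.card V = Nat.card {v : V // ∀ h : H, αH h v = v} ^ Nat.card H := by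
  have hA : ∀ x : Additive V, r • x = 0 := fun x => by
    show Additive.ofMul ((Additive.toMul x) ^ r) = Additive.ofMul 1
    rw [hV]
  let _ : Module (ZMod r) (Additive V) := AddCommGroup.zmodModule hA
  have hfree := FrobFree.nilpotent_free (k := ZMod r) φ hfpf (zrep r αF) (zrep r αH)
    (fun h f v => by
      rw [zrep_apply, zrep_apply, zrep_apply, zrep_apply]
      exact congrArg Additive.ofMul (hcompat h f (Additive.toMul v)))
    (fun v hv => by
      have := hfix (Additive.toMul v) fun f => congrArg Additive.toMul (hv f)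
      exact congrArg Additive.ofMul this)
  have : Finite (Additive V) := inferInstanceAs (Finite V)
  have hcard := card_eq_card_fixed_pow (zrep r αH) hfree
  have h1 : Nat.card (Additive V) = Nat.card V := Nat.card_congr Additive.toMul
  have h2 : Nat.card (fixedSet (zrep r αH)) = Nat.card {v : V // ∀ h : H, αH h v = v} := by
    refine Nat.card_congr
      { toFun := fun v => ⟨Additive.toMul v.1, fun h => congrArg Additive.toMul (v.2 h)⟩
        invFun := fun v => ⟨Additive.ofMul v.1, fun h => congrArg Additive.ofMul (v.2 h)⟩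
        left_inv := fun v => rfl
        right_inv := fun v => rfl }
  rw [← h1, ← h2]
  exact hcard

end GroupForm

section FrobeniusForm

open scoped Pointwise

variable {A V : Type*} [Group A] [Finite A] [CommGroup V] [Finite V]

omit [Finite A] in
/-- In a Frobenius group with complement `Hc` and kernel `Fk`, conjugation by a nonidentity
element of `Hc` fixes no nonidentity element of `Fk`. -/
theorem conj_fpf_of_frobenius (Fk Hc : Subgroup A) [Fk.Normal]
    (hHc : Cfsg.IsFrobeniusComplement Hc) (hker : Cfsg.frobeniusKernel Hc = (Fk : Set A))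
    (h : ↥Hc) (hh : h ≠ 1) (f : ↥Fk)
    (hf : ((MulAut.conjNormal (H := Fk)).comp Hc.subtype) h f = f) : f = 1 := by
  by_contra hf1
  have hφ : ((((MulAut.conjNormal (H := Fk)).comp Hc.subtype) h f : ↥Fk) : A) =
      (h : A) * f * (h : A)⁻¹ := MulAut.conjNormal_apply (h : A) f
  have hfA : (f : A) ≠ 1 := fun h0 => hf1 (Subtype.ext h0)
  have hcomm : (h : A) * f * (h : A)⁻¹ = f := by
    rw [← hφ]; exact congrArg Subtype.val hf
  have hfk : (f : A) ∈ Cfsg.frobeniusKernel Hc := by rw [hker]; exact f.2
  rcases hfk with h1 | h2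
  · exact hfA h1
  · have hfH : (f : A) ∉ Hc := by
      intro hmem
      apply h2 1
      rw [map_one, one_smul]
      exact hmem
    have hbot := hHc.2.2 (f : A) hfH
    have hmem : (h : A) ∈ Hc ⊓ (MulAut.conj (f : A) • Hc) := by
      refine ⟨h.2, ?_⟩
      show (h : A) ∈ MulAut.conj (f : A) • Hc
      rw [Subgroup.mem_smul_pointwise_iff_exists]
      refine ⟨h, h.2, ?_⟩
      rw [MulAut.smul_def, MulAut.conj_apply]
      have : (f : A) * h = h * f := by
        calc (f : A) * h = (h : A) * f * (h : A)⁻¹ * h := by rw [hcomm]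
          _ = h * f := by group
      rw [this, mul_inv_cancel_right]
    rw [hbot, Subgroup.mem_bot] at hmem
    exact hh (Subtype.ext hmem)

/-- **Frobenius groups acting on elementary abelian groups, counting form.**  A Frobenius group
`A` with nilpotent kernel `Fk` and complement `Hc` acts on the finite elementary abelian `r`-group
`V` (no coprimality assumption).  If `Fk` fixes no nonidentity element of `V`, then
`|V| = |C_V(Hc)| ^ |Hc|`. -/
theorem card_eq_card_fixed_pow_of_frobenius (r : ℕ) [hr : Fact r.Prime]
    (hV : ∀ v : V, v ^ r = 1) (α : A →* MulAut V) (Fk Hc : Subgroup A) [Fk.Normal]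
    (hHc : Cfsg.IsFrobeniusComplement Hc) (hker : Cfsg.frobeniusKernel Hc = (Fk : Set A))
    (hnil : Group.IsNilpotent ↥Fk)
    (hfix : ∀ v : V, (∀ f ∈ Fk, α f v = v) → v = 1) :
    Nat.card V = Nat.card {v : V // ∀ h ∈ Hc, α h v = v} ^ Nat.card ↥Hc := by
  have key := card_eq_card_fixed_pow_of_fpf r hV
    ((MulAut.conjNormal (H := Fk)).comp Hc.subtype)
    (fun h hh f hf => conj_fpf_of_frobenius Fk Hc hHc hker h hh f hf)
    (α.comp Fk.subtype) (α.comp Hc.subtype)
    (fun h f v => by
      show α (h : A) (α (f : A) v) =
        α ((((MulAut.conjNormal (H := Fk)).comp Hc.subtype) h f : ↥Fk) : A) (α (h : A) v)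
      have hφ : ((((MulAut.conjNormal (H := Fk)).comp Hc.subtype) h f : ↥Fk) : A) =
          (h : A) * f * (h : A)⁻¹ := MulAut.conjNormal_apply (h : A) f
      rw [hφ, ← MulAut.mul_apply, ← MulAut.mul_apply, ← map_mul, ← map_mul,
        inv_mul_cancel_right])
    (fun v hv => hfix v fun f hf => hv ⟨f, hf⟩)
  rw [key]
  congr 1
  exact Nat.card_congr
    { toFun := fun v => ⟨v.1, fun h hh => v.2 ⟨h, hh⟩⟩
      invFun := fun v => ⟨v.1, fun h => v.2 h h.2⟩
      left_inv := fun v => rfl
      right_inv := fun v => rfl }

end FrobeniusForm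

end Cfsg.Agent.Lib.Helper2.FrobCount
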