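import Mathlib
import Cfsg.Agent.Lib.Helper2.ShultG
import Cfsg.Agent.Lib.Helper2.FrobCount

/-!
# The Hall–Higman–Shult theorem for actions on elementary abelian groups

The group-theoretic forms of `ShultG.main` and `ShultBase.main_field`: the module is a finite
elementary abelian `p`-group `V`, acted on by automorphisms.  Also the conjugation action of a
subgroup on a subgroup that it normalizes.
-/

set_option autoImplicit false

namespace Cfsg.Agent.Lib.Helper2.ShultGroup

open scoped commutatorElement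
open Cfsg.Agent.Lib.Helper2.FrobCount

section Conj

variable {G : Type*} [Group G]

/-- The conjugation action of a subgroup `A` on a subgroup `B` which it normalizes. -/
def conjOn (A B : Subgroup G) (hAB : A ≤ Subgroup.normalizer (B : Set G)) : ↥A →* MulAut ↥B where
  toFun a :=
    { toFun := fun b => ⟨(a : G) * b * (a : G)⁻¹,
        (Subgroup.mem_normalizer_iff.mp (hAB a.2) b).mp b.2⟩
      invFun := fun b => ⟨(a : G)⁻¹ * b * (a : G), by
        have := (Subgroup.mem_normalizer_iff.mp (hAB a.2) ((a : G)⁻¹ * b * (a : G))).mpr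
        apply this
        have e : (a : G) * ((a : G)⁻¹ * b * (a : G)) * (a : G)⁻¹ = b := by group
        rw [e]; exact b.2⟩
      left_inv := fun b => Subtype.ext (by
        show (a : G)⁻¹ * ((a : G) * b * (a : G)⁻¹) * (a : G) = b
        group)
      right_inv := fun b => Subtype.ext (by
        show (a : G) * ((a : G)⁻¹ * b * (a : G)) * (a : G)⁻¹ = b
        group)
      map_mul' := fun b b' => Subtype.ext (by
        show (a : G) * (b * b') * (a : G)⁻¹ = ((a : G) * b * (a : G)⁻¹) * ((a : G) * b' * (a : G)⁻¹)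
        group) }
  map_one' := by
    ext b
    show ((1 : ↥A) : G) * b * ((1 : ↥A) : G)⁻¹ = b
    simp
  map_mul' a a' := by
    ext b
    show ((a * a' : ↥A) : G) * b * ((a * a' : ↥A) : G)⁻¹ =
      (a : G) * ((a' : G) * b * (a' : G)⁻¹) * (a : G)⁻¹
    rw [Subgroup.coe_mul]
    group

theorem conjOn_apply (A B : Subgroup G) (hAB : A ≤ Subgroup.normalizer (B : Set G)) (a : ↥A)
    (b : ↥B) : ((conjOn A B hAB a b : ↥B) : G) = (a : G) * b * (a : G)⁻¹ := rfl

end Conj

section GroupForm

variable {P H V : Type*} [Group P] [Finite P] [Group H] [Finite H] [CommGroup V] [Finite V]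
  {p q r : ℕ} [hp : Fact p.Prime] [hq : Fact q.Prime] [hr : Fact r.Prime]

omit [Finite P] [Finite H] [Finite V] hq hr in
theorem natCast_ne_zero_of_ne {q : ℕ} (hq : q.Prime) (hpq : p ≠ q) : ((q : ℕ) : ZMod p) ≠ 0 := by
  intro h
  rw [ZMod.natCast_eq_zero_iff] at h
  exact hpq ((Nat.prime_dvd_prime_iff_eq hp.out hq).mp h)

/-- **The Hall–Higman–Shult theorem**, for an elementary abelian `p`-group `V`. -/
theorem main_group (hV : ∀ v : V, v ^ p = 1) (hP : IsPGroup q P) (hH : Nat.card H = r)
    (hpq : p ≠ q) (hpr : p ≠ r) (hqr : q ≠ r)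
    (φ : H →* MulAut P) (αP : P →* MulAut V) (αH : H →* MulAut V)
    (hcompat : ∀ (h : H) (g : P) (v : V), αH h (αP g v) = αP (φ h g) (αH h v))
    (hfix : ∀ v : V, (∀ h : H, αH h v = v) → v = 1) :
    (∀ h g v, αP (g⁻¹ * φ h g) v = v) ∨
      (q = 2 ∧ (∃ n : ℕ, r = 2 ^ n + 1) ∧ ∃ a b v, αP (a * b) v ≠ αP (b * a) v) := by
  have hA : ∀ x : Additive V, p • x = 0 := fun x => by
    show Additive.ofMul ((Additive.toMul x) ^ p) = Additive.ofMul 1
    rw [hV]
  have inst : Module (ZMod p) (Additive V) := AddCommGroup.zmodModule hA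
  have : Finite (Additive V) := inferInstanceAs (Finite V)
  have hfin : Module.Finite (ZMod p) (Additive V) := Module.Finite.of_finite
  rcases ShultG.main (k := ZMod p) (V := Additive V) hP hH hqr φ (zrep p αP) (zrep p αH)
    (fun h g v => by
      rw [zrep_apply, zrep_apply, zrep_apply, zrep_apply]
      exact congrArg Additive.ofMul (hcompat h g (Additive.toMul v)))
    (natCast_ne_zero_of_ne hq.out hpq) (natCast_ne_zero_of_ne hr.out hpr)
    (fun v hv => by
      have := hfix (Additive.toMul v) fun h => congrArg Additive.toMul (hv h)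
      exact congrArg Additive.ofMul this) with h | ⟨h2, hn, a, b, hab⟩
  · left
    intro h' g v
    have := LinearMap.congr_fun (h h' g) (Additive.ofMul v)
    rw [zrep_apply] at this
    exact congrArg Additive.toMul this
  · right
    refine ⟨h2, hn, a, b, ?_⟩
    by_contra hno
    push Not at hno
    apply hab
    ext v
    rw [zrep_apply, zrep_apply]
    exact congrArg Additive.ofMul (hno (Additive.toMul v))

/-- **The class two case**, for an elementary abelian `p`-group `V`. -/
theorem class_two_group [Group.IsNilpotent P] (hV : ∀ v : V, v ^ p = 1) (hH : Nat.card H = r)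
    (hpP : ¬ p ∣ Nat.card P) (hpr : p ≠ r)
    (φ : H →* MulAut P) (αP : P →* MulAut V) (αH : H →* MulAut V)
    (hcompat : ∀ (h : H) (g : P) (v : V), αH h (αP g v) = αP (φ h g) (αH h v))
    (h1 : ∀ a b : P, ⁅a, b⁆ ∈ Subgroup.center P)
    (h2 : ∀ h, ∀ z ∈ Subgroup.center P, φ h z = z)
    (h3 : ∀ h, h ≠ 1 → ∀ g, g⁻¹ * φ h g ∈ Subgroup.center P → g ∈ Subgroup.center P)
    (c : P) (hcP : c ∈ commutator P) (hco : (orderOf c).Prime)
    (hc : ∃ v, αP c v ≠ v)
    (hfix : ∀ v : V, (∀ h : H, αH h v = v) → v = 1) :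
    ∃ N : Subgroup P, N.Normal ∧ Subgroup.center P ≤ N ∧
      (∀ n ∈ N, ∀ g, ⁅n, g⁆ ∈ Subgroup.zpowers c → ⁅n, g⁆ = 1) ∧
      ∃ u : ℕ, 2 ≤ u ∧ u + 1 = r ∧ Nat.card N * u ^ 2 = Nat.card P := by
  have hA : ∀ x : Additive V, p • x = 0 := fun x => by
    show Additive.ofMul ((Additive.toMul x) ^ p) = Additive.ofMul 1
    rw [hV]
  have inst : Module (ZMod p) (Additive V) := AddCommGroup.zmodModule hA
  have : Finite (Additive V) := inferInstanceAs (Finite V)
  have hfin : Module.Finite (ZMod p) (Additive V) := Module.Finite.of_finite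
  refine ShultBase.main_field (k := ZMod p) (V := Additive V) φ (zrep p αP) (zrep p αH)
    (fun h g v => by
      rw [zrep_apply, zrep_apply, zrep_apply, zrep_apply]
      exact congrArg Additive.ofMul (hcompat h g (Additive.toMul v)))
    hH h1 h2 h3 c hcP hco ?_ ?_ ?_
    (fun v hv => by
      have := hfix (Additive.toMul v) fun h => congrArg Additive.toMul (hv h)
      exact congrArg Additive.ofMul this)
  · intro h
    obtain ⟨v, hv⟩ := hc
    apply hv
    have := LinearMap.congr_fun h (Additive.ofMul v)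
    rw [zrep_apply] at this
    exact congrArg Additive.toMul this
  · intro h
    rw [ZMod.natCast_eq_zero_iff] at h
    exact hpP h
  · rw [hH]
    exact natCast_ne_zero_of_ne hr.out hpr

end GroupForm

end Cfsg.Agent.Lib.Helper2.ShultGroup
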