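import Mathlib

/-!
# Huppert's theorem on solvable linear groups transitive on nonzero vectors: common definitions

`ρ : G →* (V ≃ₗ[ZMod q] V)` is a linear representation of the finite group `G` on the finite
`ZMod q`-space `V`.
-/

set_option autoImplicit false

namespace Cfsg.Agent.Lib.Helper2.Huppert

variable {q : ℕ} [Fact q.Prime] {V : Type*} [AddCommGroup V] [Module (ZMod q) V]
  {G : Type*} [Group G]

/-- `G` is transitive on the nonzero vectors. -/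
def Trans (ρ : G →* (V ≃ₗ[ZMod q] V)) : Prop :=
  ∀ v w : V, v ≠ 0 → w ≠ 0 → ∃ g : G, ρ g v = w

/-- The linear automorphism `x` is irreducible: the only invariant subspaces are `⊥` and `⊤`. -/
def IrrElt (x : V ≃ₗ[ZMod q] V) : Prop :=
  ∀ W : Submodule (ZMod q) V, (∀ v ∈ W, x v ∈ W) → W = ⊥ ∨ W = ⊤

/-- The subgroup `A` of `G` acts irreducibly on `V`. -/
def IrrOn (ρ : G →* (V ≃ₗ[ZMod q] V)) (A : Subgroup G) : Prop :=
  ∀ W : Submodule (ZMod q) V, (∀ a ∈ A, ∀ v ∈ W, ρ a v ∈ W) → W = ⊥ ∨ W = ⊤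

/-- `G` has an abelian normal subgroup acting irreducibly on `V`. -/
def Good (ρ : G →* (V ≃ₗ[ZMod q] V)) : Prop :=
  ∃ A : Subgroup G, A.Normal ∧ (∀ a ∈ A, ∀ b ∈ A, a * b = b * a) ∧ IrrOn ρ A

/-- `ρ g` is a scalar. -/
def IsScalar (ρ : G →* (V ≃ₗ[ZMod q] V)) (g : G) : Prop :=
  ∃ c : ZMod q, ∀ v : V, ρ g v = c • v

theorem irrOn_of_irrElt (ρ : G →* (V ≃ₗ[ZMod q] V)) (A : Subgroup G) (a : G) (ha : a ∈ A)
    (h : IrrElt (ρ a)) : IrrOn ρ A :=
  fun W hW => h W (fun v hv => hW a ha v hv)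

/-- An invariant set of vectors containing a nonzero vector contains all nonzero vectors. -/
theorem mem_of_invariant {ρ : G →* (V ≃ₗ[ZMod q] V)} (htrans : Trans ρ) (S : Set V)
    (hS : ∀ g : G, ∀ v ∈ S, ρ g v ∈ S) (v₀ : V) (hv₀ : v₀ ∈ S) (hv₀0 : v₀ ≠ 0) (w : V)
    (hw : w ≠ 0) : w ∈ S := by
  obtain ⟨g, rfl⟩ := htrans v₀ w hv₀0 hw
  exact hS g v₀ hv₀

end Cfsg.Agent.Lib.Helper2.Huppert
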