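/-
helper2, project SAF (S4025): common definitions.
All declarations live in `Cfsg.Agent.Lib.Helper2.Saf`.
-/
import Mathlib

set_option autoImplicit false

namespace Cfsg.Agent.Lib.Helper2.Saf

universe u

/-- `V` is a normal elementary abelian self-centralizing `p`-subgroup of order `p ^ n` and of
`p'`-index, and `Q` permutes the subgroups of `V` of any given order transitively. -/
structure NormalEA (p n : ℕ) {Q : Type*} [Group Q] (V : Subgroup Q) : Prop where
  normal : V.Normal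
  comm : ∀ x ∈ V, ∀ y ∈ V, x * y = y * x
  exp : ∀ x ∈ V, x ^ p = 1
  card : Nat.card V = p ^ n
  cent : Subgroup.centralizer (V : Set Q) ≤ V
  cop : ¬ p ∣ V.index
  trans : ∀ H₁ H₂ : Subgroup Q, H₁ ≤ V → H₂ ≤ V → Nat.card H₁ = Nat.card H₂ →
    ∃ q : Q, H₂ = H₁.map (MulAut.conj q).toMonoidHom

/-- An affine package for `Q`: a faithful linear action `ρ` of `A` on the `ZMod p`-module `W` and
a faithful action `π` of `Q` on the set `W` whose elements are exactly the maps
`x ↦ ρ a x + w`. -/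
structure AffPkg (p : ℕ) [Fact p.Prime] (Q : Type*) [Group Q] (W : Type*) [AddCommGroup W]
    [Module (ZMod p) W] (A : Type*) [Group A] where
  ρ : A →* (W ≃ₗ[ZMod p] W)
  ρ_inj : Function.Injective ρ
  π : Q →* Equiv.Perm W
  π_inj : Function.Injective π
  π_mem : ∀ q : Q, ∃ a : A, ∃ w : W, ∀ x : W, π q x = ρ a x + w
  π_surj : ∀ (a : A) (w : W), ∃ q : Q, ∀ x : W, π q x = ρ a x + w

variable {p : ℕ} [Fact p.Prime] {W : Type*} [AddCommGroup W] [Module (ZMod p) W]

/-- Scalar multiplication by a unit of `ZMod p`, as a linear automorphism. -/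
def scal (p : ℕ) [Fact p.Prime] (W : Type*) [AddCommGroup W] [Module (ZMod p) W] :
    (ZMod p)ˣ →* (W ≃ₗ[ZMod p] W) where
  toFun c := LinearEquiv.smulOfUnit c
  map_one' := by ext w; simp [LinearEquiv.smulOfUnit]
  map_mul' a b := by ext w; simp [LinearEquiv.smulOfUnit, mul_smul]

@[simp] theorem scal_apply (c : (ZMod p)ˣ) (w : W) : scal p W c w = (c : ZMod p) • w := by
  simp [scal, LinearEquiv.smulOfUnit, Units.smul_def]

/-- The group generated by `ρ A` and the scalars. -/
def tilde {A : Type*} [Group A] (ρ : A →* (W ≃ₗ[ZMod p] W)) : Subgroup (W ≃ₗ[ZMod p] W) :=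
  ρ.range ⊔ (scal p W).range

theorem range_le_tilde {A : Type*} [Group A] (ρ : A →* (W ≃ₗ[ZMod p] W)) : ρ.range ≤ tilde ρ :=
  le_sup_left

theorem scal_mem_tilde {A : Type*} [Group A] (ρ : A →* (W ≃ₗ[ZMod p] W)) (c : (ZMod p)ˣ) :
    scal p W c ∈ tilde ρ :=
  (le_sup_right : (scal p W).range ≤ tilde ρ) ⟨c, rfl⟩

end Cfsg.Agent.Lib.Helper2.Saf
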