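import Mathlib

/-!
# Project FW (S3211, Fong–Wong lemma): abstract hypotheses (helper2)

`Hyp L₁ L₂ j n` collects, in elementwise form, everything the proof of S3211 uses:
two elementwise commuting subgroups `L₁`, `L₂` meeting in `{1, j}`, an element `n` with
`n * n = j` swapping them, `C_G(j) = L₁L₂ ∪ n L₁L₂`, and three facts about `SL₂(F)`
(`F` a finite field of odd order) transported to `L₁` and `L₂`:
unique involution, centralizers of square roots of `-1` are abelian, all square roots of `-1`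
are conjugate.
-/

set_option autoImplicit false

namespace Cfsg.Agent.Lib.Helper2.FW

variable {G : Type*} [Group G]

/-- membership in the product set `L₁L₂`, in elementwise form. -/
def InL (L₁ L₂ : Subgroup G) (k : G) : Prop := ∃ x ∈ L₁, ∃ y ∈ L₂, k = x * y

/-- The abstract hypotheses of the Fong–Wong lemma. -/
structure Hyp (L₁ L₂ : Subgroup G) (j n : G) : Prop where
  j_ne : j ≠ 1
  j_sq : j * j = 1
  j_mem₁ : j ∈ L₁
  j_mem₂ : j ∈ L₂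
  comm : ∀ x ∈ L₁, ∀ y ∈ L₂, x * y = y * x
  inter : ∀ x, x ∈ L₁ → x ∈ L₂ → x = 1 ∨ x = j
  cent₁ : ∀ x ∈ L₁, x * j = j * x
  cent₂ : ∀ y ∈ L₂, y * j = j * y
  n_comm : n * j = j * n
  n_sq : n * n = j
  swap₁ : ∀ x ∈ L₁, n * x * n⁻¹ ∈ L₂
  swap₂ : ∀ y ∈ L₂, n * y * n⁻¹ ∈ L₁
  cover : ∀ k, k * j = j * k → InL L₁ L₂ k ∨ ∃ x ∈ L₁, ∃ y ∈ L₂, k = n * (x * y)
  invol₁ : ∀ x ∈ L₁, x * x = 1 → x = 1 ∨ x = j
  invol₂ : ∀ y ∈ L₂, y * y = 1 → y = 1 ∨ y = j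
  abel₁ : ∀ a ∈ L₁, a * a = j → ∀ x ∈ L₁, ∀ y ∈ L₁, x * a = a * x → y * a = a * y → x * y = y * x
  abel₂ : ∀ a ∈ L₂, a * a = j → ∀ x ∈ L₂, ∀ y ∈ L₂, x * a = a * x → y * a = a * y → x * y = y * x
  conj₁ : ∀ a ∈ L₁, ∀ b ∈ L₁, a * a = j → b * b = j → ∃ y ∈ L₁, y * b * y⁻¹ = a
  conj₂ : ∀ a ∈ L₂, ∀ b ∈ L₂, a * a = j → b * b = j → ∃ y ∈ L₂, y * b * y⁻¹ = a

/-- the set of square roots of `v` in `C_G(j) ∩ C_G(u)`. -/
def Roots (j u v : G) : Set G := {k | k * j = j * k ∧ k * u = u * k ∧ k * k = v}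

/-- `L` looks like `SL₂(F)` (`F` finite of odd order) with respect to its involution `j`. -/
structure SL2Like (L : Subgroup G) (j : G) : Prop where
  invol : ∀ x ∈ L, x * x = 1 → x = 1 ∨ x = j
  abel : ∀ a ∈ L, a * a = j → ∀ x ∈ L, ∀ y ∈ L, x * a = a * x → y * a = a * y → x * y = y * x
  conj : ∀ a ∈ L, ∀ b ∈ L, a * a = j → b * b = j → ∃ y ∈ L, y * b * y⁻¹ = a
  big : ∃ x ∈ L, x ≠ 1 ∧ x ≠ j

end Cfsg.Agent.Lib.Helper2.FW
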