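import Mathlib
import Cfsg.Prelude.Def_Transfer
import Cfsg.Agent.Lib.Helper2.ShultGroup

/-!
# The Hall–Higman–Shult theorem for subgroups of a finite group

`X` of prime order `r` normalizes the `q`-subgroup `Q`, both normalize the elementary abelian
`p`-subgroup `V`, and `C_V(X) = 1`.  Then `[Q, X]` centralizes `V`, or `q = 2`, `r` is a Fermat
prime and `Q` is not abelian.  Also: invariant Sylow subgroups for coprime actions of groups of
prime order.
-/

set_option autoImplicit false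

namespace Cfsg.Agent.Lib.Helper2.ShultSub

open scoped IsMulCommutative
open Cfsg.Agent.Lib.Helper2.ShultGroup

variable {G : Type*} [Group G] [Finite G]

/-- **The Hall–Higman–Shult theorem** for subgroups of a finite group. -/
theorem main_sub {p q r : ℕ} (hp : p.Prime) (hq : q.Prime) (hr : r.Prime) (hpq : p ≠ q)
    (hpr : p ≠ r) (hqr : q ≠ r) (X Q V : Subgroup G) (hX : Nat.card X = r) (hQ : IsPGroup q Q)
    (hXQ : X ≤ Subgroup.normalizer (Q : Set G)) (hV : Cfsg.IsElementaryAbelian p V)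
    (hXV : X ≤ Subgroup.normalizer (V : Set G)) (hQV : Q ≤ Subgroup.normalizer (V : Set G))
    (hCV : V ⊓ Subgroup.centralizer (X : Set G) = ⊥) :
    (∀ x ∈ X, ∀ g ∈ Q, g⁻¹ * (x * g * x⁻¹) ∈ Subgroup.centralizer (V : Set G)) ∨
      (q = 2 ∧ (∃ n : ℕ, r = 2 ^ n + 1) ∧ ∃ a ∈ Q, ∃ b ∈ Q, a * b ≠ b * a) := by
  have : Fact p.Prime := ⟨hp⟩
  have : Fact q.Prime := ⟨hq⟩
  have : Fact r.Prime := ⟨hr⟩
  have : IsMulCommutative ↥V := hV.1
  have hVp : ∀ v : ↥V, v ^ p = 1 := fun v => Subtype.ext (hV.2 v v.2)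
  rcases main_group (P := ↥Q) (H := ↥X) (V := ↥V) hVp hQ hX hpq hpr hqr (conjOn X Q hXQ)
    (conjOn Q V hQV) (conjOn X V hXV)
    (fun h g v => Subtype.ext (by
      show (h : G) * ((g : G) * v * (g : G)⁻¹) * (h : G)⁻¹ =
        ((h : G) * g * (h : G)⁻¹) * ((h : G) * v * (h : G)⁻¹) * ((h : G) * g * (h : G)⁻¹)⁻¹
      group))
    (fun v hv => by
      have hmem : (v : G) ∈ V ⊓ Subgroup.centralizer (X : Set G) := by
        refine Subgroup.mem_inf.mpr ⟨v.2, ?_⟩
        rw [Subgroup.mem_centralizer_iff]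
        intro x hx
        have := congrArg Subtype.val (hv ⟨x, hx⟩)
        have h1 : x * (v : G) * x⁻¹ = v := this
        calc x * (v : G) = (x * (v : G) * x⁻¹) * x := by group
          _ = v * x := by rw [h1]
      rw [hCV, Subgroup.mem_bot] at hmem
      exact Subtype.ext hmem) with h | ⟨h2, hn, a, b, v, hab⟩
  · left
    intro x hx g hg
    rw [Subgroup.mem_centralizer_iff]
    intro v hv
    have := congrArg Subtype.val (h ⟨x, hx⟩ ⟨g, hg⟩ ⟨v, hv⟩)
    have h1 : (g⁻¹ * (x * g * x⁻¹)) * v * (g⁻¹ * (x * g * x⁻¹))⁻¹ = v := this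
    calc v * (g⁻¹ * (x * g * x⁻¹))
        = ((g⁻¹ * (x * g * x⁻¹)) * v * (g⁻¹ * (x * g * x⁻¹))⁻¹) * (g⁻¹ * (x * g * x⁻¹)) := by
          rw [h1]
      _ = g⁻¹ * (x * g * x⁻¹) * v := by group
  · right
    refine ⟨h2, hn, a, a.2, b, b.2, fun hcomm => hab ?_⟩
    have : a * b = b * a := Subtype.ext hcomm
    rw [this]

/-- A group of prime order `r` normalizing `K`, of order prime to `r`, normalizes some Sylow
`q`-subgroup of `K`. -/
theorem exists_invariant_sylow (K R : Subgroup G) (hRK : R ≤ Subgroup.normalizer (K : Set G))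
    (q : ℕ) [Fact q.Prime] {r : ℕ} [Fact r.Prime] (hR : Nat.card R = r)
    (hcop : ¬ r ∣ Nat.card K) :
    ∃ Q : Subgroup G, Q ≤ K ∧ R ≤ Subgroup.normalizer (Q : Set G) ∧ IsPGroup q Q ∧
      Nat.card Q = q ^ (Nat.card K).factorization q := by
  let _ : MulDistribMulAction ↥R ↥K := MulDistribMulAction.compHom ↥K (conjOn R K hRK)
  have hsmul : ∀ (x : ↥R) (k : ↥K), ((x • k : ↥K) : G) = (x : G) * k * (x : G)⁻¹ := fun x k => rfl
  have hRp : IsPGroup r ↥R := IsPGroup.of_card (n := 1) (by rw [hR, pow_one])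
  have hnd : ¬ r ∣ Nat.card (Sylow q ↥K) := by
    intro h
    obtain ⟨P⟩ : Nonempty (Sylow q ↥K) := inferInstance
    exact hcop (h.trans ((Sylow.card_dvd_index P).trans (Subgroup.index_dvd_card _)))
  obtain ⟨P, hP⟩ := hRp.nonempty_fixed_point_of_prime_not_dvd_card (Sylow q ↥K) hnd
  have hfix : ∀ x : ↥R, x • P = P := hP
  have hconj : ∀ x ∈ R, ∀ g ∈ (P : Subgroup ↥K).map K.subtype,
      x * g * x⁻¹ ∈ (P : Subgroup ↥K).map K.subtype := by
    rintro x hx _ ⟨k, hk, rfl⟩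
    have h1 : (⟨x, hx⟩ : ↥R) • k ∈ ((⟨x, hx⟩ : ↥R) • P : Sylow q ↥K) :=
      Subgroup.smul_mem_pointwise_smul k _ _ hk
    rw [hfix] at h1
    exact ⟨_, h1, hsmul ⟨x, hx⟩ k⟩
  refine ⟨(P : Subgroup ↥K).map K.subtype, Subgroup.map_subtype_le _, ?_, ?_, ?_⟩
  · intro x hx
    rw [Subgroup.mem_normalizer_iff]
    intro g
    constructor
    · exact hconj x hx g
    · intro hg
      have := hconj x⁻¹ (R.inv_mem hx) _ hg
      have e : x⁻¹ * (x * g * x⁻¹) * x⁻¹⁻¹ = g := by group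
      rwa [e] at this
  · exact (P.2.map K.subtype)
  · rw [← Sylow.card_eq_multiplicity P]
    exact Nat.card_congr ((P : Subgroup ↥K).equivMapOfInjective K.subtype
      K.subtype_injective).symm.toEquiv

end Cfsg.Agent.Lib.Helper2.ShultSub
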