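import Mathlib
import Cfsg.Agent.Lib.Helper2.Critical

/-!
# Critical groups for a coprime action of an abelian group with a distinguished subgroup

The abelian group `H` acts on the finite nilpotent group `P` of order prime to `|H|`; `H₁ ≤ H` is
a subgroup of prime order such that every nontrivial element of `H` has a nontrivial power in `H₁`
(e.g. `H` a cyclic `p`-group and `H₁ = Ω₁(H)`).  The action is *critical* if `H₁` acts
nontrivially on `P`, but trivially on every proper `H`-invariant subgroup.  Then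
* if `P` is abelian, every nontrivial element of `H` acts without fixed points;
* if `P` is not abelian, then `P' ≤ Z(P) = C_P(H₁)` and every nontrivial element of `H` acts
  without fixed points on `P / Z(P)`.
-/

set_option autoImplicit false

namespace Cfsg.Agent.Lib.Helper2.CycCrit

open scoped commutatorElement
open Cfsg.Agent.Lib.Helper2.Critical

variable {P H : Type*} [Group P] [Group H] (φ : H →* MulAut P) (H₁ : Subgroup H)

/-- `H₁` acts nontrivially, but trivially on every proper `H`-invariant subgroup. -/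
structure IsCrit : Prop where
  min : ∀ P₁ : Subgroup P, P₁ ≠ ⊤ → (∀ h, ∀ g ∈ P₁, φ h g ∈ P₁) → ∀ h ∈ H₁, ∀ g ∈ P₁, φ h g = g
  nontriv : ∃ h ∈ H₁, ∃ g, φ h g ≠ g

/-- The generators of `[P, H₁]`. -/
def commSet : Set P := {w | ∃ h ∈ H₁, ∃ g, w = g⁻¹ * φ h g}

variable {r : ℕ} [hr : Fact r.Prime]

/-- In `H₁` (of prime order), an element fixed by a nontrivial element is fixed by all. -/
theorem fixed_of_ne_one (hH₁ : Nat.card H₁ = r) (h : H) (hh₁ : h ∈ H₁) (hh : h ≠ 1)
    (g : P) (hg : φ h g = g) (h' : H) (hh' : h' ∈ H₁) : φ h' g = g := by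
  have := Critical.fixed_of_ne_one (φ.comp H₁.subtype) hH₁ ⟨h, hh₁⟩
    (fun e => hh (congrArg Subtype.val e)) g hg ⟨h', hh'⟩
  exact this

/-- `P = [P, H₁]` for a critical action. -/
theorem closure_commSet (hcomm : ∀ a b : H, a * b = b * a)
    (hcop : (Nat.card P).Coprime (Nat.card H)) (hcrit : IsCrit φ H₁) :
    Subgroup.closure (commSet φ H₁) = ⊤ := by
  by_contra hne
  have hinv : ∀ h, ∀ c ∈ Subgroup.closure (commSet φ H₁),
      φ h c ∈ Subgroup.closure (commSet φ H₁) := by
    intro h' c hc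
    induction hc using Subgroup.closure_induction with
    | mem w hw =>
      obtain ⟨h, hh, g, rfl⟩ := hw
      apply Subgroup.subset_closure
      refine ⟨h, hh, φ h' g, ?_⟩
      rw [map_mul, map_inv]
      congr 1
      rw [← MulAut.mul_apply, ← MulAut.mul_apply, ← map_mul, ← map_mul, hcomm]
    | one => rw [map_one]; exact Subgroup.one_mem _
    | mul a b _ _ ha hb => rw [map_mul]; exact Subgroup.mul_mem _ ha hb
    | inv a _ ha => rw [map_inv]; exact Subgroup.inv_mem _ ha
  have hfix := hcrit.min _ hne hinv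
  obtain ⟨h, hh, g, hg⟩ := hcrit.nontriv
  apply hg
  apply eq_of_fixed_comm φ hcop h g
  exact hfix h hh _ (Subgroup.subset_closure ⟨h, hh, g, rfl⟩)

/-- A proper invariant normal subgroup is central. -/
theorem le_center_of_normal (hcomm : ∀ a b : H, a * b = b * a)
    (hcop : (Nat.card P).Coprime (Nat.card H)) (hcrit : IsCrit φ H₁) (N : Subgroup P) [N.Normal]
    (hN : N ≠ ⊤) (hNinv : ∀ h, ∀ g ∈ N, φ h g ∈ N) : N ≤ Subgroup.center P := by
  have hfix := hcrit.min N hN hNinv
  intro n hn
  have hsub : commSet φ H₁ ⊆ (Subgroup.centralizer ({n} : Set P) : Set P) := by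
    rintro _ ⟨h, hh, g, rfl⟩
    rw [SetLike.mem_coe, Subgroup.mem_centralizer_iff]
    intro m hm
    rw [Set.mem_singleton_iff] at hm
    subst hm
    have h1 : φ h (g * m * g⁻¹) = g * m * g⁻¹ :=
      hfix h hh _ (‹N.Normal›.conj_mem m hn g)
    rw [map_mul, map_mul, map_inv, hfix h hh m hn] at h1
    have h2 : m * (g⁻¹ * φ h g) = g⁻¹ * (g * m * g⁻¹) * φ h g := by group
    rw [h2, ← h1]
    group
  have hle : Subgroup.closure (commSet φ H₁) ≤ Subgroup.centralizer ({n} : Set P) :=
    (Subgroup.closure_le _).mpr hsub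
  rw [closure_commSet φ H₁ hcomm hcop hcrit] at hle
  rw [Subgroup.mem_center_iff]
  intro g
  have := Subgroup.mem_centralizer_iff.mp (hle (Subgroup.mem_top g)) n rfl
  exact this.symm

theorem nontrivial_of_crit (hcrit : IsCrit φ H₁) : Nontrivial P := by
  obtain ⟨h, -, g, hg⟩ := hcrit.nontriv
  refine ⟨⟨g, 1, ?_⟩⟩
  rintro rfl
  exact hg (map_one _)

/-- `H₁` acts trivially on the derived subgroup. -/
theorem fixed_commutator [Group.IsNilpotent P] (hcrit : IsCrit φ H₁) (h : H) (hh : h ∈ H₁) (g : P)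
    (hg : g ∈ commutator P) : φ h g = g := by
  have := nontrivial_of_crit φ H₁ hcrit
  have hne : commutator P ≠ ⊤ := (Group.IsSolvable.commutator_lt_top_of_nontrivial P).ne
  exact hcrit.min _ hne (fun h g hg => map_mem_of_characteristic φ _ h g hg) h hh g hg

/-- The elements fixed by `H₁` are central. -/
theorem fixed_mem_center [Group.IsNilpotent P] (hcomm : ∀ a b : H, a * b = b * a)
    (hcop : (Nat.card P).Coprime (Nat.card H)) (hcrit : IsCrit φ H₁) (c : P)
    (hc : ∀ h ∈ H₁, φ h c = c) : c ∈ Subgroup.center P := by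
  have hsub : commSet φ H₁ ⊆ (Subgroup.centralizer ({c} : Set P) : Set P) := by
    rintro _ ⟨h, hh, g, rfl⟩
    rw [SetLike.mem_coe, Subgroup.mem_centralizer_iff]
    intro m hm
    rw [Set.mem_singleton_iff] at hm
    subst hm
    have hmem : ⁅g, m⁆ ∈ commutator P := by
      rw [commutator_def]
      exact Subgroup.commutator_mem_commutator (Subgroup.mem_top g) (Subgroup.mem_top m)
    have h1 := fixed_commutator φ H₁ hcrit h hh _ hmem
    rw [commutatorElement_def, map_mul, map_mul, map_mul, map_inv, map_inv, hc h hh] at h1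
    have h3 : φ h g * m * (φ h g)⁻¹ = g * m * g⁻¹ := by
      have := congrArg (· * m) h1
      simpa using this
    have h2 : m * (g⁻¹ * φ h g) = g⁻¹ * (g * m * g⁻¹) * φ h g := by group
    rw [h2, ← h3]
    group
  have hle : Subgroup.closure (commSet φ H₁) ≤ Subgroup.centralizer ({c} : Set P) :=
    (Subgroup.closure_le _).mpr hsub
  rw [closure_commSet φ H₁ hcomm hcop hcrit] at hle
  rw [Subgroup.mem_center_iff]
  intro g
  have := Subgroup.mem_centralizer_iff.mp (hle (Subgroup.mem_top g)) c rfl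
  exact this.symm

/-- If `φ h` moves `g` by a central element, so do its powers. -/
theorem pow_mem_center (h : H) (g : P) (hg : g⁻¹ * φ h g ∈ Subgroup.center P) (k : ℕ) :
    g⁻¹ * φ (h ^ k) g ∈ Subgroup.center P := by
  induction k with
  | zero => simp only [pow_zero, map_one, MulAut.one_apply, inv_mul_cancel]; exact Subgroup.one_mem _
  | succ k ih =>
    have e : g⁻¹ * φ (h ^ (k + 1)) g = (g⁻¹ * φ h g) * φ h (g⁻¹ * φ (h ^ k) g) := by
      rw [pow_succ', map_mul, MulAut.mul_apply, map_mul, map_inv]; group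
    rw [e]
    exact Subgroup.mul_mem _ hg (map_mem_of_characteristic φ _ h _ ih)

/-- The structure of a nonabelian critical group. -/
theorem nonabelian_case [Group.IsNilpotent P] (hH₁ : Nat.card H₁ = r)
    (hpow : ∀ h : H, h ≠ 1 → ∃ k : ℕ, h ^ k ∈ H₁ ∧ h ^ k ≠ 1)
    (hcomm : ∀ a b : H, a * b = b * a)
    (hcop : (Nat.card P).Coprime (Nat.card H)) (hcrit : IsCrit φ H₁)
    (hnab : ∃ a b : P, a * b ≠ b * a) :
    (∀ a b : P, ⁅a, b⁆ ∈ Subgroup.center P) ∧
    (∀ h ∈ H₁, ∀ z ∈ Subgroup.center P, φ h z = z) ∧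
    (∀ h, h ≠ 1 → ∀ g, g⁻¹ * φ h g ∈ Subgroup.center P → g ∈ Subgroup.center P) := by
  have := nontrivial_of_crit φ H₁ hcrit
  have hne : commutator P ≠ ⊤ := (Group.IsSolvable.commutator_lt_top_of_nontrivial P).ne
  have hZne : Subgroup.center P ≠ ⊤ := by
    intro htop
    obtain ⟨a, b, hab⟩ := hnab
    apply hab
    have : b ∈ Subgroup.center P := htop ▸ Subgroup.mem_top b
    exact (Subgroup.mem_center_iff.mp this) a
  have h2 : ∀ h ∈ H₁, ∀ z ∈ Subgroup.center P, φ h z = z :=
    hcrit.min _ hZne (fun h g hg => map_mem_of_characteristic φ _ h g hg)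
  refine ⟨?_, h2, ?_⟩
  · intro a b
    have hle := le_center_of_normal φ H₁ hcomm hcop hcrit (commutator P) hne
      (fun h g hg => map_mem_of_characteristic φ _ h g hg)
    apply hle
    rw [commutator_def]
    exact Subgroup.commutator_mem_commutator (Subgroup.mem_top a) (Subgroup.mem_top b)
  · intro h hh g hg
    obtain ⟨k, hk₁, hk1⟩ := hpow h hh
    have hgk := pow_mem_center φ h g hg k
    have hfix : φ (h ^ k) g = g := eq_of_fixed_comm φ hcop (h ^ k) g (h2 _ hk₁ _ hgk)
    exact fixed_mem_center φ H₁ hcomm hcop hcrit g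
      (fun h' hh' => fixed_of_ne_one φ H₁ hH₁ (h ^ k) hk₁ hk1 g hfix h' hh')

/-- An abelian critical group is acted on without nontrivial fixed points. -/
theorem abelian_case [Finite P] (hH₁ : Nat.card H₁ = r)
    (hpow : ∀ h : H, h ≠ 1 → ∃ k : ℕ, h ^ k ∈ H₁ ∧ h ^ k ≠ 1)
    (hcomm : ∀ a b : H, a * b = b * a)
    (hcop : (Nat.card P).Coprime (Nat.card H))
    (hcrit : IsCrit φ H₁) (hab : ∀ a b : P, a * b = b * a) :
    ∀ h, h ≠ 1 → ∀ g, φ h g = g → g = 1 := by
  -- first for nontrivial elements of `H₁`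
  have key : ∀ h ∈ H₁, h ≠ 1 → ∀ g, φ h g = g → g = 1 := by
    intro h hh₁ hh g hg
    let R : Subgroup P :=
      { carrier := {w | ∃ g, w = g⁻¹ * φ h g}
        mul_mem' := by
          rintro _ _ ⟨a, rfl⟩ ⟨b, rfl⟩
          refine ⟨a * b, ?_⟩
          rw [map_mul, mul_inv_rev, hab b⁻¹ a⁻¹, mul_assoc, mul_assoc, ← mul_assoc b⁻¹,
            hab b⁻¹ (φ h a), mul_assoc]
        one_mem' := ⟨1, by simp⟩
        inv_mem' := by
          rintro _ ⟨a, rfl⟩
          refine ⟨a⁻¹, ?_⟩
          rw [map_inv, mul_inv_rev, inv_inv, hab] }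
    have hpowR : ∀ (k : ℕ) (a : P), a⁻¹ * φ (h ^ k) a ∈ R := by
      intro k
      induction k with
      | zero =>
        intro a
        simp only [pow_zero, map_one, MulAut.one_apply, inv_mul_cancel]; exact R.one_mem
      | succ k ih =>
        intro a
        have : a⁻¹ * φ (h ^ (k + 1)) a =
            (a⁻¹ * φ (h ^ k) a) * ((φ (h ^ k) a)⁻¹ * φ h (φ (h ^ k) a)) := by
          rw [pow_succ', map_mul, MulAut.mul_apply]; group
        rw [this]
        exact R.mul_mem (ih a) ⟨_, rfl⟩
    have hsub : commSet φ H₁ ⊆ (R : Set P) := by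
      rintro _ ⟨h', hh', a, rfl⟩
      have hmem : (⟨h', hh'⟩ : ↥H₁) ∈ Submonoid.powers (⟨h, hh₁⟩ : ↥H₁) :=
        mem_powers_of_prime_card (p := r) hH₁ (fun e => hh (congrArg Subtype.val e))
      obtain ⟨k, hk⟩ := hmem
      have hk' : h ^ k = h' := by
        have := congrArg Subtype.val hk
        simpa using this
      rw [← hk']
      exact hpowR k a
    have hR : R = ⊤ := by
      rw [eq_top_iff, ← closure_commSet φ H₁ hcomm hcop hcrit]
      exact (Subgroup.closure_le _).mpr hsub
    have hsurj : Function.Surjective fun a : P => a⁻¹ * φ h a := by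
      intro w
      have : w ∈ R := hR ▸ Subgroup.mem_top w
      obtain ⟨a, rfl⟩ := this
      exact ⟨a, rfl⟩
    have hinj := Finite.injective_iff_surjective.mpr hsurj
    apply hinj
    simp only [hg, inv_mul_cancel, map_one, inv_one, mul_one]
  intro h hh g hg
  obtain ⟨k, hk₁, hk1⟩ := hpow h hh
  refine key (h ^ k) hk₁ hk1 g ?_
  have : ∀ j : ℕ, φ (h ^ j) g = g := by
    intro j
    induction j with
    | zero => simp
    | succ j ih => rw [pow_succ', map_mul, MulAut.mul_apply, ih, hg]
  exact this k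

end Cfsg.Agent.Lib.Helper2.CycCrit
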