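import Mathlib

/-!
# Cyclic `p`-groups and an order bound

* In a finite cyclic `p`-group the subgroups form a chain (`mem_zpowers_of_orderOf_le`,
  `le_zpowers_of_not_mem`).
* `order_bound`: if `p ^ n' = 2 ^ m + 1` and `p ^ n ∣ 2 ^ d - 1` with `d ≥ 1`, `n' ≤ n`, then
  `2 * m * p ^ (n - n') ≤ d` (lifting the exponent).
-/

set_option autoImplicit false

namespace Cfsg.Agent.Lib.Helper2.CycP

section Cyclic

variable {H : Type*} [Group H] [Finite H] [IsCyclic H] {p : ℕ} [hp : Fact p.Prime]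

/-- In a finite cyclic `p`-group, an element of smaller order lies in the cyclic subgroup
generated by an element of larger order. -/
theorem mem_zpowers_of_orderOf_le (hH : IsPGroup p H) (x y : H) (h : orderOf x ≤ orderOf y) :
    x ∈ Subgroup.zpowers y := by
  classical
  have := Fintype.ofFinite H
  obtain ⟨a, ha⟩ := IsPGroup.iff_orderOf.mp hH x
  obtain ⟨b, hb⟩ := IsPGroup.iff_orderOf.mp hH y
  have hab : a ≤ b := by
    rw [ha, hb] at h
    exact (Nat.pow_le_pow_iff_right hp.out.one_lt).mp h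
  set y' := y ^ p ^ (b - a) with hy'
  have hy'o : orderOf y' = p ^ a := by
    rw [hy', orderOf_pow_of_dvd (pow_ne_zero _ hp.out.ne_zero), hb, ← Nat.pow_sub_mul_pow p hab,
      Nat.mul_div_cancel_left _ (pow_pos hp.out.pos _)]
    rw [hb]
    exact pow_dvd_pow p (Nat.sub_le b a)
  have hpos : 0 < p ^ a := pow_pos hp.out.pos _
  have hcard := IsCyclic.card_pow_eq_one_le (α := H) hpos
  -- the subgroup generated by `y'` fills the set of solutions of `h ^ (p ^ a) = 1`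
  have hsub : (Subgroup.zpowers y' : Set H).toFinset ⊆
      Finset.univ.filter fun h : H => h ^ p ^ a = 1 := by
    intro h hh
    rw [Set.mem_toFinset, SetLike.mem_coe] at hh
    rw [Finset.mem_filter]
    refine ⟨Finset.mem_univ _, ?_⟩
    obtain ⟨k, rfl⟩ := Subgroup.mem_zpowers_iff.mp hh
    rw [← zpow_natCast, ← zpow_mul, mul_comm, zpow_mul, zpow_natCast, ← hy'o, pow_orderOf_eq_one,
      one_zpow]
  have hc1 : ((Subgroup.zpowers y' : Set H).toFinset).card = p ^ a := by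
    rw [Set.toFinset_card, ← Nat.card_eq_fintype_card]
    exact (Nat.card_zpowers y').trans hy'o
  have heq := Finset.eq_of_subset_of_card_le hsub (by rw [hc1]; exact hcard)
  have hx : x ∈ Finset.univ.filter fun h : H => h ^ p ^ a = 1 := by
    rw [Finset.mem_filter]
    exact ⟨Finset.mem_univ _, by rw [← ha, pow_orderOf_eq_one]⟩
  rw [← heq, Set.mem_toFinset, SetLike.mem_coe] at hx
  exact (Subgroup.zpowers_le.mpr (Subgroup.pow_mem _ (Subgroup.mem_zpowers y) _)) hx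

/-- In a finite cyclic `p`-group, a subgroup not containing `y` lies in `⟨y⟩`. -/
theorem le_zpowers_of_not_mem (hH : IsPGroup p H) (B : Subgroup H) (y : H) (hy : y ∉ B) :
    B ≤ Subgroup.zpowers y := by
  obtain ⟨x, hx⟩ := (Subgroup.isCyclic_iff_exists_zpowers_eq_top (B)).mp inferInstance
  rw [← hx] at hy ⊢
  rcases le_total (orderOf x) (orderOf y) with h | h
  · exact Subgroup.zpowers_le.mpr (mem_zpowers_of_orderOf_le hH x y h)
  · exact absurd (mem_zpowers_of_orderOf_le hH y x h) hy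

omit [Finite H] [IsCyclic H] in
/-- A nontrivial element of a `p`-group has a power of order `p`. -/
theorem exists_pow_orderOf_eq (hH : IsPGroup p H) (h : H) (hh : h ≠ 1) :
    ∃ k : ℕ, orderOf (h ^ k) = p := by
  obtain ⟨a, ha⟩ := IsPGroup.iff_orderOf.mp hH h
  have ha0 : a ≠ 0 := by
    rintro rfl
    rw [pow_zero, orderOf_eq_one_iff] at ha
    exact hh ha
  refine ⟨p ^ (a - 1), ?_⟩
  rw [orderOf_pow_of_dvd (pow_ne_zero _ hp.out.ne_zero), ha]
  · have : p ^ a = p ^ (a - 1) * p := by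
      rw [← pow_succ]; congr 1; omega
    rw [this, Nat.mul_div_cancel_left _ (pow_pos hp.out.pos _)]
  · rw [ha]; exact pow_dvd_pow p (Nat.sub_le a 1)

end Cyclic

section Arith

/-- If `2 ^ m + 1` divides `2 ^ s - 1` with `s < 2 * m`, then `s = 0`. -/
theorem eq_zero_of_dvd {m s : ℕ} (hs : s < 2 * m) (hdvd : 2 ^ m + 1 ∣ 2 ^ s - 1) : s = 0 := by
  by_contra hs0
  have hspos : 0 < s := Nat.pos_of_ne_zero hs0
  rcases le_or_gt s m with hsm | hsm
  · -- `0 < 2 ^ s - 1 < 2 ^ m + 1`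
    have h1 : 2 ^ s ≤ 2 ^ m := Nat.pow_le_pow_right (by norm_num) hsm
    have h2 : 2 ≤ 2 ^ s := by
      calc 2 = 2 ^ 1 := by norm_num
        _ ≤ 2 ^ s := Nat.pow_le_pow_right (by norm_num) hspos
    have h3 := Nat.le_of_dvd (by omega) hdvd
    omega
  · -- `s = m + e` with `0 < e < m`
    obtain ⟨e, rfl⟩ : ∃ e, s = m + e := ⟨s - m, by omega⟩
    have he : 0 < e := by omega
    have hem : e < m := by omega
    have h1 : ((2 : ℤ) ^ m + 1) ∣ 2 ^ (m + e) - 1 := by
      have := Int.natCast_dvd_natCast.mpr hdvd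
      rw [Nat.cast_sub (Nat.one_le_two_pow)] at this
      push_cast at this
      exact this
    have h2 : ((2 : ℤ) ^ m + 1) ∣ 2 ^ e + 1 := by
      have h3 : (2 : ℤ) ^ e + 1 = 2 ^ e * (2 ^ m + 1) - (2 ^ (m + e) - 1) := by
        rw [pow_add]; ring
      rw [h3]
      exact dvd_sub (Dvd.intro_left _ rfl) h1
    have h4 : (2 : ℤ) ^ m + 1 ≤ 2 ^ e + 1 := Int.le_of_dvd (by positivity) h2
    have h5 : (2 : ℤ) ^ e < 2 ^ m := by
      exact_mod_cast Nat.pow_lt_pow_right (by norm_num : 1 < 2) hem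
    omega

/-- **The order bound.** -/
theorem order_bound {p m n' n d : ℕ} (hp : p.Prime) (hp2 : p ≠ 2) (hm : 1 ≤ m)
    (hB : p ^ n' = 2 ^ m + 1) (hn : n' ≤ n) (hd : 1 ≤ d) (hdvd : p ^ n ∣ 2 ^ d - 1) :
    2 * m * p ^ (n - n') ≤ d := by
  have hpf : Fact p.Prime := ⟨hp⟩
  have hodd : Odd p := hp.odd_of_ne_two hp2
  have hn'0 : n' ≠ 0 := by
    rintro rfl
    rw [pow_zero] at hB
    have : 0 < 2 ^ m := by positivity
    omega
  -- Step 1: `2 * m ∣ d`
  have hdvd' : 2 ^ m + 1 ∣ 2 ^ d - 1 := by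
    rw [← hB]
    exact (pow_dvd_pow p hn).trans hdvd
  have h2m : 2 ^ m + 1 ∣ 2 ^ (2 * m) - 1 := by
    have : 2 ^ (2 * m) - 1 = (2 ^ m - 1) * (2 ^ m + 1) := by
      have h1 : 1 ≤ 2 ^ m := Nat.one_le_two_pow
      zify [h1, Nat.one_le_two_pow (n := 2 * m)]
      ring
    rw [this]
    exact Dvd.intro_left _ rfl
  set t := d / (2 * m) with ht
  set s := d % (2 * m) with hs
  have hdts : d = 2 * m * t + s := (Nat.div_add_mod d (2 * m)).symm
  have hslt : s < 2 * m := Nat.mod_lt _ (by omega)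
  have hs0 : s = 0 := by
    apply eq_zero_of_dvd hslt
    -- `2 ^ d - 1 = 2 ^ s * (2 ^ (2 m t) - 1) + (2 ^ s - 1)`
    have h1 : ((2 : ℤ) ^ m + 1) ∣ 2 ^ d - 1 := by
      have := Int.natCast_dvd_natCast.mpr hdvd'
      rw [Nat.cast_sub (Nat.one_le_two_pow)] at this
      push_cast at this
      exact this
    have h2 : ((2 : ℤ) ^ m + 1) ∣ (2 ^ (2 * m)) ^ t - 1 := by
      have h3 : ((2 : ℤ) ^ m + 1) ∣ 2 ^ (2 * m) - 1 := by
        have := Int.natCast_dvd_natCast.mpr h2m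
        rw [Nat.cast_sub (Nat.one_le_two_pow)] at this
        push_cast at this
        exact this
      have h4 : ((2 : ℤ) ^ (2 * m) - 1) ∣ (2 ^ (2 * m)) ^ t - 1 := by
        have := sub_dvd_pow_sub_pow ((2 : ℤ) ^ (2 * m)) 1 t
        rwa [one_pow] at this
      exact h3.trans h4
    have h5 : ((2 : ℤ) ^ m + 1) ∣ 2 ^ s - 1 := by
      have h6 : (2 : ℤ) ^ s - 1 = (2 ^ d - 1) - 2 ^ s * ((2 ^ (2 * m)) ^ t - 1) := by
        rw [hdts, pow_add, pow_mul]; ring
      rw [h6]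
      exact dvd_sub h1 (Dvd.dvd.mul_left h2 _)
    have h7 : (((2 ^ m + 1 : ℕ)) : ℤ) ∣ ((2 ^ s - 1 : ℕ) : ℤ) := by
      rw [Nat.cast_sub (Nat.one_le_two_pow)]
      push_cast
      exact h5
    exact Int.natCast_dvd_natCast.mp h7
  rw [hs0, add_zero] at hdts
  have ht0 : t ≠ 0 := by
    rintro h0
    rw [h0, mul_zero] at hdts
    omega
  -- Step 2: lifting the exponent
  set x := 2 ^ (2 * m) with hx
  have hx1 : 1 < x := by
    rw [hx]
    exact Nat.one_lt_two_pow (by omega)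
  have hxsub : x - 1 = (2 ^ m - 1) * p ^ n' := by
    rw [hB, hx]
    have h1 : 1 ≤ 2 ^ m := Nat.one_le_two_pow
    zify [h1, Nat.one_le_two_pow (n := 2 * m)]
    ring
  have hpx1 : p ∣ x - 1 := by
    rw [hxsub]
    exact Dvd.dvd.mul_left (dvd_pow_self p hn'0) _
  have hpx : ¬ p ∣ x := by
    intro h
    have h2 : p ∣ 2 := hp.dvd_of_dvd_pow (hx ▸ h)
    exact hp2 ((Nat.prime_dvd_prime_iff_eq hp Nat.prime_two).mp h2)
  have hnd : ¬ p ∣ 2 ^ m - 1 := by
    intro h
    -- `p ∣ p ^ n' = 2 ^ m + 1`, so `p ∣ 2`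
    have h1 : p ∣ 2 ^ m + 1 := hB ▸ dvd_pow_self p hn'0
    have h2 : 1 ≤ 2 ^ m := Nat.one_le_two_pow
    have h3 : p ∣ (2 ^ m + 1) - (2 ^ m - 1) := Nat.dvd_sub h1 h
    have h4 : (2 ^ m + 1) - (2 ^ m - 1) = 2 := by omega
    rw [h4] at h3
    exact hp2 ((Nat.prime_dvd_prime_iff_eq hp Nat.prime_two).mp h3)
  have hval1 : padicValNat p (x - 1) = n' := by
    rw [hxsub, padicValNat.mul (by
      have : 2 ≤ 2 ^ m := by
        calc 2 = 2 ^ 1 := by norm_num
          _ ≤ 2 ^ m := Nat.pow_le_pow_right (by norm_num) hm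
      omega) (pow_ne_zero _ hp.ne_zero), padicValNat.prime_pow,
      padicValNat.eq_zero_of_not_dvd hnd, zero_add]
  have hlte := padicValNat.pow_sub_pow hodd (x := x) (y := 1) hx1 hpx1 hpx ht0
  rw [one_pow, hval1] at hlte
  have hxt : 2 ^ d - 1 = x ^ t - 1 := by
    rw [hdts, hx, pow_mul]
  rw [hxt] at hdvd
  have hne : x ^ t - 1 ≠ 0 := by
    have : 1 < x ^ t := Nat.one_lt_pow ht0 hx1
    omega
  have hle : n ≤ n' + padicValNat p t := by
    rw [← hlte]
    exact (padicValNat_dvd_iff_le hne).mp hdvd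
  have hpt : p ^ (n - n') ∣ t := by
    have h1 : n - n' ≤ padicValNat p t := by omega
    exact (pow_dvd_pow p h1).trans pow_padicValNat_dvd
  have hle2 : p ^ (n - n') ≤ t := Nat.le_of_dvd (Nat.pos_of_ne_zero ht0) hpt
  calc 2 * m * p ^ (n - n') ≤ 2 * m * t := Nat.mul_le_mul_left _ hle2
    _ = d := hdts.symm

end Arith

end Cfsg.Agent.Lib.Helper2.CycP
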