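import Mathlib
import Cfsg.Agent.Lib.Helper2.ShultB
import Cfsg.Agent.Lib.Helper2.CycP

/-!
# Stable simple subspaces under a cyclic `p`-group of operators

`H` is a finite cyclic `p`-group acting on the group `P`, and the semidirect product acts on the
nonzero finite-dimensional space `V` over an algebraically closed field, `H` without nonzero
fixed vectors.  Then there are a subgroup `B ≤ H` and a simple `P`-invariant subspace `U` which
is `B`-stable and on which `B` has no nonzero fixed vector (`exists_stable_simple`).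
-/

set_option autoImplicit false

namespace Cfsg.Agent.Lib.Helper2.StableSimple

open scoped BigOperators
open Module Cfsg.Agent.Lib.Helper2.FreeAssembly Cfsg.Agent.Lib.Helper2.ShultB

variable {K : Type*} [Field K] [IsAlgClosed K] {P : Type*} [Group P] {H : Type*} [Group H]
  [Finite H] {V : Type*} [AddCommGroup V] [Module K V] [FiniteDimensional K V]

omit [Finite H] in
/-- If two translates of a simple invariant subspace are isomorphic, there is a simple invariant
subspace stable under the quotient of the two translating elements. -/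
theorem stable_of_iso (φ : H →* MulAut P) (ρ : Representation K P V) (τ : Representation K H V)
    (hcompat : ∀ (h : H) (g : P) (v : V), τ h (ρ g v) = ρ (φ h g) (τ h v))
    (U : Submodule K V) (hU0 : U ≠ ⊥) (hUinv : ∀ g, U ≤ U.comap (ρ g))
    (hUs : ∀ W : Submodule K V, W ≤ U → (∀ g, W ≤ W.comap (ρ g)) → W = ⊥ ∨ W = U)
    (i j : H) (hinvi : ∀ g, U.map (τ i) ≤ (U.map (τ i)).comap (ρ g))
    (e : ↥(U.map (τ i)) ≃ₗ[K] ↥(U.map (τ j)))
    (he : ∀ (g : P) (u : ↥(U.map (τ i))), (e ⟨ρ g u, hinvi g u.2⟩ : V) = ρ g (e u)) :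
    ∃ U₂ : Submodule K V, U₂ ≠ ⊥ ∧ (∀ g, U₂ ≤ U₂.comap (ρ g)) ∧
      (∀ W : Submodule K V, W ≤ U₂ → (∀ g, W ≤ W.comap (ρ g)) → W = ⊥ ∨ W = U₂) ∧
      ∀ w ∈ U₂, τ (j⁻¹ * i)⁻¹ w ∈ U₂ := by
  classical
  set ρU := ρ.subrepresentation U hUinv with hρU
  have hρUval : ∀ g (u : ↥U), ((ρU g u : ↥U) : V) = ρ g u := fun g u => rfl
  have hirrU := hirr_of_simple ρ U hUinv hUs
  let y : H := j⁻¹ * i
  let A : ↥U →ₗ[K] ↥(U.map (τ i)) := (τ i).submoduleMap U
  let B : ↥(U.map (τ j)) →ₗ[K] ↥U := LinearMap.codRestrict U ((τ j⁻¹).comp (U.map (τ j)).subtype) (by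
    rintro ⟨_, u, hu, rfl⟩
    show τ j⁻¹ (τ j u) ∈ U
    rw [tau_inv_apply]; exact hu)
  let S : ↥U →ₗ[K] ↥U := B.comp (e.toLinearMap.comp A)
  have hSval : ∀ u : ↥U, ((S u : ↥U) : V) = τ j⁻¹ (e (A u) : V) := fun u => rfl
  have hAval : ∀ u : ↥U, ((A u : ↥(U.map (τ i))) : V) = τ i u := fun u => rfl
  have hSinj : Function.Injective S := by
    intro u u' h
    have h1 : (e (A u) : V) = e (A u') := by
      have := congrArg (fun w : ↥U => τ j (w : V)) h
      simp only [hSval, tau_apply_inv] at this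
      exact this
    have h2 : A u = A u' := e.injective (Subtype.ext h1)
    have h3 : τ i u = τ i u' := by rw [← hAval, ← hAval, h2]
    have := congrArg (τ i⁻¹) h3
    rw [tau_inv_apply, tau_inv_apply] at this
    exact Subtype.ext this
  have hSsurj : Function.Surjective S := LinearMap.surjective_of_injective hSinj
  have hStw : ∀ g (u : ↥U), S (ρU g u) = ρU (φ y g) (S u) := by
    intro g u
    apply Subtype.ext
    rw [hSval, hρUval, hSval]
    have h1 : A (ρU g u) = ⟨ρ (φ i g) (A u : V), hinvi _ (A u).2⟩ :=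
      Subtype.ext (hcompat i g u)
    have h2 := he (φ i g) (A u)
    rw [h1, h2, hcompat, ← MulAut.mul_apply, ← map_mul]
  let 𝓗 : Submodule K (↥U →ₗ[K] V) :=
    { carrier := {f | ∀ g u, f (ρU g u) = ρ g (f u)}
      add_mem' := by
        intro a b ha hb g u
        rw [LinearMap.add_apply, ha, hb, LinearMap.add_apply, map_add]
      zero_mem' := by intro g u; simp
      smul_mem' := by
        intro c a ha g u
        rw [LinearMap.smul_apply, ha, LinearMap.smul_apply, map_smul] }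
  let Θ₀ : (↥U →ₗ[K] V) →ₗ[K] (↥U →ₗ[K] V) :=
    { toFun := fun f => (τ y⁻¹).comp (f.comp S)
      map_add' := by intro a b; ext u; simp
      map_smul' := by intro c a; ext u; simp }
  have hΘ : ∀ f ∈ 𝓗, Θ₀ f ∈ 𝓗 := by
    intro f hf g u
    show τ y⁻¹ (f (S (ρU g u))) = ρ g (τ y⁻¹ (f (S u)))
    rw [hStw, hf, hcompat, ← MulAut.mul_apply, ← map_mul, inv_mul_cancel, map_one]; rfl
  let Θ : Module.End K ↥𝓗 := Θ₀.restrict hΘ
  have hne : Nontrivial ↥𝓗 := by
    refine ⟨⟨⟨U.subtype, fun g u => rfl⟩, 0, ?_⟩⟩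
    intro h
    obtain ⟨u, huU, hu0⟩ := Submodule.exists_mem_ne_zero_of_ne_bot hU0
    have := congrArg (fun f : ↥𝓗 => (f : ↥U →ₗ[K] V) ⟨u, huU⟩) h
    exact hu0 this
  obtain ⟨μ, hμ⟩ := Module.End.exists_eigenvalue Θ
  obtain ⟨F, hF⟩ := hμ.exists_hasEigenvector
  have hF0 : (F : ↥U →ₗ[K] V) ≠ 0 := fun h => hF.2 (Subtype.ext h)
  have hFeq : ∀ u, τ y⁻¹ ((F : ↥U →ₗ[K] V) (S u)) = μ • (F : ↥U →ₗ[K] V) u := by
    intro u
    have h1 := hF.apply_eq_smul
    have h2 := congrArg (fun f : ↥𝓗 => (f : ↥U →ₗ[K] V) u) h1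
    exact h2
  have hsr := simple_range (fun g => (ρU g : ↥U →ₗ[K] ↥U)) (fun g => (ρ g : V →ₗ[K] V)) hirrU
    id Function.surjective_id (F : ↥U →ₗ[K] V) (fun g u => F.2 g u)
  refine ⟨LinearMap.range (F : ↥U →ₗ[K] V), ?_, hsr.1, hsr.2, ?_⟩
  · intro h
    exact hF0 (LinearMap.range_eq_bot.mp h)
  · rintro _ ⟨u, rfl⟩
    obtain ⟨u', rfl⟩ := hSsurj u
    rw [hFeq]
    exact Submodule.smul_mem _ _ ⟨u', rfl⟩

variable [IsCyclic H] {p : ℕ} [hp : Fact p.Prime]

/-- **Stable simple subspaces.** -/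
theorem exists_stable_simple [Nontrivial V] (hH : IsPGroup p H) (φ : H →* MulAut P)
    (ρ : Representation K P V) (τ : Representation K H V)
    (hcompat : ∀ (h : H) (g : P) (v : V), τ h (ρ g v) = ρ (φ h g) (τ h v))
    (hfix : ∀ v : V, (∀ h, τ h v = v) → v = 0) :
    ∃ (B : Subgroup H) (U : Submodule K V), U ≠ ⊥ ∧ (∀ g, U ≤ U.comap (ρ g)) ∧
      (∀ W : Submodule K V, W ≤ U → (∀ g, W ≤ W.comap (ρ g)) → W = ⊥ ∨ W = U) ∧
      (∀ h ∈ B, U ≤ U.comap (τ h)) ∧
      (∀ u ∈ U, (∀ h ∈ B, τ h u = u) → u = 0) := by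
  classical
  let 𝔅 : Set (Subgroup H) := {B | ∃ U : Submodule K V, U ≠ ⊥ ∧ (∀ g, U ≤ U.comap (ρ g)) ∧
      (∀ W : Submodule K V, W ≤ U → (∀ g, W ≤ W.comap (ρ g)) → W = ⊥ ∨ W = U) ∧
      (∀ h ∈ B, U ≤ U.comap (τ h))}
  have hne : 𝔅.Nonempty := by
    obtain ⟨U, hU0, hUinv, hUs⟩ := exists_simple (fun g => (ρ g : V →ₗ[K] V))
    refine ⟨⊥, U, hU0, hUinv, hUs, ?_⟩
    intro h hh
    rw [Subgroup.mem_bot] at hh
    subst hh
    rw [map_one]
    exact le_rfl
  obtain ⟨B, hB𝔅, hBmax⟩ := (wellFounded_gt (α := Subgroup H)).has_min 𝔅 hne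
  obtain ⟨U, hU0, hUinv, hUs, hUB⟩ := hB𝔅
  refine ⟨B, U, hU0, hUinv, hUs, hUB, ?_⟩
  have := Fintype.ofFinite (H ⧸ B)
  set ρU := ρ.subrepresentation U hUinv with hρU
  have hirrU := hirr_of_simple ρ U hUinv hUs
  let Uc : H ⧸ B → Submodule K V := fun c => U.map (τ c.out)
  have hrange : ∀ h : H, LinearMap.range ((τ h).comp U.subtype) = U.map (τ h) := by
    intro h; rw [LinearMap.range_comp, Submodule.range_subtype]
  have hfam : ∀ h : H, (∀ g, U.map (τ h) ≤ (U.map (τ h)).comap (ρ g)) ∧ ∀ W, W ≤ U.map (τ h) →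
      (∀ g, W ≤ W.comap (ρ g)) → W = ⊥ ∨ W = U.map (τ h) := by
    intro h
    have := simple_range (fun g => (ρU g : ↥U →ₗ[K] ↥U)) (fun g => (ρ g : V →ₗ[K] V)) hirrU
      (fun g => φ h g) (φ h).surjective ((τ h).comp U.subtype)
      (by intro g u; exact hcompat h g u)
    rw [hrange h] at this
    exact this
  rcases IndepSimple.indep_or_iso (fun g => (ρ g : V →ₗ[K] V)) Uc (fun c => (hfam c.out).1)
    (fun c => (hfam c.out).2) with hind | ⟨i, j, hij, e, he⟩
  · -- independent translates: a `B`-fixed vector gives an `H`-fixed vector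
    intro u huU hu
    have hkey : ∀ (h' : H) (c : H ⧸ B), τ (h' * c.out) u = τ ((h' • c : H ⧸ B).out) u := by
      intro h' c
      have hb : ((h' • c : H ⧸ B).out)⁻¹ * (h' * c.out) ∈ B := by
        rw [← QuotientGroup.eq]
        rw [QuotientGroup.out_eq']
        show h' • c = ((h' * c.out : H) : H ⧸ B)
        conv_lhs => rw [← QuotientGroup.out_eq' c]
        rfl
      have e1 : h' * c.out = (h' • c : H ⧸ B).out * (((h' • c : H ⧸ B).out)⁻¹ * (h' * c.out)) := by
        group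
      rw [e1, map_mul, Module.End.mul_apply, hu _ hb]
    have hfixed : ∀ h', τ h' (∑ c : H ⧸ B, τ c.out u) = ∑ c : H ⧸ B, τ c.out u := by
      intro h'
      rw [map_sum]
      have : ∀ c : H ⧸ B, τ h' (τ c.out u) = τ ((h' • c : H ⧸ B).out) u := by
        intro c
        rw [← Module.End.mul_apply, ← map_mul]
        exact hkey h' c
      simp_rw [this]
      exact Fintype.sum_equiv (MulAction.toPerm h') _ _ (fun c => rfl)
    have hsum := hfix _ hfixed
    rw [iSupIndep_iff_sum_eq_zero] at hind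
    have h1 := hind (fun c => τ c.out u) (fun c => Submodule.mem_map_of_mem huU) hsum
      ((1 : H) : H ⧸ B)
    have h2 := congrArg (τ (((1 : H) : H ⧸ B).out)⁻¹) h1
    rw [tau_inv_apply, map_zero] at h2
    exact h2
  · -- two translates are isomorphic: a larger subgroup works
    exfalso
    obtain ⟨U₂, hU₂0, hU₂inv, hU₂s, hU₂y⟩ := stable_of_iso φ ρ τ hcompat U hU0 hUinv hUs i.out j.out
      (hfam i.out).1 e he
    set y : H := j.out⁻¹ * i.out with hy
    have hyB : y ∉ B := by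
      intro hmem
      apply hij
      have h1 : ((j.out : H) : H ⧸ B) = ((i.out : H) : H ⧸ B) := QuotientGroup.eq.mpr hmem
      rw [QuotientGroup.out_eq', QuotientGroup.out_eq'] at h1
      exact h1.symm
    have hBle : B ≤ Subgroup.zpowers y := CycP.le_zpowers_of_not_mem hH B y hyB
    have hlt : B < Subgroup.zpowers y := by
      refine lt_of_le_of_ne hBle ?_
      intro heq
      exact hyB (heq ▸ Subgroup.mem_zpowers y)
    apply hBmax (Subgroup.zpowers y) ?_ hlt
    refine ⟨U₂, hU₂0, hU₂inv, hU₂s, ?_⟩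
    have hpow : ∀ (k : ℕ), ∀ w ∈ U₂, τ (y⁻¹ ^ k) w ∈ U₂ := by
      intro k
      induction k with
      | zero => intro w hw; simpa using hw
      | succ k ih => intro w hw; rw [pow_succ', map_mul]; exact hU₂y _ (ih w hw)
    intro h hh w hw
    have h1 : h ∈ Subgroup.zpowers y⁻¹ := by rwa [Subgroup.zpowers_inv]
    rw [← mem_powers_iff_mem_zpowers] at h1
    obtain ⟨k, rfl⟩ := h1
    exact hpow k w hw

end Cfsg.Agent.Lib.Helper2.StableSimple
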