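import Mathlib
import Cfsg.Agent.Lib.Helper2.StableSimple
import Cfsg.Agent.Lib.Helper2.Critical

/-!
# The class two case for a cyclic `p`-group of operators, algebraically closed field

`P` is a finite nilpotent group with `P' ≤ Z(P)`, acted on by the cyclic `p`-group `H` such that
every nontrivial element of `H` acts without fixed points on `P / Z(P)`.  If the semidirect
product acts on `V` so that neither `H` nor `P'` has a nonzero fixed vector, then there are a
nontrivial subgroup `B ≤ H` and a `B`-invariant normal subgroup `S ⊇ Z(P)` of index `(|B| - 1)²`,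
which is the "radical" of the commutator pairing modulo a subgroup `Z₀ ≤ Z(P)` on whose cosets in
`Z(P)` the group `B` acts trivially.
-/

set_option autoImplicit false

namespace Cfsg.Agent.Lib.Helper2.CycShultAC

open scoped BigOperators commutatorElement
open Module Cfsg.Agent.Lib.Helper2.FreeAssembly Cfsg.Agent.Lib.Helper2.ShultCore
  Cfsg.Agent.Lib.Helper2.ShultB

universe uK uP uH uV

variable {K : Type uK} [Field K] [IsAlgClosed K] {P : Type uP} [Group P] [Finite P]
  [Group.IsNilpotent P] {H : Type uH} [Group H] [Finite H] [IsCyclic H] {V : Type uV}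
  [AddCommGroup V] [Module K V] [FiniteDimensional K V] [Nontrivial V]
  {p : ℕ} [hp : Fact p.Prime]

set_option maxHeartbeats 800000 in
theorem main (hH : IsPGroup p H) (φ : H →* MulAut P) (ρ : Representation K P V)
    (τ : Representation K H V)
    (hcompat : ∀ (h : H) (g : P) (v : V), τ h (ρ g v) = ρ (φ h g) (τ h v))
    (h1 : ∀ a b : P, ⁅a, b⁆ ∈ Subgroup.center P)
    (h3 : ∀ h, h ≠ 1 → ∀ g, g⁻¹ * φ h g ∈ Subgroup.center P → g ∈ Subgroup.center P)
    (hc : ∀ v : V, (∀ c ∈ commutator P, ρ c v = v) → v = 0)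
    (hPK : (Nat.card P : K) ≠ 0) (hpK : (p : K) ≠ 0)
    (hfix : ∀ v : V, (∀ h, τ h v = v) → v = 0) :
    ∃ (B : Subgroup H) (S Z₀ : Subgroup P), B ≠ ⊥ ∧ S.Normal ∧ Subgroup.center P ≤ S ∧
      Z₀ ≤ Subgroup.center P ∧ (∀ b ∈ B, ∀ w ∈ Subgroup.center P, w⁻¹ * φ b w ∈ Z₀) ∧
      (∀ g, g ∈ S ↔ ∀ y, ⁅g, y⁆ ∈ Z₀) ∧ (∀ b ∈ B, ∀ g ∈ S, φ b g ∈ S) ∧
      ∃ u : ℕ, 2 ≤ u ∧ u + 1 = Nat.card B ∧ Nat.card S * u ^ 2 = Nat.card P := by
  classical
  obtain ⟨B, U, hU0, hUinv, hUs, hUB, hUfix⟩ :=
    StableSimple.exists_stable_simple hH φ ρ τ hcompat hfix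
  have hB0 : B ≠ ⊥ := by
    rintro rfl
    obtain ⟨u, huU, hu0⟩ := Submodule.exists_mem_ne_zero_of_ne_bot hU0
    apply hu0
    apply hUfix u huU
    intro h hh
    rw [Subgroup.mem_bot] at hh
    subst hh
    rw [map_one]; rfl
  set ρ' := ρ.subrepresentation U hUinv with hρ'
  let τB : Representation K ↥B V := τ.comp B.subtype
  have hUτB : ∀ h : ↥B, U ≤ U.comap (τB h) := fun h => hUB h h.2
  set τ' := τB.subrepresentation U hUτB with hτ'
  let φB : ↥B →* MulAut P := φ.comp B.subtype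
  have hρ'val : ∀ g (u : ↥U), ((ρ' g u : ↥U) : V) = ρ g u := fun g u => rfl
  have hτ'val : ∀ (h : ↥B) (u : ↥U), ((τ' h u : ↥U) : V) = τ h u := fun h u => rfl
  have hirr := hirr_of_simple ρ U hUinv hUs
  have hnt : Nontrivial ↥U := Submodule.nontrivial_iff_ne_bot.mpr hU0
  -- a generator of `B`
  obtain ⟨x, hx⟩ := IsCyclic.exists_generator (α := ↥B)
  -- the centre acts by scalars
  have hZ : Subgroup.center P ≤ scalarKer ρ' := by
    intro z hz
    rw [mem_scalarKer_iff ρ' hirr]
    refine schur ρ' hirr (ρ' z) fun g => ?_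
    have e1 : ρ' g ∘ₗ ρ' z = ρ' (g * z) := by rw [map_mul]; rfl
    have e2 : ρ' z ∘ₗ ρ' g = ρ' (z * g) := by rw [map_mul]; rfl
    rw [e1, e2, (Subgroup.mem_center_iff.mp hz) g]
  have hfix' : ∀ u : ↥U, τ' x u = u → u = 0 := by
    intro u hu
    apply Subtype.ext
    apply hUfix u u.2
    let St : Subgroup ↥B :=
      { carrier := {h | τ h (u : V) = u}
        mul_mem' := fun {a b} ha hb => by
          show τ ((a * b : ↥B) : H) (u : V) = u
          rw [Subgroup.coe_mul, map_mul, Module.End.mul_apply, hb, ha]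
        one_mem' := by show τ ((1 : ↥B) : H) (u : V) = u; rw [Subgroup.coe_one, map_one]; rfl
        inv_mem' := fun {a} ha => by
          show τ ((a⁻¹ : ↥B) : H) (u : V) = u
          rw [Subgroup.coe_inv]
          conv_lhs => rw [← ha]
          exact tau_inv_apply τ a _ }
    have hxS : x ∈ St := by
      show τ x (u : V) = u
      rw [← hτ'val, hu]
    intro h hh
    exact (Subgroup.zpowers_le.mpr hxS) (hx ⟨h, hh⟩)
  have hBK : (Nat.card ↥B : K) ≠ 0 := by
    obtain ⟨a, ha⟩ := IsPGroup.iff_card.mp (hH.to_subgroup B)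
    rw [ha, Nat.cast_pow]
    exact pow_ne_zero _ hpK
  have hcenter_inv : ∀ (h : H), ∀ g ∈ Subgroup.center P, φ h g ∈ Subgroup.center P :=
    fun h g hg => Cfsg.Agent.Lib.Helper2.Critical.map_mem_of_characteristic φ _ h g hg
  have hmain := ShultCore.main φB ρ' τ' (fun h g u => Subtype.ext (hcompat h g u)) hirr
    (Subgroup.center P) hZ (fun h g hg => hcenter_inv h g hg)
    (fun h hh g hg => h3 h (fun e => hh (Subtype.ext e)) g hg) x hx hPK hBK hfix'
  have hab : ∀ g h : P, ⁅g, h⁆ ∈ scalarKer ρ' := fun g h => hZ (h1 g h)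
  have hcard := IrrSpan.card_quotient_scalarKer ρ' hirr hab
  have hker : ∀ g : P, g ∈ MonoidHom.ker ρ' ↔ ρ' g = 1 := fun g => MonoidHom.mem_ker
  -- the dimension is not one
  have hdim1 : finrank K ↥U ≠ 1 := by
    intro h
    have hcommAll : ∀ a b : P, ρ' a * ρ' b = ρ' b * ρ' a := by
      intro a b
      obtain ⟨v₀, hv₀, hspan⟩ := finrank_eq_one_iff'.mp h
      obtain ⟨ca, hca⟩ := hspan (ρ' a v₀)
      obtain ⟨cb, hcb⟩ := hspan (ρ' b v₀)
      ext w
      obtain ⟨cw, rfl⟩ := hspan w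
      simp only [Module.End.mul_apply, map_smul, ← hca, ← hcb, smul_smul, mul_comm]
    have hle : commutator P ≤ MonoidHom.ker ρ' := by
      rw [commutator_def, Subgroup.commutator_le]
      intro a _ b _
      rw [hker, commutatorElement_def, map_mul, map_mul, map_mul, hcommAll a b,
        mul_assoc (ρ' b), ← map_mul, mul_inv_cancel, map_one, mul_one, ← map_mul,
        mul_inv_cancel, map_one]
    obtain ⟨u, huU, hu0⟩ := Submodule.exists_mem_ne_zero_of_ne_bot hU0
    apply hu0
    apply hc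
    intro c hcP
    have h2 := (hker c).mp (hle hcP)
    have h3' := congrArg (fun f : Module.End K ↥U => ((f ⟨u, huU⟩ : ↥U) : V)) h2
    exact h3'
  have hdim : finrank K ↥U + 1 = Nat.card ↥B := hmain.resolve_left hdim1
  refine ⟨B, scalarKer ρ', Subgroup.center P ⊓ MonoidHom.ker ρ', hB0, inferInstance, hZ,
    inf_le_left, ?_, ?_, ?_, finrank K ↥U, ?_, hdim, ?_⟩
  · -- `B` acts trivially on the centre modulo the kernel
    intro b hb w hw
    refine ⟨Subgroup.mul_mem _ (Subgroup.inv_mem _ hw) (hcenter_inv b w hw), ?_⟩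
    show w⁻¹ * φ b w ∈ MonoidHom.ker ρ'
    rw [hker, map_mul]
    obtain ⟨cw, hcw⟩ := (mem_scalarKer_iff ρ' hirr w).mp (hZ hw)
    have h5 : ρ' (φ b w) = ρ' w := by
      ext u
      have h6 := hcompat b w (τ b⁻¹ (u : V))
      rw [tau_apply_inv] at h6
      rw [hρ'val, ← h6, hρ'val]
      have hmem : τ b⁻¹ (u : V) ∈ U := hUB b⁻¹ (B.inv_mem hb) u.2
      have h7 : ρ w (τ b⁻¹ (u : V)) = cw • τ b⁻¹ (u : V) := by
        have h71 := LinearMap.congr_fun hcw ⟨_, hmem⟩
        have h72 := congrArg Subtype.val h71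
        exact (hρ'val w ⟨_, hmem⟩).symm.trans h72
      have h8 : ρ w (u : V) = cw • (u : V) := by
        have h81 := LinearMap.congr_fun hcw u
        have h82 := congrArg Subtype.val h81
        exact (hρ'val w u).symm.trans h82
      rw [h7, map_smul, tau_apply_inv, h8]
    rw [h5, ← map_mul, inv_mul_cancel, map_one]
  · -- the scalar kernel is the radical of the commutator pairing
    intro g
    constructor
    · intro hg y
      refine ⟨h1 g y, ?_⟩
      show ⁅g, y⁆ ∈ MonoidHom.ker ρ'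
      rw [hker, commutatorElement_def, map_mul, map_mul, map_mul]
      have h4 := (mem_scalarKer_iff_comm ρ' g).mp hg (ρ' y)
      have h5 : ρ' g * ρ' y = ρ' y * ρ' g := h4
      rw [h5, mul_assoc (ρ' y), ← map_mul, mul_inv_cancel, map_one, mul_one, ← map_mul,
        mul_inv_cancel, map_one]
    · intro hg
      rw [mem_scalarKer_iff ρ' hirr]
      refine schur ρ' hirr (ρ' g) fun y => ?_
      have h4 : ρ' ⁅g, y⁆ = 1 := (hker _).mp (hg y).2
      have h5 : g * y = ⁅g, y⁆ * (y * g) := by rw [commutatorElement_def]; group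
      show ρ' y * ρ' g = ρ' g * ρ' y
      rw [← map_mul, ← map_mul, h5, map_mul ρ' ⁅g, y⁆, h4, one_mul]
  · intro b hb g hg
    exact scalarKer_invariant φB ρ' τ' (fun h g u => Subtype.ext (hcompat h g u)) hirr ⟨b, hb⟩ g hg
  · have hpos : 0 < finrank K ↥U := Module.finrank_pos
    omega
  · rw [← hcard, mul_comm, ← Subgroup.card_eq_card_quotient_mul_card_subgroup]

end Cfsg.Agent.Lib.Helper2.CycShultAC
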