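import Mathlib
import Cfsg.Agent.Lib.Helper2.CycShultAC
import Cfsg.Agent.Lib.Helper2.ShultBase

/-!
# The class two case for a cyclic `p`-group of operators, arbitrary field

Base change of `CycShultAC.main` to the algebraic closure.
-/

set_option autoImplicit false

namespace Cfsg.Agent.Lib.Helper2.CycShultField

open scoped BigOperators commutatorElement TensorProduct
open Module Cfsg.Agent.Lib.Helper2.ShultBase

variable {k : Type*} [Field k] {P : Type*} [Group P] [Finite P] [Group.IsNilpotent P]
  {H : Type*} [Group H] [Finite H] [IsCyclic H] {V : Type*} [AddCommGroup V] [Module k V]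
  [FiniteDimensional k V] {p : ℕ} [hp : Fact p.Prime]

/-- If a finite set of operators (closed under left multiplication by its members, e.g. the image
of a finite group) has no common nonzero fixed vector, then neither does its base change, as long
as its cardinality is invertible. -/
theorem baseChange_no_common_fixed (K : Type*) [Field K] [Algebra k K] {G : Type*} [Group G]
    [Fintype G] (ρ : Representation k G V) (hG : (Fintype.card G : K) ≠ 0)
    (hfix : ∀ v : V, (∀ g, ρ g v = v) → v = 0) (w : K ⊗[k] V)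
    (hw : ∀ g, bcRep K ρ g w = w) : w = 0 := by
  have hsum : ∑ g : G, ρ g = 0 := by
    ext v
    rw [LinearMap.sum_apply, LinearMap.zero_apply]
    apply hfix
    intro h'
    rw [map_sum]
    exact Fintype.sum_bijective (fun h => h' * h) (Group.mulLeft_bijective h') _ _
      (fun h => by rw [map_mul]; rfl)
  have hsum' : ∑ g : G, bcRep K ρ g = 0 := by
    have : ∑ g : G, bcRep K ρ g = (∑ g : G, ρ g).baseChange K := by
      rw [← LinearMap.baseChangeHom_apply, map_sum]
      rfl
    rw [this, hsum, LinearMap.baseChange_zero]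
  have h0 := LinearMap.congr_fun hsum' w
  rw [LinearMap.sum_apply, LinearMap.zero_apply] at h0
  simp_rw [hw] at h0
  rw [Finset.sum_const, Finset.card_univ, ← Nat.cast_smul_eq_nsmul K] at h0
  exact (smul_eq_zero.mp h0).resolve_left hG

theorem main [Nontrivial V] (hH : IsPGroup p H) (φ : H →* MulAut P) (ρ : Representation k P V)
    (τ : Representation k H V)
    (hcompat : ∀ (h : H) (g : P) (v : V), τ h (ρ g v) = ρ (φ h g) (τ h v))
    (h1 : ∀ a b : P, ⁅a, b⁆ ∈ Subgroup.center P)
    (h3 : ∀ h, h ≠ 1 → ∀ g, g⁻¹ * φ h g ∈ Subgroup.center P → g ∈ Subgroup.center P)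
    (hc : ∀ v : V, (∀ c ∈ commutator P, ρ c v = v) → v = 0)
    (hPk : (Nat.card P : k) ≠ 0) (hpk : (p : k) ≠ 0)
    (hfix : ∀ v : V, (∀ h, τ h v = v) → v = 0) :
    ∃ (B : Subgroup H) (S Z₀ : Subgroup P), B ≠ ⊥ ∧ S.Normal ∧ Subgroup.center P ≤ S ∧
      Z₀ ≤ Subgroup.center P ∧ (∀ b ∈ B, ∀ w ∈ Subgroup.center P, w⁻¹ * φ b w ∈ Z₀) ∧
      (∀ g, g ∈ S ↔ ∀ y, ⁅g, y⁆ ∈ Z₀) ∧ (∀ b ∈ B, ∀ g ∈ S, φ b g ∈ S) ∧
      ∃ u : ℕ, 2 ≤ u ∧ u + 1 = Nat.card B ∧ Nat.card S * u ^ 2 = Nat.card P := by
  classical
  have := Fintype.ofFinite H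
  have := Fintype.ofFinite ↥(commutator P)
  let K := AlgebraicClosure k
  have hinj : Function.Injective (algebraMap k K) := (algebraMap k K).injective
  have hcast : ∀ n : ℕ, (n : k) ≠ 0 → (n : K) ≠ 0 := by
    intro n hn h0
    apply hn
    apply hinj
    rw [map_natCast, map_zero]; exact h0
  have hfin : FiniteDimensional K (K ⊗[k] V) := inferInstance
  have hnt : Nontrivial (K ⊗[k] V) := by
    apply Module.nontrivial_of_finrank_pos (R := K)
    rw [Module.finrank_baseChange]
    exact Module.finrank_pos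
  have hHk : (Fintype.card H : k) ≠ 0 := by
    obtain ⟨a, ha⟩ := IsPGroup.iff_card.mp hH
    rw [← Nat.card_eq_fintype_card, ha, Nat.cast_pow]
    exact pow_ne_zero _ hpk
  have hCk : (Fintype.card ↥(commutator P) : k) ≠ 0 := by
    intro h0
    apply hPk
    obtain ⟨c, hc'⟩ := Subgroup.card_subgroup_dvd_card (commutator P)
    rw [hc', Nat.cast_mul, Nat.card_eq_fintype_card, h0, zero_mul]
  refine CycShultAC.main (K := K) hH φ (bcRep K ρ) (bcRep K τ) ?_ h1 h3 ?_
    (hcast _ hPk) (hcast _ hpk) ?_
  · intro h g w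
    have e : τ h * ρ g = ρ (φ h g) * τ h := by
      ext v; exact hcompat h g v
    have e' := congrArg (fun F : Module.End k V => F.baseChange K) e
    simp only [LinearMap.baseChange_mul] at e'
    exact LinearMap.congr_fun e' w
  · intro w hw
    refine baseChange_no_common_fixed K (ρ.comp (commutator P).subtype) (hcast _ hCk) ?_ w ?_
    · intro v hv
      exact hc v (fun c hcP => hv ⟨c, hcP⟩)
    · intro c
      exact hw c c.2
  · intro w hw
    exact baseChange_no_common_fixed K τ (hcast _ hHk) hfix w hw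

end Cfsg.Agent.Lib.Helper2.CycShultField
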