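import Mathlib
import Cfsg.Agent.Lib.Helper2.CycP
import Cfsg.Agent.Lib.Helper2.FrobFree
import Cfsg.Agent.Lib.Helper2.Critical

/-!
# Excluding the exceptional case (Gross)

The output of `CycShultField.main` (a subgroup `B` of the cyclic `p`-group `H`, `p` odd, and a
`B`-invariant normal subgroup `S` of index `(|B| - 1)²` of the class two `2`-group `P`) is
impossible when a generator of `H` acts on `P` without nontrivial fixed points: the `H`-translates
of `S` are independent (by a counting argument based on lifting the exponent), and then the product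
over `H` of the translates of a suitable commutator is a nontrivial fixed point.
-/

set_option autoImplicit false

namespace Cfsg.Agent.Lib.Helper2.GrossExc

open scoped BigOperators commutatorElement IsMulCommutative
open Cfsg.Agent.Lib.Helper2.FrobFree

/-- If every nontrivial element of `H` acts without nontrivial fixed points on the finite group
`L`, then `|H|` divides `|L| - 1` (Burnside counting). -/
theorem card_dvd_of_frobenius {H L : Type*} [Group H] [Finite H] [Group L] [Finite L]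
    (α : H →* MulAut L) (hfpf : ∀ h : H, h ≠ 1 → ∀ x : L, α h x = x → x = 1) :
    Nat.card H ∣ Nat.card L - 1 := by
  classical
  have := Fintype.ofFinite H
  have := Fintype.ofFinite L
  let _ : MulAction H L := MulAction.compHom L α
  have hsmul : ∀ (h : H) (x : L), h • x = α h x := fun h x => rfl
  have := Fintype.ofFinite (MulAction.orbitRel.Quotient H L)
  have hB := MulAction.sum_card_fixedBy_eq_card_orbits_mul_card_group H L
  have h1 : ∀ h : H, Fintype.card (MulAction.fixedBy L h) =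
      if h = 1 then Fintype.card L else 1 := by
    intro h
    by_cases hh : h = 1
    · subst hh
      rw [if_pos rfl]
      apply Fintype.card_of_subtype Finset.univ
      intro x
      simp
    · rw [if_neg hh]
      rw [Fintype.card_eq_one_iff]
      refine ⟨⟨1, by rw [MulAction.mem_fixedBy, hsmul, map_one]⟩, ?_⟩
      rintro ⟨x, hx⟩
      apply Subtype.ext
      rw [MulAction.mem_fixedBy, hsmul] at hx
      exact hfpf h hh x hx
  simp_rw [h1] at hB
  rw [Finset.sum_ite, Finset.sum_const, Finset.sum_const] at hB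
  have h2 : (Finset.univ.filter fun h : H => h = 1).card = 1 := by
    rw [Finset.filter_eq' Finset.univ (1 : H)]
    simp
  have h3 : (Finset.univ.filter fun h : H => ¬ h = 1).card = Fintype.card H - 1 := by
    rw [Finset.filter_not, Finset.card_sdiff_of_subset (Finset.filter_subset _ _), h2,
      Finset.card_univ]
  rw [h2, h3] at hB
  simp only [smul_eq_mul, one_mul, mul_one] at hB
  rw [Nat.card_eq_fintype_card, Nat.card_eq_fintype_card]
  have hpos : 0 < Fintype.card H := Fintype.card_pos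
  have hposL : 0 < Fintype.card L := Fintype.card_pos
  set Ω := Fintype.card (MulAction.orbitRel.Quotient H L) with hΩ
  have hΩpos : 0 < Ω := by
    rw [hΩ]; exact Fintype.card_pos_iff.mpr ⟨Quotient.mk'' (1 : L)⟩
  refine ⟨Ω - 1, ?_⟩
  have : Fintype.card L + (Fintype.card H - 1) = Ω * Fintype.card H := hB
  have e : Ω * Fintype.card H = Fintype.card H * (Ω - 1) + Fintype.card H := by
    obtain ⟨w, hw⟩ : ∃ w, Ω = w + 1 := ⟨Ω - 1, by omega⟩
    rw [hw]
    simp; ring
  omega

section Main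

variable {P : Type*} [Group P] [Finite P] {H : Type*} [Group H] [Finite H] [IsCyclic H]
  {p : ℕ} [hp : Fact p.Prime]

set_option maxHeartbeats 1600000 in
theorem exceptional_false (hp2 : p ≠ 2) (hH : IsPGroup p H) (hP : IsPGroup 2 P)
    (φ : H →* MulAut P) (σ : H) (hσ : ∀ h : H, h ∈ Subgroup.zpowers σ)
    (hfpf : ∀ g : P, φ σ g = g → g = 1)
    (h1 : ∀ a b : P, ⁅a, b⁆ ∈ Subgroup.center P)
    (h3 : ∀ h, h ≠ 1 → ∀ g, g⁻¹ * φ h g ∈ Subgroup.center P → g ∈ Subgroup.center P)
    (B : Subgroup H) (S Z₀ : Subgroup P) (hSn : S.Normal)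
    (hZS : Subgroup.center P ≤ S) (hZ₀ : Z₀ ≤ Subgroup.center P)
    (hBZ : ∀ b ∈ B, ∀ w ∈ Subgroup.center P, w⁻¹ * φ b w ∈ Z₀)
    (hS : ∀ g, g ∈ S ↔ ∀ y, ⁅g, y⁆ ∈ Z₀) (hBS : ∀ b ∈ B, ∀ g ∈ S, φ b g ∈ S)
    (u : ℕ) (hu : 2 ≤ u) (huB : u + 1 = Nat.card B) (hcard : Nat.card S * u ^ 2 = Nat.card P) :
    False := by
  classical
  have := Fintype.ofFinite H
  have hfact2 : Fact (Nat.Prime 2) := ⟨Nat.prime_two⟩
  obtain ⟨a, ha⟩ := IsPGroup.iff_card.mp hP
  obtain ⟨n, hn⟩ := IsPGroup.iff_card.mp hH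
  obtain ⟨n', hn'⟩ := IsPGroup.iff_card.mp (hH.to_subgroup B)
  have hn'n : n' ≤ n := by
    have h := Subgroup.card_subgroup_dvd_card B
    rw [hn, hn'] at h
    exact (Nat.pow_dvd_pow_iff_le_right hp.out.one_lt).mp h
  -- `u` is a power of two
  have hu2a : u ∣ 2 ^ a := by
    rw [← ha, ← hcard]
    exact Dvd.dvd.mul_left (dvd_pow_self u two_ne_zero) _
  obtain ⟨m, -, hum⟩ := (Nat.dvd_prime_pow Nat.prime_two).mp hu2a
  have hm1 : 1 ≤ m := by
    rcases Nat.eq_zero_or_pos m with h | h
    · rw [h, pow_zero] at hum; omega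
    · exact h
  have hBcard : p ^ n' = 2 ^ m + 1 := by rw [← hn', ← huB, hum]
  -- the index of `S`
  have hSidx : S.index = u ^ 2 := by
    have h := Subgroup.card_mul_index S
    rw [← hcard] at h
    exact Nat.eq_of_mul_eq_mul_left Nat.card_pos h
  -- the translates of `S`
  let Sh : H → Subgroup P := fun h => S.comap (φ h⁻¹).toMonoidHom
  have hmemSh : ∀ h g, g ∈ Sh h ↔ φ h⁻¹ g ∈ S := fun h g => Iff.rfl
  have hShn : ∀ h, (Sh h).Normal := fun h => inferInstance
  have hShidx : ∀ h, (Sh h).index = u ^ 2 := by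
    intro h
    rw [← hSidx]
    exact Subgroup.index_comap_of_surjective S (φ h⁻¹).surjective
  have hShmul : ∀ (h b : H), b ∈ B → ∀ g, g ∈ Sh h → g ∈ Sh (h * b) := by
    intro h b hb g hg
    rw [hmemSh] at hg ⊢
    rw [mul_inv_rev, map_mul, MulAut.mul_apply]
    exact hBS b⁻¹ (B.inv_mem hb) _ hg
  have hZinv : ∀ (h : H), ∀ g ∈ Subgroup.center P, φ h g ∈ Subgroup.center P :=
    fun h g hg => Critical.map_mem_of_characteristic φ _ h g hg
  -- the full intersection
  let T : Subgroup P := ⨅ h : H, Sh h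
  have hmemT : ∀ g, g ∈ T ↔ ∀ h, φ h⁻¹ g ∈ S := by
    intro g
    simp only [T, Subgroup.mem_iInf]
    exact Iff.rfl
  have hTn : T.Normal := Subgroup.normal_iInf_normal hShn
  have hTinv : ∀ (h' : H), ∀ g ∈ T, φ h' g ∈ T := by
    intro h' g hg
    rw [hmemT] at hg ⊢
    intro h
    have := hg (h'⁻¹ * h)
    rwa [mul_inv_rev, inv_inv, map_mul, MulAut.mul_apply] at this
  have hZT : Subgroup.center P ≤ T := by
    intro z hz
    rw [hmemT]
    intro h
    exact hZS (hZinv _ z hz)
  have hTS : T ≤ S := by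
    intro g hg
    have := (hmemT g).mp hg 1
    rwa [inv_one, map_one] at this
  have hSne : S ≠ ⊤ := by
    intro h
    have := Subgroup.index_eq_one.mpr h
    rw [hSidx] at this
    nlinarith
  have hTne : T ≠ ⊤ := fun h => hSne (top_le_iff.mp (h ▸ hTS))
  -- the index of `T` is a power of two
  have hTdvd : T.index ∣ 2 ^ a := by
    rw [← ha]; exact Subgroup.index_dvd_card T
  obtain ⟨d, -, hd⟩ := (Nat.dvd_prime_pow Nat.prime_two).mp hTdvd
  have hd1 : 1 ≤ d := by
    rcases Nat.eq_zero_or_pos d with h | h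
    · rw [h, pow_zero] at hd
      exact absurd (Subgroup.index_eq_one.mp hd) hTne
    · exact h
  -- `|H|` divides `2 ^ d - 1`
  have hdvd : p ^ n ∣ 2 ^ d - 1 := by
    let Z := Subgroup.center P
    let φQ : H →* MulAut (P ⧸ Z) := quotientAut φ Z hZinv
    have hfpfQ : ∀ h : H, h ≠ 1 → ∀ f : P ⧸ Z, φQ h f = f → f = 1 := by
      intro h hh f hf
      induction f using QuotientGroup.induction_on with
      | H g =>
        rw [quotientAut_mk, QuotientGroup.eq] at hf
        have hmem : g⁻¹ * φ h g ∈ Z := by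
          have := Z.inv_mem hf
          rwa [mul_inv_rev, inv_inv] at this
        exact (QuotientGroup.eq_one_iff g).mpr (h3 h hh g hmem)
    let TQ : Subgroup (P ⧸ Z) := T.map (QuotientGroup.mk' Z)
    have hTQn : TQ.Normal := hTn.map _ (QuotientGroup.mk'_surjective Z)
    have hTQinv : ∀ h : H, ∀ f ∈ TQ, φQ h f ∈ TQ := by
      rintro h _ ⟨g, hg, rfl⟩
      exact ⟨φ h g, hTinv h g hg, rfl⟩
    have hfpfL := quotientAut_fpf φQ TQ hTQinv hfpfQ
    have hdiv := card_dvd_of_frobenius (quotientAut φQ TQ hTQinv) hfpfL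
    have hcardL : Nat.card ((P ⧸ Z) ⧸ TQ) = T.index := by
      rw [Subgroup.index]
      exact Nat.card_congr (QuotientGroup.quotientQuotientEquivQuotient Z T hZT).toEquiv
    rw [hcardL, hn, hd] at hdiv
    exact hdiv
  have hbound := CycP.order_bound hp.out hp2 hm1 hBcard hn'n hd1 hdvd
  -- the number of cosets
  have hj : Nat.card (H ⧸ B) = p ^ (n - n') := by
    have h := Subgroup.card_eq_card_quotient_mul_card_subgroup B
    rw [hn, hn', ← Nat.pow_sub_mul_pow p hn'n] at h
    exact (Nat.eq_of_mul_eq_mul_right (pow_pos hp.out.pos _) h).symm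
  have := Fintype.ofFinite (H ⧸ B)
  -- the partial intersection
  let S' : Subgroup P := ⨅ c : {c : H ⧸ B // c ≠ ((1 : H) : H ⧸ B)}, Sh c.1.out
  have hmemSh_of : ∀ (h : H), ((h : H) : H ⧸ B) ≠ ((1 : H) : H ⧸ B) → ∀ g ∈ S', g ∈ Sh h := by
    intro h hc g hg
    have h1' : g ∈ Sh ((h : H ⧸ B).out) := by
      have := (Subgroup.mem_iInf.mp hg) ⟨(h : H ⧸ B), hc⟩
      exact this
    have hb : ((h : H ⧸ B).out)⁻¹ * h ∈ B := by
      rw [← QuotientGroup.eq]
      exact QuotientGroup.out_eq' _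
    have := hShmul _ _ hb g h1'
    rwa [mul_inv_cancel_left] at this
  have hSS'T : S ⊓ S' ≤ T := by
    intro g hg
    rw [hmemT]
    intro h
    by_cases hc : ((h : H) : H ⧸ B) = ((1 : H) : H ⧸ B)
    · have hhB : h ∈ B := by
        have h2 : h⁻¹ * 1 ∈ B := QuotientGroup.eq.mp hc
        rw [mul_one] at h2
        exact (B.inv_mem_iff).mp h2
      exact hBS h⁻¹ (B.inv_mem hhB) g hg.1
    · exact hmemSh_of h hc g hg.2
  -- `S'` is not contained in `S`
  have hS'S : ¬ S' ≤ S := by
    intro hle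
    have hS'T : S' ≤ T := fun g hg => hSS'T ⟨hle hg, hg⟩
    have h1' : T.index ∣ S'.index := Subgroup.index_dvd_of_le hS'T
    have h2 : S'.index ≤ ∏ c : {c : H ⧸ B // c ≠ ((1 : H) : H ⧸ B)}, (Sh c.1.out).index :=
      Subgroup.index_iInf_le _
    simp_rw [hShidx] at h2
    rw [Finset.prod_const, Finset.card_univ, Fintype.card_subtype_compl, Fintype.card_subtype_eq,
      ← Nat.card_eq_fintype_card, hj] at h2
    have h3' : T.index ≤ S'.index := Nat.le_of_dvd (Nat.pos_of_ne_zero Subgroup.index_ne_zero_of_finite) h1'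
    rw [hd] at h3'
    rw [hum] at h2
    have h4 : 2 ^ d ≤ ((2 ^ m) ^ 2) ^ (p ^ (n - n') - 1) := h3'.trans h2
    rw [← pow_mul, ← pow_mul] at h4
    have h5 : d ≤ m * (2 * (p ^ (n - n') - 1)) := (Nat.pow_le_pow_iff_right (by norm_num : 1 < 2)).mp h4
    have hjpos : 0 < p ^ (n - n') := pow_pos hp.out.pos _
    have h6 : m * (2 * (p ^ (n - n') - 1)) + m * 2 = 2 * m * p ^ (n - n') := by
      obtain ⟨w, hw⟩ : ∃ w, p ^ (n - n') = w + 1 := ⟨p ^ (n - n') - 1, by omega⟩
      rw [hw]; simp; ring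
    omega
  -- an element of `S'` outside `S`
  obtain ⟨x, hxS', hxS⟩ := SetLike.not_le_iff_exists.mp hS'S
  have hxy : ∃ y, ⁅x, y⁆ ∉ Z₀ := by
    by_contra hno
    push Not at hno
    exact hxS ((hS x).mpr hno)
  obtain ⟨y, hy⟩ := hxy
  set z := ⁅x, y⁆ with hz
  have hzZ : z ∈ Subgroup.center P := h1 x y
  -- translates of `z` by elements outside `B` lie in `Z₀`
  have hout : ∀ h : H, h ∉ B → φ h z ∈ Z₀ := by
    intro h hh
    have hc : ((h⁻¹ : H) : H ⧸ B) ≠ ((1 : H) : H ⧸ B) := by
      intro hc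
      have h2 : (h⁻¹)⁻¹ * 1 ∈ B := QuotientGroup.eq.mp hc
      rw [mul_one, inv_inv] at h2
      exact hh h2
    have hx1 : x ∈ Sh h⁻¹ := hmemSh_of h⁻¹ hc x hxS'
    rw [hmemSh, inv_inv] at hx1
    rw [hz, map_commutatorElement]
    exact (hS _).mp hx1 _
  -- the product over `H` in the centre
  let φC : H →* MulAut ↥(Subgroup.center P) := restrictAut φ (Subgroup.center P) hZinv
  have hφC : ∀ (h : H) (c : ↥(Subgroup.center P)), ((φC h c : ↥(Subgroup.center P)) : P) = φ h c :=
    fun h c => rfl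
  let z' : ↥(Subgroup.center P) := ⟨z, hzZ⟩
  let N : ↥(Subgroup.center P) := ∏ h : H, φC h z'
  have hNfix : ∀ h' : H, φC h' N = N := by
    intro h'
    simp only [N]
    rw [map_prod]
    exact Fintype.prod_bijective (fun h => h' * h) (Group.mulLeft_bijective h') _ _
      (fun h => by rw [map_mul]; rfl)
  have hN1 : N = 1 := by
    apply Subtype.ext
    apply hfpf
    rw [← hφC, hNfix]
  let Z₀' : Subgroup ↥(Subgroup.center P) := Z₀.subgroupOf (Subgroup.center P)
  let π : ↥(Subgroup.center P) →* ↥(Subgroup.center P) ⧸ Z₀' := QuotientGroup.mk' Z₀'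
  have hπin : ∀ h : H, h ∈ B → π (φC h z') = π z' := by
    intro h hh
    symm
    apply QuotientGroup.eq.mpr
    show ((z'⁻¹ * φC h z' : ↥(Subgroup.center P)) : P) ∈ Z₀
    rw [Subgroup.coe_mul, Subgroup.coe_inv, hφC]
    exact hBZ h hh z hzZ
  have hπout : ∀ h : H, h ∉ B → π (φC h z') = 1 := by
    intro h hh
    apply (QuotientGroup.eq_one_iff _).mpr
    show ((φC h z' : ↥(Subgroup.center P)) : P) ∈ Z₀
    rw [hφC]
    exact hout h hh
  have hπN : π N = π z' ^ Nat.card B := by
    simp only [N]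
    rw [map_prod]
    have : ∀ h : H, π (φC h z') = if h ∈ B then π z' else 1 := by
      intro h
      by_cases hh : h ∈ B
      · rw [if_pos hh, hπin h hh]
      · rw [if_neg hh, hπout h hh]
    simp_rw [this]
    rw [Finset.prod_ite, Finset.prod_const, Finset.prod_const_one, mul_one]
    congr 1
    rw [Nat.card_eq_fintype_card, Fintype.card_subtype]
  rw [hN1, map_one] at hπN
  have hzB : z ^ Nat.card B ∈ Z₀ := by
    have h2 : π (z' ^ Nat.card B) = 1 := by rw [map_pow]; exact hπN.symm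
    have h3' := (QuotientGroup.eq_one_iff _).mp h2
    have h4 : ((z' ^ Nat.card B : ↥(Subgroup.center P)) : P) ∈ Z₀ := h3'
    rwa [Subgroup.coe_pow] at h4
  -- `z` has order a power of two
  have hcop : (Nat.card B).Coprime (orderOf z) := by
    have h2 : orderOf z ∣ 2 ^ a := ha ▸ orderOf_dvd_natCard z
    rw [hn']
    apply Nat.Coprime.coprime_dvd_right h2
    apply Nat.Coprime.pow
    exact (Nat.coprime_primes hp.out Nat.prime_two).mpr hp2
  obtain ⟨e, he⟩ := exists_pow_eq_self_of_coprime hcop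
  apply hy
  rw [← he]
  exact Subgroup.pow_mem _ hzB e

end Main

end Cfsg.Agent.Lib.Helper2.GrossExc
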