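import Mathlib
import Cfsg.Agent.Lib.Helper2.CycShultField
import Cfsg.Agent.Lib.Helper2.CycCrit
import Cfsg.Agent.Lib.Helper2.GrossExc
import Cfsg.Agent.Lib.Helper2.ShultG

/-!
# The Shult–Gross fixed vector theorem for cyclic groups of odd prime power order

`H = ⟨σ⟩` is a cyclic `p`-group, `p` odd, acting on the `q`-group `P` (`q ≠ p`) so that `σ` has no
nontrivial fixed point, and the semidirect product acts on the finite-dimensional space `V` over
a field of characteristic different from `p` and `q`.  If `H` has no nonzero fixed vector on `V`,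
then `[P, Ω₁(H)]` acts trivially on `V` (`main`).
-/

set_option autoImplicit false

namespace Cfsg.Agent.Lib.Helper2.CycShultMain

open scoped BigOperators commutatorElement
open Module Cfsg.Agent.Lib.Helper2.FreeAssembly Cfsg.Agent.Lib.Helper2.FrobFree
  Cfsg.Agent.Lib.Helper2.CycCrit

section Omega

variable {H : Type*} [Group H] [IsCyclic H]

/-- The elements of order dividing `p` in a cyclic group. -/
def omega (H : Type*) [Group H] [IsCyclic H] (p : ℕ) : Subgroup H where
  carrier := {h | h ^ p = 1}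
  mul_mem' := fun {a b} ha hb => by
    have hc : Commute a b := (IsCyclic.isMulCommutative (α := H)).is_comm.comm a b
    show (a * b) ^ p = 1
    rw [hc.mul_pow, ha, hb, one_mul]
  one_mem' := one_pow p
  inv_mem' := fun {a} ha => by
    show a⁻¹ ^ p = 1
    rw [inv_pow, ha, inv_one]

theorem mem_omega {p : ℕ} {h : H} : h ∈ omega H p ↔ h ^ p = 1 := Iff.rfl

variable [Finite H] {p : ℕ} [hp : Fact p.Prime]

theorem exists_pow_mem_omega (hH : IsPGroup p H) (h : H) (hh : h ≠ 1) :
    ∃ k : ℕ, h ^ k ∈ omega H p ∧ h ^ k ≠ 1 := by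
  obtain ⟨k, hk⟩ := CycP.exists_pow_orderOf_eq hH h hh
  refine ⟨k, ?_, ?_⟩
  · rw [mem_omega, ← hk, pow_orderOf_eq_one]
  · intro h1
    rw [h1, orderOf_one] at hk
    exact hp.out.one_lt.ne hk

theorem card_omega (hH : IsPGroup p H) [Nontrivial H] : Nat.card (omega H p) = p := by
  classical
  have := Fintype.ofFinite H
  obtain ⟨h, hh⟩ := exists_ne (1 : H)
  obtain ⟨k, hk⟩ := CycP.exists_pow_orderOf_eq hH h hh
  set y := h ^ k with hy
  have hle : Subgroup.zpowers y ≤ omega H p := by
    rw [Subgroup.zpowers_le, mem_omega, ← hk, pow_orderOf_eq_one]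
  have h1 : Nat.card (Subgroup.zpowers y) = p := (Nat.card_zpowers y).trans hk
  apply le_antisymm
  · have h2 := IsCyclic.card_pow_eq_one_le (α := H) hp.out.pos
    have h3 : Nat.card (omega H p) = (Finset.univ.filter fun a : H => a ^ p = 1).card := by
      rw [Nat.card_eq_fintype_card, Fintype.card_subtype]
      rfl
    rw [h3]
    exact h2
  · have h4 := Subgroup.card_le_of_le hle
    rwa [h1] at h4

end Omega

section Avg

variable {k : Type*} [Field k] {F : Type*} [Group F] {V : Type*} [AddCommGroup V] [Module k V]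

/-- Averaging over a normal subgroup commutes with the group. -/
theorem avg_comm_of_normal (ρF : Representation k F V) (N : Subgroup F) [N.Normal] [Fintype ↥N]
    (g : F) (v : V) : ρF g (avg ρF N v) = avg ρF N (ρF g v) := by
  rw [avg_apply, avg_apply, map_smul, map_sum]
  congr 1
  have : ∀ n : ↥N, ρF g (ρF (n : F) v) =
      ρF ((MulAut.conjNormal g n : ↥N) : F) (ρF g v) := by
    intro n
    rw [MulAut.conjNormal_apply, ← Module.End.mul_apply, ← Module.End.mul_apply, ← map_mul,
      ← map_mul]
    congr 2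
    group
  simp_rw [this]
  exact Fintype.sum_equiv (MulAut.conjNormal g : ↥N ≃* ↥N).toEquiv _ _ (fun n => rfl)

/-- Averaging over an invariant subgroup commutes with the operators. -/
theorem avg_comm_of_invariant {H : Type*} [Group H] (φ : H →* MulAut F) (ρF : Representation k F V)
    (ρH : Representation k H V)
    (hcompat : ∀ (h : H) (f : F) (v : V), ρH h (ρF f v) = ρF (φ h f) (ρH h v))
    (N : Subgroup F) [Fintype ↥N] (hN : ∀ h : H, ∀ x ∈ N, φ h x ∈ N) (h : H) (v : V) :
    ρH h (avg ρF N v) = avg ρF N (ρH h v) := by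
  rw [avg_apply, avg_apply, map_smul, map_sum]
  congr 1
  simp_rw [hcompat]
  exact Fintype.sum_equiv (restrictAut φ N hN h).toEquiv _ _ (fun n => rfl)

end Avg

section Quot

variable {F : Type*} [Group F] [Finite F] {H : Type*} [Group H]

/-- A fixed-point-free automorphism stays fixed-point-free on quotients by invariant normal
subgroups. -/
theorem quotientAut_fpf_single (φ : H →* MulAut F) (N : Subgroup F) [N.Normal]
    (hN : ∀ h : H, ∀ x ∈ N, φ h x ∈ N) (h : H) (hfpf : ∀ f : F, φ h f = f → f = 1) :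
    ∀ f : F ⧸ N, quotientAut φ N hN h f = f → f = 1 := by
  intro f hf
  induction f using QuotientGroup.induction_on with
  | H x =>
    rw [quotientAut_mk, QuotientGroup.eq] at hf
    have hmem : x⁻¹ * φ h x ∈ N := by
      have := N.inv_mem hf
      rwa [mul_inv_rev, inv_inv] at this
    have hinj := injective_inv_mul (φ h) hfpf
    let g : ↥N → ↥N := fun n => ⟨(n : F)⁻¹ * φ h n, N.mul_mem (N.inv_mem n.2) (hN h n n.2)⟩
    have hg : Function.Injective g := by
      intro a b hab
      apply Subtype.ext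
      apply hinj
      exact congrArg Subtype.val hab
    have hgs : Function.Surjective g := Finite.surjective_of_injective hg
    obtain ⟨n, hn⟩ := hgs ⟨_, hmem⟩
    have : (n : F) = x := hinj (congrArg Subtype.val hn)
    rw [QuotientGroup.eq_one_iff, ← this]
    exact n.2

end Quot

section Crit

variable {k : Type*} [Field k] {P : Type*} [Group P] [Finite P] {H : Type*} [Group H] [Finite H]
  [IsCyclic H] {V : Type*} [AddCommGroup V] [Module k V] [FiniteDimensional k V]
  {p q : ℕ} [hp : Fact p.Prime] [hq : Fact q.Prime]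

set_option maxHeartbeats 800000 in
/-- The critical case is impossible. -/
theorem critical_case (hp2 : p ≠ 2) (hpq : p ≠ q) (hH : IsPGroup p H) (hP : IsPGroup q P)
    (φ : H →* MulAut P) (ρ : Representation k P V) (τ : Representation k H V)
    (hcompat : ∀ (h : H) (g : P) (v : V), τ h (ρ g v) = ρ (φ h g) (τ h v))
    (hρ : Function.Injective ρ) (hcrit : IsCrit φ (omega H p))
    (hqk : (q : k) ≠ 0) (hpk : (p : k) ≠ 0)
    (σ : H) (hσ : ∀ h : H, h ∈ Subgroup.zpowers σ) (hfpf : ∀ g : P, φ σ g = g → g = 1)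
    (hfix : ∀ v : V, (∀ h, τ h v = v) → v = 0) : False := by
  classical
  have hnil : Group.IsNilpotent P := hP.isNilpotent
  obtain ⟨a, ha⟩ := IsPGroup.iff_card.mp hP
  obtain ⟨n, hn⟩ := IsPGroup.iff_card.mp hH
  have hPk : (Nat.card P : k) ≠ 0 := by
    rw [ha, Nat.cast_pow]; exact pow_ne_zero _ hqk
  have hcop : (Nat.card P).Coprime (Nat.card H) := by
    rw [ha, hn]
    exact Nat.Coprime.pow _ _ ((Nat.coprime_primes hq.out hp.out).mpr hpq.symm)
  have hcomm : ∀ x y : H, x * y = y * x :=
    fun x y => (IsCyclic.isMulCommutative (α := H)).is_comm.comm x y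
  have hntH : Nontrivial H := by
    obtain ⟨h, -, g, hg⟩ := hcrit.nontriv
    refine ⟨⟨h, 1, ?_⟩⟩
    rintro rfl
    exact hg (by rw [map_one]; rfl)
  have hH₁ : Nat.card (omega H p) = p := card_omega hH
  have hpow := exists_pow_mem_omega hH
  by_cases hab : ∀ x y : P, x * y = y * x
  · -- the abelian case: `V` contains a free module
    have hfpf' := abelian_case φ (omega H p) hH₁ hpow hcomm hcop hcrit hab
    have hTk : (Nat.card ↥(⊤ : Subgroup P) : k) ≠ 0 := by
      rw [Subgroup.card_top]; exact hPk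
    have := Fintype.ofFinite ↥(⊤ : Subgroup P)
    have hfree := FrobFreeCompl.freeOn_ker_avg φ hfpf' ρ τ hcompat hTk
    have hM : LinearMap.ker (avg ρ ⊤) ≠ ⊥ := by
      intro hbot
      have htop := fixedSub_sup_ker ρ ⊤ hTk
      rw [hbot, sup_bot_eq] at htop
      obtain ⟨h, -, g, hg⟩ := hcrit.nontriv
      apply hg
      have h1 : ∀ g : P, ρ g = 1 := by
        intro g
        ext v
        have : v ∈ fixedSub ρ ⊤ := htop ▸ Submodule.mem_top
        exact this g (Subgroup.mem_top g)
      apply hρ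
      rw [h1, h1]
    obtain ⟨v, hv0, hv⟩ := ShultG.exists_fixed_of_freeOn τ _ hM hfree
    exact hv0 (hfix v hv)
  · -- the nonabelian case
    push Not at hab
    obtain ⟨h1, h2, h3⟩ := nonabelian_case φ (omega H p) hH₁ hpow hcomm hcop hcrit hab
    have := Fintype.ofFinite ↥(commutator P)
    have hCk : (Nat.card ↥(commutator P) : k) ≠ 0 := by
      intro h0
      apply hPk
      obtain ⟨c, hc'⟩ := Subgroup.card_subgroup_dvd_card (commutator P)
      rw [hc', Nat.cast_mul, h0, zero_mul]
    let M : Submodule k V := LinearMap.ker (avg ρ (commutator P))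
    have hCinv : ∀ h : H, ∀ x ∈ commutator P, φ h x ∈ commutator P :=
      fun h x hx => Critical.map_mem_of_characteristic φ _ h x hx
    have hMρ : ∀ g, M ≤ M.comap (ρ g) := by
      intro g v hv
      rw [Submodule.mem_comap, LinearMap.mem_ker, ← avg_comm_of_normal, LinearMap.mem_ker.mp hv,
        map_zero]
    have hMτ : ∀ h, M ≤ M.comap (τ h) := by
      intro h v hv
      rw [Submodule.mem_comap, LinearMap.mem_ker,
        ← avg_comm_of_invariant φ ρ τ hcompat (commutator P) hCinv, LinearMap.mem_ker.mp hv,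
        map_zero]
    have hM0 : M ≠ ⊥ := by
      intro hbot
      have htop := fixedSub_sup_ker ρ (commutator P) hCk
      rw [show LinearMap.ker (avg ρ (commutator P)) = ⊥ from hbot, sup_bot_eq] at htop
      obtain ⟨x, y, hxy⟩ := hab
      apply hxy
      have hmem : ⁅x, y⁆ ∈ commutator P := by
        rw [commutator_def]
        exact Subgroup.commutator_mem_commutator (Subgroup.mem_top _) (Subgroup.mem_top _)
      have h5 : ρ ⁅x, y⁆ = 1 := by
        ext v
        have : v ∈ fixedSub ρ (commutator P) := htop ▸ Submodule.mem_top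
        exact this _ hmem
      have h6 : ⁅x, y⁆ = 1 := hρ (by rw [h5, map_one])
      exact commutatorElement_eq_one_iff_mul_comm.mp h6
    have hnt : Nontrivial ↥M := Submodule.nontrivial_iff_ne_bot.mpr hM0
    obtain ⟨B, S, Z₀, hB0, hSn, hZS, hZ₀, hBZ, hS, hBS, u, hu, huB, hcard⟩ :=
      CycShultField.main hH φ (ρ.subrepresentation M hMρ) (τ.subrepresentation M hMτ)
        (fun h g v => Subtype.ext (hcompat h g v)) h1 h3 (by
          intro v hv
          apply Subtype.ext
          have hvfix : (v : V) ∈ fixedSub ρ (commutator P) := by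
            intro c hc
            exact congrArg Subtype.val (hv c hc)
          have := avg_of_mem_fixedSub ρ (commutator P) hCk hvfix
          rw [LinearMap.mem_ker.mp v.2] at this
          exact this.symm) hPk hpk (by
          intro v hv
          apply Subtype.ext
          apply hfix
          intro h
          exact congrArg Subtype.val (hv h))
    by_cases hq2 : q = 2
    · subst hq2
      exact GrossExc.exceptional_false hp2 hH hP φ σ hσ hfpf h1 h3 B S Z₀ hSn hZS hZ₀ hBZ hS hBS
        u hu huB hcard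
    · -- parity
      obtain ⟨n', hn'⟩ := IsPGroup.iff_card.mp (hH.to_subgroup B)
      have hoddp : Odd p := hp.out.odd_of_ne_two hp2
      have hoddq : Odd q := hq.out.odd_of_ne_two hq2
      have hu_dvd : u ∣ q ^ a := by
        rw [← ha, ← hcard]
        exact Dvd.dvd.mul_left (dvd_pow_self u two_ne_zero) _
      obtain ⟨m, -, hum⟩ := (Nat.dvd_prime_pow hq.out).mp hu_dvd
      have h5 : Odd u := hum ▸ hoddq.pow
      have h6 : Odd (u + 1) := by rw [huB, hn']; exact hoddp.pow
      have h7 : Even (u + 1) := h5.add_one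
      exact (Nat.not_even_iff_odd.mpr h6) h7

end Crit

section Induction

universe uk uP uH uV

variable {k : Type uk} [Field k] {H : Type uH} [Group H] [Finite H] [IsCyclic H]
  {V : Type uV} [AddCommGroup V] [Module k V] [FiniteDimensional k V]
  {p q : ℕ} [hp : Fact p.Prime] [hq : Fact q.Prime]

theorem faithful_aux (hp2 : p ≠ 2) (hpq : p ≠ q) (hH : IsPGroup p H) (τ : Representation k H V)
    (hqk : (q : k) ≠ 0) (hpk : (p : k) ≠ 0) (σ : H) (hσ : ∀ h : H, h ∈ Subgroup.zpowers σ)
    (hfix : ∀ v : V, (∀ h, τ h v = v) → v = 0) :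
    ∀ (n : ℕ) (P : Type uP) [Group P] [Finite P], Nat.card P = n → IsPGroup q P →
      ∀ (φ : H →* MulAut P) (ρ : Representation k P V),
      (∀ (h : H) (g : P) (v : V), τ h (ρ g v) = ρ (φ h g) (τ h v)) →
      Function.Injective ρ → (∀ g : P, φ σ g = g → g = 1) →
      (∃ h ∈ omega H p, ∃ g, φ h g ≠ g) → False := by
  intro n
  induction n using Nat.strong_induction_on with
  | _ n ih =>
  intro P _ _ hcard hP φ ρ hcompat hρ hfpf hnt
  by_cases hcrit : IsCrit φ (omega H p)
  · exact critical_case hp2 hpq hH hP φ ρ τ hcompat hρ hcrit hqk hpk σ hσ hfpf hfix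
  · have hex : ∃ P₁ : Subgroup P, P₁ ≠ ⊤ ∧ (∀ h, ∀ g ∈ P₁, φ h g ∈ P₁) ∧
        ∃ h ∈ omega H p, ∃ g ∈ P₁, φ h g ≠ g := by
      by_contra hno
      apply hcrit
      refine ⟨?_, hnt⟩
      intro P₁ hne hinv h hh g hg
      by_contra hgne
      exact hno ⟨P₁, hne, hinv, h, hh, g, hg, hgne⟩
    obtain ⟨P₁, hne, hinv, h₀, hh₀, g₀, hg₀, hne₀⟩ := hex
    have hlt : Nat.card ↥P₁ < n := by
      rw [← hcard]
      apply lt_of_le_of_ne (Subgroup.card_le_card_group P₁)
      intro heq
      exact hne (Subgroup.eq_top_of_card_eq P₁ heq)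
    exact ih _ hlt ↥P₁ rfl (hP.to_subgroup P₁) (restrictAut φ P₁ hinv)
      (ρ.comp P₁.subtype) (fun h g v => hcompat h g v)
      (fun a b hab => Subtype.ext (hρ hab))
      (fun g hg => Subtype.ext (hfpf g (congrArg Subtype.val hg)))
      ⟨h₀, hh₀, ⟨g₀, hg₀⟩, fun h => hne₀ (congrArg Subtype.val h)⟩

/-- **The Shult–Gross fixed vector theorem.** -/
theorem main {P : Type uP} [Group P] [Finite P] (hp2 : p ≠ 2) (hpq : p ≠ q) (hH : IsPGroup p H)
    (hP : IsPGroup q P) (φ : H →* MulAut P) (ρ : Representation k P V) (τ : Representation k H V)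
    (hcompat : ∀ (h : H) (g : P) (v : V), τ h (ρ g v) = ρ (φ h g) (τ h v))
    (hqk : (q : k) ≠ 0) (hpk : (p : k) ≠ 0)
    (σ : H) (hσ : ∀ h : H, h ∈ Subgroup.zpowers σ) (hfpf : ∀ g : P, φ σ g = g → g = 1)
    (hfix : ∀ v : V, (∀ h, τ h v = v) → v = 0) :
    ∀ h : H, h ^ p = 1 → ∀ g : P, ρ (g⁻¹ * φ h g) = 1 := by
  let N : Subgroup P := MonoidHom.ker ρ
  have hmemN : ∀ g, g ∈ N ↔ ρ g = 1 := fun g => MonoidHom.mem_ker
  have hτsurj : ∀ h v, ∃ w, τ h w = v := by
    intro h v
    refine ⟨τ h⁻¹ v, ?_⟩
    rw [← Module.End.mul_apply, ← map_mul, mul_inv_cancel, map_one]; rfl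
  have hN : ∀ h : H, ∀ g ∈ N, φ h g ∈ N := by
    intro h g hg
    rw [hmemN] at hg ⊢
    ext v
    obtain ⟨w, rfl⟩ := hτsurj h v
    rw [← hcompat, hg]; rfl
  let ρ' : Representation k (P ⧸ N) V := QuotientGroup.lift N ρ le_rfl
  have hρ'mk : ∀ g : P, ρ' (g : P ⧸ N) = ρ g := fun g => rfl
  have hρ'inj : Function.Injective ρ' := by
    intro a b hab
    induction a using QuotientGroup.induction_on with
    | H a =>
    induction b using QuotientGroup.induction_on with
    | H b =>
    rw [hρ'mk, hρ'mk] at hab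
    rw [QuotientGroup.eq, hmemN, map_mul, ← hab, ← map_mul, inv_mul_cancel, map_one]
  have hcompat' : ∀ (h : H) (g : P ⧸ N) (v : V),
      τ h (ρ' g v) = ρ' (quotientAut φ N hN h g) (τ h v) := by
    intro h g v
    induction g using QuotientGroup.induction_on with
    | H g =>
    rw [quotientAut_mk, hρ'mk, hρ'mk]
    exact hcompat h g v
  intro h hh g
  by_contra hne
  apply faithful_aux hp2 hpq hH τ hqk hpk σ hσ hfix _ (P ⧸ N) rfl (hP.to_quotient N)
    (quotientAut φ N hN) ρ' hcompat' hρ'inj (quotientAut_fpf_single φ N hN σ hfpf)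
  refine ⟨h, hh, (g : P ⧸ N), ?_⟩
  intro heq
  apply hne
  rw [quotientAut_mk] at heq
  rw [← hmemN]
  exact QuotientGroup.eq.mp heq.symm

end Induction

end Cfsg.Agent.Lib.Helper2.CycShultMain
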