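import Mathlib
import Cfsg.Agent.Lib.Helper2.CycShultMain

/-!
# A dimension bound from the Shult–Gross argument for cyclic groups of prime power order

`H` is a cyclic `p`-group acting on the `q`-group `P` (`q ≠ p`), and the semidirect product acts
faithfully on the finite-dimensional space `V` over a field of characteristic different from `p`
and `q`, in such a way that the elements of order `p` of `H` act irreducibly and without nonzero
fixed vectors on `V`.  If `Ω₁(H)` acts nontrivially on `P`, then there is a nontrivial subgroup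
`B ≤ H` with `|B| ≤ dim V + 1`, and `|B| ≤ dim V` if `B ≠ H` (`main`).
-/

set_option autoImplicit false

namespace Cfsg.Agent.Lib.Helper2.CycShultDim

open scoped BigOperators commutatorElement TensorProduct
open Module Cfsg.Agent.Lib.Helper2.FreeAssembly Cfsg.Agent.Lib.Helper2.ShultCore
  Cfsg.Agent.Lib.Helper2.ShultB Cfsg.Agent.Lib.Helper2.ShultBase
  Cfsg.Agent.Lib.Helper2.FrobFree Cfsg.Agent.Lib.Helper2.CycCrit
  Cfsg.Agent.Lib.Helper2.CycShultMain

section AC

universe uK uP uH uV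

variable {K : Type uK} [Field K] [IsAlgClosed K] {P : Type uP} [Group P] [Finite P]
  [Group.IsNilpotent P] {H : Type uH} [Group H] [Finite H] [IsCyclic H] {V : Type uV}
  [AddCommGroup V] [Module K V] [FiniteDimensional K V] [Nontrivial V]
  {p : ℕ} [hp : Fact p.Prime]

set_option maxHeartbeats 800000 in
/-- A simple `P`-submodule stable under `B ≤ H`, on which `B` has no nonzero fixed vector, has
dimension `|B| - 1`. -/
theorem stable_dim (hH : IsPGroup p H) (φ : H →* MulAut P) (ρ : Representation K P V)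
    (τ : Representation K H V)
    (hcompat : ∀ (h : H) (g : P) (v : V), τ h (ρ g v) = ρ (φ h g) (τ h v))
    (h1 : ∀ a b : P, ⁅a, b⁆ ∈ Subgroup.center P)
    (h3 : ∀ h, h ≠ 1 → ∀ g, g⁻¹ * φ h g ∈ Subgroup.center P → g ∈ Subgroup.center P)
    (hc : ∀ v : V, (∀ c ∈ commutator P, ρ c v = v) → v = 0)
    (hPK : (Nat.card P : K) ≠ 0) (hpK : (p : K) ≠ 0)
    (B : Subgroup H) (U : Submodule K V) (hU0 : U ≠ ⊥) (hUinv : ∀ g, U ≤ U.comap (ρ g))
    (hUs : ∀ W : Submodule K V, W ≤ U → (∀ g, W ≤ W.comap (ρ g)) → W = ⊥ ∨ W = U)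
    (hUB : ∀ h ∈ B, U ≤ U.comap (τ h))
    (hUfix : ∀ u ∈ U, (∀ h ∈ B, τ h u = u) → u = 0) :
    finrank K ↥U + 1 = Nat.card ↥B := by
  classical
  set ρ' := ρ.subrepresentation U hUinv with hρ'
  let τB : Representation K ↥B V := τ.comp B.subtype
  have hUτB : ∀ h : ↥B, U ≤ U.comap (τB h) := fun h => hUB h h.2
  set τ' := τB.subrepresentation U hUτB with hτ'
  let φB : ↥B →* MulAut P := φ.comp B.subtype
  have hρ'val : ∀ g (u : ↥U), ((ρ' g u : ↥U) : V) = ρ g u := fun g u => rfl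
  have hτ'val : ∀ (h : ↥B) (u : ↥U), ((τ' h u : ↥U) : V) = τ h u := fun h u => rfl
  have hirr := hirr_of_simple ρ U hUinv hUs
  have hnt : Nontrivial ↥U := Submodule.nontrivial_iff_ne_bot.mpr hU0
  -- a generator of `B`
  obtain ⟨x, hx⟩ := IsCyclic.exists_generator (α := ↥B)
  -- the centre acts by scalars
  have hZ : Subgroup.center P ≤ scalarKer ρ' := by
    intro z hz
    rw [mem_scalarKer_iff ρ' hirr]
    refine schur ρ' hirr (ρ' z) fun g => ?_
    have e1 : ρ' g ∘ₗ ρ' z = ρ' (g * z) := by rw [map_mul]; rfl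
    have e2 : ρ' z ∘ₗ ρ' g = ρ' (z * g) := by rw [map_mul]; rfl
    rw [e1, e2, (Subgroup.mem_center_iff.mp hz) g]
  have hfix' : ∀ u : ↥U, τ' x u = u → u = 0 := by
    intro u hu
    apply Subtype.ext
    apply hUfix u u.2
    let St : Subgroup ↥B :=
      { carrier := {h | τ h (u : V) = u}
        mul_mem' := fun {a b} ha hb => by
          show τ ((a * b : ↥B) : H) (u : V) = u
          rw [Subgroup.coe_mul, map_mul, Module.End.mul_apply, hb, ha]
        one_mem' := by show τ ((1 : ↥B) : H) (u : V) = u; rw [Subgroup.coe_one, map_one]; rfl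
        inv_mem' := fun {a} ha => by
          show τ ((a⁻¹ : ↥B) : H) (u : V) = u
          rw [Subgroup.coe_inv]
          conv_lhs => rw [← ha]
          exact tau_inv_apply τ a _ }
    have hxS : x ∈ St := by
      show τ x (u : V) = u
      rw [← hτ'val, hu]
    intro h hh
    exact (Subgroup.zpowers_le.mpr hxS) (hx ⟨h, hh⟩)
  have hBK : (Nat.card ↥B : K) ≠ 0 := by
    obtain ⟨a, ha⟩ := IsPGroup.iff_card.mp (hH.to_subgroup B)
    rw [ha, Nat.cast_pow]
    exact pow_ne_zero _ hpK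
  have hcenter_inv : ∀ (h : H), ∀ g ∈ Subgroup.center P, φ h g ∈ Subgroup.center P :=
    fun h g hg => Cfsg.Agent.Lib.Helper2.Critical.map_mem_of_characteristic φ _ h g hg
  have hmain := ShultCore.main φB ρ' τ' (fun h g u => Subtype.ext (hcompat h g u)) hirr
    (Subgroup.center P) hZ (fun h g hg => hcenter_inv h g hg)
    (fun h hh g hg => h3 h (fun e => hh (Subtype.ext e)) g hg) x hx hPK hBK hfix'
  have hker : ∀ g : P, g ∈ MonoidHom.ker ρ' ↔ ρ' g = 1 := fun g => MonoidHom.mem_ker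
  -- the dimension is not one
  have hdim1 : finrank K ↥U ≠ 1 := by
    intro h
    have hcommAll : ∀ a b : P, ρ' a * ρ' b = ρ' b * ρ' a := by
      intro a b
      obtain ⟨v₀, hv₀, hspan⟩ := finrank_eq_one_iff'.mp h
      obtain ⟨ca, hca⟩ := hspan (ρ' a v₀)
      obtain ⟨cb, hcb⟩ := hspan (ρ' b v₀)
      ext w
      obtain ⟨cw, rfl⟩ := hspan w
      simp only [Module.End.mul_apply, map_smul, ← hca, ← hcb, smul_smul, mul_comm]
    have hle : commutator P ≤ MonoidHom.ker ρ' := by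
      rw [commutator_def, Subgroup.commutator_le]
      intro a _ b _
      rw [hker, commutatorElement_def, map_mul, map_mul, map_mul, hcommAll a b,
        mul_assoc (ρ' b), ← map_mul, mul_inv_cancel, map_one, mul_one, ← map_mul,
        mul_inv_cancel, map_one]
    obtain ⟨u, huU, hu0⟩ := Submodule.exists_mem_ne_zero_of_ne_bot hU0
    apply hu0
    apply hc
    intro c hcP
    have h2 := (hker c).mp (hle hcP)
    have h3' := congrArg (fun f : Module.End K ↥U => ((f ⟨u, huU⟩ : ↥U) : V)) h2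
    exact h3'
  exact hmain.resolve_left hdim1

/-- **The dimension bound**, algebraically closed field, class two case. -/
theorem dim_ac (hH : IsPGroup p H) (φ : H →* MulAut P) (ρ : Representation K P V)
    (τ : Representation K H V)
    (hcompat : ∀ (h : H) (g : P) (v : V), τ h (ρ g v) = ρ (φ h g) (τ h v))
    (h1 : ∀ a b : P, ⁅a, b⁆ ∈ Subgroup.center P)
    (h3 : ∀ h, h ≠ 1 → ∀ g, g⁻¹ * φ h g ∈ Subgroup.center P → g ∈ Subgroup.center P)
    (hc : ∀ v : V, (∀ c ∈ commutator P, ρ c v = v) → v = 0)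
    (hPK : (Nat.card P : K) ≠ 0) (hpK : (p : K) ≠ 0)
    (hfix : ∀ v : V, (∀ h, τ h v = v) → v = 0) :
    ∃ B : Subgroup H, B ≠ ⊥ ∧ Nat.card ↥B ≤ finrank K V + 1 ∧
      (B ≠ ⊤ → Nat.card ↥B ≤ finrank K V) := by
  classical
  obtain ⟨B, U, hU0, hUinv, hUs, hUB, hUfix⟩ :=
    StableSimple.exists_stable_simple hH φ ρ τ hcompat hfix
  have hB0 : B ≠ ⊥ := by
    rintro rfl
    obtain ⟨u, huU, hu0⟩ := Submodule.exists_mem_ne_zero_of_ne_bot hU0
    apply hu0
    apply hUfix u huU
    intro h hh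
    rw [Subgroup.mem_bot] at hh
    subst hh
    rw [map_one]; rfl
  have hdim := stable_dim hH φ ρ τ hcompat h1 h3 hc hPK hpK B U hU0 hUinv hUs hUB hUfix
  have hle : finrank K ↥U ≤ finrank K V := Submodule.finrank_le U
  refine ⟨B, hB0, by omega, ?_⟩
  intro hBtop
  have hUtop : U ≠ ⊤ := by
    intro hUtop
    apply hBtop
    have hdim' := stable_dim hH φ ρ τ hcompat h1 h3 hc hPK hpK ⊤ U hU0 hUinv hUs
      (fun h _ => by rw [hUtop, Submodule.comap_top])
      (fun u _ hu => hfix u (fun h => hu h (Subgroup.mem_top h)))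
    rw [Subgroup.card_top] at hdim'
    apply Subgroup.eq_top_of_card_eq
    omega
  have hlt : finrank K ↥U < finrank K V := Submodule.finrank_lt hUtop
  omega

end AC

section Field

variable {k : Type*} [Field k] {P : Type*} [Group P] [Finite P] [Group.IsNilpotent P]
  {H : Type*} [Group H] [Finite H] [IsCyclic H] {V : Type*} [AddCommGroup V] [Module k V]
  [FiniteDimensional k V] {p : ℕ} [hp : Fact p.Prime]

/-- **The dimension bound**, arbitrary field, class two case. -/
theorem dim_field [Nontrivial V] (hH : IsPGroup p H) (φ : H →* MulAut P)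
    (ρ : Representation k P V) (τ : Representation k H V)
    (hcompat : ∀ (h : H) (g : P) (v : V), τ h (ρ g v) = ρ (φ h g) (τ h v))
    (h1 : ∀ a b : P, ⁅a, b⁆ ∈ Subgroup.center P)
    (h3 : ∀ h, h ≠ 1 → ∀ g, g⁻¹ * φ h g ∈ Subgroup.center P → g ∈ Subgroup.center P)
    (hc : ∀ v : V, (∀ c ∈ commutator P, ρ c v = v) → v = 0)
    (hPk : (Nat.card P : k) ≠ 0) (hpk : (p : k) ≠ 0)
    (hfix : ∀ v : V, (∀ h, τ h v = v) → v = 0) :
    ∃ B : Subgroup H, B ≠ ⊥ ∧ Nat.card ↥B ≤ finrank k V + 1 ∧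
      (B ≠ ⊤ → Nat.card ↥B ≤ finrank k V) := by
  classical
  have := Fintype.ofFinite H
  have := Fintype.ofFinite ↥(commutator P)
  let K := AlgebraicClosure k
  have hinj : Function.Injective (algebraMap k K) := (algebraMap k K).injective
  have hcast : ∀ n : ℕ, (n : k) ≠ 0 → (n : K) ≠ 0 := by
    intro n hn h0
    apply hn
    apply hinj
    rw [map_natCast, map_zero]; exact h0
  have hfin : FiniteDimensional K (K ⊗[k] V) := inferInstance
  have hrank : finrank K (K ⊗[k] V) = finrank k V := Module.finrank_baseChange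
  have hnt : Nontrivial (K ⊗[k] V) := by
    apply Module.nontrivial_of_finrank_pos (R := K)
    rw [hrank]
    exact Module.finrank_pos
  have hHk : (Fintype.card H : k) ≠ 0 := by
    obtain ⟨a, ha⟩ := IsPGroup.iff_card.mp hH
    rw [← Nat.card_eq_fintype_card, ha, Nat.cast_pow]
    exact pow_ne_zero _ hpk
  have hCk : (Fintype.card ↥(commutator P) : k) ≠ 0 := by
    intro h0
    apply hPk
    obtain ⟨c, hc'⟩ := Subgroup.card_subgroup_dvd_card (commutator P)
    rw [hc', Nat.cast_mul, Nat.card_eq_fintype_card, h0, zero_mul]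
  rw [← hrank]
  refine dim_ac (K := K) hH φ (bcRep K ρ) (bcRep K τ) ?_ h1 h3 ?_
    (hcast _ hPk) (hcast _ hpk) ?_
  · intro h g w
    have e : τ h * ρ g = ρ (φ h g) * τ h := by
      ext v; exact hcompat h g v
    have e' := congrArg (fun F : Module.End k V => F.baseChange K) e
    simp only [LinearMap.baseChange_mul] at e'
    exact LinearMap.congr_fun e' w
  · intro w hw
    refine CycShultField.baseChange_no_common_fixed K (ρ.comp (commutator P).subtype)
      (hcast _ hCk) ?_ w ?_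
    · intro v hv
      exact hc v (fun c hcP => hv ⟨c, hcP⟩)
    · intro c
      exact hw c c.2
  · intro w hw
    exact CycShultField.baseChange_no_common_fixed K τ (hcast _ hHk) hfix w hw

end Field

section Crit

variable {k : Type*} [Field k] {P : Type*} [Group P] [Finite P] {H : Type*} [Group H] [Finite H]
  [IsCyclic H] {V : Type*} [AddCommGroup V] [Module k V] [FiniteDimensional k V]
  {p q : ℕ} [hp : Fact p.Prime] [hq : Fact q.Prime]

set_option maxHeartbeats 800000 in
/-- The critical case. -/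
theorem critical_case (hpq : p ≠ q) (hH : IsPGroup p H) (hP : IsPGroup q P)
    (φ : H →* MulAut P) (ρ : Representation k P V) (τ : Representation k H V)
    (hcompat : ∀ (h : H) (g : P) (v : V), τ h (ρ g v) = ρ (φ h g) (τ h v))
    (hρ : Function.Injective ρ) (hcrit : IsCrit φ (omega H p))
    (hqk : (q : k) ≠ 0) (hpk : (p : k) ≠ 0)
    (hfixΩ : ∀ h : H, h ≠ 1 → h ^ p = 1 → ∀ v : V, τ h v = v → v = 0)
    (hirrΩ : ∀ h : H, h ≠ 1 → h ^ p = 1 → ∀ W : Submodule k V, W ≤ W.comap (τ h) →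
      W = ⊥ ∨ W = ⊤) :
    ∃ B : Subgroup H, B ≠ ⊥ ∧ Nat.card ↥B ≤ finrank k V + 1 ∧
      (B ≠ ⊤ → Nat.card ↥B ≤ finrank k V) := by
  classical
  have hnil : Group.IsNilpotent P := hP.isNilpotent
  obtain ⟨a, ha⟩ := IsPGroup.iff_card.mp hP
  obtain ⟨n, hn⟩ := IsPGroup.iff_card.mp hH
  have hPk : (Nat.card P : k) ≠ 0 := by
    rw [ha, Nat.cast_pow]; exact pow_ne_zero _ hqk
  have hcop : (Nat.card P).Coprime (Nat.card H) := by
    rw [ha, hn]
    exact Nat.Coprime.pow _ _ ((Nat.coprime_primes hq.out hp.out).mpr hpq.symm)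
  have hcomm : ∀ x y : H, x * y = y * x :=
    fun x y => (IsCyclic.isMulCommutative (α := H)).is_comm.comm x y
  have hntH : Nontrivial H := by
    obtain ⟨h, -, g, hg⟩ := hcrit.nontriv
    refine ⟨⟨h, 1, ?_⟩⟩
    rintro rfl
    exact hg (by rw [map_one]; rfl)
  have hH₁ : Nat.card (omega H p) = p := card_omega hH
  have hpow := exists_pow_mem_omega hH
  -- a nontrivial element of `Ω₁(H)`
  obtain ⟨h₀, hh₀, hh₀1⟩ : ∃ h₀ : H, h₀ ∈ omega H p ∧ h₀ ≠ 1 := by
    obtain ⟨h, hh1⟩ := exists_ne (1 : H)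
    obtain ⟨j, hj, hj1⟩ := hpow h hh1
    exact ⟨h ^ j, hj, hj1⟩
  have hh₀p : h₀ ^ p = 1 := mem_omega.mp hh₀
  have hfix : ∀ v : V, (∀ h, τ h v = v) → v = 0 := fun v hv => hfixΩ h₀ hh₀1 hh₀p v (hv h₀)
  by_cases hab : ∀ x y : P, x * y = y * x
  · -- the abelian case: `V` contains a free module
    exfalso
    have hfpf' := abelian_case φ (omega H p) hH₁ hpow hcomm hcop hcrit hab
    have hTk : (Nat.card ↥(⊤ : Subgroup P) : k) ≠ 0 := by
      rw [Subgroup.card_top]; exact hPk
    have := Fintype.ofFinite ↥(⊤ : Subgroup P)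
    have hfree := FrobFreeCompl.freeOn_ker_avg φ hfpf' ρ τ hcompat hTk
    have hM : LinearMap.ker (avg ρ ⊤) ≠ ⊥ := by
      intro hbot
      have htop := fixedSub_sup_ker ρ ⊤ hTk
      rw [hbot, sup_bot_eq] at htop
      obtain ⟨h, -, g, hg⟩ := hcrit.nontriv
      apply hg
      have h1 : ∀ g : P, ρ g = 1 := by
        intro g
        ext v
        have : v ∈ fixedSub ρ ⊤ := htop ▸ Submodule.mem_top
        exact this g (Subgroup.mem_top g)
      apply hρ
      rw [h1, h1]
    obtain ⟨v, hv0, hv⟩ := ShultG.exists_fixed_of_freeOn τ _ hM hfree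
    exact hv0 (hfix v hv)
  · -- the nonabelian case
    push Not at hab
    obtain ⟨h1, h2, h3⟩ := nonabelian_case φ (omega H p) hH₁ hpow hcomm hcop hcrit hab
    obtain ⟨x, y, hxy⟩ := hab
    have hcP : ⁅x, y⁆ ∈ commutator P := by
      rw [commutator_def]
      exact Subgroup.commutator_mem_commutator (Subgroup.mem_top _) (Subgroup.mem_top _)
    have hc1 : ⁅x, y⁆ ≠ 1 := fun h => hxy (commutatorElement_eq_one_iff_mul_comm.mp h)
    have hcfix : φ h₀ ⁅x, y⁆ = ⁅x, y⁆ := h2 h₀ hh₀ _ (h1 x y)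
    -- the fixed space of the commutator is invariant under `h₀`
    let W : Submodule k V := LinearMap.ker (ρ ⁅x, y⁆ - 1)
    have hWmem : ∀ v : V, v ∈ W ↔ ρ ⁅x, y⁆ v = v := by
      intro v
      rw [LinearMap.mem_ker, LinearMap.sub_apply, sub_eq_zero]
      rfl
    have hWinv : W ≤ W.comap (τ h₀) := by
      intro v hv
      rw [Submodule.mem_comap, hWmem]
      rw [hWmem] at hv
      have := hcompat h₀ ⁅x, y⁆ v
      rw [hcfix, hv] at this
      exact this.symm
    have hWbot : W = ⊥ := by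
      rcases hirrΩ h₀ hh₀1 hh₀p W hWinv with h | h
      · exact h
      · exfalso
        apply hc1
        apply hρ
        rw [map_one]
        ext v
        have : v ∈ W := h ▸ Submodule.mem_top
        exact (hWmem v).mp this
    have hc : ∀ v : V, (∀ c ∈ commutator P, ρ c v = v) → v = 0 := by
      intro v hv
      have : v ∈ W := (hWmem v).mpr (hv _ hcP)
      rw [hWbot, Submodule.mem_bot] at this
      exact this
    have hntV : Nontrivial V := by
      by_contra hsub
      rw [not_nontrivial_iff_subsingleton] at hsub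
      apply hc1
      apply hρ
      ext v
      exact Subsingleton.elim _ _
    exact dim_field hH φ ρ τ hcompat h1 h3 hc hPk hpk hfix

end Crit

section Induction

universe uk uP uH uV

variable {k : Type uk} [Field k] {H : Type uH} [Group H] [Finite H] [IsCyclic H]
  {V : Type uV} [AddCommGroup V] [Module k V] [FiniteDimensional k V]
  {p q : ℕ} [hp : Fact p.Prime] [hq : Fact q.Prime]

theorem faithful_aux (hpq : p ≠ q) (hH : IsPGroup p H) (τ : Representation k H V)
    (hqk : (q : k) ≠ 0) (hpk : (p : k) ≠ 0)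
    (hfixΩ : ∀ h : H, h ≠ 1 → h ^ p = 1 → ∀ v : V, τ h v = v → v = 0)
    (hirrΩ : ∀ h : H, h ≠ 1 → h ^ p = 1 → ∀ W : Submodule k V, W ≤ W.comap (τ h) →
      W = ⊥ ∨ W = ⊤) :
    ∀ (n : ℕ) (P : Type uP) [Group P] [Finite P], Nat.card P = n → IsPGroup q P →
      ∀ (φ : H →* MulAut P) (ρ : Representation k P V),
      (∀ (h : H) (g : P) (v : V), τ h (ρ g v) = ρ (φ h g) (τ h v)) →
      Function.Injective ρ → (∃ h ∈ omega H p, ∃ g, φ h g ≠ g) →
      ∃ B : Subgroup H, B ≠ ⊥ ∧ Nat.card ↥B ≤ finrank k V + 1 ∧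
        (B ≠ ⊤ → Nat.card ↥B ≤ finrank k V) := by
  intro n
  induction n using Nat.strong_induction_on with
  | _ n ih =>
  intro P _ _ hcard hP φ ρ hcompat hρ hnt
  by_cases hcrit : IsCrit φ (omega H p)
  · exact critical_case hpq hH hP φ ρ τ hcompat hρ hcrit hqk hpk hfixΩ hirrΩ
  · have hex : ∃ P₁ : Subgroup P, P₁ ≠ ⊤ ∧ (∀ h, ∀ g ∈ P₁, φ h g ∈ P₁) ∧
        ∃ h ∈ omega H p, ∃ g ∈ P₁, φ h g ≠ g := by
      by_contra hno
      apply hcrit
      refine ⟨?_, hnt⟩
      intro P₁ hne hinv h hh g hg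
      by_contra hgne
      exact hno ⟨P₁, hne, hinv, h, hh, g, hg, hgne⟩
    obtain ⟨P₁, hne, hinv, h₀, hh₀, g₀, hg₀, hne₀⟩ := hex
    have hlt : Nat.card ↥P₁ < n := by
      rw [← hcard]
      apply lt_of_le_of_ne (Subgroup.card_le_card_group P₁)
      intro heq
      exact hne (Subgroup.eq_top_of_card_eq P₁ heq)
    exact ih _ hlt ↥P₁ rfl (hP.to_subgroup P₁) (restrictAut φ P₁ hinv)
      (ρ.comp P₁.subtype) (fun h g v => hcompat h g v)
      (fun a b hab => Subtype.ext (hρ hab))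
      ⟨h₀, hh₀, ⟨g₀, hg₀⟩, fun h => hne₀ (congrArg Subtype.val h)⟩

/-- **The dimension bound.** -/
theorem main {P : Type uP} [Group P] [Finite P] (hpq : p ≠ q) (hH : IsPGroup p H)
    (hP : IsPGroup q P) (φ : H →* MulAut P) (ρ : Representation k P V) (τ : Representation k H V)
    (hcompat : ∀ (h : H) (g : P) (v : V), τ h (ρ g v) = ρ (φ h g) (τ h v))
    (hρ : Function.Injective ρ) (hqk : (q : k) ≠ 0) (hpk : (p : k) ≠ 0)
    (hfixΩ : ∀ h : H, h ≠ 1 → h ^ p = 1 → ∀ v : V, τ h v = v → v = 0)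
    (hirrΩ : ∀ h : H, h ≠ 1 → h ^ p = 1 → ∀ W : Submodule k V, W ≤ W.comap (τ h) →
      W = ⊥ ∨ W = ⊤)
    (hnt : ∃ h : H, h ^ p = 1 ∧ ∃ g, φ h g ≠ g) :
    ∃ B : Subgroup H, B ≠ ⊥ ∧ Nat.card ↥B ≤ finrank k V + 1 ∧
      (B ≠ ⊤ → Nat.card ↥B ≤ finrank k V) := by
  obtain ⟨h, hh, g, hg⟩ := hnt
  exact faithful_aux hpq hH τ hqk hpk hfixΩ hirrΩ _ P rfl hP φ ρ hcompat hρ
    ⟨h, mem_omega.mpr hh, g, hg⟩

end Induction

end Cfsg.Agent.Lib.Helper2.CycShultDim
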