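import Mathlib
import Cfsg.Agent.Lib.Helper2.CycShultMain
import Cfsg.Agent.Lib.Helper2.ShultGroup
import Cfsg.Agent.Lib.Helper1.Fitting
import Cfsg.Agent.S0044

/-!
# The Shult–Gross theorem for actions on elementary abelian groups

* `main_group`: the group-theoretic form of `CycShultMain.main` (the module is a finite elementary
  abelian `r`-group).
* `centralizes`: if the cyclic `p`-group `H = ⟨σ⟩` (`p` odd) acts on the finite solvable `p'`-group
  `K` with `σ` fixed-point-free, and the semidirect product acts on the elementary abelian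
  `r`-group `W`, faithfully for `K`, with `O_r(K) = 1` and `C_W(H) = 1`, then `Ω₁(H)` centralizes
  `K`.
-/

set_option autoImplicit false

namespace Cfsg.Agent.Lib.Helper2.CycShultGroup

open scoped commutatorElement
open Cfsg.Agent.Lib.Helper2.FrobCount Cfsg.Agent.Lib.Helper2.FrobFree
  Cfsg.Agent.Lib.Helper2.ShultGroup

section GroupForm

variable {P H V : Type*} [Group P] [Finite P] [Group H] [Finite H] [IsCyclic H] [CommGroup V]
  [Finite V] {p q r : ℕ} [hp : Fact p.Prime] [hq : Fact q.Prime] [hr : Fact r.Prime]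

/-- **The Shult–Gross fixed vector theorem**, for an elementary abelian `r`-group `V`. -/
theorem main_group (hV : ∀ v : V, v ^ r = 1) (hP : IsPGroup q P) (hH : IsPGroup p H)
    (hp2 : p ≠ 2) (hpq : p ≠ q) (hrq : r ≠ q) (hrp : r ≠ p)
    (φ : H →* MulAut P) (αP : P →* MulAut V) (αH : H →* MulAut V)
    (hcompat : ∀ (h : H) (g : P) (v : V), αH h (αP g v) = αP (φ h g) (αH h v))
    (σ : H) (hσ : ∀ h : H, h ∈ Subgroup.zpowers σ) (hfpf : ∀ g : P, φ σ g = g → g = 1)
    (hfix : ∀ v : V, (∀ h : H, αH h v = v) → v = 1) :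
    ∀ h : H, h ^ p = 1 → ∀ g v, αP (g⁻¹ * φ h g) v = v := by
  have hA : ∀ x : Additive V, r • x = 0 := fun x => by
    show Additive.ofMul ((Additive.toMul x) ^ r) = Additive.ofMul 1
    rw [hV]
  have inst : Module (ZMod r) (Additive V) := AddCommGroup.zmodModule hA
  have : Finite (Additive V) := inferInstanceAs (Finite V)
  have hfin : Module.Finite (ZMod r) (Additive V) := Module.Finite.of_finite
  have key := CycShultMain.main (k := ZMod r) (V := Additive V) hp2 hpq hH hP φ (zrep r αP)
    (zrep r αH)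
    (fun h g v => by
      rw [zrep_apply, zrep_apply, zrep_apply, zrep_apply]
      exact congrArg Additive.ofMul (hcompat h g (Additive.toMul v)))
    (natCast_ne_zero_of_ne hq.out hrq) (natCast_ne_zero_of_ne hp.out hrp) σ hσ hfpf
    (fun v hv => by
      have := hfix (Additive.toMul v) fun h => congrArg Additive.toMul (hv h)
      exact congrArg Additive.ofMul this)
  intro h hh g v
  have := LinearMap.congr_fun (key h hh g) (Additive.ofMul v)
  rw [zrep_apply] at this
  exact congrArg Additive.toMul this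

end GroupForm

section Centralizes

variable {K H W : Type*} [Group K] [Finite K] [Group H] [Finite H] [IsCyclic H] [CommGroup W]
  [Finite W] {p r : ℕ} [hp : Fact p.Prime] [hr : Fact r.Prime]

/-- An automorphism of order prime to `|K|` of a finite solvable group `K` which centralizes the
Fitting subgroup is trivial. -/
theorem eq_of_fixes_fitting [Group.IsSolvable K] (φ : H →* MulAut K)
    (hcop : (Nat.card K).Coprime (Nat.card H)) (h : H)
    (hF : ∀ f ∈ Cfsg.fittingSubgroup K, φ h f = f) (k : K) : φ h k = k := by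
  have hFn : (Cfsg.fittingSubgroup K).Normal := inferInstance
  apply Critical.eq_of_fixed_comm φ hcop h k
  apply hF
  apply Cfsg.Agent.S0044.result
  rw [Subgroup.mem_centralizer_iff]
  intro f hf
  -- `φ h (k f k⁻¹) = k f k⁻¹`
  have h1 : φ h (k * f * k⁻¹) = k * f * k⁻¹ := hF _ (hFn.conj_mem f hf k)
  rw [map_mul, map_mul, map_inv, hF f hf] at h1
  -- hence `k⁻¹ φ(k)` commutes with `f`
  have h2 : f * (k⁻¹ * φ h k) = k⁻¹ * (k * f * k⁻¹) * φ h k := by group
  rw [h2, ← h1]
  group

set_option maxHeartbeats 800000 in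
/-- **`Ω₁(H)` centralizes `K`.** -/
theorem centralizes (hK : Group.IsSolvable K) (hW : ∀ w : W, w ^ r = 1) (hH : IsPGroup p H)
    (hp2 : p ≠ 2) (hpK : ¬ p ∣ Nat.card K) (hrp : r ≠ p)
    (φ : H →* MulAut K) (αK : K →* MulAut W) (αH : H →* MulAut W)
    (hcompat : ∀ (h : H) (g : K) (v : W), αH h (αK g v) = αK (φ h g) (αH h v))
    (hαK : Function.Injective αK) (hOr : Cfsg.pCore r K = ⊥)
    (σ : H) (hσ : ∀ h : H, h ∈ Subgroup.zpowers σ) (hfpf : ∀ g : K, φ σ g = g → g = 1)
    (hfix : ∀ v : W, (∀ h : H, αH h v = v) → v = 1) :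
    ∀ h : H, h ^ p = 1 → ∀ k : K, φ h k = k := by
  intro h hh
  have hcop : (Nat.card K).Coprime (Nat.card H) := by
    obtain ⟨n, hn⟩ := IsPGroup.iff_card.mp hH
    rw [hn]
    exact Nat.Coprime.pow_right _ ((Nat.Prime.coprime_iff_not_dvd hp.out).mpr hpK).symm
  -- the fixed points of `φ h`
  let Fx : Subgroup K :=
    { carrier := {k | φ h k = k}
      mul_mem' := fun {a b} ha hb => by
        show φ h (a * b) = a * b
        rw [map_mul, ha, hb]
      one_mem' := map_one _
      inv_mem' := fun {a} ha => by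
        show φ h a⁻¹ = a⁻¹
        rw [map_inv, ha] }
  have hcore : ∀ q : Nat.Primes, Cfsg.pCore (q : ℕ) K ≤ Fx := by
    intro q
    have hqf : Fact (q : ℕ).Prime := ⟨q.2⟩
    by_cases hqr : (q : ℕ) = r
    · rw [hqr, hOr]; exact bot_le
    by_cases hqp : (q : ℕ) = p
    · -- a `p`-subgroup of the `p'`-group `K` is trivial
      have hT : IsPGroup p ↥(Cfsg.pCore (q : ℕ) K) := hqp ▸ Cfsg.Agent.Lib.Helper1.pCore_isPGroup _
      obtain ⟨m, hm⟩ := IsPGroup.iff_card.mp hT
      have hdvd := Subgroup.card_subgroup_dvd_card (Cfsg.pCore (q : ℕ) K)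
      rw [hm] at hdvd
      have hm0 : m = 0 := by
        by_contra hm0
        exact hpK ((dvd_pow_self p hm0).trans hdvd)
      rw [hm0, pow_zero] at hm
      rw [Subgroup.card_eq_one.mp hm]
      exact bot_le
    · -- the Shult–Gross theorem
      set T := Cfsg.pCore (q : ℕ) K with hT
      have hTchar : T.Characteristic := inferInstance
      have hTinv : ∀ h' : H, ∀ g ∈ T, φ h' g ∈ T :=
        fun h' g hg => Critical.map_mem_of_characteristic φ _ h' g hg
      have hTq : IsPGroup (q : ℕ) ↥T := Cfsg.Agent.Lib.Helper1.pCore_isPGroup _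
      have key := main_group (P := ↥T) (q := (q : ℕ)) hW hTq hH hp2 (fun e => hqp e.symm)
        (fun e => hqr e.symm) hrp (restrictAut φ T hTinv) (αK.comp T.subtype) αH
        (fun h' g v => hcompat h' g v) σ hσ
        (fun g hg => Subtype.ext (hfpf g (congrArg Subtype.val hg))) hfix h hh
      intro g hg
      show φ h g = g
      have h1 : αK (g⁻¹ * φ h g) = 1 := by
        ext v
        exact key ⟨g, hg⟩ v
      have h2 : g⁻¹ * φ h g = 1 := hαK (by rw [h1, map_one])
      exact (inv_mul_eq_one.mp h2).symm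
  have hFit : Cfsg.fittingSubgroup K ≤ Fx := by
    rw [Cfsg.Agent.Lib.Helper1.fittingSubgroup_eq_iSup_pCore]
    exact iSup_le hcore
  intro k
  exact eq_of_fixes_fitting φ hcop h (fun f hf => hFit hf) k

end Centralizes

end Cfsg.Agent.Lib.Helper2.CycShultGroup
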