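import Mathlib

/-!
# Norm maps for two commuting operators of prime order on an abelian group

`A` an additive commutative group, `α ζ` commuting endomorphisms with `α ^ p = ζ ^ p = 1`, `ζ` without
nonzero fixed points and `A` without `p`-torsion.  With `β i = α * ζ ^ i` (`i : ZMod p`) and
`B i = {a | β i a = a}`:

* `smul_eq_sum_nrm` : `p • a = ∑ i, nrm (β i) a`, each summand lying in `B i`;
* `eq_zero_of_sum_eq_zero` : the `B i` are independent;
* `prod_card_le` : `∏ i, |B i| ≤ |A|`.
-/

set_option autoImplicit false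
set_option linter.unusedSectionVars false

namespace Cfsg.Agent.Lib.Helper2.NormDecomp

open Finset

variable {A : Type*} [AddCommGroup A] {p : ℕ} [Fact p.Prime]

theorem mul_app (f g : AddMonoid.End A) (a : A) : (f * g) a = f (g a) := rfl

theorem add_app (f g : AddMonoid.End A) (a : A) : (f + g) a = f a + g a := rfl

theorem one_app (a : A) : (1 : AddMonoid.End A) a = a := rfl

theorem sum_app {ι : Type*} (s : Finset ι) (f : ι → AddMonoid.End A) (a : A) :
    (∑ i ∈ s, f i) a = ∑ i ∈ s, f i a :=
  (AddMonoidHom.finsetSum_apply f s a)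

/-- The norm `∑ k, β ^ k` of an endomorphism, `k` ranging over `ZMod p`. -/
def nrm (p : ℕ) [Fact p.Prime] (β : AddMonoid.End A) : AddMonoid.End A := ∑ k : ZMod p, β ^ k.val

theorem pow_val_add_eq {M : Type*} [Monoid M] {β : M} (hβ : β ^ p = 1) (a b : ZMod p) :
    β ^ (a + b).val = β ^ a.val * β ^ b.val := by
  rw [ZMod.val_add, ← pow_eq_pow_mod _ hβ, pow_add]

theorem pow_val_mul_eq {M : Type*} [Monoid M] {β : M} (hβ : β ^ p = 1) (a b : ZMod p) :
    β ^ (a * b).val = β ^ (a.val * b.val) := by
  rw [ZMod.val_mul, ← pow_eq_pow_mod _ hβ]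

theorem mul_nrm {β : AddMonoid.End A} (hβ : β ^ p = 1) : β * nrm p β = nrm p β := by
  unfold nrm
  rw [Finset.mul_sum]
  have h1 : ∀ k : ZMod p, β * β ^ k.val = β ^ (k + 1).val := by
    intro k
    rw [pow_val_add_eq hβ, ZMod.val_one, pow_one]
    exact (Commute.pow_right (Commute.refl β) _).eq
  simp only [h1]
  exact Equiv.sum_comp (Equiv.addRight (1 : ZMod p)) (fun k => β ^ k.val)

theorem nrm_apply_fixed {β : AddMonoid.End A} (hβ : β ^ p = 1) (a : A) :
    β (nrm p β a) = nrm p β a := by
  have := congrArg (fun f : AddMonoid.End A => f a) (mul_nrm hβ)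
  simpa using this

theorem nrm_apply_of_fixed {β : AddMonoid.End A} {a : A} (h : β a = a) : nrm p β a = p • a := by
  unfold nrm
  have h1 : ∀ n : ℕ, (β ^ n) a = a := by
    intro n
    induction n with
    | zero => simp
    | succ n ih => rw [pow_succ, mul_app, h, ih]
  rw [sum_app]
  simp only [h1]
  rw [Finset.sum_const, Finset.card_univ, ZMod.card]

theorem commute_nrm {β γ : AddMonoid.End A} (h : Commute γ β) : Commute γ (nrm p β) := by
  unfold nrm
  exact Commute.sum_right _ _ _ (fun k _ => h.pow_right _)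

section Main
variable {α ζ : AddMonoid.End A} (hα : α ^ p = 1) (hζ : ζ ^ p = 1) (hc : Commute α ζ)
  (hfix : ∀ a : A, ζ a = a → a = 0) (htor : ∀ a : A, p • a = 0 → a = 0)

/-- The operators `β i = α * ζ ^ i`. -/
def bet (α ζ : AddMonoid.End A) (i : ZMod p) : AddMonoid.End A := α * ζ ^ i.val

include hα hζ hc in
theorem bet_pow (i : ZMod p) : (bet α ζ i) ^ p = 1 := by
  unfold bet
  rw [(hc.pow_right _).mul_pow, hα, one_mul, ← pow_mul, mul_comm, pow_mul, hζ, one_pow]

/-- The fixed points of `β i`. -/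
def fixB (α ζ : AddMonoid.End A) (i : ZMod p) : AddSubgroup A where
  carrier := {a | bet α ζ i a = a}
  zero_mem' := map_zero _
  add_mem' := by
    intro a b ha hb
    show bet α ζ i (a + b) = a + b
    rw [map_add, show bet α ζ i a = a from ha, show bet α ζ i b = b from hb]
  neg_mem' := by
    intro a ha
    show bet α ζ i (-a) = -a
    rw [map_neg, show bet α ζ i a = a from ha]

theorem mem_fixB {i : ZMod p} {a : A} : a ∈ fixB α ζ i ↔ bet α ζ i a = a := Iff.rfl

include hζ hfix in
theorem nrm_zeta_apply (a : A) : nrm p ζ a = 0 := hfix _ (nrm_apply_fixed hζ a)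

include hα hζ hc in
theorem sum_nrm_bet :
    ∑ i : ZMod p, nrm p (bet α ζ i) =
      (p : AddMonoid.End A) + (∑ k ∈ (univ : Finset (ZMod p)).erase 0, α ^ k.val) * nrm p ζ := by
  have hp : p.Prime := Fact.out
  have e1 : ∀ i k : ZMod p, (bet α ζ i) ^ k.val = α ^ k.val * ζ ^ (i * k).val := by
    intro i k
    unfold bet
    rw [(hc.pow_right _).mul_pow, ← pow_mul, pow_val_mul_eq hζ]
  unfold nrm
  simp only [e1]
  rw [Finset.sum_comm]
  simp only [← Finset.mul_sum]
  rw [← Finset.add_sum_erase _ _ (Finset.mem_univ (0 : ZMod p))]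
  congr 1
  · simp [ZMod.card]
  · rw [Finset.sum_mul]
    apply Finset.sum_congr rfl
    intro k hk
    have hk0 : k ≠ 0 := (Finset.mem_erase.mp hk).1
    congr 1
    exact Equiv.sum_comp (Equiv.mulRight₀ k hk0) (fun t : ZMod p => ζ ^ t.val)

include hα hζ hc hfix in
theorem smul_eq_sum_nrm (a : A) : p • a = ∑ i : ZMod p, nrm p (bet α ζ i) a := by
  have h := congrArg (fun f : AddMonoid.End A => f a) (sum_nrm_bet hα hζ hc)
  simp only [sum_app, add_app, mul_app,
    nrm_zeta_apply hζ hfix, map_zero, add_zero] at h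
  rw [h]
  simp

include hα hζ hc in
theorem nrm_bet_mem (i : ZMod p) (a : A) : nrm p (bet α ζ i) a ∈ fixB α ζ i :=
  mem_fixB.mpr (nrm_apply_fixed (bet_pow hα hζ hc i) a)

include hα hζ hc hfix in
/-- `nrm (β j)` kills the fixed points of `β i` for `i ≠ j`. -/
theorem nrm_bet_apply_of_ne {i j : ZMod p} (hij : i ≠ j) {b : A} (hb : b ∈ fixB α ζ i) :
    nrm p (bet α ζ j) b = 0 := by
  have hp : p.Prime := Fact.out
  set c := nrm p (bet α ζ j) b with hcdef
  have hbi : bet α ζ i b = b := mem_fixB.mp hb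
  have hcomm : Commute (bet α ζ i) (bet α ζ j) := by
    unfold bet
    exact (Commute.mul_left (Commute.mul_right (Commute.refl α) (hc.pow_right _))
      (Commute.mul_right (hc.symm.pow_left _) ((Commute.refl ζ).pow_pow _ _)))
  have h1 : bet α ζ j c = c := nrm_apply_fixed (bet_pow hα hζ hc j) b
  have h2 : bet α ζ i c = c := by
    have := (commute_nrm (p := p) hcomm).eq
    have h3 := congrArg (fun f : AddMonoid.End A => f b) this
    simp only [mul_app] at h3
    rw [hbi] at h3
    exact h3
  -- `ζ ^ i c = ζ ^ j c`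
  have h4 : α ((ζ ^ i.val) c) = c := h2
  have h5 : α ((ζ ^ j.val) c) = c := h1
  have hαinj : Function.Injective α := by
    intro u v huv
    have : (α ^ p) u = (α ^ p) v := by
      obtain ⟨m, hm⟩ : ∃ m, p = m + 1 := ⟨p - 1, by have := hp.pos; omega⟩
      rw [hm, pow_succ, mul_app, mul_app, huv]
    rwa [hα] at this
  have h6 : (ζ ^ i.val) c = (ζ ^ j.val) c := hαinj (h4.trans h5.symm)
  -- hence `ζ ^ (i - j) c = c`
  have h7 : (ζ ^ (i - j).val) c = c := by
    have e : ζ ^ i.val = ζ ^ (i - j).val * ζ ^ j.val := by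
      rw [← pow_val_add_eq hζ, sub_add_cancel]
    have hinj : Function.Injective (ζ ^ j.val : AddMonoid.End A) := by
      intro u v huv
      have e2 : ζ ^ (-j).val * ζ ^ j.val = 1 := by
        rw [← pow_val_add_eq hζ, neg_add_cancel, ZMod.val_zero, pow_zero]
      have := congrArg (fun w => (ζ ^ (-j).val : AddMonoid.End A) w) huv
      simp only [← mul_app, e2] at this
      exact this
    apply hinj
    have e3 : (ζ ^ j.val * ζ ^ (i - j).val : AddMonoid.End A) = ζ ^ i.val := by
      rw [e]; exact ((Commute.refl ζ).pow_pow _ _).eq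
    rw [← mul_app, e3, h6]
  -- so `ζ c = c`
  have hd : i - j ≠ 0 := sub_ne_zero.mpr hij
  have h8 : ζ c = c := by
    have e : ζ = (ζ ^ (i - j).val) ^ ((i - j)⁻¹).val := by
      rw [← pow_mul, ← pow_val_mul_eq hζ, mul_inv_cancel₀ hd, ZMod.val_one, pow_one]
    have h9 : ∀ n : ℕ, ((ζ ^ (i - j).val) ^ n) c = c := by
      intro n
      induction n with
      | zero => simp
      | succ n ih => rw [pow_succ, mul_app, h7, ih]
    rw [e]
    exact h9 _
  exact hfix c h8

include hα hζ hc hfix htor in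
theorem eq_zero_of_sum_eq_zero (b : ZMod p → A) (hb : ∀ i, b i ∈ fixB α ζ i)
    (hsum : ∑ i, b i = 0) : ∀ i, b i = 0 := by
  intro j
  have h := congrArg (fun a => nrm p (bet α ζ j) a) hsum
  simp only [map_sum, map_zero] at h
  rw [Finset.sum_eq_single j] at h
  · rw [nrm_apply_of_fixed (mem_fixB.mp (hb j))] at h
    exact htor _ h
  · intro i _ hij
    exact nrm_bet_apply_of_ne hα hζ hc hfix hij (hb i)
  · intro hj
    exact absurd (Finset.mem_univ j) hj

include hα hζ hc hfix htor in
theorem prod_card_le [Finite A] : ∏ i : ZMod p, Nat.card (fixB α ζ i) ≤ Nat.card A := by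
  classical
  have hinj : Function.Injective (fun b : (∀ i : ZMod p, fixB α ζ i) => ∑ i, (b i : A)) := by
    intro b b' h
    have h' : ∑ i, ((b i : A) - (b' i : A)) = 0 := by
      rw [Finset.sum_sub_distrib]
      exact sub_eq_zero.mpr h
    have := eq_zero_of_sum_eq_zero hα hζ hc hfix htor (fun i => (b i : A) - (b' i : A))
      (fun i => (fixB α ζ i).sub_mem (b i).2 (b' i).2) h'
    funext i
    exact Subtype.ext (sub_eq_zero.mp (this i))
  have := Nat.card_le_card_of_injective _ hinj
  rwa [Nat.card_pi] at this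

include hα hζ hc hfix htor in
/-- If all the `B i` vanish then so does `A`. -/
theorem eq_zero_of_fixB_eq_bot (h : ∀ i : ZMod p, fixB α ζ i = ⊥) (a : A) : a = 0 := by
  apply htor
  rw [smul_eq_sum_nrm hα hζ hc hfix]
  apply Finset.sum_eq_zero
  intro i _
  have := nrm_bet_mem hα hζ hc i a
  rw [h i, AddSubgroup.mem_bot] at this
  exact this

end Main

end Cfsg.Agent.Lib.Helper2.NormDecomp
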