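import Mathlib
import Cfsg.Agent.Lib.Helper2.NormDecomp
import Cfsg.Agent.Lib.Helper2.CentralSplit
import Cfsg.Agent.Lib.Helper24.PGroupBasic
import Cfsg.Agent.S0099

/-!
# Faithful modules of extraspecial groups in coprime characteristic

`Γ` of class `CClass p` (cyclic of order `p` or extraspecial) of order `p ^ (2 * w + 1)` acting on an
additive group `A` of exponent `r ≠ p` so that a generator `z` of the centre acts nontrivially.  Then
`r ^ (n * p ^ w) ≤ |A|` where `n` is the order of `r` modulo `p`.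
-/

set_option autoImplicit false
set_option linter.unusedSectionVars false

namespace Cfsg.Agent.Lib.Helper2.ExtraspecialModule

open Cfsg.Agent.Lib.Helper2.CentralSplit Cfsg.Agent.Lib.Helper2.NormDecomp
open scoped commutatorElement

section Pair
variable {E : Type*} [Group E] [Finite E] {p : ℕ} [Fact p.Prime]

/-- For odd `p` the `p`-th power map is multiplicative. -/
theorem pow_p_mul (hE : CClass p E) (hp2 : p ≠ 2) (a b : E) : (a * b) ^ p = a ^ p * b ^ p := by
  have hc : ∀ g : E, Commute ⁅b, a⁆ g := fun g =>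
    (Subgroup.mem_center_iff.mp (hE.comm b a) g).symm
  have h1 : b * a = ⁅b, a⁆ * a * b := by rw [commutatorElement_def]; group
  have h2 := Cfsg.Agent.Lib.Helper24.mul_pow_of_central_comm a b ⁅b, a⁆ h1 (hc a) (hc b) p
  have hp : p.Prime := Fact.out
  have hdvd : p ∣ p.choose 2 := by
    apply Nat.Prime.dvd_choose_self hp (by norm_num)
    have := hp.two_le
    omega
  obtain ⟨k, hk⟩ := hdvd
  rw [h2, hk, pow_mul, center_pow_eq_one hE (hE.comm b a), one_pow, mul_one]

theorem exists_pair_of_odd (hE : CClass p E) (hp2 : p ≠ 2) {z : E} (hz : z ∈ Subgroup.center E)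
    (hz1 : z ≠ 1) (hne : Subgroup.center E ≠ ⊤) : ∃ x y : E, ⁅x, y⁆ = z ∧ x ^ p = 1 := by
  obtain ⟨x, y, hxy⟩ := exists_comm_eq hE hz hne
  obtain ⟨j, hj⟩ := exists_zp_eq hE hz hz1 (pow_mem_center hE x)
  obtain ⟨k, hk⟩ := exists_zp_eq hE hz hz1 (pow_mem_center hE y)
  have hzp : z ^ p = 1 := center_pow_eq_one hE hz
  by_cases hk0 : k = 0
  · refine ⟨y⁻¹, x, ?_, ?_⟩
    · have := map_inv (commHom hE.comm x) y
      simp only [commHom_apply] at this
      rw [this, commutatorElement_inv, hxy]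
    · rw [inv_pow, ← hk, hk0, ZMod.val_zero, pow_zero, inv_one]
  · refine ⟨x * y ^ (-j / k).val, y, ?_, ?_⟩
    · rw [comm_mul_left hE.comm, hxy]
      have : ⁅y ^ (-j / k).val, y⁆ = 1 := by
        rw [commutatorElement_eq_one_iff_commute]
        exact (Commute.refl y).pow_left _
      rw [this, mul_one]
    · rw [pow_p_mul hE hp2, ← pow_mul, mul_comm _ p, pow_mul, ← hj, ← hk, ← pow_mul,
        ← pow_val_mul_eq hzp, ← pow_val_add_eq hzp]
      have : j + k * (-j / k) = 0 := by field_simp; ring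
      rw [this, ZMod.val_zero, pow_zero]

theorem exists_pair (hE : CClass p E) {z : E} (hz : z ∈ Subgroup.center E)
    (hz1 : z ≠ 1) (hne : Subgroup.center E ≠ ⊤) (h8 : ¬ (p = 2 ∧ Nat.card E = 8)) :
    ∃ x y : E, ⁅x, y⁆ = z ∧ x ^ p = 1 := by
  by_cases hp2 : p = 2
  · subst hp2
    have h8' : Nat.card E ≠ 8 := fun h => h8 ⟨rfl, h⟩
    obtain ⟨x, y, hxy, hx, _⟩ := Cfsg.Agent.S0099.hasPair_zero_of_ne_eight hE hz hz1 hne h8'
    exact ⟨x, y, hxy, by rw [hx, pow_zero]⟩
  · exact exists_pair_of_odd hE hp2 hz hz1 hne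

end Pair

section Action
variable {Γ : Type*} [Group Γ] {A : Type*} [AddCommGroup A]

/-- Restriction of an action to an invariant subgroup. -/
def resHom (ρ : Γ →* AddMonoid.End A) (B : AddSubgroup A) (h : ∀ g : Γ, ∀ b ∈ B, ρ g b ∈ B) :
    Γ →* AddMonoid.End B where
  toFun g :=
    { toFun := fun b => ⟨ρ g (b : A), h g b b.2⟩
      map_zero' := Subtype.ext (map_zero (ρ g))
      map_add' := fun a b => Subtype.ext (map_add (ρ g) (a : A) (b : A)) }
  map_one' := AddMonoidHom.ext fun b => Subtype.ext (by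
    show ρ 1 (b : A) = b
    rw [map_one]; rfl)
  map_mul' := fun g g' => AddMonoidHom.ext fun b => Subtype.ext (by
    show ρ (g * g') (b : A) = ρ g (ρ g' (b : A))
    rw [map_mul]; rfl)

theorem resHom_apply_coe (ρ : Γ →* AddMonoid.End A) (B : AddSubgroup A)
    (h : ∀ g : Γ, ∀ b ∈ B, ρ g b ∈ B) (g : Γ) (b : B) :
    ((resHom ρ B h g) b : A) = ρ g (b : A) := rfl

theorem rho_mul_apply (ρ : Γ →* AddMonoid.End A) (g h : Γ) (a : A) :
    ρ (g * h) a = ρ g (ρ h a) := by
  rw [map_mul]; rfl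

theorem rho_one_apply (ρ : Γ →* AddMonoid.End A) (a : A) : ρ 1 a = a := by
  rw [map_one]; rfl

theorem rho_injective (ρ : Γ →* AddMonoid.End A) (g : Γ) : Function.Injective (ρ g) := by
  intro a b h
  have := congrArg (ρ g⁻¹) h
  rwa [← rho_mul_apply, ← rho_mul_apply, inv_mul_cancel, rho_one_apply, rho_one_apply] at this

theorem card_eq_pow [Finite A] {r : ℕ} [Fact r.Prime] (hr : ∀ a : A, r • a = 0)
    (hA : ∃ a : A, a ≠ 0) : ∃ k : ℕ, 1 ≤ k ∧ Nat.card A = r ^ k := by
  have hP : IsPGroup r (Multiplicative A) := by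
    intro g
    refine ⟨1, ?_⟩
    rw [pow_one]
    show Multiplicative.ofAdd (r • Multiplicative.toAdd g) = 1
    rw [hr]; rfl
  obtain ⟨k, hk⟩ := IsPGroup.iff_card.mp hP
  have hk' : Nat.card A = r ^ k := hk
  refine ⟨k, ?_, hk'⟩
  by_contra h0
  have hk0 : k = 0 := by omega
  rw [hk0, pow_zero] at hk'
  obtain ⟨a, ha⟩ := hA
  have := (Nat.card_eq_one_iff_unique.mp hk').1
  exact ha (Subsingleton.elim a 0)

theorem eq_zero_of_coprime {p r : ℕ} (hpr : Nat.Coprime p r) {a : A} (hr : r • a = 0)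
    (hp : p • a = 0) : a = 0 := by
  have h1 := addOrderOf_dvd_of_nsmul_eq_zero hr
  have h2 := addOrderOf_dvd_of_nsmul_eq_zero hp
  have h3 : addOrderOf a ∣ 1 := by
    have := Nat.dvd_gcd h2 h1
    rwa [hpr.gcd_eq_one] at this
  exact AddMonoid.addOrderOf_eq_one_iff.mp (Nat.dvd_one.mp h3)

end Action

section Main
variable {p r : ℕ} [Fact p.Prime] [Fact r.Prime]

/-- Base case: a group of order `p` acting without fixed points. -/
theorem card_base {Γ : Type*} [Group Γ] [Finite Γ] {A : Type*} [AddCommGroup A] [Finite A]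
    (hcard : Nat.card Γ = p) (ρ : Γ →* AddMonoid.End A) (z : Γ)
    (hfix : ∀ a : A, ρ z a = a → a = 0) {k : ℕ} (hk : Nat.card A = r ^ k) :
    p ∣ r ^ k - 1 := by
  have hPΓ : IsPGroup p Γ := IsPGroup.of_card (n := 1) (by rw [hcard, pow_one])
  let _ : MulAction Γ A := MulAction.compHom A ρ
  have hmod := hPΓ.card_modEq_card_fixedPoints A
  have hfp : MulAction.fixedPoints Γ A = {0} := by
    ext a
    rw [MulAction.mem_fixedPoints, Set.mem_singleton_iff]
    constructor
    · intro h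
      exact hfix a (h z)
    · intro h g
      rw [h]
      show ρ g 0 = 0
      exact map_zero _
  have h1 : Nat.card (({0} : Set A) : Type _) = 1 := Nat.card_unique
  rw [hfp, h1, hk] at hmod
  have hr1 : 1 ≤ r ^ k := Nat.one_le_pow _ _ (Fact.out : r.Prime).pos
  exact (Nat.modEq_iff_dvd' hr1).mp hmod.symm

/-- A group of prime order `r` admits no action in which a commutator is fixed point free. -/
theorem not_card_prime {Γ : Type*} [Group Γ] {A : Type*} [AddCommGroup A]
    (ρ : Γ →* AddMonoid.End A) {x y z : Γ} (hxy : ⁅x, y⁆ = z)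
    (hfix : ∀ a : A, ρ z a = a → a = 0) (hA : ∃ a : A, a ≠ 0) (hcard : Nat.card A = r) :
    False := by
  have : IsAddCyclic A := isAddCyclic_of_prime_card hcard
  obtain ⟨m, hm0⟩ := AddMonoidHom.map_addCyclic (ρ x : A →+ A)
  obtain ⟨m', hm0'⟩ := AddMonoidHom.map_addCyclic (ρ y : A →+ A)
  have hm : ∀ g : A, ρ x g = m • g := hm0
  have hm' : ∀ g : A, ρ y g = m' • g := hm0'
  obtain ⟨a, ha⟩ := hA
  have hxyz : x * y = z * (y * x) := by rw [← hxy, commutatorElement_def]; group
  have h1 : ρ (x * y) a = ρ (y * x) a := by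
    rw [rho_mul_apply, rho_mul_apply, hm (ρ y a), hm' a, hm' (ρ x a), hm a]
    exact smul_comm m m' a
  have h2 : ρ z (ρ (y * x) a) = ρ (y * x) a := by
    rw [← rho_mul_apply, ← hxyz, h1]
  have h3 := hfix _ h2
  exact ha (rho_injective ρ (y * x) (h3.trans (map_zero _).symm))

universe u v

theorem card_ge_aux (hpr : p ≠ r) (n : ℕ)
    (hmin : ∀ k : ℕ, 1 ≤ k → p ∣ r ^ k - 1 → n ≤ k) :
    ∀ (w : ℕ) {Γ : Type u} [Group Γ] [Finite Γ] {A : Type v} [AddCommGroup A] [Finite A]
      (_ : CClass p Γ) (_ : Nat.card Γ = p ^ (2 * w + 1)) (ρ : Γ →* AddMonoid.End A)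
      (_ : ∀ a : A, r • a = 0) (z : Γ) (_ : z ∈ Subgroup.center Γ) (_ : z ≠ 1)
      (_ : ∀ a : A, ρ z a = a → a = 0) (_ : ∃ a : A, a ≠ 0),
      r ^ (n * p ^ w) ≤ Nat.card A := by
  have hp : p.Prime := Fact.out
  have hrp : r.Prime := Fact.out
  intro w
  induction w with
  | zero =>
    intro Γ _ _ A _ _ hΓ hcard ρ hr z hz hz1 hfix hA
    obtain ⟨k, hk1, hk⟩ := card_eq_pow hr hA
    have hdvd := card_base (by simpa using hcard) ρ z hfix hk
    have := hmin k hk1 hdvd
    rw [hk, pow_zero, mul_one]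
    exact Nat.pow_le_pow_right hrp.pos this
  | succ w ih =>
    intro Γ _ _ A _ _ hΓ hcard ρ hr z hz hz1 hfix hA
    have hne : Subgroup.center Γ ≠ ⊤ := by
      intro htop
      have h1 := card_of_center_eq_top hΓ htop
      rw [hcard] at h1
      have : 2 * (w + 1) + 1 = 1 := Nat.pow_right_injective hp.two_le (h1.trans (pow_one p).symm)
      omega
    by_cases h8 : p = 2 ∧ Nat.card Γ = 8
    · obtain ⟨hp2, hc8⟩ := h8
      have hw : w = 0 := by
        rw [hcard, hp2] at hc8
        have : 2 * (w + 1) + 1 = 3 :=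
          Nat.pow_right_injective (le_refl 2) (hc8.trans (by norm_num))
        omega
      have hn1 : n ≤ 1 := by
        apply hmin 1 le_rfl
        rw [hp2, pow_one]
        rcases hrp.eq_two_or_odd' with h | ⟨t, ht⟩
        · exact absurd (hp2.trans h.symm) hpr
        · exact ⟨t, by omega⟩
      obtain ⟨k, hk1, hk⟩ := card_eq_pow hr hA
      obtain ⟨x, y, hxy⟩ := exists_comm_eq hΓ hz hne
      have hk2 : 2 ≤ k := by
        by_contra hlt
        have hk1' : k = 1 := by omega
        rw [hk1', pow_one] at hk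
        exact not_card_prime ρ hxy hfix hA hk
      rw [hk, hw, hp2]
      apply Nat.pow_le_pow_right hrp.pos
      have : n * 2 ^ (0 + 1) = n * 2 := by norm_num
      omega
    · obtain ⟨x, y, hxy, hxp⟩ := exists_pair hΓ hz hz1 hne h8
      have hzp : z ^ p = 1 := center_pow_eq_one hΓ hz
      have hα : (ρ x) ^ p = 1 := by rw [← map_pow, hxp, map_one]
      have hζ : (ρ z) ^ p = 1 := by rw [← map_pow, hzp, map_one]
      have hc : Commute (ρ x) (ρ z) := by
        show ρ x * ρ z = ρ z * ρ x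
        rw [← map_mul, ← map_mul, Subgroup.mem_center_iff.mp hz x]
      have hcop : Nat.Coprime p r := (Nat.coprime_primes hp hrp).mpr hpr
      have htor : ∀ a : A, p • a = 0 → a = 0 := fun a h => eq_zero_of_coprime hcop (hr a) h
      have hprod := prod_card_le hα hζ hc hfix htor
      have hmem : ∀ (i : ZMod p) (a : A),
          a ∈ fixB (ρ x) (ρ z) i ↔ ρ (x * z ^ i.val) a = a := by
        intro i a
        rw [mem_fixB]
        unfold bet
        rw [map_mul, map_pow]
      have hmem0 : ∀ a : A, a ∈ fixB (ρ x) (ρ z) (0 : ZMod p) ↔ ρ x a = a := by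
        intro a
        rw [hmem, ZMod.val_zero, pow_zero, mul_one]
      have hL1 : ∀ m : ℕ, x * y ^ m = y ^ m * (x * z ^ m) := by
        intro m
        have h := yx_pow hΓ hxy m 1
        rw [pow_one, one_mul] at h
        have hzm : ∀ g : Γ, g * z ^ m = z ^ m * g :=
          Subgroup.mem_center_iff.mp (Subgroup.pow_mem _ hz m)
        rw [← mul_assoc, h, hzm, ← mul_assoc, ← mul_assoc, mul_inv_cancel, one_mul]
      have hL2 : ∀ m : ℕ, (x * z ^ m) * (y⁻¹) ^ m = (y⁻¹) ^ m * x := by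
        intro m
        rw [inv_pow, mul_inv_eq_iff_eq_mul, mul_assoc, hL1 m, inv_mul_cancel_left]
      have hmap1 : ∀ (i : ZMod p) (b : A), b ∈ fixB (ρ x) (ρ z) i →
          ρ (y ^ i.val) b ∈ fixB (ρ x) (ρ z) (0 : ZMod p) := by
        intro i b hb
        rw [hmem0, ← rho_mul_apply, hL1, rho_mul_apply, (hmem i _).mp hb]
      have hmap2 : ∀ (i : ZMod p) (b : A), b ∈ fixB (ρ x) (ρ z) (0 : ZMod p) →
          ρ (y⁻¹ ^ i.val) b ∈ fixB (ρ x) (ρ z) i := by
        intro i b hb
        rw [hmem, ← rho_mul_apply, hL2, rho_mul_apply, (hmem0 _).mp hb]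
      have hle1 : ∀ i : ZMod p, Nat.card (fixB (ρ x) (ρ z) i) ≤
          Nat.card (fixB (ρ x) (ρ z) (0 : ZMod p)) := by
        intro i
        apply Nat.card_le_card_of_injective (fun b : fixB (ρ x) (ρ z) i =>
          (⟨ρ (y ^ i.val) (b : A), hmap1 i b b.2⟩ : fixB (ρ x) (ρ z) (0 : ZMod p)))
        intro b b' h
        exact Subtype.ext (rho_injective ρ _ (congrArg Subtype.val h))
      have hle2 : ∀ i : ZMod p, Nat.card (fixB (ρ x) (ρ z) (0 : ZMod p)) ≤
          Nat.card (fixB (ρ x) (ρ z) i) := by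
        intro i
        apply Nat.card_le_card_of_injective (fun b : fixB (ρ x) (ρ z) (0 : ZMod p) =>
          (⟨ρ (y⁻¹ ^ i.val) (b : A), hmap2 i b b.2⟩ : fixB (ρ x) (ρ z) i))
        intro b b' h
        exact Subtype.ext (rho_injective ρ _ (congrArg Subtype.val h))
      have hpow : Nat.card (fixB (ρ x) (ρ z) (0 : ZMod p)) ^ p ≤ Nat.card A := by
        calc Nat.card (fixB (ρ x) (ρ z) (0 : ZMod p)) ^ p
            = ∏ i : ZMod p, Nat.card (fixB (ρ x) (ρ z) i) := by
              rw [Finset.prod_congr rfl (fun i _ => le_antisymm (hle1 i) (hle2 i)),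
                Finset.prod_const, Finset.card_univ, ZMod.card]
          _ ≤ _ := hprod
      have hB0 : ∃ b : fixB (ρ x) (ρ z) (0 : ZMod p), b ≠ 0 := by
        by_contra hcon
        push Not at hcon
        have hbot : ∀ i : ZMod p, fixB (ρ x) (ρ z) i = ⊥ := by
          intro i
          rw [eq_bot_iff]
          intro b hb
          rw [AddSubgroup.mem_bot]
          have h0 := hcon ⟨_, hmap1 i b hb⟩
          have h0' : ρ (y ^ i.val) b = 0 := congrArg Subtype.val h0
          exact rho_injective ρ _ (h0'.trans (map_zero _).symm)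
        obtain ⟨a, ha⟩ := hA
        exact ha (eq_zero_of_fixB_eq_bot hα hζ hc hfix htor hbot a)
      have hC : CClass p (Subgroup.centralizer ({x, y} : Set Γ)) := cclass_C hΓ hz hz1 hxy
      have hCcard : Nat.card (Subgroup.centralizer ({x, y} : Set Γ)) = p ^ (2 * w + 1) := by
        have h := card_eq hΓ hz hz1 hxy
        rw [hcard] at h
        have e : p ^ (2 * (w + 1) + 1) = p * (p * p ^ (2 * w + 1)) := by ring
        rw [e] at h
        exact (Nat.eq_of_mul_eq_mul_left hp.pos (Nat.eq_of_mul_eq_mul_left hp.pos h)).symm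
      have hinv : ∀ c : Subgroup.centralizer ({x, y} : Set Γ),
          ∀ b ∈ fixB (ρ x) (ρ z) (0 : ZMod p),
          (ρ.comp (Subgroup.centralizer ({x, y} : Set Γ)).subtype) c b ∈
            fixB (ρ x) (ρ z) (0 : ZMod p) := by
        intro c b hb
        show ρ (c : Γ) b ∈ _
        rw [hmem0] at hb ⊢
        rw [← rho_mul_apply, (mem_C_iff.mp c.2).1, rho_mul_apply, hb]
      have hih := ih (Γ := Subgroup.centralizer ({x, y} : Set Γ))
        (A := fixB (ρ x) (ρ z) (0 : ZMod p)) hC hCcard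
        (resHom (ρ.comp (Subgroup.centralizer ({x, y} : Set Γ)).subtype) _ hinv)
        (fun b => Subtype.ext (hr b)) ⟨z, center_le_C hz⟩ (zeta_mem_center hz)
        (zeta_ne_one hz hz1) (fun b hb => Subtype.ext (hfix b (congrArg Subtype.val hb))) hB0
      calc r ^ (n * p ^ (w + 1)) = (r ^ (n * p ^ w)) ^ p := by rw [← pow_mul]; ring_nf
        _ ≤ (Nat.card (fixB (ρ x) (ρ z) (0 : ZMod p))) ^ p := Nat.pow_le_pow_left hih p
        _ ≤ Nat.card A := hpow

/-- The subgroup `[A, ζ]` of the elements `ζ a - a`. -/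
def commSub {A : Type*} [AddCommGroup A] (ζ : AddMonoid.End A) : AddSubgroup A where
  carrier := {v | ∃ a : A, ζ a - a = v}
  zero_mem' := ⟨0, by rw [map_zero, sub_zero]⟩
  add_mem' := by
    rintro _ _ ⟨a, rfl⟩ ⟨b, rfl⟩
    exact ⟨a + b, by rw [map_add]; abel⟩
  neg_mem' := by
    rintro _ ⟨a, rfl⟩
    exact ⟨-a, by rw [map_neg]; abel⟩

/-- Version where the central element `z` is only assumed to act nontrivially. -/
theorem card_ge_of_nontrivial (hpr : p ≠ r) (n : ℕ)
    (hmin : ∀ k : ℕ, 1 ≤ k → p ∣ r ^ k - 1 → n ≤ k) (w : ℕ)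
    {Γ : Type u} [Group Γ] [Finite Γ] {A : Type v} [AddCommGroup A] [Finite A]
    (hΓ : CClass p Γ) (hcard : Nat.card Γ = p ^ (2 * w + 1)) (ρ : Γ →* AddMonoid.End A)
    (hr : ∀ a : A, r • a = 0) (z : Γ) (hz : z ∈ Subgroup.center Γ) (hz1 : z ≠ 1)
    (hact : ∃ a : A, ρ z a ≠ a) : r ^ (n * p ^ w) ≤ Nat.card A := by
  have hp : p.Prime := Fact.out
  have hrp : r.Prime := Fact.out
  have hcop : Nat.Coprime p r := (Nat.coprime_primes hp hrp).mpr hpr
  have hzp : z ^ p = 1 := center_pow_eq_one hΓ hz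
  have hζ : (ρ z) ^ p = 1 := by rw [← map_pow, hzp, map_one]
  -- the subgroup `[A, z]`
  let V : AddSubgroup A := commSub (ρ z)
  have hV : ∀ v : A, v ∈ V ↔ ∃ a : A, ρ z a - a = v := fun v => Iff.rfl
  have hinv : ∀ g : Γ, ∀ b ∈ V, ρ g b ∈ V := by
    intro g b hb
    obtain ⟨a, rfl⟩ := (hV b).mp hb
    refine (hV _).mpr ⟨ρ g a, ?_⟩
    rw [map_sub, ← rho_mul_apply, ← rho_mul_apply, Subgroup.mem_center_iff.mp hz g]
  have hfixV : ∀ b : V, (resHom ρ V hinv z) b = b → b = 0 := by
    intro b hb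
    have hb' : ρ z (b : A) = b := congrArg Subtype.val hb
    obtain ⟨a, ha⟩ := (hV _).mp b.2
    have h1 : nrm p (ρ z) (b : A) = p • (b : A) := nrm_apply_of_fixed hb'
    have h2 : nrm p (ρ z) (b : A) = 0 := by
      rw [← ha, map_sub]
      have e : nrm p (ρ z) (ρ z a) = nrm p (ρ z) a := by
        have h3 := (commute_nrm (p := p) (Commute.refl (ρ z))).eq
        have h4 := congrArg (fun f : AddMonoid.End A => f a) h3
        simp only [mul_app] at h4
        rw [← h4]
        exact nrm_apply_fixed hζ a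
      rw [e, sub_self]
    apply Subtype.ext
    exact eq_zero_of_coprime hcop (hr _) (h1.symm.trans h2)
  have hVne : ∃ b : V, b ≠ 0 := by
    obtain ⟨a, ha⟩ := hact
    refine ⟨⟨ρ z a - a, (hV _).mpr ⟨a, rfl⟩⟩, ?_⟩
    intro h
    apply ha
    have : ρ z a - a = 0 := congrArg Subtype.val h
    exact sub_eq_zero.mp this
  have h := card_ge_aux hpr n hmin w hΓ hcard (resHom ρ V hinv)
    (fun b => Subtype.ext (hr b)) z hz hz1 hfixV hVne
  exact h.trans (Nat.card_le_card_of_injective _ Subtype.val_injective)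

end Main

section Mul
variable {p r : ℕ} [Fact p.Prime] [Fact r.Prime]

/-- An action by automorphisms on a commutative group, written additively. -/
def toEndHom {Γ : Type*} [Group Γ] {V : Type*} [CommGroup V] (φ : Γ →* MulAut V) :
    Γ →* AddMonoid.End (Additive V) where
  toFun g := MonoidHom.toAdditive (φ g).toMonoidHom
  map_one' := by
    rw [map_one]; rfl
  map_mul' := fun g h => by
    rw [map_mul]; rfl

theorem toEndHom_apply {Γ : Type*} [Group Γ] {V : Type*} [CommGroup V] (φ : Γ →* MulAut V)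
    (g : Γ) (v : Additive V) : toEndHom φ g v = Additive.ofMul (φ g (Additive.toMul v)) := rfl

universe u v

/-- Multiplicative version. -/
theorem card_ge_mul (hpr : p ≠ r) (n : ℕ)
    (hmin : ∀ k : ℕ, 1 ≤ k → p ∣ r ^ k - 1 → n ≤ k) (w : ℕ)
    {Γ : Type u} [Group Γ] [Finite Γ] {V : Type v} [CommGroup V] [Finite V]
    (hΓ : CClass p Γ) (hcard : Nat.card Γ = p ^ (2 * w + 1)) (φ : Γ →* MulAut V)
    (hr : ∀ a : V, a ^ r = 1) (z : Γ) (hz : z ∈ Subgroup.center Γ) (hz1 : z ≠ 1)
    (hact : ∃ a : V, φ z a ≠ a) : r ^ (n * p ^ w) ≤ Nat.card V := by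
  have h := card_ge_of_nontrivial hpr n hmin w hΓ hcard (toEndHom φ)
    (fun a => by
      show Additive.ofMul (Additive.toMul a ^ r) = 0
      rw [hr]; rfl) z hz hz1
    (by
      obtain ⟨a, ha⟩ := hact
      exact ⟨Additive.ofMul a, fun h => ha (congrArg Additive.toMul h)⟩)
  exact h

end Mul

end Cfsg.Agent.Lib.Helper2.ExtraspecialModule
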