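import Mathlib
import Cfsg.Agent.Lib.Helper2.FWDefs

/-!
# Project FW (S3211): module [FW-HYP] (helper2's hedge)
-/

set_option autoImplicit false

namespace Cfsg.Agent.Lib.Helper2.FW

variable {G : Type*} [Group G] {L₁ L₂ : Subgroup G} {j n : G}

/-- elements of `L₁ ⊔ L₂` are products, when `L₁` and `L₂` commute elementwise. -/
theorem inL_of_mem_sup (hc : ∀ x ∈ L₁, ∀ y ∈ L₂, x * y = y * x) {k : G} (hk : k ∈ L₁ ⊔ L₂) :
    InL L₁ L₂ k := by
  have hr := MonoidHom.noncommCoprod_range L₁.subtype L₂.subtype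
    (fun x y => show Commute (x : G) (y : G) from hc x.1 x.2 y.1 y.2)
  rw [Subgroup.range_subtype, Subgroup.range_subtype] at hr
  rw [← hr] at hk
  obtain ⟨⟨x, y⟩, rfl⟩ := hk
  exact ⟨x.1, x.2, y.1, y.2, rfl⟩

/-- [FW-HYP] the hypotheses of S3211 give `Hyp`. -/
theorem hyp_of [Finite G] (h₁ : SL2Like L₁ j) (h₂ : SL2Like L₂ j)
    (hc : ∀ x ∈ L₁, ∀ y ∈ L₂, x * y = y * x) (hj : orderOf j = 2)
    (hm : L₁ ⊓ L₂ = Subgroup.zpowers j)
    (hle : L₁ ⊔ L₂ ≤ Subgroup.centralizer ({j} : Set G))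
    (hi : (L₁ ⊔ L₂).relIndex (Subgroup.centralizer ({j} : Set G)) = 2)
    (hn : n ∈ Subgroup.centralizer ({j} : Set G)) (hn2 : n ^ 2 = j)
    (hswap : L₁.map (MulAut.conj n).toMonoidHom = L₂) : Hyp L₁ L₂ j n := by
  have hjj : j * j = 1 := by rw [← pow_two, ← hj, pow_orderOf_eq_one]
  have hj1 : j ≠ 1 := by
    intro h; rw [h, orderOf_one] at hj; omega
  have hjL : j ∈ L₁ ⊓ L₂ := by rw [hm]; exact Subgroup.mem_zpowers j
  have hcent : ∀ k, k ∈ Subgroup.centralizer ({j} : Set G) ↔ k * j = j * k := by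
    intro k
    rw [Subgroup.mem_centralizer_singleton_iff]
  have hc₁ : ∀ x ∈ L₁, x * j = j * x := fun x hx =>
    (hcent x).mp (hle (Subgroup.mem_sup_left hx))
  have hc₂ : ∀ y ∈ L₂, y * j = j * y := fun y hy =>
    (hcent y).mp (hle (Subgroup.mem_sup_right hy))
  have hnj : n * j = j * n := (hcent n).mp hn
  have hnn : n * n = j := by rw [← pow_two, hn2]
  have hinter : ∀ x, x ∈ L₁ → x ∈ L₂ → x = 1 ∨ x = j := by
    intro x hx1 hx2
    have hx : x ∈ Subgroup.zpowers j := by rw [← hm]; exact ⟨hx1, hx2⟩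
    obtain ⟨k, rfl⟩ := Subgroup.mem_zpowers_iff.mp hx
    rcases Int.even_or_odd' k with ⟨m, rfl | rfl⟩
    · left
      rw [zpow_mul, zpow_two, hjj, one_zpow]
    · right
      rw [zpow_add, zpow_mul, zpow_two, hjj, one_zpow, one_mul, zpow_one]
  have hsw₁ : ∀ x ∈ L₁, n * x * n⁻¹ ∈ L₂ := by
    intro x hx
    rw [← hswap]
    exact ⟨x, hx, rfl⟩
  have hsw₂ : ∀ y ∈ L₂, n * y * n⁻¹ ∈ L₁ := by
    intro y hy
    rw [← hswap] at hy
    obtain ⟨x, hx, rfl⟩ := hy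
    have : n * (MulAut.conj n).toMonoidHom x * n⁻¹ = x := by
      show n * (n * x * n⁻¹) * n⁻¹ = x
      calc n * (n * x * n⁻¹) * n⁻¹ = (n * n) * x * (n * n)⁻¹ := by group
        _ = j * x * j⁻¹ := by rw [hnn]
        _ = x * j * j⁻¹ := by rw [hc₁ x hx]
        _ = x := by group
    rw [this]; exact hx
  -- `n ∉ L₁ ⊔ L₂`
  have hnL : n ∉ L₁ ⊔ L₂ := by
    intro hnL
    obtain ⟨x, hx, y, hy, hxy⟩ := inL_of_mem_sup hc hnL
    obtain ⟨a, ha, ha1, haj⟩ := h₁.big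
    have h1 : n * a * n⁻¹ = x * a * x⁻¹ := by
      rw [hxy]
      calc x * y * a * (x * y)⁻¹ = x * (y * a) * y⁻¹ * x⁻¹ := by group
        _ = x * (a * y) * y⁻¹ * x⁻¹ := by rw [hc a ha y hy]
        _ = x * a * x⁻¹ := by group
    have h2 : n * a * n⁻¹ ∈ L₁ := by
      rw [h1]; exact L₁.mul_mem (L₁.mul_mem hx ha) (L₁.inv_mem hx)
    rcases hinter _ h2 (hsw₁ a ha) with h | h
    · apply ha1
      calc a = n⁻¹ * (n * a * n⁻¹) * n := by group
        _ = 1 := by rw [h]; group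
    · apply haj
      calc a = n⁻¹ * (n * a * n⁻¹) * n := by group
        _ = n⁻¹ * j * n := by rw [h]
        _ = n⁻¹ * (j * n) := by group
        _ = n⁻¹ * (n * j) := by rw [hnj]
        _ = j := by group
  have hcover : ∀ k, k * j = j * k →
      InL L₁ L₂ k ∨ ∃ x ∈ L₁, ∃ y ∈ L₂, k = n * (x * y) := by
    intro k hk
    have hkC : k ∈ Subgroup.centralizer ({j} : Set G) := (hcent k).mpr hk
    by_cases hkL : k ∈ L₁ ⊔ L₂
    · left; exact inL_of_mem_sup hc hkL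
    · right
      have hidx : ((L₁ ⊔ L₂).subgroupOf (Subgroup.centralizer ({j} : Set G))).index = 2 := hi
      have key := Subgroup.mul_mem_iff_of_index_two hidx
        (a := (⟨n⁻¹, Subgroup.inv_mem _ hn⟩ : ↥(Subgroup.centralizer ({j} : Set G))))
        (b := (⟨k, hkC⟩ : ↥(Subgroup.centralizer ({j} : Set G))))
      simp only [Subgroup.mem_subgroupOf, Subgroup.coe_mul] at key
      have hn' : n⁻¹ ∉ L₁ ⊔ L₂ := fun h => hnL (by simpa using Subgroup.inv_mem _ h)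
      have hmem : n⁻¹ * k ∈ L₁ ⊔ L₂ := key.mpr ⟨fun h => absurd h hn', fun h => absurd h hkL⟩
      obtain ⟨x, hx, y, hy, hxy⟩ := inL_of_mem_sup hc hmem
      refine ⟨x, hx, y, hy, ?_⟩
      rw [← hxy]; group
  exact
    { j_ne := hj1
      j_sq := hjj
      j_mem₁ := hjL.1
      j_mem₂ := hjL.2
      comm := hc
      inter := hinter
      cent₁ := hc₁
      cent₂ := hc₂
      n_comm := hnj
      n_sq := hnn
      swap₁ := hsw₁
      swap₂ := hsw₂
      cover := hcover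
      invol₁ := h₁.invol
      invol₂ := h₂.invol
      abel₁ := h₁.abel
      abel₂ := h₂.abel
      conj₁ := h₁.conj
      conj₂ := h₂.conj }

end Cfsg.Agent.Lib.Helper2.FW
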