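import Mathlib
import Cfsg.Agent.Lib.Helper2.FWDefs

/-!
# Project FW (S3211): module [FW-M1] (helper2's hedge)
-/

set_option autoImplicit false

namespace Cfsg.Agent.Lib.Helper2.FW

open Matrix

/-- entries of a product of `2 × 2` matrices. -/
theorem mul_entries {F : Type*} [Field F] (A B : Matrix (Fin 2) (Fin 2) F) :
    (A * B) 0 0 = A 0 0 * B 0 0 + A 0 1 * B 1 0 ∧
    (A * B) 0 1 = A 0 0 * B 0 1 + A 0 1 * B 1 1 ∧
    (A * B) 1 0 = A 1 0 * B 0 0 + A 1 1 * B 1 0 ∧
    (A * B) 1 1 = A 1 0 * B 0 1 + A 1 1 * B 1 1 := by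
  simp [Matrix.mul_apply, Fin.sum_univ_two]

/-- the three proportionality relations for a matrix commuting with `a`. -/
theorem comm_rel {F : Type*} [Field F] (A X : Matrix (Fin 2) (Fin 2) F) (h : X * A = A * X) :
    X 0 1 * A 1 0 = A 0 1 * X 1 0 ∧
    X 0 0 * A 0 1 + X 0 1 * A 1 1 = A 0 0 * X 0 1 + A 0 1 * X 1 1 ∧
    X 1 0 * A 0 0 + X 1 1 * A 1 0 = A 1 0 * X 0 0 + A 1 1 * X 1 0 := by
  obtain ⟨h00, h01, h10, _⟩ := mul_entries X A
  obtain ⟨g00, g01, g10, _⟩ := mul_entries A X
  have e00 : (X * A) 0 0 = (A * X) 0 0 := by rw [h]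
  have e01 : (X * A) 0 1 = (A * X) 0 1 := by rw [h]
  have e10 : (X * A) 1 0 = (A * X) 1 0 := by rw [h]
  rw [h00, g00] at e00
  rw [h01, g01] at e01
  rw [h10, g10] at e10
  refine ⟨?_, e01, e10⟩
  linear_combination e00

/-- [FW-M1] the centralizer in `SL₂(F)` of a square root of `-1` is commutative. -/
theorem sl2_abel {F : Type*} [Field F] (h2 : (2 : F) ≠ 0)
    (a x y : Matrix.SpecialLinearGroup (Fin 2) F) (ha : a * a = -1) (hx : x * a = a * x)
    (hy : y * a = a * y) : x * y = y * x := by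
  -- matrix versions
  set A : Matrix (Fin 2) (Fin 2) F := (a : Matrix (Fin 2) (Fin 2) F) with hA
  set X : Matrix (Fin 2) (Fin 2) F := (x : Matrix (Fin 2) (Fin 2) F) with hX
  set Y : Matrix (Fin 2) (Fin 2) F := (y : Matrix (Fin 2) (Fin 2) F) with hY
  have hAA : A * A = -1 := by
    have := congrArg (fun m : Matrix.SpecialLinearGroup (Fin 2) F =>
      (m : Matrix (Fin 2) (Fin 2) F)) ha
    simpa using this
  have hXA : X * A = A * X := by
    have := congrArg (fun m : Matrix.SpecialLinearGroup (Fin 2) F =>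
      (m : Matrix (Fin 2) (Fin 2) F)) hx
    simpa using this
  have hYA : Y * A = A * Y := by
    have := congrArg (fun m : Matrix.SpecialLinearGroup (Fin 2) F =>
      (m : Matrix (Fin 2) (Fin 2) F)) hy
    simpa using this
  have hdet : A 0 0 * A 1 1 - A 0 1 * A 1 0 = 1 := by
    have := a.det_coe
    rwa [Matrix.det_fin_two] at this
  obtain ⟨a00, a01, a10, a11⟩ := mul_entries A A
  rw [hAA] at a00 a01 a10 a11
  simp only [Matrix.neg_apply, Matrix.one_apply_eq, Matrix.one_apply_ne, ne_eq, zero_ne_one,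
    one_ne_zero, not_false_eq_true, neg_zero, Fin.isValue] at a00 a01 a10 a11
  -- trace zero
  have htr : A 0 0 + A 1 1 = 0 := by
    have : (A 0 0 + A 1 1) * (A 0 0 + A 1 1) = 0 := by
      linear_combination (-1 : F) * a00 + (-1 : F) * a11 + 2 * hdet
    exact mul_self_eq_zero.mp this
  have hs : A 1 1 = -A 0 0 := by linear_combination htr
  obtain ⟨x1, x2, x3⟩ := comm_rel A X hXA
  obtain ⟨y1, y2, y3⟩ := comm_rel A Y hYA
  rw [hs] at x2 x3 y2 y3
  -- goal, entrywise
  apply Subtype.ext
  show X * Y = Y * X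
  obtain ⟨p00, p01, p10, p11⟩ := mul_entries X Y
  obtain ⟨q00, q01, q10, q11⟩ := mul_entries Y X
  -- the three cross products vanish
  have key : X 0 1 * Y 1 0 = Y 0 1 * X 1 0 ∧
      Y 0 1 * (X 0 0 - X 1 1) = X 0 1 * (Y 0 0 - Y 1 1) ∧
      X 1 0 * (Y 0 0 - Y 1 1) = Y 1 0 * (X 0 0 - X 1 1) := by
    by_cases hq : A 0 1 = 0
    · by_cases hr : A 1 0 = 0
      · -- then `p² = -1`, `p ≠ 0`
        have hp : A 0 0 ≠ 0 := by
          intro hp
          rw [hp, hq] at a00
          simp at a00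
        have h2p : (2 : F) * A 0 0 ≠ 0 := mul_ne_zero h2 hp
        simp only [hq, hr] at x2 x3 y2 y3
        have hx01 : X 0 1 = 0 := by
          have : (2 * A 0 0) * X 0 1 = 0 := by linear_combination (-1 : F) * x2
          exact (mul_eq_zero.mp this).resolve_left h2p
        have hx10 : X 1 0 = 0 := by
          have : (2 * A 0 0) * X 1 0 = 0 := by linear_combination x3
          exact (mul_eq_zero.mp this).resolve_left h2p
        have hy01 : Y 0 1 = 0 := by
          have : (2 * A 0 0) * Y 0 1 = 0 := by linear_combination (-1 : F) * y2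
          exact (mul_eq_zero.mp this).resolve_left h2p
        have hy10 : Y 1 0 = 0 := by
          have : (2 * A 0 0) * Y 1 0 = 0 := by linear_combination y3
          exact (mul_eq_zero.mp this).resolve_left h2p
        rw [hx01, hx10, hy01, hy10]
        simp
      · have hx01 : X 0 1 = 0 := by
          have : A 1 0 * X 0 1 = 0 := by rw [hq] at x1; linear_combination x1
          exact (mul_eq_zero.mp this).resolve_left hr
        have hy01 : Y 0 1 = 0 := by
          have : A 1 0 * Y 0 1 = 0 := by rw [hq] at y1; linear_combination y1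
          exact (mul_eq_zero.mp this).resolve_left hr
        refine ⟨by rw [hx01, hy01]; ring, by rw [hx01, hy01]; ring, ?_⟩
        apply mul_left_cancel₀ hr
        linear_combination (-(X 1 0)) * y3 + Y 1 0 * x3
    · have k1 : X 0 1 * Y 1 0 = Y 0 1 * X 1 0 := by
        apply mul_left_cancel₀ hq
        linear_combination (-(X 0 1)) * y1 + Y 0 1 * x1
      refine ⟨k1, ?_, ?_⟩
      · apply mul_left_cancel₀ hq
        linear_combination Y 0 1 * x2 - X 0 1 * y2
      · apply mul_left_cancel₀ hq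
        linear_combination X 1 0 * y2 - Y 1 0 * x2 - 2 * A 0 0 * k1
  obtain ⟨k1, k2, k3⟩ := key
  ext i j
  fin_cases i <;> fin_cases j
  · show (X * Y) 0 0 = (Y * X) 0 0
    rw [p00, q00]; linear_combination k1
  · show (X * Y) 0 1 = (Y * X) 0 1
    rw [p01, q01]; linear_combination k2
  · show (X * Y) 1 0 = (Y * X) 1 0
    rw [p10, q10]; linear_combination k3
  · show (X * Y) 1 1 = (Y * X) 1 1
    rw [p11, q11]; linear_combination (-1 : F) * k1

end Cfsg.Agent.Lib.Helper2.FW
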