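import Mathlib
import Cfsg.Prelude.Def_CaseTheorems
import Cfsg.Prelude.Def_TwoFusion
import Cfsg.Agent.Lib.Helper2.FWDefs
import Cfsg.Agent.Lib.Helper2.FWHyp
import Cfsg.Agent.Lib.Helper15.FWNL
import Cfsg.Agent.Lib.Helper19.FWU
import Cfsg.Agent.Lib.Helper19.FWF3
import Cfsg.Agent.Lib.Helper39.FWCard
import Cfsg.Agent.Lib.Helper39.FWCount
import Cfsg.Agent.Lib.Helper39.FWM0
import Cfsg.Agent.Lib.Helper39.FWM5b
import Cfsg.Agent.Lib.Helper50.FWF4Of
import Cfsg.Agent.Lib.Helper50.FWSwapOf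
import Cfsg.Agent.Lib.Helper95.FWInv
import Cfsg.Agent.Lib.Helper95.FWFlip
import Cfsg.Agent.Lib.Helper95.FWNorm
import Cfsg.Agent.Lib.Helper46.FWM5a
import Cfsg.Agent.Lib.Helper61.FWF2
import Cfsg.Agent.Lib.Helper61.FWF5
import Cfsg.Agent.Lib.Helper61.FWXfer
import Cfsg.Agent.Lib.Helper2.FWM1
import Cfsg.Agent.Lib.Helper29.ZStarCor
import Cfsg.Agent.Lib.Helper4.D8Fusion
import Cfsg.Agent.Lib.Helper55.Cores
import Cfsg.Agent.S0215

/-!
# Project FW (S3211): assembly (helper2)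

Modules: helper15 (NL), helper19 (U, F3), helper39 (CARD, COUNT, M0, M5b), helper46 (M5a),
helper50 (F4, SWAP), helper61 (F2, F5, XFER), helper95 (INV, FLIP, NORM), helper2 (HYP, M1, ISO,
ZSTAR); see `FW_MODULES.md`.
-/

set_option autoImplicit false

namespace Cfsg.Agent.Lib.Helper2.FW

variable {G : Type*} [Group G] {L₁ L₂ : Subgroup G} {j n : G}

/-- [FW-ISO] under `Hyp`, the involution `j` is isolated. -/
theorem isolated [Finite G] (H : Hyp L₁ L₂ j n) :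
    ∀ g : G, Commute j (g * j * g⁻¹) → g * j * g⁻¹ = j := by
  intro g hg
  by_contra hne
  obtain ⟨g', a, ha, haa, hg'⟩ := Cfsg.Agent.Lib.Helper95.FW.normalize H hne hg.eq.symm
  have hU := Cfsg.Agent.Lib.Helper19.FW.u_facts H ha haa
  obtain ⟨hb, hbb, huj, huu, hu1, huj', hnu⟩ := hU
  have hne' : g' * j * g'⁻¹ ≠ j := by rw [hg']; exact huj'
  have hcomm' : (g' * j * g'⁻¹) * j = j * (g' * j * g'⁻¹) := by rw [hg']; exact huj
  obtain ⟨ρ, h1, h2⟩ := Cfsg.Agent.Lib.Helper50.FW.swap_of H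
    (fun t htj ht => Cfsg.Agent.Lib.Helper95.FW.invol_cases H htj ht)
    (fun x hx y hy hxx hyy => Cfsg.Agent.Lib.Helper95.FW.flip H hx hy hxx hyy) hne' hcomm'
  rw [hg'] at h1 h2
  have hcard := Cfsg.Agent.Lib.Helper39.FW.roots_ncard_eq h1 h2
  obtain ⟨h3, h3'⟩ := Cfsg.Agent.Lib.Helper19.FW.four_roots H ha haa
  have hlt := Cfsg.Agent.Lib.Helper39.FW.count_lt_of (j := j) (u := a * (n * a * n⁻¹)) (a := a)
    (b := n * a * n⁻¹) (n := n)
    (fun k => InL L₁ L₂ k)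
    (fun s k hs hk hss hkk => Cfsg.Agent.Lib.Helper61.FW.roots_in_L H ha haa hs hk hss hkk)
    h3 h3'
    (fun k hk hkL => Cfsg.Agent.Lib.Helper50.FW.shift_of H ha haa
      (fun x hx y hy => Cfsg.Agent.Lib.Helper15.FW.no_invol_nL H hx hy)
      (Cfsg.Agent.Lib.Helper19.FW.u_facts H ha haa) hk hkL)
    (Cfsg.Agent.Lib.Helper61.FW.n_root H ha haa)
  omega

/-- [FW-ZSTAR] an isolated involution `j` satisfies `G = C_G(j) O(G)` (Glauberman's `Z*`). -/
theorem sup_oddCore_of_isolated {G : Type*} [Group G] [Finite G] {j : G}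
    (hj : Cfsg.IsIsolatedInvolution j) :
    Subgroup.centralizer ({j} : Set G) ⊔ Cfsg.oddCore G = ⊤ := by
  have hZ : Cfsg.Agent.Lib.Helper29.ZStarStatement :=
    fun Γ _ _ P t ht htP hiso => Cfsg.Agent.S0215.result P t ht htP hiso
  have hcomm := Cfsg.Agent.Lib.Helper29.oddCore_of_isolated hZ j hj
  have hodd : Odd (Nat.card ↥(Cfsg.oddCore G)) := by
    have h := Cfsg.Agent.Lib.Helper55.card_pPrimeCore_coprime (G := G) 2
    exact Nat.coprime_two_right.mp h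
  rw [eq_top_iff]
  intro g _
  exact Cfsg.Agent.Lib.Helper4.D8.mem_sup_of_comm_mem hj.1 hodd g (hcomm g)

/-- in a finite field of odd order, `2 ≠ 0`. -/
theorem two_ne_zero_of_odd_card {F : Type*} [Field F] [Fintype F] (hF : Odd (Fintype.card F)) :
    (2 : F) ≠ 0 := by
  intro h
  have h2 : ringChar F = 2 := by
    have := (ringChar.spec F 2).mp (by exact_mod_cast h)
    exact (Nat.prime_dvd_prime_iff_eq (CharP.char_is_prime F (ringChar F)) Nat.prime_two).mp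
      this
  have := FiniteField.even_card_of_char_two h2
  rw [← Nat.even_iff] at this
  exact (Nat.not_even_iff_odd.mpr hF) this

/-- the `SL₂` input, transported to a subgroup `L ≅ SL₂(F)`. -/
theorem sl2Like_of_equiv' {F : Type*} [Field F] [Fintype F] (hF : Odd (Fintype.card F))
    (L : Subgroup G) (e : ↥L ≃* Matrix.SpecialLinearGroup (Fin 2) F) (j : G) (hj : orderOf j = 2)
    (hjL : j ∈ L) : SL2Like L j :=
  Cfsg.Agent.Lib.Helper61.FW.sl2Like_of_equiv hF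
    (fun x hx => Cfsg.Agent.Lib.Helper39.FW.sl2_invol (two_ne_zero_of_odd_card hF) x hx)
    (fun a x y ha hx hy =>
      sl2_abel (two_ne_zero_of_odd_card hF) a x y ha hx hy)
    (fun a b ha hb => Cfsg.Agent.Lib.Helper39.FW.sl2_conj_of_normal_form
      (fun a ha => Cfsg.Agent.Lib.Helper46.FW.sl2_normal_form hF a ha) a b ha hb)
    L e j hj hjL

/-- The Fong–Wong lemma (statement S3211). -/
theorem fong_wong {G : Type*} [Group G] [Finite G]
    {F₁ : Type*} [Field F₁] [Fintype F₁] {F₂ : Type*} [Field F₂] [Fintype F₂]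
    (hF₁ : Odd (Fintype.card F₁)) (hF₂ : Odd (Fintype.card F₂)) (L₁ L₂ : Subgroup G)
    (e₁ : ↥L₁ ≃* Matrix.SpecialLinearGroup (Fin 2) F₁)
    (e₂ : ↥L₂ ≃* Matrix.SpecialLinearGroup (Fin 2) F₂)
    (hc : ∀ x ∈ L₁, ∀ y ∈ L₂, x * y = y * x) (j : G) (hj : orderOf j = 2)
    (hm : L₁ ⊓ L₂ = Subgroup.zpowers j)
    (hle : L₁ ⊔ L₂ ≤ Subgroup.centralizer ({j} : Set G))
    (hi : (L₁ ⊔ L₂).relIndex (Subgroup.centralizer ({j} : Set G)) = 2) (n : G)
    (hn : n ∈ Subgroup.centralizer ({j} : Set G))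
    (hn2 : n ^ 2 = j) (hswap : L₁.map (MulAut.conj n).toMonoidHom = L₂) :
    Subgroup.centralizer ({j} : Set G) ⊔ Cfsg.oddCore G = ⊤ := by
  have hjL : j ∈ L₁ ⊓ L₂ := by rw [hm]; exact Subgroup.mem_zpowers j
  have hL₁ : SL2Like L₁ j := sl2Like_of_equiv' hF₁ L₁ e₁ j hj hjL.1
  have hL₂ : SL2Like L₂ j := sl2Like_of_equiv' hF₂ L₂ e₂ j hj hjL.2
  have H : Hyp L₁ L₂ j n := hyp_of hL₁ hL₂ hc hj hm hle hi hn hn2 hswap
  exact sup_oddCore_of_isolated ⟨hj, isolated H⟩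

end Cfsg.Agent.Lib.Helper2.FW
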