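import Mathlib
import Cfsg.Agent.Lib.Helper2.CycShultGroup
import Cfsg.Agent.S3766
import Cfsg.Agent.S0043

/-!
# The local step of the Shult–Gross Fitting height theorem

If `s` has odd prime power order `p ^ n` and acts fixed-point-freely by conjugation on the normal
`p'`-subgroup `N` of the finite solvable group `Γ`, then `[N, Ω₁⟨s⟩] ≤ F(N)`.
-/

set_option autoImplicit false

namespace Cfsg.Agent.Lib.Helper2.FitHeightLocal

open Cfsg.Agent.Lib.Helper2.ShultGroup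

section Basic

variable {Γ : Type*} [Group Γ]

/-- If `s` acts fixed-point-freely on `X ≥ Y` (`Y` finite and `s`-invariant) and `[x, s] ∈ Y`, then
`x ∈ Y`. -/
theorem mem_of_comm_mem (X Y : Subgroup Γ) [Finite Y] (hYX : Y ≤ X) (s : Γ)
    (hsY : ∀ y ∈ Y, s * y * s⁻¹ ∈ Y)
    (hfpf : ∀ x ∈ X, s * x * s⁻¹ = x → x = 1) (x : Γ) (hx : x ∈ X)
    (hxy : x⁻¹ * (s * x * s⁻¹) ∈ Y) : x ∈ Y := by
  have key : ∀ a ∈ X, ∀ b ∈ X, a⁻¹ * (s * a * s⁻¹) = b⁻¹ * (s * b * s⁻¹) → a = b := by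
    intro a ha b hb hab
    have h1 : s * (b * a⁻¹) * s⁻¹ = b * a⁻¹ := by
      have : s * (b * a⁻¹) * s⁻¹ = (s * b * s⁻¹) * (s * a * s⁻¹)⁻¹ := by group
      rw [this]
      have h2 : s * b * s⁻¹ = b * (a⁻¹ * (s * a * s⁻¹)) := by rw [hab]; group
      rw [h2]; group
    have h3 := hfpf _ (X.mul_mem hb (X.inv_mem ha)) h1
    exact (mul_inv_eq_one.mp h3).symm
  let f : Y → Y := fun y => ⟨(y : Γ)⁻¹ * (s * y * s⁻¹), Y.mul_mem (Y.inv_mem y.2) (hsY y y.2)⟩
  have hf : Function.Injective f := by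
    intro a b hab
    apply Subtype.ext
    exact key a (hYX a.2) b (hYX b.2) (congrArg Subtype.val hab)
  obtain ⟨y, hy⟩ := (Finite.injective_iff_surjective.mp hf) ⟨_, hxy⟩
  have : (y : Γ) = x := key y (hYX y.2) x hx (congrArg Subtype.val hy)
  rw [← this]
  exact y.2

end Basic

section PCore

variable {W : Type*} [CommGroup W] [Finite W] {r : ℕ} [hr : Fact r.Prime]

/-- If `W` is an elementary abelian `r`-group, irreducible under `A ≤ Aut W`, and `A` normalizes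
`K ≤ Aut W`, then `O_r(K) = 1`. -/
theorem pCore_eq_bot_of_irreducible (hW : ∀ w : W, w ^ r = 1) (A K : Subgroup (MulAut W))
    (hAK : A ≤ Subgroup.normalizer (K : Set (MulAut W)))
    (hirr : ∀ W₀ : Subgroup W, (∀ a ∈ A, ∀ w ∈ W₀, a w ∈ W₀) → W₀ = ⊥ ∨ W₀ = ⊤) :
    Cfsg.pCore r ↥K = ⊥ := by
  by_cases hsub : Subsingleton W
  · have : Subsingleton (MulAut W) := ⟨fun a b => by ext w; exact Subsingleton.elim _ _⟩
    exact Subsingleton.elim _ _
  rw [not_subsingleton_iff_nontrivial] at hsub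
  set R := Cfsg.pCore r ↥K with hR
  have hRp : IsPGroup r R := Cfsg.Agent.Lib.Helper1.pCore_isPGroup r
  have hRchar : R.Characteristic := Cfsg.Agent.Lib.Helper1.pCore_characteristic r
  -- the fixed points of `R`
  let Fx : Subgroup W :=
    { carrier := {w | ∀ ρ ∈ R, ((ρ : ↥K) : MulAut W) w = w}
      mul_mem' := fun {a b} ha hb ρ hρ => by rw [map_mul, ha ρ hρ, hb ρ hρ]
      one_mem' := fun ρ _ => map_one _
      inv_mem' := fun {a} ha ρ hρ => by rw [map_inv, ha ρ hρ] }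
  have hFxinv : ∀ a ∈ A, ∀ w ∈ Fx, a w ∈ Fx := by
    intro a ha w hw ρ hρ
    -- `a⁻¹ ρ a ∈ R`
    have hainv : a⁻¹ ∈ A := A.inv_mem ha
    have hnorm : A ≤ Subgroup.normalizer (K : Set (MulAut W)) := hAK
    have := (hRchar.fixed (conjOn A K hAK ⟨a⁻¹, hainv⟩))
    have hmem : conjOn A K hAK ⟨a⁻¹, hainv⟩ ρ ∈ R := by
      have h2 : ρ ∈ R.comap (conjOn A K hAK ⟨a⁻¹, hainv⟩).toMonoidHom := by rw [this]; exact hρ
      exact h2
    have h3 := hw _ hmem
    rw [conjOn_apply] at h3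
    simp only [inv_inv, MulAut.mul_apply] at h3
    have h4 : ((ρ : ↥K) : MulAut W) (a w) = a (a⁻¹ (((ρ : ↥K) : MulAut W) (a w))) := by
      simp
    rw [h4, h3]
  have hFxne : Fx ≠ ⊥ := by
    intro hbot
    have hrW : r ∣ Nat.card W := by
      have hWp : IsPGroup r W := fun w => ⟨1, by simpa using hW w⟩
      obtain ⟨n, hn⟩ := IsPGroup.iff_card.mp hWp
      rcases n with _ | n
      · rw [pow_zero] at hn
        have := (Nat.card_eq_one_iff_unique.mp hn).1
        exact absurd this (not_subsingleton W)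
      · rw [hn, pow_succ]; exact dvd_mul_left _ _
    have hone : (1 : W) ∈ MulAction.fixedPoints ↥R W := by
      intro ρ
      show ((ρ : ↥K) : MulAut W) 1 = 1
      exact map_one _
    obtain ⟨b, hb, hne⟩ := hRp.exists_fixed_point_of_prime_dvd_card_of_fixed_point W hrW hone
    have hbFx : b ∈ Fx := fun ρ hρ => hb ⟨ρ, hρ⟩
    rw [hbot, Subgroup.mem_bot] at hbFx
    exact hne hbFx.symm
  rcases hirr Fx hFxinv with h | h
  · exact absurd h hFxne
  · rw [eq_bot_iff]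
    intro ρ hρ
    rw [Subgroup.mem_bot]
    apply Subtype.ext
    ext w
    have : w ∈ Fx := by rw [h]; exact Subgroup.mem_top w
    exact this ρ hρ

end PCore

section Step

open scoped IsMulCommutative

variable {Γ Q : Type*} [Group Γ] [Finite Γ] [Group Q] [Finite Q] {p r : ℕ} [hp : Fact p.Prime]
  [hr : Fact r.Prime]

set_option maxHeartbeats 1600000 in
/-- The chief factor step: `[k, x]` centralizes the abelian minimal normal subgroup `Ub` of the
quotient `Q` of `Γ`. -/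
theorem step (hΓ : Group.IsSolvable Γ) (π : Γ →* Q) (hπ : Function.Surjective π)
    (Ub : Subgroup Q) [hUbn : Ub.Normal] [IsMulCommutative Ub]
    (hmin : ∀ M : Subgroup Q, M.Normal → M ≤ Ub → M = ⊥ ∨ M = Ub)
    (hexp : ∀ x ∈ Ub, x ^ r = 1)
    (N : Subgroup Γ) [hNn : N.Normal] (s : Γ) (n : ℕ) (hp2 : p ≠ 2) (hs : s ^ (p ^ n) = 1)
    (hpN : ¬ p ∣ Nat.card N) (hfpf : ∀ k ∈ N, s * k * s⁻¹ = k → k = 1)
    (hUN : Ub.comap π ≤ N)
    (x : Γ) (hx : x ∈ Subgroup.zpowers s) (hxp : x ^ p = 1) (k : Γ) (hk : k ∈ N) :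
    ∀ w ∈ Ub, π (k⁻¹ * (x * k * x⁻¹)) * w * (π (k⁻¹ * (x * k * x⁻¹)))⁻¹ = w := by
  classical
  let β : Γ →* MulAut ↥Ub := (MulAut.conjNormal (H := Ub)).comp π
  have hβ : ∀ (g : Γ) (w : ↥Ub), ((β g w : ↥Ub) : Q) = π g * w * (π g)⁻¹ := fun g w => rfl
  let K : Subgroup (MulAut ↥Ub) := N.map β
  let H' : Subgroup (MulAut ↥Ub) := Subgroup.zpowers (β s)
  let A : Subgroup (MulAut ↥Ub) := β.range
  have hAK : A ≤ Subgroup.normalizer (K : Set (MulAut ↥Ub)) := by
    rintro _ ⟨a, rfl⟩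
    rw [Subgroup.mem_normalizer_iff]
    intro h
    constructor
    · rintro ⟨k', hk', rfl⟩
      refine ⟨a * k' * a⁻¹, hNn.conj_mem k' hk' a, ?_⟩
      rw [map_mul, map_mul, map_inv]
    · rintro ⟨k', hk', hk'e⟩
      refine ⟨a⁻¹ * k' * a, ?_, ?_⟩
      · have := hNn.conj_mem k' hk' a⁻¹
        rwa [inv_inv] at this
      · rw [map_mul, map_mul, map_inv, hk'e]
        group
  have hH'A : H' ≤ A := by
    rw [Subgroup.zpowers_le]
    exact ⟨s, rfl⟩
  have hnorm : H' ≤ Subgroup.normalizer (K : Set (MulAut ↥Ub)) := hH'A.trans hAK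
  -- irreducibility
  have hirr : ∀ W₀ : Subgroup ↥Ub, (∀ a ∈ A, ∀ w ∈ W₀, a w ∈ W₀) → W₀ = ⊥ ∨ W₀ = ⊤ := by
    intro W₀ hW₀
    have hMn : (W₀.map Ub.subtype).Normal := by
      constructor
      rintro _ ⟨w, hw, rfl⟩ q
      obtain ⟨g, rfl⟩ := hπ q
      exact ⟨β g w, hW₀ _ ⟨g, rfl⟩ w hw, rfl⟩
    have hMU : W₀.map Ub.subtype ≤ Ub := by
      rintro _ ⟨w, _, rfl⟩
      exact w.2
    rcases hmin _ hMn hMU with h | h
    · left
      exact (Subgroup.map_eq_bot_iff_of_injective _ Ub.subtype_injective).mp h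
    · right
      rw [eq_top_iff]
      intro w _
      have : (w : Q) ∈ W₀.map Ub.subtype := by rw [h]; exact w.2
      obtain ⟨w', hw', hww⟩ := this
      have : w' = w := Subtype.ext hww
      rwa [← this]
  have hW : ∀ w : ↥Ub, w ^ r = 1 := fun w => Subtype.ext (by
    rw [Subgroup.coe_pow, Subgroup.coe_one]; exact hexp w w.2)
  have hOr : Cfsg.pCore r ↥K = ⊥ := pCore_eq_bot_of_irreducible hW A K hAK hirr
  -- solvability etc. of `K`
  have hKsurj : Function.Surjective (β.subgroupMap N) := β.subgroupMap_surjective N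
  have hNsol : Group.IsSolvable ↥N := inferInstance
  have hKsol : Group.IsSolvable ↥K := Group.isSolvable_of_surjective hKsurj
  have hKcard : Nat.card ↥K ∣ Nat.card ↥N := Subgroup.card_dvd_of_surjective _ hKsurj
  have hpK : ¬ p ∣ Nat.card ↥K := fun h => hpN (h.trans hKcard)
  have hH'p : IsPGroup p ↥H' := by
    intro h
    refine ⟨n, ?_⟩
    obtain ⟨z, hz⟩ := h.2
    apply Subtype.ext
    rw [Subgroup.coe_pow, Subgroup.coe_one]
    have hz' : (h : MulAut ↥Ub) = (β s) ^ z := hz.symm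
    rw [hz', ← zpow_natCast, ← zpow_mul, mul_comm, zpow_mul, zpow_natCast, ← map_pow, hs, map_one,
      one_zpow]
  intro w hw
  by_cases hUbne : Ub = ⊥
  · rw [hUbne, Subgroup.mem_bot] at hw
    rw [hw]; group
  -- `r ≠ p`
  have hrp : r ≠ p := by
    obtain ⟨w₀, hw₀1⟩ := (Subgroup.ne_bot_iff_exists_ne_one.mp hUbne)
    intro hrp
    obtain ⟨u, hu⟩ := hπ (w₀ : Q)
    have huN : u ∈ N := hUN (by rw [Subgroup.mem_comap, hu]; exact w₀.2)
    have h1 : orderOf (w₀ : Q) = r := by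
      apply orderOf_eq_prime (hexp _ w₀.2)
      intro h; exact hw₀1 (Subtype.ext h)
    have h2 : orderOf (π u) ∣ orderOf u := orderOf_map_dvd π u
    have h3 : orderOf u ∣ Nat.card N := by
      have := orderOf_dvd_natCard (⟨u, huN⟩ : ↥N)
      rwa [← Subgroup.orderOf_coe] at this
    rw [hu, h1, hrp] at h2
    exact hpN (h2.trans h3)
  let σ : ↥H' := ⟨β s, Subgroup.mem_zpowers _⟩
  have hσ : ∀ h : ↥H', h ∈ Subgroup.zpowers σ := by
    intro h
    obtain ⟨z, hz⟩ := h.2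
    exact ⟨z, Subtype.ext (by rw [Subgroup.coe_zpow]; exact hz)⟩
  let φ : ↥H' →* MulAut ↥K := conjOn H' K hnorm
  have hcompat : ∀ (h : ↥H') (g : ↥K) (v : ↥Ub),
      H'.subtype h (K.subtype g v) = K.subtype (φ h g) (H'.subtype h v) := by
    intro h g v
    have : ((φ h g : ↥K) : MulAut ↥Ub) = (h : MulAut ↥Ub) * g * (h : MulAut ↥Ub)⁻¹ :=
      conjOn_apply H' K hnorm h g
    show (h : MulAut ↥Ub) ((g : MulAut ↥Ub) v) = ((φ h g : ↥K) : MulAut ↥Ub) ((h : MulAut ↥Ub) v)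
    rw [this]
    simp [MulAut.mul_apply]
  have hfpf' : ∀ g : ↥K, φ σ g = g → g = 1 := by
    intro g hg
    obtain ⟨k', hk', hgk⟩ := g.2
    have h1 : β s * (g : MulAut ↥Ub) * (β s)⁻¹ = g := by
      have := congrArg Subtype.val hg
      rwa [conjOn_apply] at this
    have h2 : β (k'⁻¹ * (s * k' * s⁻¹)) = 1 := by
      rw [map_mul, map_mul, map_mul, map_inv, map_inv, hgk, h1]
      group
    have hYn : (N ⊓ β.ker).Normal := inferInstance
    have h3 : k' ∈ N ⊓ β.ker := by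
      apply mem_of_comm_mem N (N ⊓ β.ker) inf_le_left s (fun y hy => hYn.conj_mem y hy s) hfpf k'
        hk'
      exact ⟨N.mul_mem (N.inv_mem hk') (hNn.conj_mem k' hk' s), h2⟩
    apply Subtype.ext
    rw [← hgk]
    exact h3.2
  have hfix : ∀ v : ↥Ub, (∀ h : ↥H', H'.subtype h v = v) → v = 1 := by
    intro v hv
    obtain ⟨u, hu⟩ := hπ (v : Q)
    have huU : u ∈ Ub.comap π := by rw [Subgroup.mem_comap, hu]; exact v.2
    have h1 : π s * (v : Q) * (π s)⁻¹ = v := by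
      have := congrArg Subtype.val (hv σ)
      exact this
    have h2 : u⁻¹ * (s * u * s⁻¹) ∈ π.ker := by
      rw [MonoidHom.mem_ker, map_mul, map_mul, map_mul, map_inv, map_inv, hu, h1]
      group
    have hkn : π.ker.Normal := inferInstance
    have h3 : u ∈ π.ker := by
      apply mem_of_comm_mem (Ub.comap π) π.ker (Subgroup.ker_le_comap π Ub) s
        (fun y hy => hkn.conj_mem y hy s) (fun y hy => hfpf y (hUN hy)) u huU h2
    apply Subtype.ext
    rw [← hu]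
    exact h3
  have key := Cfsg.Agent.Lib.Helper2.CycShultGroup.centralizes hKsol hW hH'p hp2 hpK hrp φ
    K.subtype H'.subtype hcompat Subtype.val_injective hOr σ hσ hfpf' hfix
  have hxH' : β x ∈ H' := by
    obtain ⟨z, rfl⟩ := hx
    exact ⟨z, (map_zpow β s z).symm⟩
  have hxp' : (⟨β x, hxH'⟩ : ↥H') ^ p = 1 := by
    apply Subtype.ext
    rw [Subgroup.coe_pow, Subgroup.coe_one]
    show (β x) ^ p = 1
    rw [← map_pow, hxp, map_one]
  have h4 := congrArg Subtype.val (key ⟨β x, hxH'⟩ hxp' ⟨β k, ⟨k, hk, rfl⟩⟩)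
  rw [conjOn_apply] at h4
  have h5 : β (k⁻¹ * (x * k * x⁻¹)) = 1 := by
    rw [map_mul, map_mul, map_mul, map_inv, map_inv]
    have h4' : β x * β k * (β x)⁻¹ = β k := h4
    rw [h4']
    group
  have h6 := hβ (k⁻¹ * (x * k * x⁻¹)) ⟨w, hw⟩
  rw [h5] at h6
  exact h6.symm

end Step

section Local

open scoped IsMulCommutative

variable {Γ : Type*} [Group Γ] [Finite Γ] {p : ℕ} [hp : Fact p.Prime]

omit [Finite Γ] in
/-- The image of a chief factor `U / V` in `Γ ⧸ V` is a minimal normal subgroup. -/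
theorem minimal_normal_map {U V : Subgroup Γ} [hUn : U.Normal] [hVn : V.Normal] (hlt : V < U)
    (hmin : ∀ W : Subgroup Γ, W.Normal → V ≤ W → W ≤ U → W = V ∨ W = U) :
    U.map (QuotientGroup.mk' V) ≠ ⊥ ∧ (U.map (QuotientGroup.mk' V)).Normal ∧
      (U.map (QuotientGroup.mk' V)).comap (QuotientGroup.mk' V) = U ∧
      ∀ M : Subgroup (Γ ⧸ V), M.Normal → M ≤ U.map (QuotientGroup.mk' V) →
        M = ⊥ ∨ M = U.map (QuotientGroup.mk' V) := by
  have hsurj := QuotientGroup.mk'_surjective V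
  have hcomap : (U.map (QuotientGroup.mk' V)).comap (QuotientGroup.mk' V) = U := by
    rw [Subgroup.comap_map_eq, QuotientGroup.ker_mk', sup_eq_left.mpr hlt.le]
  refine ⟨?_, hUn.map _ hsurj, hcomap, ?_⟩
  · intro hbot
    have h1 : U ≤ V := by
      intro u hu
      have : (QuotientGroup.mk' V) u ∈ U.map (QuotientGroup.mk' V) := ⟨u, hu, rfl⟩
      rw [hbot, Subgroup.mem_bot, QuotientGroup.mk'_apply, QuotientGroup.eq_one_iff] at this
      exact this
    exact absurd (le_antisymm h1 hlt.le) hlt.ne'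
  · intro M hM hMU
    have h1 : V ≤ M.comap (QuotientGroup.mk' V) := by
      have := Subgroup.ker_le_comap (QuotientGroup.mk' V) M
      rwa [QuotientGroup.ker_mk'] at this
    have h2 : M.comap (QuotientGroup.mk' V) ≤ U := by
      rw [← hcomap]; exact Subgroup.comap_mono hMU
    have h3 : M = (M.comap (QuotientGroup.mk' V)).map (QuotientGroup.mk' V) :=
      (Subgroup.map_comap_eq_self_of_surjective hsurj M).symm
    rcases hmin _ (hM.comap _) h1 h2 with h | h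
    · left
      rw [h3, h, eq_bot_iff]
      rintro _ ⟨v, hv, rfl⟩
      rw [Subgroup.mem_bot, QuotientGroup.mk'_apply, QuotientGroup.eq_one_iff]
      exact hv
    · right
      rw [h3, h]

/-- **The local step of the Shult–Gross theorem.** If `s` has order dividing `p ^ n` (`p` odd) and
acts fixed-point-freely on the normal `p'`-subgroup `N` of the finite solvable group `Γ`, then
`[k, x] ∈ F(N)` for all `k ∈ N` and all `x ∈ ⟨s⟩` with `x ^ p = 1`. -/
theorem comm_mem_fitting (hΓ : Group.IsSolvable Γ) (N : Subgroup Γ) [hNn : N.Normal] (s : Γ)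
    (n : ℕ) (hp2 : p ≠ 2) (hs : s ^ (p ^ n) = 1) (hpN : ¬ p ∣ Nat.card N)
    (hfpf : ∀ k ∈ N, s * k * s⁻¹ = k → k = 1)
    (x : Γ) (hx : x ∈ Subgroup.zpowers s) (hxp : x ^ p = 1) (k : Γ) (hk : k ∈ N) :
    k⁻¹ * (x * k * x⁻¹) ∈ (Cfsg.fittingSubgroup ↥N).map N.subtype := by
  rw [(Cfsg.Agent.S3766.result hΓ N _).2]
  refine ⟨N.mul_mem (N.inv_mem hk) (hNn.conj_mem k hk x), ?_⟩
  rintro U V ⟨hUn, hVn, hlt, hmin⟩ hUF u hu
  have := hUn
  have := hVn
  have : Group.IsSolvable Γ := hΓ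
  obtain ⟨hUbne, hUbn, hcomap, hUbmin⟩ := minimal_normal_map hlt hmin
  have := hUbn
  obtain ⟨hcomm, r, hr, hexp⟩ :=
    Cfsg.Agent.S0043.result (U.map (QuotientGroup.mk' V)) hUbne hUbmin
  have := hcomm
  have : Fact r.Prime := ⟨hr⟩
  have hUN : (U.map (QuotientGroup.mk' V)).comap (QuotientGroup.mk' V) ≤ N := by
    rw [hcomap]; exact hUF.trans (Subgroup.map_subtype_le _)
  have key := step hΓ (QuotientGroup.mk' V) (QuotientGroup.mk'_surjective V)
    (U.map (QuotientGroup.mk' V)) hUbmin hexp N s n hp2 hs hpN hfpf hUN x hx hxp k hk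
    (QuotientGroup.mk' V u⁻¹) ⟨u⁻¹, U.inv_mem hu, rfl⟩
  rw [← QuotientGroup.eq_one_iff]
  have e : ((u * (k⁻¹ * (x * k * x⁻¹)) * u⁻¹ * (k⁻¹ * (x * k * x⁻¹))⁻¹ : Γ) : Γ ⧸ V) =
      QuotientGroup.mk' V u * (QuotientGroup.mk' V (k⁻¹ * (x * k * x⁻¹)) *
        QuotientGroup.mk' V u⁻¹ * (QuotientGroup.mk' V (k⁻¹ * (x * k * x⁻¹)))⁻¹) := by
    simp only [QuotientGroup.mk'_apply, QuotientGroup.mk_mul, QuotientGroup.mk_inv]
    group
  rw [e, key, ← map_mul, mul_inv_cancel, map_one]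

end Local

end Cfsg.Agent.Lib.Helper2.FitHeightLocal
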