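import Mathlib
import Cfsg.Agent.Lib.Helper2.FitHeightLocal

/-!
# The Shult–Gross Fitting height theorem

A finite solvable group admitting a fixed-point-free automorphism of order `p ^ n`, `p` odd, has a
normal series of length `n` with nilpotent factors.
-/

set_option autoImplicit false

namespace Cfsg.Agent.Lib.Helper2.FitHeightGlobal

open Cfsg.Agent.Lib.Helper2.FrobFree

universe u

section Transport

/-- A group isomorphism maps the Fitting subgroup into the Fitting subgroup. -/
theorem fitting_map_le {G G' : Type*} [Group G] [Group G'] (e : G ≃* G') :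
    (Cfsg.fittingSubgroup G).map e.toMonoidHom ≤ Cfsg.fittingSubgroup G' := by
  unfold Cfsg.fittingSubgroup
  rw [Subgroup.map_le_iff_le_comap]
  apply sSup_le
  intro N hN
  rw [← Subgroup.map_le_iff_le_comap]
  obtain ⟨hn, hnil⟩ := hN
  refine le_sSup ⟨hn.map e.toMonoidHom e.surjective, ?_⟩
  have := hnil
  exact Group.nilpotent_of_surjective (e.subgroupMap N).toMonoidHom (e.subgroupMap N).surjective

end Transport

section Aut

variable {G : Type*} [Group G] [Finite G] {p : ℕ} [hp : Fact p.Prime]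

/-- A finite group with a fixed-point-free automorphism of `p`-power order is a `p'`-group. -/
theorem not_dvd_card_of_fpf (σ : MulAut G) (n : ℕ) (hσ : σ ^ (p ^ n) = 1)
    (hfpf : ∀ g : G, σ g = g → g = 1) : ¬ p ∣ Nat.card G := by
  have hH : IsPGroup p ↥(Subgroup.zpowers σ) := by
    intro h
    refine ⟨n, ?_⟩
    obtain ⟨z, hz⟩ := h.2
    apply Subtype.ext
    rw [Subgroup.coe_pow, Subgroup.coe_one]
    have hz' : (h : MulAut G) = σ ^ z := hz.symm
    rw [hz', ← zpow_natCast, ← zpow_mul, mul_comm, zpow_mul, zpow_natCast, hσ, one_zpow]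
  have h1 := hH.card_modEq_card_fixedPoints G
  have h2 : MulAction.fixedPoints ↥(Subgroup.zpowers σ) G = {1} := by
    ext g
    simp only [MulAction.mem_fixedPoints, Set.mem_singleton_iff]
    constructor
    · intro h
      exact hfpf g (h ⟨σ, Subgroup.mem_zpowers σ⟩)
    · rintro rfl h
      exact map_one (h : MulAut G)
  rw [h2] at h1
  intro hdvd
  have h3 : Nat.card G ≡ 0 [MOD p] := (Nat.modEq_zero_iff_dvd).mpr hdvd
  have h4 : Nat.card ({1} : Set G) = 1 := by simp
  rw [h4] at h1
  have h5 : (1 : ℕ) ≡ 0 [MOD p] := h1.symm.trans h3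
  rw [Nat.modEq_zero_iff_dvd] at h5
  exact hp.out.one_lt.ne' (Nat.dvd_one.mp h5)

set_option maxHeartbeats 800000 in
/-- **`[G, Ω₁⟨σ⟩] ≤ F(G)`** for a fixed-point-free automorphism `σ` of odd prime power order of the
finite solvable group `G`. -/
theorem comm_mem_fitting_aut (hG : Group.IsSolvable G) (hp2 : p ≠ 2) (σ : MulAut G) (n : ℕ)
    (hσ : σ ^ (p ^ n) = 1) (hfpf : ∀ g : G, σ g = g → g = 1) (τ : MulAut G)
    (hτ : τ ∈ Subgroup.zpowers σ) (hτp : τ ^ p = 1) (g : G) :
    g⁻¹ * τ g ∈ Cfsg.fittingSubgroup G := by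
  classical
  let φ₀ : ↥(Subgroup.zpowers σ) →* MulAut G := (Subgroup.zpowers σ).subtype
  let Γ := G ⋊[φ₀] ↥(Subgroup.zpowers σ)
  have hfinΓ : Finite Γ := Finite.of_equiv _ SemidirectProduct.equivProd.symm
  have hsolH : Group.IsSolvable ↥(Subgroup.zpowers σ) := by
    apply Group.isSolvable_of_comm
    rintro ⟨a, ha⟩ ⟨b, hb⟩
    apply Subtype.ext
    obtain ⟨i, rfl⟩ := ha
    obtain ⟨j, rfl⟩ := hb
    show σ ^ i * σ ^ j = σ ^ j * σ ^ i
    rw [← zpow_add, ← zpow_add, add_comm]
  have hsolΓ : Group.IsSolvable Γ :=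
    Group.isSolvable_of_ker_le_range (SemidirectProduct.inl : G →* Γ) SemidirectProduct.rightHom
      (le_of_eq SemidirectProduct.range_inl_eq_ker_rightHom.symm)
  let N : Subgroup Γ := (SemidirectProduct.inl : G →* Γ).range
  have hNn : N.Normal := by
    show ((SemidirectProduct.inl : G →* Γ).range).Normal
    rw [SemidirectProduct.range_inl_eq_ker_rightHom]
    exact MonoidHom.normal_ker _
  let σ' : ↥(Subgroup.zpowers σ) := ⟨σ, Subgroup.mem_zpowers σ⟩
  let s : Γ := SemidirectProduct.inr σ'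
  have hs : s ^ (p ^ n) = 1 := by
    show (SemidirectProduct.inr σ' : Γ) ^ (p ^ n) = 1
    rw [← map_pow]
    have : σ' ^ (p ^ n) = 1 := Subtype.ext (by rw [Subgroup.coe_pow]; exact hσ)
    rw [this, map_one]
  let e : G ≃* ↥N := MonoidHom.ofInjective SemidirectProduct.inl_injective
  have hpN : ¬ p ∣ Nat.card ↥N := by
    rw [← Nat.card_congr e.toEquiv]
    exact not_dvd_card_of_fpf σ n hσ hfpf
  have hconj : ∀ (t : ↥(Subgroup.zpowers σ)) (a : G),
      (SemidirectProduct.inr t : Γ) * SemidirectProduct.inl a * (SemidirectProduct.inr t)⁻¹ =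
        SemidirectProduct.inl ((t : MulAut G) a) := by
    intro t a
    rw [← map_inv, ← SemidirectProduct.inl_aut]
    rfl
  have hfpf' : ∀ k ∈ N, s * k * s⁻¹ = k → k = 1 := by
    rintro _ ⟨a, rfl⟩ h
    rw [hconj σ' a] at h
    have := hfpf a (SemidirectProduct.inl_injective h)
    rw [this, map_one]
  let τ' : ↥(Subgroup.zpowers σ) := ⟨τ, hτ⟩
  let x : Γ := SemidirectProduct.inr τ'
  have hx : x ∈ Subgroup.zpowers s := by
    obtain ⟨z, hz⟩ := hτ
    refine ⟨z, ?_⟩
    show (SemidirectProduct.inr σ' : Γ) ^ z = SemidirectProduct.inr τ'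
    rw [← map_zpow]
    congr 1
    apply Subtype.ext
    rw [Subgroup.coe_zpow]
    exact hz
  have hxp : x ^ p = 1 := by
    show (SemidirectProduct.inr τ' : Γ) ^ p = 1
    rw [← map_pow]
    have : τ' ^ p = 1 := Subtype.ext (by rw [Subgroup.coe_pow]; exact hτp)
    rw [this, map_one]
  have key := FitHeightLocal.comm_mem_fitting hsolΓ N s n hp2 hs hpN hfpf' x hx hxp
    (SemidirectProduct.inl g) ⟨g, rfl⟩
  rw [hconj τ' g, ← map_inv, ← map_mul] at key
  obtain ⟨y, hy, hyg⟩ := key
  have hey : e (g⁻¹ * τ g) = y := Subtype.ext hyg.symm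
  have h1 : g⁻¹ * τ g = e.symm y := by rw [← hey, MulEquiv.symm_apply_apply]
  rw [h1]
  exact fitting_map_le e.symm ⟨y, hy, rfl⟩

end Aut

section Chain

variable {p : ℕ} [hp : Fact p.Prime]

/-- Lower central series and comaps along surjections. -/
theorem lcs_comap_le {G Q : Type*} [Group G] [Group Q] (π : G →* Q) (hπ : Function.Surjective π)
    (A B : Subgroup Q) (k : ℕ) (h : A.lowerCentralSeries k ≤ B) :
    (A.comap π).lowerCentralSeries k ≤ B.comap π := by
  rw [← Subgroup.map_le_iff_le_comap, Subgroup.map_lowerCentralSeries,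
    Subgroup.map_comap_eq_self_of_surjective hπ]
  exact h

set_option maxHeartbeats 800000 in
/-- **Shult–Gross**: the Fitting chain. -/
theorem chain_exists (hp2 : p ≠ 2) : ∀ (n : ℕ) (G : Type u) [Group G] [Finite G],
    Group.IsSolvable G → ∀ σ : MulAut G, σ ^ (p ^ n) = 1 → (∀ g : G, σ g = g → g = 1) →
    ∃ F : Fin (n + 1) → Subgroup G, F 0 = ⊥ ∧ F (Fin.last n) = ⊤ ∧ Monotone F ∧
      (∀ i, (F i).Normal) ∧
      ∀ i : Fin n, ∃ k : ℕ, (F i.succ).lowerCentralSeries k ≤ F i.castSucc := by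
  intro n
  induction n with
  | zero =>
    intro G _ _ _ σ hσ hfpf
    have hσ1 : σ = 1 := by simpa using hσ
    have hsub : ∀ g : G, g = 1 := fun g => hfpf g (by rw [hσ1]; rfl)
    refine ⟨fun _ => ⊥, rfl, ?_, fun _ _ _ => le_rfl, fun _ => inferInstance, fun i => i.elim0⟩
    rw [eq_comm, eq_bot_iff]
    intro g _
    rw [Subgroup.mem_bot]
    exact hsub g
  | succ n ih =>
    intro G _ _ hG σ hσ hfpf
    have hchar : (Cfsg.fittingSubgroup G).Characteristic :=
      Cfsg.Agent.Lib.Helper1.fittingSubgroup_characteristic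
    have hF₁n : (Cfsg.fittingSubgroup G).Normal := inferInstance
    have hinv : ∀ h : MulAut G, ∀ x ∈ Cfsg.fittingSubgroup G,
        (MonoidHom.id (MulAut G)) h x ∈ Cfsg.fittingSubgroup G := by
      intro h x hx
      have := hchar.fixed h
      have hx' : x ∈ (Cfsg.fittingSubgroup G).comap h.toMonoidHom := by rw [this]; exact hx
      exact hx'
    let ψ : MulAut G →* MulAut (G ⧸ Cfsg.fittingSubgroup G) :=
      quotientAut (MonoidHom.id (MulAut G)) (Cfsg.fittingSubgroup G) hinv
    have hτ : ∀ g : G, g⁻¹ * (σ ^ (p ^ n)) g ∈ Cfsg.fittingSubgroup G := by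
      intro g
      apply comm_mem_fitting_aut hG hp2 σ (n + 1) hσ hfpf (σ ^ (p ^ n))
        (Subgroup.pow_mem _ (Subgroup.mem_zpowers σ) _)
      rw [← pow_mul, ← pow_succ]
      exact hσ
    have hσbar : (ψ σ) ^ (p ^ n) = 1 := by
      rw [← map_pow]
      ext x
      induction x using QuotientGroup.induction_on with
      | H x =>
        show ((((σ ^ (p ^ n)) x : G)) : G ⧸ Cfsg.fittingSubgroup G) = (x : G ⧸ _)
        rw [eq_comm, QuotientGroup.eq]
        exact hτ x
    have hfpfbar : ∀ f : G ⧸ Cfsg.fittingSubgroup G, ψ σ f = f → f = 1 :=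
      CycShultMain.quotientAut_fpf_single (MonoidHom.id (MulAut G)) (Cfsg.fittingSubgroup G) hinv
        σ hfpf
    have hsolQ : Group.IsSolvable (G ⧸ Cfsg.fittingSubgroup G) := inferInstance
    obtain ⟨Fb, hFb0, hFblast, hFbmono, hFbn, hFblcs⟩ :=
      ih (G ⧸ Cfsg.fittingSubgroup G) hsolQ (ψ σ) hσbar hfpfbar
    let π := QuotientGroup.mk' (Cfsg.fittingSubgroup G)
    have hπ : Function.Surjective π := QuotientGroup.mk'_surjective _
    refine ⟨Fin.cons ⊥ (fun i => (Fb i).comap π), ?_, ?_, ?_, ?_, ?_⟩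
    · rfl
    · rw [← Fin.succ_last, Fin.cons_succ, hFblast, Subgroup.comap_top]
    · rw [Fin.monotone_iff_le_succ]
      intro i
      refine Fin.cases ?_ (fun j => ?_) i
      · show (Fin.cons ⊥ (fun i => (Fb i).comap π) : Fin (n + 2) → Subgroup G) 0 ≤ _
        rw [Fin.cons_zero]
        exact bot_le
      · rw [← Fin.succ_castSucc, Fin.cons_succ, Fin.cons_succ]
        exact Subgroup.comap_mono (hFbmono (Fin.castSucc_le_succ j))
    · intro i
      refine Fin.cases ?_ (fun j => ?_) i
      · rw [Fin.cons_zero]; infer_instance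
      · rw [Fin.cons_succ]
        have := hFbn j
        infer_instance
    · intro i
      refine Fin.cases ?_ (fun j => ?_) i
      · -- the Fitting subgroup is nilpotent
        have h0 : (Fin.cons ⊥ (fun i => (Fb i).comap π) : Fin (n + 2) → Subgroup G)
            (Fin.succ 0) = Cfsg.fittingSubgroup G := by
          rw [Fin.cons_succ, hFb0]
          show (⊥ : Subgroup (G ⧸ Cfsg.fittingSubgroup G)).comap π = _
          rw [MonoidHom.comap_bot, QuotientGroup.ker_mk']
        have hnil : Group.IsNilpotent (Cfsg.fittingSubgroup G) :=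
          Cfsg.Agent.Lib.Helper1.fittingSubgroup_isNilpotent
        obtain ⟨k, hk⟩ := (Subgroup.isNilpotent_iff_lowerCentralSeries _).1 hnil
        refine ⟨k, ?_⟩
        rw [h0, hk]
        exact bot_le
      · obtain ⟨k, hk⟩ := hFblcs j
        refine ⟨k, ?_⟩
        rw [← Fin.succ_castSucc, Fin.cons_succ, Fin.cons_succ]
        exact lcs_comap_le π hπ _ _ k hk

end Chain

end Cfsg.Agent.Lib.Helper2.FitHeightGlobal
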