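import Mathlib
import Cfsg.Agent.Lib.Helper89.FlavellPerm
import Cfsg.Agent.Lib.Helper66.FlavellFixDim
import Cfsg.Agent.Lib.Helper66.FlavellOrbCount

/-!
# Flavell's fixed space bound: the imprimitive case by orbit counting
-/

set_option autoImplicit false

namespace Cfsg.Agent.Lib.Helper2.FlavellCount

open Module
open Cfsg.Agent.Lib.Helper66.Flavell

theorem finrank_map_rho {G : Type*} [Group G] {K : Type*} [Field K]
    {V : Type*} [AddCommGroup V] [Module K V] (ρ : Representation K G V) (g : G)
    (W : Submodule K V) : finrank K ↥(W.map (ρ g)) = finrank K ↥W := by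
  have hinj : Function.Injective (ρ g) := by
    intro a b hab
    have h1 : ρ g⁻¹ (ρ g a) = ρ g⁻¹ (ρ g b) := by rw [hab]
    have h2 : ∀ v, ρ g⁻¹ (ρ g v) = v := by
      intro v
      rw [← Module.End.mul_apply, ← map_mul, inv_mul_cancel, map_one, Module.End.one_apply]
    rwa [h2, h2] at h1
  exact (Submodule.equivMapOfInjective (ρ g) hinj W).finrank_eq.symm

theorem finrank_eq_card_mul {K : Type*} [Field K] {V : Type*} [AddCommGroup V] [Module K V]
    [FiniteDimensional K V] {ι : Type*} [Finite ι] (W : ι → Submodule K V)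
    (hind : iSupIndep W) (hsup : ⨆ i, W i = ⊤) (d : ℕ) (hd : ∀ i, finrank K ↥(W i) = d) :
    finrank K V = Nat.card ι * d := by
  classical
  have := Fintype.ofFinite ι
  have hint : DirectSum.IsInternal W :=
    (DirectSum.isInternal_submodule_iff_iSupIndep_and_iSup_eq_top W).mpr ⟨hind, hsup⟩
  have b := hint.collectedBasis (fun i => Module.finBasis K (W i))
  rw [Module.finrank_eq_card_basis b, Fintype.card_sigma]
  simp [hd, Nat.card_eq_fintype_card]

/-- [COUNT] A system of imprimitivity with at least two blocks permuted transitively forces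
`2 dim C_V(x) < dim V`. -/
theorem count {G : Type*} [Group G] [Finite G] [Group.IsSolvable G] {K : Type*} [Field K]
    {V : Type*} [AddCommGroup V] [Module K V] [FiniteDimensional K V] [Nontrivial V]
    (ρ : Representation K G V) {p : ℕ} [hpp : Fact p.Prime] (hp : 3 < p) (x : G) (hx : x ^ p = 1)
    (hgen : Subgroup.normalClosure ({x} : Set G) = ⊤)
    {ι : Type*} [Finite ι] [MulAction G ι] [MulAction.IsPretransitive G ι] [Nontrivial ι]
    (W : ι → Submodule K V) (hW : ∀ g i, (W i).map (ρ g) = W (g • i))
    (hind : iSupIndep W) (hsup : ⨆ i, W i = ⊤) :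
    2 * finrank K ↥(LinearMap.ker (ρ x - LinearMap.id)) < finrank K V := by
  classical
  obtain ⟨i₀⟩ := (inferInstance : Nonempty ι)
  set d := finrank K ↥(W i₀) with hd0
  have hd : ∀ i, finrank K ↥(W i) = d := by
    intro i
    obtain ⟨g, rfl⟩ := MulAction.exists_smul_eq G i₀ i
    rw [← hW, finrank_map_rho]
  have hn : finrank K V = Nat.card ι * d := finrank_eq_card_mul W hind hsup d hd
  have hVpos : 0 < finrank K V := Module.finrank_pos
  set σ : Equiv.Perm ι := MulAction.toPerm x with hσdef
  have hσ : σ ^ p = 1 := by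
    rw [hσdef, ← MulAction.toPermHom_apply, ← map_pow, hx, map_one]
  have h1 := finrank_ker_sub_one_le (ρ x) σ W (fun i => by rw [hW]; exact le_rfl) hind hsup d
    (fun i => (hd i).le)
  have h2 := prime_mul_card_orbits σ hσ
  set H := MulAction.stabilizer G i₀ with hHdef
  have hidx : H.index = Nat.card ι := MulAction.index_stabilizer_of_transitive G i₀
  have hH : H ≠ ⊤ := by
    intro h
    rw [h, Subgroup.index_top] at hidx
    have : 1 < Nat.card ι := Finite.one_lt_card
    omega
  have hodd : Odd p := hpp.out.odd_of_ne_two (by omega)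
  have h3 := Cfsg.Agent.Lib.Helper89.Flavell.three_mul_card_fixed_le_index hodd x hx hgen H hH
  have hbij : Function.Bijective (MulAction.ofQuotientStabilizer G i₀) := by
    refine ⟨MulAction.injective_ofQuotientStabilizer G i₀, fun i => ?_⟩
    obtain ⟨g, rfl⟩ := MulAction.exists_smul_eq G i₀ i
    exact ⟨QuotientGroup.mk g, MulAction.ofQuotientStabilizer_mk G i₀ g⟩
  have hfix : Nat.card {q : G ⧸ H // x • q = q} = Nat.card {i : ι // σ i = i} := by
    refine Nat.card_congr ((Equiv.ofBijective _ hbij).subtypeEquiv fun q => ?_)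
    rw [Equiv.ofBijective_apply, hσdef, MulAction.toPerm_apply,
      ← MulAction.ofQuotientStabilizer_smul]
    exact ⟨fun h => by rw [h], fun h => hbij.1 h⟩
  rw [hfix, hidx] at h3
  have hp4 : p ≠ 4 := by
    rintro rfl
    exact absurd hpp.out (by decide)
  obtain ⟨p', rfl⟩ : ∃ p', p = p' + 5 := ⟨p - 5, by omega⟩
  have e1 : p' + 5 - 1 = p' + 4 := by omega
  rw [e1] at h2
  have hdpos : 0 < d := by
    rcases Nat.eq_zero_or_pos d with h0 | h0
    · rw [h0, Nat.mul_zero] at hn; omega
    · exact h0
  have hιpos : 0 < Nat.card ι := Nat.card_pos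
  rw [hn]
  set c := finrank K ↥(LinearMap.ker (ρ x - LinearMap.id))
  set m := Nat.card (MulAction.orbitRel.Quotient (↥(Subgroup.zpowers σ)) ι)
  set F := Nat.card {i : ι // σ i = i}
  set n := Nat.card ι
  nlinarith [Nat.mul_le_mul_left d h3, Nat.mul_pos hdpos hιpos]

end Cfsg.Agent.Lib.Helper2.FlavellCount
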