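import Mathlib
import Cfsg.Agent.Lib.Helper2.FlavellCount
import Cfsg.Agent.Lib.Helper76.FlavellOrb
import Cfsg.Agent.Lib.Helper1.FlavellCliff
import Cfsg.Agent.Lib.Helper53.Flavell.QPLin
import Cfsg.Agent.Lib.Helper38.FlavellCbgt
import Cfsg.Agent.Lib.Helper38.FlavellOpTriv
import Cfsg.Agent.Lib.Helper77.FlavellBCM
import Cfsg.Agent.Lib.Helper77.FlavellBCInd
import Cfsg.Agent.Lib.Helper2.ShultBase
import Cfsg.Agent.Lib.Helper2.CycShultField

/-!
# Flavell's fixed space bound

Let `G` be a finite solvable group generated by the conjugates of an element `x` of prime order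
`p ≥ 5`, and let `V` be an irreducible `G`-module (over any field of prime characteristic) on which
`x` acts non-trivially.  Then `2 dim C_V(x) < dim V`.
-/

set_option autoImplicit false
set_option linter.style.haveILetI false

namespace Cfsg.Agent.Lib.Helper2.FlavellMain

open Module TensorProduct
open scoped commutatorElement
open Cfsg.Agent.Lib.Helper2.FlavellCount

universe uG uK uV

/-- [CASE-A] some abelian normal subgroup acts by non-scalars: imprimitive. -/
theorem caseA {G : Type*} [Group G] [Finite G] [Group.IsSolvable G] {K : Type*} [Field K]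
    [IsAlgClosed K]
    {V : Type*} [AddCommGroup V] [Module K V] [FiniteDimensional K V] [Nontrivial V]
    (ρ : Representation K G V)
    (hirr : ∀ W : Submodule K V, (∀ g, W ≤ W.comap (ρ g)) → W = ⊥ ∨ W = ⊤)
    {p : ℕ} [Fact p.Prime] (hp : 3 < p) (x : G) (hx : x ^ p = 1)
    (hgen : Subgroup.normalClosure ({x} : Set G) = ⊤)
    (A : Subgroup G) [A.Normal] (hA : ∀ a ∈ A, ∀ b ∈ A, a * b = b * a)
    (a₀ : G) (ha₀ : a₀ ∈ A) (hns : ∀ c : K, ρ a₀ ≠ c • LinearMap.id) :
    2 * finrank K ↥(LinearMap.ker (ρ x - LinearMap.id)) < finrank K V := by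
  obtain ⟨H, W₀, hH, hW₀, hind, hsup⟩ := Cfsg.Agent.Lib.Helper1.Flavell.cliff ρ hirr A hA a₀ ha₀ hns
  haveI : Nontrivial (G ⧸ H) := by
    rw [← Finite.one_lt_card_iff_nontrivial]
    have h1 : H.index ≠ 1 := fun h => hH (Subgroup.index_eq_one.mp h)
    have h2 : H.index ≠ 0 := Subgroup.index_ne_zero_of_finite
    rw [Subgroup.index] at h1 h2
    omega
  refine count ρ hp x hx hgen (fun q : G ⧸ H => W₀.map (ρ q.out)) ?_ hind hsup
  intro g q
  show (W₀.map (ρ q.out)).map (ρ g) = W₀.map (ρ (g • q).out)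
  rw [← Submodule.map_comp, ← Module.End.mul_eq_comp, ← map_mul]
  apply hW₀
  rw [← QuotientGroup.eq]
  rw [QuotientGroup.out_eq']
  conv_rhs => rw [← QuotientGroup.out_eq' q]
  rfl

theorem arith (p N M' c n : ℕ) (hp : 5 ≤ p) (hN : 0 < N)
    (h1 : p * N * (c ^ 2 + 1) ≤ n ^ 2 * (N + (p - 1) * M'))
    (h2 : 4 * (p - 1) * M' ≤ (p - 4) * N) : 2 * c < n := by
  obtain ⟨p', rfl⟩ : ∃ p', p = p' + 5 := ⟨p - 5, by omega⟩
  have e1 : p' + 5 - 1 = p' + 4 := by omega
  have e2 : p' + 5 - 4 = p' + 1 := by omega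
  rw [e1] at h1 h2
  rw [e2] at h2
  have h3 : 4 * (c ^ 2 + 1) * ((p' + 5) * N) ≤ n ^ 2 * ((p' + 5) * N) := by
    nlinarith [Nat.mul_le_mul_left (n ^ 2) h2]
  have h4 : 4 * (c ^ 2 + 1) ≤ n ^ 2 := Nat.le_of_mul_le_mul_right h3 (by positivity)
  nlinarith

theorem five_le {p : ℕ} [hpp : Fact p.Prime] (hp : 3 < p) : 5 ≤ p := by
  have hp4 : p ≠ 4 := by
    rintro rfl
    exact absurd hpp.out (by decide)
  omega

/-- [CASE-B] all abelian normal subgroups act by scalars: quasi-primitive. -/
theorem caseB {G : Type*} [Group G] [Finite G] [Group.IsSolvable G] {K : Type*} [Field K]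
    [IsAlgClosed K]
    {V : Type*} [AddCommGroup V] [Module K V] [FiniteDimensional K V] [Nontrivial V]
    (ρ : Representation K G V)
    (hirr : ∀ W : Submodule K V, (∀ g, W ≤ W.comap (ρ g)) → W = ⊥ ∨ W = ⊤)
    (hfaith : Function.Injective ρ)
    {p : ℕ} [hpp : Fact p.Prime] (hp : 3 < p) (x : G) (hx : x ^ p = 1) (hx1 : x ≠ 1)
    (hgen : Subgroup.normalClosure ({x} : Set G) = ⊤)
    (hsc : ∀ A : Subgroup G, A.Normal → (∀ a ∈ A, ∀ b ∈ A, a * b = b * a) →
      ∀ a ∈ A, ∃ c : K, ρ a = c • LinearMap.id) :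
    2 * finrank K ↥(LinearMap.ker (ρ x - LinearMap.id)) < finrank K V := by
  classical
  have hcen : ∀ A : Subgroup G, A.Normal → (∀ a ∈ A, ∀ b ∈ A, a * b = b * a) →
      A ≤ Subgroup.center G := by
    intro A hAn hAab a ha
    rw [Subgroup.mem_center_iff]
    intro g
    apply hfaith
    obtain ⟨c, hc⟩ := hsc A hAn hAab a ha
    rw [map_mul, map_mul, hc]
    ext v
    simp
  have hZsc : ∀ z ∈ Subgroup.center G, ∃ c : K, ρ z = c • LinearMap.id :=
    hsc (Subgroup.center G) inferInstance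
      (fun a ha b _ => (Subgroup.mem_center_iff.mp ha b).symm)
  have hρx : ρ x ≠ 1 := by
    intro h
    apply hx1
    apply hfaith
    rw [h, map_one]
  have hVpos : 0 < finrank K V := Module.finrank_pos
  by_cases hZ : Subgroup.center G = ⊤
  · obtain ⟨c, hc⟩ := hZsc x (by rw [hZ]; trivial)
    have hc1 : c ≠ 1 := by
      rintro rfl
      apply hρx
      rw [hc, one_smul]
      rfl
    have hker : LinearMap.ker (ρ x - LinearMap.id) = ⊥ := by
      rw [eq_bot_iff]
      intro v hv
      rw [LinearMap.mem_ker, hc, LinearMap.sub_apply, LinearMap.smul_apply,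
        LinearMap.id_apply] at hv
      have h0 : (c - 1) • v = 0 := by rw [sub_smul, one_smul]; exact hv
      rw [Submodule.mem_bot]
      exact (smul_eq_zero.mp h0).resolve_left (sub_ne_zero.mpr hc1)
    rw [hker, finrank_bot]
    simpa using hVpos
  · obtain ⟨L, hLn, hZL, hmin, hLL, hnd', hℓ⟩ :=
      Cfsg.Agent.Lib.Helper38.Flavell.exists_min_over_center hcen hZ
    haveI := hLn
    set Z := Subgroup.center G with hZdef
    set C : Subgroup G := L ⊓ (Subgroup.centralizer {(QuotientGroup.mk x : G ⧸ Z)}).comap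
      (QuotientGroup.mk' Z) with hCdef
    have hC : ∀ l, l ∈ C ↔ l ∈ L ∧ ⁅l, x⁆ ∈ Z := by
      intro l
      rw [hCdef, Subgroup.mem_inf, Subgroup.mem_comap, Subgroup.mem_centralizer_iff]
      apply and_congr_right
      intro _
      simp only [Set.mem_singleton_iff, forall_eq, QuotientGroup.mk'_apply]
      rw [← QuotientGroup.mk_mul, ← QuotientGroup.mk_mul, QuotientGroup.eq,
        Subgroup.Normal.mem_comm_iff inferInstance]
      have : l * x * (x * l)⁻¹ = ⁅l, x⁆ := by
        simp [commutatorElement_def, mul_assoc]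
      rw [this]
    have hnd : ∀ l ∈ L, (∀ l' ∈ L, ρ ⁅l, l'⁆ = 1) → l ∈ Z := by
      intro l hl h
      apply hnd' l hl
      intro l' hl'
      apply hfaith
      rw [h l' hl', map_one]
    have hN0 : Z.relIndex L ≠ 0 := Subgroup.index_ne_zero_of_finite
    have hinv : ((Z.relIndex L : ℕ) : K) ≠ 0 := by
      intro h0
      obtain ⟨ℓ, hℓc⟩ := CharP.exists K
      have hdvd : ℓ ∣ Z.relIndex L := (CharP.cast_eq_zero_iff K ℓ _).mp h0
      have hℓ0 : ℓ ≠ 0 := by
        rintro rfl
        exact hN0 (zero_dvd_iff.mp hdvd)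
      have hℓp : ℓ.Prime := (CharP.char_is_prime_or_zero K ℓ).resolve_right hℓ0
      haveI : Fact ℓ.Prime := ⟨hℓp⟩
      obtain ⟨S, hSn, hSp, hSne⟩ := hℓ ℓ hℓp hdvd
      haveI := hSn
      apply hSne
      rw [eq_bot_iff]
      intro s hs
      rw [Subgroup.mem_bot]
      apply hfaith
      rw [Cfsg.Agent.Lib.Helper38.Flavell.normal_pgroup_acts_trivially ρ hirr ℓ S hSp s hs, map_one]
    have h1 := Cfsg.Agent.Lib.Helper53.Flavell.qp_lin ρ x hx hρx Z L C hZL.le hZsc hLL hnd hinv hC
    have h2 := Cfsg.Agent.Lib.Helper76.Flavell.orb hp x hx hgen hcen L C hZL hmin hC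
    exact arith p _ _ _ _ (five_le hp) (Nat.pos_of_ne_zero hN0) h1 h2

/-- The faithful case over an algebraically closed field. -/
theorem tK {G : Type*} [Group G] [Finite G] [Group.IsSolvable G] {K : Type*} [Field K]
    [IsAlgClosed K]
    {V : Type*} [AddCommGroup V] [Module K V] [FiniteDimensional K V] [Nontrivial V]
    (ρ : Representation K G V)
    (hirr : ∀ W : Submodule K V, (∀ g, W ≤ W.comap (ρ g)) → W = ⊥ ∨ W = ⊤)
    (hfaith : Function.Injective ρ)
    {p : ℕ} [Fact p.Prime] (hp : 3 < p) (x : G) (hx : x ^ p = 1) (hx1 : x ≠ 1)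
    (hgen : Subgroup.normalClosure ({x} : Set G) = ⊤) :
    2 * finrank K ↥(LinearMap.ker (ρ x - LinearMap.id)) < finrank K V := by
  by_cases h : ∃ A : Subgroup G, A.Normal ∧ (∀ a ∈ A, ∀ b ∈ A, a * b = b * a) ∧
      ∃ a₀ ∈ A, ∀ c : K, ρ a₀ ≠ c • LinearMap.id
  · obtain ⟨A, hAn, hAab, a₀, ha₀, hns⟩ := h
    haveI := hAn
    exact caseA ρ hirr hp x hx hgen A hAab a₀ ha₀ hns
  · push Not at h
    exact caseB ρ hirr hfaith hp x hx hx1 hgen (fun A hAn hAab a ha => h A hAn hAab a ha)

/-- Reduction of the non-faithful case to the faithful case. -/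
theorem quot_reduce {G : Type uG} [Group G] [Finite G] [Group.IsSolvable G] {K : Type*} [Field K]
    {V : Type*} [AddCommGroup V] [Module K V] [FiniteDimensional K V]
    (ρ : Representation K G V)
    (hirr : ∀ W : Submodule K V, (∀ g, W ≤ W.comap (ρ g)) → W = ⊥ ∨ W = ⊤)
    {p : ℕ} (x : G) (hx : x ^ p = 1) (hρx : ρ x ≠ 1)
    (hgen : Subgroup.normalClosure ({x} : Set G) = ⊤)
    (hcase : ∀ (G' : Type uG) [Group G'] [Finite G'] [Group.IsSolvable G']
      (ρ' : Representation K G' V),
      (∀ W : Submodule K V, (∀ g, W ≤ W.comap (ρ' g)) → W = ⊥ ∨ W = ⊤) →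
      Function.Injective ρ' → ∀ x' : G', x' ^ p = 1 → x' ≠ 1 →
      Subgroup.normalClosure ({x'} : Set G') = ⊤ →
      2 * finrank K ↥(LinearMap.ker (ρ' x' - LinearMap.id)) < finrank K V) :
    2 * finrank K ↥(LinearMap.ker (ρ x - LinearMap.id)) < finrank K V := by
  obtain ⟨ρ', hρ'mk, hinj⟩ : ∃ ρ' : Representation K (G ⧸ MonoidHom.ker ρ) V,
      (∀ g : G, ρ' (QuotientGroup.mk g) = ρ g) ∧ Function.Injective ρ' := by
    refine ⟨QuotientGroup.lift (MonoidHom.ker ρ) ρ le_rfl, fun g => rfl, ?_⟩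
    intro a b hab
    induction a using QuotientGroup.induction_on with | _ a => ?_
    induction b using QuotientGroup.induction_on with | _ b => ?_
    rw [QuotientGroup.lift_mk, QuotientGroup.lift_mk] at hab
    rw [QuotientGroup.eq, MonoidHom.mem_ker, map_mul, ← hab, ← map_mul, inv_mul_cancel, map_one]
  have h := hcase (G ⧸ MonoidHom.ker ρ) ρ' ?_ hinj (QuotientGroup.mk x) ?_ ?_ ?_
  · rwa [hρ'mk] at h
  · intro W hW
    apply hirr W
    intro g
    rw [← hρ'mk]
    exact hW _
  · rw [← QuotientGroup.mk_pow, hx]; rfl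
  · intro h1
    apply hρx
    rw [← hρ'mk, h1, map_one]
  · have := Subgroup.map_normalClosure ({x} : Set G) (QuotientGroup.mk' (MonoidHom.ker ρ))
      (QuotientGroup.mk'_surjective _)
    rw [hgen, Set.image_singleton] at this
    rw [QuotientGroup.mk'_apply] at this
    rw [← this]
    exact Subgroup.map_top_of_surjective _ (QuotientGroup.mk'_surjective _)

/-- The general case over an algebraically closed field. -/
theorem mainK {G : Type*} [Group G] [Finite G] [Group.IsSolvable G] {K : Type*} [Field K]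
    [IsAlgClosed K]
    {V : Type*} [AddCommGroup V] [Module K V] [FiniteDimensional K V] [Nontrivial V]
    (ρ : Representation K G V)
    (hirr : ∀ W : Submodule K V, (∀ g, W ≤ W.comap (ρ g)) → W = ⊥ ∨ W = ⊤)
    {p : ℕ} [Fact p.Prime] (hp : 3 < p) (x : G) (hx : x ^ p = 1) (hρx : ρ x ≠ 1)
    (hgen : Subgroup.normalClosure ({x} : Set G) = ⊤) :
    2 * finrank K ↥(LinearMap.ker (ρ x - LinearMap.id)) < finrank K V :=
  quot_reduce ρ hirr x hx hρx hgen
    (fun _ _ _ _ ρ' hirr' hf' x' hx' hx1' hgen' => tK ρ' hirr' hf' hp x' hx' hx1' hgen')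

theorem bcKer {k : Type*} [Field k] (K : Type*) [Field K] [Algebra k K] {V : Type*}
    [AddCommGroup V] [Module k V] [FiniteDimensional k V] (f : V →ₗ[k] V) :
    finrank K ↥(LinearMap.ker (f.baseChange K - LinearMap.id)) =
      finrank k ↥(LinearMap.ker (f - LinearMap.id)) := by
  have h1 : f.baseChange K - LinearMap.id = (f - LinearMap.id).baseChange K := by
    rw [LinearMap.baseChange_sub, LinearMap.baseChange_id]
  rw [h1]
  have e := LinearMap.tensorKerEquiv K K (f - LinearMap.id)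
  have h2 : LinearMap.baseChange K (f - LinearMap.id) =
      AlgebraTensorModule.lTensor K K (f - LinearMap.id) := rfl
  rw [h2, ← e.finrank_eq, Module.finrank_baseChange]

/-- The faithful case over an arbitrary field of prime characteristic. -/
theorem main_faithful {G : Type*} [Group G] [Finite G] [Group.IsSolvable G] {k : Type*} [Field k]
    (ℓ : ℕ) [Fact ℓ.Prime] [CharP k ℓ]
    {V : Type*} [AddCommGroup V] [Module k V] [FiniteDimensional k V] [Nontrivial V]
    (ρ : Representation k G V)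
    (hirr : ∀ W : Submodule k V, (∀ g, W ≤ W.comap (ρ g)) → W = ⊥ ∨ W = ⊤)
    (hfaith : Function.Injective ρ)
    {p : ℕ} [Fact p.Prime] (hp : 3 < p) (x : G) (hx : x ^ p = 1) (hx1 : x ≠ 1)
    (hgen : Subgroup.normalClosure ({x} : Set G) = ⊤) :
    2 * finrank k ↥(LinearMap.ker (ρ x - LinearMap.id)) < finrank k V := by
  classical
  haveI : Nontrivial G := ⟨⟨x, 1, hx1⟩⟩
  have hO : ∀ S : Subgroup G, S.Normal → IsPGroup ℓ S → S = ⊥ := by
    intro S hSn hSp
    haveI := hSn
    rw [eq_bot_iff]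
    intro s hs
    rw [Subgroup.mem_bot]
    apply hfaith
    rw [Cfsg.Agent.Lib.Helper38.Flavell.normal_pgroup_acts_trivially ρ hirr ℓ S hSp s hs, map_one]
  obtain ⟨M, hMn, hMne, hMℓ⟩ :=
    Cfsg.Agent.Lib.Helper77.Flavell.exists_normal_coprime ℓ hO
  haveI := hMn
  have hMk : ((Nat.card M : ℕ) : k) ≠ 0 := by
    rw [Ne, CharP.cast_eq_zero_iff k ℓ]
    exact hMℓ
  -- `C_V(M) = 0`
  have hfix : ∀ v : V, (∀ m ∈ M, ρ m v = v) → v = 0 := by
    let F : Submodule k V :=
      { carrier := {v | ∀ m ∈ M, ρ m v = v}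
        add_mem' := by
          intro a b ha hb m hm
          rw [map_add, ha m hm, hb m hm]
        zero_mem' := by
          intro m _
          rw [map_zero]
        smul_mem' := by
          intro c a ha m hm
          rw [map_smul, ha m hm] }
    have hFinv : ∀ g, F ≤ F.comap (ρ g) := by
      intro g v hv m hm
      show ρ m (ρ g v) = ρ g v
      have h1 : g⁻¹ * m * g ∈ M := by
        have := hMn.conj_mem m hm g⁻¹
        rwa [inv_inv] at this
      have h2 : ρ (g⁻¹ * m * g) v = v := hv _ h1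
      have h3 : m * g = g * (g⁻¹ * m * g) := by group
      rw [← Module.End.mul_apply, ← map_mul, h3, map_mul, Module.End.mul_apply, h2]
    rcases hirr F hFinv with h | h
    · intro v hv
      have : v ∈ F := hv
      rw [h] at this
      exact (Submodule.mem_bot k).mp this
    · exfalso
      apply hMne
      rw [eq_bot_iff]
      intro m hm
      rw [Subgroup.mem_bot]
      apply hfaith
      ext v
      have : v ∈ F := by rw [h]; trivial
      rw [map_one]
      exact this m hm
  let K := AlgebraicClosure k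
  set σ : Representation K G (K ⊗[k] V) := ShultBase.bcRep K ρ with hσ
  have hMK : ((Nat.card M : ℕ) : K) ≠ 0 := by
    intro h0
    apply hMk
    have : algebraMap k K ((Nat.card M : ℕ) : k) = 0 := by rw [map_natCast]; exact h0
    exact (map_eq_zero (algebraMap k K)).mp this
  have hfixK : ∀ y : K ⊗[k] V, (∀ m ∈ M, σ m y = y) → y = 0 := by
    intro y hy
    haveI : Fintype M := Fintype.ofFinite M
    refine CycShultField.baseChange_no_common_fixed K (ρ.comp M.subtype) ?_
      (fun v hv => hfix v (fun m hm => hv ⟨m, hm⟩)) y (fun m => hy m m.2)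
    rw [← Nat.card_eq_fintype_card]
    exact hMK
  have key := Cfsg.Agent.Lib.Helper77.Flavell.bc_ind (K := K) x hgen M hMK
    (fun Y _ _ _ _ τ hτ hτx => mainK τ hτ hp x hx hτx hgen) σ hfixK
  have e1 : σ x = (ρ x).baseChange K := rfl
  rw [e1, bcKer, Module.finrank_baseChange] at key
  exact key

/-- **Flavell's bound**, general form: `G` finite solvable generated by the conjugates of `x`,
`x ^ p = 1` with `p ≥ 5` prime, `V` an irreducible `G`-module over a field of prime
characteristic on which `x` acts non-trivially.  Then `2 dim C_V(x) < dim V`. -/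
theorem main {G : Type*} [Group G] [Finite G] [Group.IsSolvable G] {k : Type*} [Field k]
    (ℓ : ℕ) [Fact ℓ.Prime] [CharP k ℓ]
    {V : Type*} [AddCommGroup V] [Module k V] [FiniteDimensional k V] [Nontrivial V]
    (ρ : Representation k G V)
    (hirr : ∀ W : Submodule k V, (∀ g, W ≤ W.comap (ρ g)) → W = ⊥ ∨ W = ⊤)
    {p : ℕ} [Fact p.Prime] (hp : 3 < p) (x : G) (hx : x ^ p = 1) (hρx : ρ x ≠ 1)
    (hgen : Subgroup.normalClosure ({x} : Set G) = ⊤) :
    2 * finrank k ↥(LinearMap.ker (ρ x - LinearMap.id)) < finrank k V :=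
  quot_reduce ρ hirr x hx hρx hgen
    (fun _ _ _ _ ρ' hirr' hf' x' hx' hx1' hgen' =>
      main_faithful ℓ ρ' hirr' hf' hp x' hx' hx1' hgen')

end Cfsg.Agent.Lib.Helper2.FlavellMain
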