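import Mathlib
import Cfsg.Agent.Lib.Helper2.ShultArith

/-!
# A refinement of the counting lemma

In the situation of `ShultArith.main`, if the dimension is not one then every exponent other than
the missing one occurs (exactly once).
-/

set_option autoImplicit false

namespace Cfsg.Agent.Lib.Helper2.G2Arith

open scoped BigOperators
open Cfsg.Agent.Lib.Helper2.ShultArith

variable {r : ℕ} [NeZero r] {ι : Type*} [Fintype ι]

/-- **The refined counting lemma.** -/
theorem main (e : ι → ZMod r) (b : ℕ)
    (hN : ∀ j : ZMod r, b ≤ pairs e j) (hN0 : b + 1 ≤ pairs e 0)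
    (hdim : Fintype.card ι ^ 2 = 1 + r * b)
    (i₀ : ZMod r) (hi₀ : ∀ k, e k ≠ i₀) :
    Fintype.card ι = 1 ∨ (Fintype.card ι + 1 = r ∧ ∀ i : ZMod r, i ≠ i₀ → ∃ k, e k = i) := by
  classical
  -- exact values of `pairs`
  have hsum := sum_pairs e
  rw [hdim] at hsum
  have hcard : (Finset.univ : Finset (ZMod r)).card = r := by
    rw [Finset.card_univ, ZMod.card]
  have hexact : pairs e 0 = b + 1 ∧ ∀ j : ZMod r, j ≠ 0 → pairs e j = b := by
    -- compare with the lower bounds
    let lb : ZMod r → ℕ := fun j => if j = 0 then b + 1 else b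
    have hlb : ∀ j, lb j ≤ pairs e j := by
      intro j
      by_cases hj : j = 0
      · simp only [lb, hj, if_true]; exact hN0
      · simp only [lb, hj, if_false]; exact hN j
    have hlbsum : ∑ j : ZMod r, lb j = 1 + r * b := by
      have : ∀ j : ZMod r, lb j = b + if j = 0 then 1 else 0 := by
        intro j; by_cases hj : j = 0 <;> simp [lb, hj]
      simp_rw [this]
      rw [Finset.sum_add_distrib, Finset.sum_const, hcard, Finset.sum_ite_eq' Finset.univ 0]
      simp only [Finset.mem_univ, if_true, smul_eq_mul]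
      ring
    have heq : ∀ j ∈ (Finset.univ : Finset (ZMod r)), lb j = pairs e j := by
      have := (Finset.sum_eq_sum_iff_of_le (fun j _ => hlb j)).mp (by rw [hlbsum, hsum])
      exact this
    constructor
    · have := heq 0 (Finset.mem_univ _)
      simpa [lb] using this.symm
    · intro j hj
      have := heq j (Finset.mem_univ _)
      simpa [lb, hj] using this.symm
  obtain ⟨h0, h1⟩ := hexact
  -- the multiplicity of `i₀` vanishes
  have ha0 : mult e i₀ = 0 := by
    rw [mult_eq_sum]
    refine Finset.sum_eq_zero fun k _ => ?_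
    rw [if_neg (hi₀ k)]
  -- all multiplicities are at most one
  have hle : ∀ i : ZMod r, mult e i ≤ 1 := by
    intro i
    by_cases hi : i = i₀
    · rw [hi, ha0]; exact Nat.zero_le _
    set j : ZMod r := i - i₀ with hj
    have hj0 : j ≠ 0 := sub_ne_zero.mpr hi
    have hshift : ∑ m : ZMod r, (mult e (m + j) : ℤ) ^ 2 = ∑ m : ZMod r, (mult e m : ℤ) ^ 2 :=
      Fintype.sum_equiv (Equiv.addRight j) _ _ (fun m => rfl)
    have hp0 : ∑ m : ZMod r, (mult e m : ℤ) ^ 2 = (b : ℤ) + 1 := by
      have := pairs_eq_sum e 0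
      rw [h0] at this
      simp only [add_zero] at this
      have h2 : ((b + 1 : ℕ) : ℤ) = ∑ m : ZMod r, ((mult e m * mult e m : ℕ) : ℤ) := by
        rw [this]; push_cast; rfl
      push_cast at h2
      rw [h2]
      exact Finset.sum_congr rfl fun m _ => by ring
    have hpj : ∑ m : ZMod r, (mult e m : ℤ) * (mult e (m + j) : ℤ) = (b : ℤ) := by
      have := pairs_eq_sum e j
      rw [h1 j hj0] at this
      have h2 : ((b : ℕ) : ℤ) = ∑ m : ZMod r, ((mult e m * mult e (m + j) : ℕ) : ℤ) := by
        rw [this]; push_cast; rfl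
      push_cast at h2
      exact h2.symm
    have hsq : ∑ m : ZMod r, ((mult e m : ℤ) - (mult e (m + j) : ℤ)) ^ 2 = 2 := by
      have : ∀ m : ZMod r, ((mult e m : ℤ) - (mult e (m + j) : ℤ)) ^ 2 =
          (mult e m : ℤ) ^ 2 + (mult e (m + j) : ℤ) ^ 2 -
            2 * ((mult e m : ℤ) * (mult e (m + j) : ℤ)) := by
        intro m; ring
      simp_rw [this]
      rw [Finset.sum_sub_distrib, Finset.sum_add_distrib, ← Finset.mul_sum, hshift, hp0, hpj]
      ring
    have hterm : ((mult e i₀ : ℤ) - (mult e (i₀ + j) : ℤ)) ^ 2 ≤ 2 := by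
      rw [← hsq]
      exact Finset.single_le_sum (f := fun m : ZMod r =>
        ((mult e m : ℤ) - (mult e (m + j) : ℤ)) ^ 2) (fun m _ => sq_nonneg _) (Finset.mem_univ i₀)
    have hij : i₀ + j = i := by rw [hj]; ring
    rw [ha0, hij] at hterm
    simp only [Nat.cast_zero, zero_sub, neg_sq] at hterm
    have : (mult e i : ℤ) ≤ 1 := by nlinarith [sq_nonneg ((mult e i : ℤ) - 1)]
    exact_mod_cast this
  -- hence `card ι = pairs 0 = b + 1`
  have hu : Fintype.card ι = b + 1 := by
    rw [← sum_mult e, ← h0, pairs_eq_sum]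
    refine Finset.sum_congr rfl fun i _ => ?_
    rw [add_zero]
    have := hle i
    interval_cases mult e i <;> simp
  rw [hu] at hdim
  -- `(b + 1) ^ 2 = 1 + r * b`
  rcases Nat.eq_zero_or_pos b with hb | hb
  · left; rw [hu, hb]
  · right
    have h3 : b * (b + 2) = b * r := by nlinarith
    have hr2 := Nat.eq_of_mul_eq_mul_left hb h3
    refine ⟨by omega, ?_⟩
    -- all other multiplicities equal one
    intro i hi
    by_contra hno
    push Not at hno
    have hai : mult e i = 0 := by
      rw [mult_eq_sum]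
      refine Finset.sum_eq_zero fun k _ => ?_
      rw [if_neg (hno k)]
    have hsum2 : ∑ m : ZMod r, mult e m ≤ ∑ m : ZMod r, (if m = i₀ ∨ m = i then 0 else 1) := by
      refine Finset.sum_le_sum fun m _ => ?_
      by_cases hm : m = i₀ ∨ m = i
      · rw [if_pos hm]
        rcases hm with rfl | rfl
        · rw [ha0]
        · rw [hai]
      · rw [if_neg hm]; exact hle m
    have hcount : ∑ m : ZMod r, (if m = i₀ ∨ m = i then 0 else 1) = r - 2 := by
      have h1 : ∑ m : ZMod r, (if m = i₀ ∨ m = i then 0 else 1) =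
          ((Finset.univ : Finset (ZMod r)).filter fun m => ¬ (m = i₀ ∨ m = i)).card := by
        rw [Finset.card_filter]
        refine Finset.sum_congr rfl fun m _ => ?_
        by_cases hm : m = i₀ ∨ m = i <;> simp [hm]
      rw [h1, Finset.filter_not, Finset.card_sdiff_of_subset (Finset.filter_subset _ _), hcard]
      have h2 : ((Finset.univ : Finset (ZMod r)).filter fun m => m = i₀ ∨ m = i) = {i₀, i} := by
        ext m; simp
      rw [h2, Finset.card_pair hi.symm]
    rw [sum_mult, hcount, hu] at hsum2
    omega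


end Cfsg.Agent.Lib.Helper2.G2Arith
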