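import Mathlib
import Cfsg.Agent.Lib.Helper2.ShultCore
import Cfsg.Agent.Lib.Helper2.G2Arith

/-!
# A refinement of the core of the Hall–Higman–Shult fixed vector theorem

In the situation of `ShultCore.main`: if the generator `x` of `H` has no nonzero fixed vector on
the irreducible `P`-module `U` and `dim U ≠ 1`, then `dim U + 1 = |H|` and every `|H|`-th root of
unity other than `1` is an eigenvalue of `x` on `U`.
-/

set_option autoImplicit false

namespace Cfsg.Agent.Lib.Helper2.G2Core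

open scoped BigOperators
open Module Cfsg.Agent.Lib.Helper2.FreeAssembly Cfsg.Agent.Lib.Helper2.FrobFree
  Cfsg.Agent.Lib.Helper2.ShultCore

universe uK uP uH uU

variable {K : Type uK} [Field K] [IsAlgClosed K] {P : Type uP} [Group P] [Finite P]
  [Group.IsNilpotent P] {H : Type uH} [Group H] [Finite H] {U : Type uU} [AddCommGroup U]
  [Module K U] [FiniteDimensional K U] [Nontrivial U]

set_option maxHeartbeats 1600000 in
/-- **Refined core theorem.** -/
theorem main (φ : H →* MulAut P) (ρ : Representation K P U) (τ : Representation K H U)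
    (hcompat : ∀ (h : H) (g : P) (u : U), τ h (ρ g u) = ρ (φ h g) (τ h u))
    (hirr : ∀ W : Submodule K U, (∀ g, W ≤ W.comap (ρ g)) → W = ⊥ ∨ W = ⊤)
    (Z : Subgroup P) [Z.Normal] (hZ : Z ≤ scalarKer ρ) (hN : ∀ h : H, ∀ g ∈ Z, φ h g ∈ Z)
    (hfpf : ∀ h : H, h ≠ 1 → ∀ g : P, g⁻¹ * φ h g ∈ Z → g ∈ Z)
    (x : H) (hx : ∀ h : H, h ∈ Subgroup.zpowers x)
    (hP : (Nat.card P : K) ≠ 0) (hH : (Nat.card H : K) ≠ 0)
    (hfix : ∀ u : U, τ x u = u → u = 0) :
    finrank K U = 1 ∨ (finrank K U + 1 = Nat.card H ∧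
      ∀ ζ' : K, ζ' ^ Nat.card H = 1 → ζ' ≠ 1 → ∃ u : U, u ≠ 0 ∧ τ x u = ζ' • u) := by
  classical
  have := Fintype.ofFinite H
  have := Fintype.ofFinite ↥(⊤ : Subgroup (P ⧸ Z))
  -- the quotient group acting on `End U` by conjugation
  let ρF : Representation K (P ⧸ Z) (Module.End K U) :=
    QuotientGroup.lift Z (conjRep ρ) hZ
  have hρF : ∀ g : P, ρF (g : P ⧸ Z) = conjRep ρ g := fun g => rfl
  let φF : H →* MulAut (P ⧸ Z) := quotientAut φ Z hN
  have hfpfF : ∀ h : H, h ≠ 1 → ∀ f : P ⧸ Z, φF h f = f → f = 1 := by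
    intro h hh f hf
    induction f using QuotientGroup.induction_on with
    | H g =>
      rw [quotientAut_mk, QuotientGroup.eq] at hf
      have hmem : g⁻¹ * φ h g ∈ Z := by
        have := Z.inv_mem hf
        rwa [mul_inv_rev, inv_inv] at this
      exact (QuotientGroup.eq_one_iff g).mpr (hfpf h hh g hmem)
  let cH : Representation K H (Module.End K U) := Representation.linHom τ τ
  have hτinv : ∀ (h : H) (v : U), τ h⁻¹ (τ h v) = v := by
    intro h v
    rw [← Module.End.mul_apply, ← map_mul, inv_mul_cancel, map_one]; rfl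
  have hcompatF : ∀ (h : H) (f : P ⧸ Z) (S : Module.End K U),
      cH h (ρF f S) = ρF (φF h f) (cH h S) := by
    intro h f S
    induction f using QuotientGroup.induction_on with
    | H g =>
      rw [quotientAut_mk, hρF, hρF]
      ext v
      simp only [cH, Representation.linHom_apply, LinearMap.comp_apply]
      have h2 : τ h⁻¹ (ρ (φ h g)⁻¹ v) = ρ g⁻¹ (τ h⁻¹ v) := by
        have := hcompat h⁻¹ ((φ h g)⁻¹) v
        rw [this]
        congr 2
        rw [map_inv, map_inv, MulAut.inv_apply_self]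
      rw [h2, hcompat]
  have hcardF : (Nat.card ↥(⊤ : Subgroup (P ⧸ Z)) : K) ≠ 0 := by
    rw [Subgroup.card_top]
    intro h0
    apply hP
    obtain ⟨c, hc⟩ := Subgroup.card_quotient_dvd_card Z
    rw [hc, Nat.cast_mul, h0, zero_mul]
  have hfree := FrobFreeCompl.freeOn_ker_avg φF hfpfF ρF cH hcompatF hcardF
  obtain ⟨W, hi, hs⟩ := hfree
  -- the fixed space of `P` on `End U` is the line of scalars
  have hidfix : (LinearMap.id : Module.End K U) ∈ fixedSub ρF ⊤ := by
    intro f _
    induction f using QuotientGroup.induction_on with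
    | H g =>
      rw [hρF, Representation.linHom_apply, LinearMap.id_comp, rho_comp_inv]
  have hfixle : fixedSub ρF ⊤ ≤ Submodule.span K {(LinearMap.id : Module.End K U)} := by
    intro S hS
    have hcomm : ∀ g, ρ g ∘ₗ S = S ∘ₗ ρ g := by
      intro g
      have h1 : conjRep ρ g S = S := hS (g : P ⧸ Z) (Subgroup.mem_top _)
      rw [Representation.linHom_apply] at h1
      calc ρ g ∘ₗ S = ρ g ∘ₗ S ∘ₗ (ρ g⁻¹ ∘ₗ ρ g) := by rw [rho_inv_comp, LinearMap.comp_id]
        _ = (ρ g ∘ₗ S ∘ₗ ρ g⁻¹) ∘ₗ ρ g := by simp only [LinearMap.comp_assoc]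
        _ = S ∘ₗ ρ g := by rw [h1]
    obtain ⟨c, hc⟩ := schur ρ hirr S hcomm
    rw [hc]
    exact Submodule.smul_mem _ _ (Submodule.mem_span_singleton_self _)
  have hfixeq : fixedSub ρF ⊤ = Submodule.span K {(LinearMap.id : Module.End K U)} :=
    le_antisymm hfixle ((Submodule.span_singleton_le_iff_mem _ _).mpr hidfix)
  have hid0 : (LinearMap.id : Module.End K U) ≠ 0 := by
    intro h
    obtain ⟨u, hu⟩ := exists_ne (0 : U)
    exact hu (by simpa using LinearMap.congr_fun h u)
  have hcompl : IsCompl (fixedSub ρF ⊤) (LinearMap.ker (avg ρF ⊤)) :=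
    ⟨disjoint_fixedSub_ker ρF ⊤ hcardF, codisjoint_iff.mpr (fixedSub_sup_ker ρF ⊤ hcardF)⟩
  have hidnot : (LinearMap.id : Module.End K U) ∉ ⨆ h : H, W.map (cH h) := by
    rw [hs]
    intro hmem
    have := (Submodule.disjoint_def.mp hcompl.disjoint) _ hidfix hmem
    exact hid0 this
  -- dimensions
  set n := finrank K U with hn
  set b := finrank K W with hb
  have hdimE : finrank K ↥(LinearMap.ker (avg ρF ⊤)) = Nat.card H * b := by
    rw [← hs, FreeEigen.finrank_iSup cH W hi, Nat.card_eq_fintype_card]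
  have hdim : n ^ 2 = 1 + Nat.card H * b := by
    have h1 := Submodule.finrank_add_eq_of_isCompl hcompl
    rw [hfixeq, finrank_span_singleton hid0, hdimE, Module.finrank_linearMap] at h1
    rw [sq, ← h1]
  -- an eigenbasis for `x`
  have hxr : (τ x) ^ Nat.card H = 1 := by
    rw [← map_pow, pow_card_eq_one', map_one]
  obtain ⟨n', B, t, hBt⟩ := EigenDim.exists_eigenbasis (τ x)
    (EigenDim.isSemisimple_of_pow_eq_one (τ x) hH hxr)
  have hn' : n' = n := by
    rw [hn, Module.finrank_eq_card_basis B, Fintype.card_fin]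
  have hpow : ∀ (m : ℕ) (i : Fin n'), ((τ x) ^ m) (B i) = t i ^ m • B i := by
    intro m i
    induction m with
    | zero => simp
    | succ m ih =>
      rw [pow_succ, Module.End.mul_apply, hBt, map_smul, ih, smul_smul, pow_succ, mul_comm]
  have htr : ∀ i, t i ^ Nat.card H = 1 := by
    intro i
    have h1 := hpow (Nat.card H) i
    rw [hxr, Module.End.one_apply] at h1
    have h2 : (t i ^ Nat.card H - 1) • B i = 0 := by
      rw [sub_smul, one_smul, ← h1, sub_self]
    rcases smul_eq_zero.mp h2 with h | h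
    · exact sub_eq_zero.mp h
    · exact absurd h (B.ne_zero i)
  have hcardpos : 0 < Nat.card H := Nat.card_pos
  have ht0 : ∀ i, t i ≠ 0 := by
    intro i h
    have := htr i
    rw [h, zero_pow hcardpos.ne'] at this
    exact zero_ne_one this
  -- a primitive root of unity and exponents
  have : NeZero (Nat.card H) := ⟨hcardpos.ne'⟩
  have : NeZero ((Nat.card H : ℕ) : K) := ⟨hH⟩
  obtain ⟨ζ, hζ⟩ := HasEnoughRootsOfUnity.exists_primitiveRoot K (Nat.card H)
  have hexp : ∀ i, ∃ m : ℕ, m < Nat.card H ∧ ζ ^ m = t i := fun i =>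
    hζ.eq_pow_of_pow_eq_one (htr i)
  choose m hmlt hmt using hexp
  let e : Fin n' → ZMod (Nat.card H) := fun i => (m i : ZMod (Nat.card H))
  have hζu : IsUnit ζ := hζ.isUnit hcardpos.ne'
  have hζpow : ∀ a c : ℕ, ζ ^ a = ζ ^ c ↔ (a : ZMod (Nat.card H)) = (c : ZMod (Nat.card H)) := by
    intro a c
    have h1 : ζ ^ a = ζ ^ c ↔ hζu.unit ^ a = hζu.unit ^ c := by
      rw [Units.ext_iff, Units.val_pow_eq_pow_val, Units.val_pow_eq_pow_val, IsUnit.unit_spec]
    have h2 : orderOf hζu.unit = Nat.card H := by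
      rw [← orderOf_units, IsUnit.unit_spec, ← hζ.eq_orderOf]
    rw [h1, ZMod.natCast_eq_natCast_iff, ← h2]
    exact pow_eq_pow_iff_modEq
  -- characters of `H`
  have hordx : orderOf x = Nat.card H := orderOf_eq_card_of_forall_mem_zpowers hx
  have hζur : hζu.unit ^ Nat.card H = 1 := by
    apply Units.ext
    rw [Units.val_pow_eq_pow_val, IsUnit.unit_spec, hζ.pow_eq_one, Units.val_one]
  have hdvd : ∀ j : ZMod (Nat.card H), orderOf (hζu.unit ^ j.val) ∣ orderOf x := by
    intro j
    rw [hordx]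
    apply orderOf_dvd_of_pow_eq_one
    rw [← pow_mul, mul_comm, pow_mul, hζur, one_pow]
  let χ : ZMod (Nat.card H) → (H →* Kˣ) := fun j => monoidHomOfForallMemZpowers hx (hdvd j)
  have hχx : ∀ j, ((χ j x : Kˣ) : K) = ζ ^ j.val := by
    intro j
    simp only [χ, monoidHomOfForallMemZpowers_apply_gen, Units.val_pow_eq_pow_val,
      IsUnit.unit_spec]
  -- eigenspace dimensions of the conjugation operator
  have hτx : τ x⁻¹ ∘ₗ τ x = LinearMap.id := by
    ext v; exact hτinv x v
  have hpairs : ∀ j : ZMod (Nat.card H),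
      finrank K (LinearMap.ker (cH x - (ζ ^ j.val) • LinearMap.id :
        Module.End K U →ₗ[K] Module.End K U)) = ShultArith.pairs e j := by
    intro j
    rw [EigenDim.finrank_ker_conj_sub_smul B (τ x) (τ x⁻¹) hτx t hBt ht0 (cH x)
      (fun S => rfl) (ζ ^ j.val)]
    unfold ShultArith.pairs
    refine Nat.card_congr (Equiv.subtypeEquivRight fun kl => ?_)
    rw [mul_inv_eq_iff_eq_mul₀ (ht0 kl.2), ← hmt kl.1, ← hmt kl.2, ← pow_add, hζpow]
    simp only [e]
    rw [Nat.cast_add, ZMod.natCast_val, ZMod.cast_id', id, add_comm]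
  have hN : ∀ j : ZMod (Nat.card H), b ≤ ShultArith.pairs e j := by
    intro j
    rw [← hpairs j, ← hχx j]
    exact FreeEigen.le_finrank_ker cH (χ j) W hi x
  have hN0 : b + 1 ≤ ShultArith.pairs e 0 := by
    rw [← hpairs 0, ZMod.val_zero, pow_zero]
    exact FreeEigen.succ_le_finrank_ker cH W hi x LinearMap.id
      (by rw [Representation.linHom_apply, LinearMap.id_comp]; exact rho_comp_inv τ x) hidnot
  have hmiss : ∀ k, e k ≠ 0 := by
    intro k hk
    have h1 : (m k : ZMod (Nat.card H)) = ((0 : ℕ) : ZMod (Nat.card H)) := by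
      simpa [e] using hk
    rw [← hζpow, pow_zero, hmt] at h1
    have h2 : τ x (B k) = B k := by rw [hBt, h1, one_smul]
    exact B.ne_zero k (hfix _ h2)
  have hmain := G2Arith.main e b hN hN0 (by rw [Fintype.card_fin, hn']; exact hdim) 0 hmiss
  rw [Fintype.card_fin] at hmain
  rcases hmain with h1 | ⟨h1, h2⟩
  · exact Or.inl (hn' ▸ h1)
  · refine Or.inr ⟨hn' ▸ h1, ?_⟩
    intro ζ' hζ'1 hζ'ne
    obtain ⟨m', hm'lt, hm'⟩ := hζ.eq_pow_of_pow_eq_one hζ'1
    have hm'0 : (m' : ZMod (Nat.card H)) ≠ 0 := by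
      intro h0
      apply hζ'ne
      have h3 : (m' : ZMod (Nat.card H)) = ((0 : ℕ) : ZMod (Nat.card H)) := by
        rw [h0, Nat.cast_zero]
      rw [← hζpow, pow_zero] at h3
      rw [← hm', h3]
    obtain ⟨k, hk⟩ := h2 _ hm'0
    refine ⟨B k, B.ne_zero k, ?_⟩
    have h4 : ζ ^ m k = ζ ^ m' := (hζpow _ _).mpr hk
    rw [hBt, ← hmt k, h4, hm']


end Cfsg.Agent.Lib.Helper2.G2Core
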