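import Mathlib
import Cfsg.Agent.Lib.Helper2.StableSimple

/-!
# Maximal stabilizers of simple subspaces

In the situation of `StableSimple.exists_stable_simple`: there is a subgroup `B ≤ H` stabilizing
some simple `P`-invariant subspace, such that `B` has no nonzero fixed vector on *any* `B`-stable
simple `P`-invariant subspace.
-/

set_option autoImplicit false

namespace Cfsg.Agent.Lib.Helper2.G2Stable

open scoped BigOperators
open Module Cfsg.Agent.Lib.Helper2.FreeAssembly Cfsg.Agent.Lib.Helper2.ShultB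
  Cfsg.Agent.Lib.Helper2.StableSimple

variable {K : Type*} [Field K] [IsAlgClosed K] {P : Type*} [Group P] {H : Type*} [Group H]
  [Finite H] {V : Type*} [AddCommGroup V] [Module K V] [FiniteDimensional K V]

variable [IsCyclic H] {p : ℕ} [hp : Fact p.Prime]

/-- **Maximal stabilizers.** -/
theorem exists_max_stable [Nontrivial V] (hH : IsPGroup p H) (φ : H →* MulAut P)
    (ρ : Representation K P V) (τ : Representation K H V)
    (hcompat : ∀ (h : H) (g : P) (v : V), τ h (ρ g v) = ρ (φ h g) (τ h v))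
    (hfix : ∀ v : V, (∀ h, τ h v = v) → v = 0) :
    ∃ (B : Subgroup H), (∃ U : Submodule K V, U ≠ ⊥ ∧ (∀ g, U ≤ U.comap (ρ g)) ∧
      (∀ W : Submodule K V, W ≤ U → (∀ g, W ≤ W.comap (ρ g)) → W = ⊥ ∨ W = U) ∧
      (∀ h ∈ B, U ≤ U.comap (τ h))) ∧
      ∀ U : Submodule K V, U ≠ ⊥ → (∀ g, U ≤ U.comap (ρ g)) →
      (∀ W : Submodule K V, W ≤ U → (∀ g, W ≤ W.comap (ρ g)) → W = ⊥ ∨ W = U) →
      (∀ h ∈ B, U ≤ U.comap (τ h)) →
      (∀ u ∈ U, (∀ h ∈ B, τ h u = u) → u = 0) := by
  classical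
  let 𝔅 : Set (Subgroup H) := {B | ∃ U : Submodule K V, U ≠ ⊥ ∧ (∀ g, U ≤ U.comap (ρ g)) ∧
      (∀ W : Submodule K V, W ≤ U → (∀ g, W ≤ W.comap (ρ g)) → W = ⊥ ∨ W = U) ∧
      (∀ h ∈ B, U ≤ U.comap (τ h))}
  have hne : 𝔅.Nonempty := by
    obtain ⟨U, hU0, hUinv, hUs⟩ := exists_simple (fun g => (ρ g : V →ₗ[K] V))
    refine ⟨⊥, U, hU0, hUinv, hUs, ?_⟩
    intro h hh
    rw [Subgroup.mem_bot] at hh
    subst hh
    rw [map_one]
    exact le_rfl
  obtain ⟨B, hB𝔅, hBmax⟩ := (wellFounded_gt (α := Subgroup H)).has_min 𝔅 hne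
  refine ⟨B, hB𝔅, ?_⟩
  intro U hU0 hUinv hUs hUB
  have := Fintype.ofFinite (H ⧸ B)
  set ρU := ρ.subrepresentation U hUinv with hρU
  have hirrU := hirr_of_simple ρ U hUinv hUs
  let Uc : H ⧸ B → Submodule K V := fun c => U.map (τ c.out)
  have hrange : ∀ h : H, LinearMap.range ((τ h).comp U.subtype) = U.map (τ h) := by
    intro h; rw [LinearMap.range_comp, Submodule.range_subtype]
  have hfam : ∀ h : H, (∀ g, U.map (τ h) ≤ (U.map (τ h)).comap (ρ g)) ∧ ∀ W, W ≤ U.map (τ h) →
      (∀ g, W ≤ W.comap (ρ g)) → W = ⊥ ∨ W = U.map (τ h) := by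
    intro h
    have := simple_range (fun g => (ρU g : ↥U →ₗ[K] ↥U)) (fun g => (ρ g : V →ₗ[K] V)) hirrU
      (fun g => φ h g) (φ h).surjective ((τ h).comp U.subtype)
      (by intro g u; exact hcompat h g u)
    rw [hrange h] at this
    exact this
  rcases IndepSimple.indep_or_iso (fun g => (ρ g : V →ₗ[K] V)) Uc (fun c => (hfam c.out).1)
    (fun c => (hfam c.out).2) with hind | ⟨i, j, hij, e, he⟩
  · -- independent translates: a `B`-fixed vector gives an `H`-fixed vector
    intro u huU hu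
    have hkey : ∀ (h' : H) (c : H ⧸ B), τ (h' * c.out) u = τ ((h' • c : H ⧸ B).out) u := by
      intro h' c
      have hb : ((h' • c : H ⧸ B).out)⁻¹ * (h' * c.out) ∈ B := by
        rw [← QuotientGroup.eq]
        rw [QuotientGroup.out_eq']
        show h' • c = ((h' * c.out : H) : H ⧸ B)
        conv_lhs => rw [← QuotientGroup.out_eq' c]
        rfl
      have e1 : h' * c.out = (h' • c : H ⧸ B).out * (((h' • c : H ⧸ B).out)⁻¹ * (h' * c.out)) := by
        group
      rw [e1, map_mul, Module.End.mul_apply, hu _ hb]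
    have hfixed : ∀ h', τ h' (∑ c : H ⧸ B, τ c.out u) = ∑ c : H ⧸ B, τ c.out u := by
      intro h'
      rw [map_sum]
      have : ∀ c : H ⧸ B, τ h' (τ c.out u) = τ ((h' • c : H ⧸ B).out) u := by
        intro c
        rw [← Module.End.mul_apply, ← map_mul]
        exact hkey h' c
      simp_rw [this]
      exact Fintype.sum_equiv (MulAction.toPerm h') _ _ (fun c => rfl)
    have hsum := hfix _ hfixed
    rw [iSupIndep_iff_sum_eq_zero] at hind
    have h1 := hind (fun c => τ c.out u) (fun c => Submodule.mem_map_of_mem huU) hsum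
      ((1 : H) : H ⧸ B)
    have h2 := congrArg (τ (((1 : H) : H ⧸ B).out)⁻¹) h1
    rw [tau_inv_apply, map_zero] at h2
    exact h2
  · -- two translates are isomorphic: a larger subgroup works
    exfalso
    obtain ⟨U₂, hU₂0, hU₂inv, hU₂s, hU₂y⟩ := stable_of_iso φ ρ τ hcompat U hU0 hUinv hUs i.out j.out
      (hfam i.out).1 e he
    set y : H := j.out⁻¹ * i.out with hy
    have hyB : y ∉ B := by
      intro hmem
      apply hij
      have h1 : ((j.out : H) : H ⧸ B) = ((i.out : H) : H ⧸ B) := QuotientGroup.eq.mpr hmem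
      rw [QuotientGroup.out_eq', QuotientGroup.out_eq'] at h1
      exact h1.symm
    have hBle : B ≤ Subgroup.zpowers y := CycP.le_zpowers_of_not_mem hH B y hyB
    have hlt : B < Subgroup.zpowers y := by
      refine lt_of_le_of_ne hBle ?_
      intro heq
      exact hyB (heq ▸ Subgroup.mem_zpowers y)
    apply hBmax (Subgroup.zpowers y) ?_ hlt
    refine ⟨U₂, hU₂0, hU₂inv, hU₂s, ?_⟩
    have hpow : ∀ (k : ℕ), ∀ w ∈ U₂, τ (y⁻¹ ^ k) w ∈ U₂ := by
      intro k
      induction k with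
      | zero => intro w hw; simpa using hw
      | succ k ih => intro w hw; rw [pow_succ', map_mul]; exact hU₂y _ (ih w hw)
    intro h hh w hw
    have h1 : h ∈ Subgroup.zpowers y⁻¹ := by rwa [Subgroup.zpowers_inv]
    rw [← mem_powers_iff_mem_zpowers] at h1
    obtain ⟨k, rfl⟩ := h1
    exact hpow k w hw


end Cfsg.Agent.Lib.Helper2.G2Stable
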