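import Mathlib
import Cfsg.Agent.Lib.Helper2.CycShultField
import Cfsg.Agent.Lib.Helper2.G2Core
import Cfsg.Agent.Lib.Helper2.G2Stable

/-!
# The class two case for a cyclic `2`-group of operators: an eigenvalue `-1`

`P` is a finite nilpotent group with `P' ≤ Z(P)`, acted on by the cyclic `2`-group `H` such that
every nontrivial element of `H` acts without fixed points on `P / Z(P)`.  If the semidirect
product acts on `V` so that neither `H` nor `P'` has a nonzero fixed vector, then some element of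
order four of `H` has the eigenvalue `-1` on `V`.
-/

set_option autoImplicit false

namespace Cfsg.Agent.Lib.Helper2.G2AC

open scoped BigOperators commutatorElement TensorProduct
open Module Cfsg.Agent.Lib.Helper2.FreeAssembly Cfsg.Agent.Lib.Helper2.ShultCore
  Cfsg.Agent.Lib.Helper2.ShultB Cfsg.Agent.Lib.Helper2.ShultBase

universe uK uP uH uV

section AC

variable {K : Type uK} [Field K] [IsAlgClosed K] {P : Type uP} [Group P] [Finite P]
  [Group.IsNilpotent P] {H : Type uH} [Group H] [Finite H] [IsCyclic H] {V : Type uV}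
  [AddCommGroup V] [Module K V] [FiniteDimensional K V] [Nontrivial V]

theorem pow_eigen (f : Module.End K V) (ζ : K) (u : V) (hu : f u = ζ • u) (n : ℕ) :
    (f ^ n) u = ζ ^ n • u := by
  induction n with
  | zero => simp
  | succ n ih =>
    rw [pow_succ, Module.End.mul_apply, hu, map_smul, ih, smul_smul, pow_succ, mul_comm]

set_option maxHeartbeats 800000 in
theorem ac_main (hH : IsPGroup 2 H) (φ : H →* MulAut P) (ρ : Representation K P V)
    (τ : Representation K H V)
    (hcompat : ∀ (h : H) (g : P) (v : V), τ h (ρ g v) = ρ (φ h g) (τ h v))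
    (h1 : ∀ a b : P, ⁅a, b⁆ ∈ Subgroup.center P)
    (h3 : ∀ h, h ≠ 1 → ∀ g, g⁻¹ * φ h g ∈ Subgroup.center P → g ∈ Subgroup.center P)
    (hc : ∀ v : V, (∀ c ∈ commutator P, ρ c v = v) → v = 0)
    (hPK : (Nat.card P : K) ≠ 0) (h2K : (2 : K) ≠ 0)
    (hfix : ∀ v : V, (∀ h, τ h v = v) → v = 0) :
    ∃ c : H, orderOf c = 4 ∧ ∃ w : V, w ≠ 0 ∧ τ c w = -w := by
  classical
  obtain ⟨B, ⟨U, hU0, hUinv, hUs, hUB⟩, hMax⟩ :=
    G2Stable.exists_max_stable (p := 2) hH φ ρ τ hcompat hfix
  have hUfix := hMax U hU0 hUinv hUs hUB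
  have hB0 : B ≠ ⊥ := by
    rintro rfl
    obtain ⟨u, huU, hu0⟩ := Submodule.exists_mem_ne_zero_of_ne_bot hU0
    apply hu0
    apply hUfix u huU
    intro h hh
    rw [Subgroup.mem_bot] at hh
    subst hh
    rw [map_one]; rfl
  set ρ' := ρ.subrepresentation U hUinv with hρ'
  let τB : Representation K ↥B V := τ.comp B.subtype
  have hUτB : ∀ h : ↥B, U ≤ U.comap (τB h) := fun h => hUB h h.2
  set τ' := τB.subrepresentation U hUτB with hτ'
  let φB : ↥B →* MulAut P := φ.comp B.subtype
  have hρ'val : ∀ g (u : ↥U), ((ρ' g u : ↥U) : V) = ρ g u := fun g u => rfl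
  have hτ'val : ∀ (h : ↥B) (u : ↥U), ((τ' h u : ↥U) : V) = τ h u := fun h u => rfl
  have hirr := hirr_of_simple ρ U hUinv hUs
  have hnt : Nontrivial ↥U := Submodule.nontrivial_iff_ne_bot.mpr hU0
  obtain ⟨x, hx⟩ := IsCyclic.exists_generator (α := ↥B)
  have hZ : Subgroup.center P ≤ scalarKer ρ' := by
    intro z hz
    rw [mem_scalarKer_iff ρ' hirr]
    refine schur ρ' hirr (ρ' z) fun g => ?_
    have e1 : ρ' g ∘ₗ ρ' z = ρ' (g * z) := by rw [map_mul]; rfl
    have e2 : ρ' z ∘ₗ ρ' g = ρ' (z * g) := by rw [map_mul]; rfl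
    rw [e1, e2, (Subgroup.mem_center_iff.mp hz) g]
  have hfix' : ∀ u : ↥U, τ' x u = u → u = 0 := by
    intro u hu
    apply Subtype.ext
    apply hUfix u u.2
    let St : Subgroup ↥B :=
      { carrier := {h | τ h (u : V) = u}
        mul_mem' := fun {a b} ha hb => by
          show τ ((a * b : ↥B) : H) (u : V) = u
          rw [Subgroup.coe_mul, map_mul, Module.End.mul_apply, hb, ha]
        one_mem' := by show τ ((1 : ↥B) : H) (u : V) = u; rw [Subgroup.coe_one, map_one]; rfl
        inv_mem' := fun {a} ha => by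
          show τ ((a⁻¹ : ↥B) : H) (u : V) = u
          rw [Subgroup.coe_inv]
          conv_lhs => rw [← ha]
          exact tau_inv_apply τ a _ }
    have hxS : x ∈ St := by
      show τ x (u : V) = u
      rw [← hτ'val, hu]
    intro h hh
    exact (Subgroup.zpowers_le.mpr hxS) (hx ⟨h, hh⟩)
  obtain ⟨b, hb⟩ := IsPGroup.iff_card.mp (hH.to_subgroup B)
  have hBK : (Nat.card ↥B : K) ≠ 0 := by
    rw [hb, Nat.cast_pow]
    exact pow_ne_zero _ (by exact_mod_cast h2K)
  have hcenter_inv : ∀ (h : H), ∀ g ∈ Subgroup.center P, φ h g ∈ Subgroup.center P :=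
    fun h g hg => Cfsg.Agent.Lib.Helper2.Critical.map_mem_of_characteristic φ _ h g hg
  have hmain := G2Core.main φB ρ' τ' (fun h g u => Subtype.ext (hcompat h g u)) hirr
    (Subgroup.center P) hZ (fun h g hg => hcenter_inv h g hg)
    (fun h hh g hg => h3 h (fun e => hh (Subtype.ext e)) g hg) x hx hPK hBK hfix'
  have hker : ∀ g : P, g ∈ MonoidHom.ker ρ' ↔ ρ' g = 1 := fun g => MonoidHom.mem_ker
  have hdim1 : finrank K ↥U ≠ 1 := by
    intro h
    have hcommAll : ∀ a b : P, ρ' a * ρ' b = ρ' b * ρ' a := by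
      intro a b
      obtain ⟨v₀, hv₀, hspan⟩ := finrank_eq_one_iff'.mp h
      obtain ⟨ca, hca⟩ := hspan (ρ' a v₀)
      obtain ⟨cb, hcb⟩ := hspan (ρ' b v₀)
      ext w
      obtain ⟨cw, rfl⟩ := hspan w
      simp only [Module.End.mul_apply, map_smul, ← hca, ← hcb, smul_smul, mul_comm]
    have hle : commutator P ≤ MonoidHom.ker ρ' := by
      rw [commutator_def, Subgroup.commutator_le]
      intro a _ b _
      rw [hker, commutatorElement_def, map_mul, map_mul, map_mul, hcommAll a b,
        mul_assoc (ρ' b), ← map_mul, mul_inv_cancel, map_one, mul_one, ← map_mul,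
        mul_inv_cancel, map_one]
    obtain ⟨u, huU, hu0⟩ := Submodule.exists_mem_ne_zero_of_ne_bot hU0
    apply hu0
    apply hc
    intro c hcP
    have h2 := (hker c).mp (hle hcP)
    have h3' := congrArg (fun f : Module.End K ↥U => ((f ⟨u, huU⟩ : ↥U) : V)) h2
    exact h3'
  obtain ⟨hdim, heig⟩ := hmain.resolve_left hdim1
  -- `|B| ≥ 4`
  have hpos : 0 < finrank K ↥U := Module.finrank_pos
  have hb2 : 2 ≤ b := by
    by_contra hlt
    push Not at hlt
    have : Nat.card ↥B ≤ 2 := by
      rw [hb]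
      calc 2 ^ b ≤ 2 ^ 1 := Nat.pow_le_pow_right (by norm_num) (by omega)
        _ = 2 := by norm_num
    omega
  obtain ⟨b', rfl⟩ : ∃ b', b = b' + 2 := ⟨b - 2, by omega⟩
  set m := Nat.card ↥B with hm
  have hm4 : m = 2 ^ b' * 4 := by rw [hb, pow_add]; norm_num
  have hm2 : m = 2 ^ (b' + 1) * 2 := by rw [hb, pow_succ]
  -- the element of order four
  have hordx : orderOf ((x : ↥B) : H) = m := by
    rw [Subgroup.orderOf_coe]
    exact orderOf_eq_card_of_forall_mem_zpowers hx
  have hpow0 : (2 : ℕ) ^ b' ≠ 0 := pow_ne_zero _ (by norm_num)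
  refine ⟨((x : ↥B) : H) ^ (2 ^ b'), ?_, ?_⟩
  · rw [orderOf_pow_of_dvd hpow0 (by rw [hordx, hm4]; exact dvd_mul_right _ _), hordx, hm4,
      Nat.mul_div_cancel_left _ (Nat.pos_of_ne_zero hpow0)]
  · -- a primitive root of unity of order `m / 2`
    have hne : NeZero (((2 : ℕ) : K)) := ⟨by exact_mod_cast h2K⟩
    have : HasEnoughRootsOfUnity K (2 ^ (b' + 1)) := inferInstance
    obtain ⟨ζ', hζ'⟩ := HasEnoughRootsOfUnity.exists_primitiveRoot K (2 ^ (b' + 1))
    have hζ'm : ζ' ^ m = 1 := by rw [hm2, pow_mul, hζ'.pow_eq_one, one_pow]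
    have hζ'1 : ζ' ≠ 1 := hζ'.ne_one (by
      calc 1 < 2 ^ 1 := by norm_num
        _ ≤ 2 ^ (b' + 1) := Nat.pow_le_pow_right (by norm_num) (by omega))
    have hneg : ζ' ^ (2 ^ b') = -1 := by
      have h5 := hζ'.pow_of_dvd hpow0 (by rw [pow_succ]; exact dvd_mul_right _ _)
      rw [pow_succ, Nat.mul_div_cancel_left _ (Nat.pos_of_ne_zero hpow0)] at h5
      exact h5.eq_neg_one_of_two_right
    obtain ⟨u, hu0, hu⟩ := heig ζ' hζ'm hζ'1
    refine ⟨(u : V), fun h => hu0 (Subtype.ext h), ?_⟩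
    have h6 : τ ((x : ↥B) : H) (u : V) = ζ' • (u : V) := by
      have := congrArg Subtype.val hu
      rw [hτ'val] at this
      exact this
    rw [map_pow, pow_eigen (τ ((x : ↥B) : H)) ζ' (u : V) h6, hneg, neg_smul, one_smul]

end AC

section Field

variable {k : Type*} [Field k] {P : Type*} [Group P] [Finite P] [Group.IsNilpotent P]
  {H : Type*} [Group H] [Finite H] [IsCyclic H] {V : Type*} [AddCommGroup V] [Module k V]
  [FiniteDimensional k V]

set_option maxHeartbeats 800000 in
theorem field_main [Nontrivial V] (hH : IsPGroup 2 H) (φ : H →* MulAut P)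
    (ρ : Representation k P V) (τ : Representation k H V)
    (hcompat : ∀ (h : H) (g : P) (v : V), τ h (ρ g v) = ρ (φ h g) (τ h v))
    (h1 : ∀ a b : P, ⁅a, b⁆ ∈ Subgroup.center P)
    (h3 : ∀ h, h ≠ 1 → ∀ g, g⁻¹ * φ h g ∈ Subgroup.center P → g ∈ Subgroup.center P)
    (hc : ∀ v : V, (∀ c ∈ commutator P, ρ c v = v) → v = 0)
    (hPk : (Nat.card P : k) ≠ 0) (h2k : (2 : k) ≠ 0)
    (hfix : ∀ v : V, (∀ h, τ h v = v) → v = 0) :
    ∃ c : H, orderOf c = 4 ∧ ∃ w : V, w ≠ 0 ∧ τ c w = -w := by
  classical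
  have := Fintype.ofFinite H
  have := Fintype.ofFinite ↥(commutator P)
  let K := AlgebraicClosure k
  have hinj : Function.Injective (algebraMap k K) := (algebraMap k K).injective
  have hcast : ∀ n : ℕ, (n : k) ≠ 0 → (n : K) ≠ 0 := by
    intro n hn h0
    apply hn
    apply hinj
    rw [map_natCast, map_zero]; exact h0
  have hfin : FiniteDimensional K (K ⊗[k] V) := inferInstance
  have hnt : Nontrivial (K ⊗[k] V) := by
    apply Module.nontrivial_of_finrank_pos (R := K)
    rw [Module.finrank_baseChange]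
    exact Module.finrank_pos
  have h2k' : ((2 : ℕ) : k) ≠ 0 := by exact_mod_cast h2k
  have hHk : (Fintype.card H : k) ≠ 0 := by
    obtain ⟨a, ha⟩ := IsPGroup.iff_card.mp hH
    rw [← Nat.card_eq_fintype_card, ha, Nat.cast_pow]
    exact pow_ne_zero _ h2k'
  have hCk : (Fintype.card ↥(commutator P) : k) ≠ 0 := by
    intro h0
    apply hPk
    obtain ⟨c, hc'⟩ := Subgroup.card_subgroup_dvd_card (commutator P)
    rw [hc', Nat.cast_mul, Nat.card_eq_fintype_card, h0, zero_mul]
  have h2K : (2 : K) ≠ 0 := by exact_mod_cast hcast 2 h2k'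
  obtain ⟨c, hc4, w, hw0, hw⟩ := ac_main (K := K) hH φ (bcRep K ρ) (bcRep K τ) (by
      intro h g w
      have e : τ h * ρ g = ρ (φ h g) * τ h := by
        ext v; exact hcompat h g v
      have e' := congrArg (fun F : Module.End k V => F.baseChange K) e
      simp only [LinearMap.baseChange_mul] at e'
      exact LinearMap.congr_fun e' w) h1 h3 (by
      intro w hw
      refine CycShultField.baseChange_no_common_fixed K (ρ.comp (commutator P).subtype)
        (hcast _ hCk) ?_ w ?_
      · intro v hv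
        exact hc v (fun c hcP => hv ⟨c, hcP⟩)
      · intro c
        exact hw c c.2) (hcast _ hPk) h2K (by
      intro w hw
      exact CycShultField.baseChange_no_common_fixed K τ (hcast _ hHk) hfix w hw)
  refine ⟨c, hc4, ?_⟩
  by_contra hno
  push Not at hno
  apply hw0
  have hf : ∀ v : V, (-τ c) v = v → v = 0 := by
    intro v hv
    by_contra hv0
    apply hno v hv0
    rw [LinearMap.neg_apply] at hv
    have h5 : τ c v = -v := neg_eq_iff_eq_neg.mp hv
    exact h5
  apply baseChange_no_fixed K (-τ c) hf w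
  rw [LinearMap.baseChange_neg, LinearMap.neg_apply]
  have : (τ c).baseChange K w = -w := hw
  rw [this, neg_neg]

end Field

end Cfsg.Agent.Lib.Helper2.G2AC
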