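import Mathlib
import Cfsg.Agent.Lib.Helper2.CycShultMain
import Cfsg.Agent.Lib.Helper2.G2AC

/-!
# Cyclic `2`-groups of operators: nontrivial action of the involution forces an eigenvalue `-1`

`H` is a cyclic `2`-group acting on the `q`-group `P` (`q` odd), and the semidirect product acts
on the finite-dimensional space `V` over a field of characteristic different from `2` and `q`,
`H` without nonzero fixed vectors.  If `[P, t]` acts nontrivially on `V` for the element `t` with
`t ^ 2 = 1`, then `P` is not abelian and there is `c ∈ H` with `c ^ 2 = t` which has the eigenvalue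
`-1` on `V` (`main`).
-/

set_option autoImplicit false

namespace Cfsg.Agent.Lib.Helper2.G2C

open scoped BigOperators commutatorElement
open Module Cfsg.Agent.Lib.Helper2.FreeAssembly Cfsg.Agent.Lib.Helper2.FrobFree
  Cfsg.Agent.Lib.Helper2.CycCrit Cfsg.Agent.Lib.Helper2.CycShultMain

section Crit

variable {k : Type*} [Field k] {P : Type*} [Group P] [Finite P] {H : Type*} [Group H] [Finite H]
  [IsCyclic H] {V : Type*} [AddCommGroup V] [Module k V] [FiniteDimensional k V]
  {q : ℕ} [hq : Fact q.Prime]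

set_option maxHeartbeats 800000 in
/-- The critical case. -/
theorem critical_case (h2q : 2 ≠ q) (hH : IsPGroup 2 H) (hP : IsPGroup q P)
    (φ : H →* MulAut P) (ρ : Representation k P V) (τ : Representation k H V)
    (hcompat : ∀ (h : H) (g : P) (v : V), τ h (ρ g v) = ρ (φ h g) (τ h v))
    (hρ : Function.Injective ρ) (hcrit : IsCrit φ (omega H 2))
    (hqk : (q : k) ≠ 0) (h2k : (2 : k) ≠ 0)
    (hfix : ∀ v : V, (∀ h, τ h v = v) → v = 0) :
    (∃ a b : P, a * b ≠ b * a) ∧ ∃ c : H, orderOf c = 4 ∧ ∃ w : V, w ≠ 0 ∧ τ c w = -w := by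
  classical
  have hnil : Group.IsNilpotent P := hP.isNilpotent
  obtain ⟨a, ha⟩ := IsPGroup.iff_card.mp hP
  obtain ⟨n, hn⟩ := IsPGroup.iff_card.mp hH
  have hPk : (Nat.card P : k) ≠ 0 := by
    rw [ha, Nat.cast_pow]; exact pow_ne_zero _ hqk
  have hcop : (Nat.card P).Coprime (Nat.card H) := by
    rw [ha, hn]
    exact Nat.Coprime.pow _ _ ((Nat.coprime_primes hq.out Nat.prime_two).mpr h2q.symm)
  have hcomm : ∀ x y : H, x * y = y * x :=
    fun x y => (IsCyclic.isMulCommutative (α := H)).is_comm.comm x y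
  have hntH : Nontrivial H := by
    obtain ⟨h, -, g, hg⟩ := hcrit.nontriv
    refine ⟨⟨h, 1, ?_⟩⟩
    rintro rfl
    exact hg (by rw [map_one]; rfl)
  have hH₁ : Nat.card (omega H 2) = 2 := card_omega hH
  have hpow := exists_pow_mem_omega hH
  by_cases hab : ∀ x y : P, x * y = y * x
  · -- the abelian case: `V` contains a free module
    exfalso
    have hfpf' := abelian_case φ (omega H 2) hH₁ hpow hcomm hcop hcrit hab
    have hTk : (Nat.card ↥(⊤ : Subgroup P) : k) ≠ 0 := by
      rw [Subgroup.card_top]; exact hPk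
    have := Fintype.ofFinite ↥(⊤ : Subgroup P)
    have hfree := FrobFreeCompl.freeOn_ker_avg φ hfpf' ρ τ hcompat hTk
    have hM : LinearMap.ker (avg ρ ⊤) ≠ ⊥ := by
      intro hbot
      have htop := fixedSub_sup_ker ρ ⊤ hTk
      rw [hbot, sup_bot_eq] at htop
      obtain ⟨h, -, g, hg⟩ := hcrit.nontriv
      apply hg
      have h1 : ∀ g : P, ρ g = 1 := by
        intro g
        ext v
        have : v ∈ fixedSub ρ ⊤ := htop ▸ Submodule.mem_top
        exact this g (Subgroup.mem_top g)
      apply hρ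
      rw [h1, h1]
    obtain ⟨v, hv0, hv⟩ := ShultG.exists_fixed_of_freeOn τ _ hM hfree
    exact hv0 (hfix v hv)
  · -- the nonabelian case
    push Not at hab
    refine ⟨hab, ?_⟩
    obtain ⟨h1, h2, h3⟩ := nonabelian_case φ (omega H 2) hH₁ hpow hcomm hcop hcrit hab
    have := Fintype.ofFinite ↥(commutator P)
    have hCk : (Nat.card ↥(commutator P) : k) ≠ 0 := by
      intro h0
      apply hPk
      obtain ⟨c, hc'⟩ := Subgroup.card_subgroup_dvd_card (commutator P)
      rw [hc', Nat.cast_mul, h0, zero_mul]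
    let M : Submodule k V := LinearMap.ker (avg ρ (commutator P))
    have hCinv : ∀ h : H, ∀ x ∈ commutator P, φ h x ∈ commutator P :=
      fun h x hx => Critical.map_mem_of_characteristic φ _ h x hx
    have hMρ : ∀ g, M ≤ M.comap (ρ g) := by
      intro g v hv
      rw [Submodule.mem_comap, LinearMap.mem_ker, ← avg_comm_of_normal, LinearMap.mem_ker.mp hv,
        map_zero]
    have hMτ : ∀ h, M ≤ M.comap (τ h) := by
      intro h v hv
      rw [Submodule.mem_comap, LinearMap.mem_ker,
        ← avg_comm_of_invariant φ ρ τ hcompat (commutator P) hCinv, LinearMap.mem_ker.mp hv,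
        map_zero]
    have hM0 : M ≠ ⊥ := by
      intro hbot
      have htop := fixedSub_sup_ker ρ (commutator P) hCk
      rw [show LinearMap.ker (avg ρ (commutator P)) = ⊥ from hbot, sup_bot_eq] at htop
      obtain ⟨x, y, hxy⟩ := hab
      apply hxy
      have hmem : ⁅x, y⁆ ∈ commutator P := by
        rw [commutator_def]
        exact Subgroup.commutator_mem_commutator (Subgroup.mem_top _) (Subgroup.mem_top _)
      have h5 : ρ ⁅x, y⁆ = 1 := by
        ext v
        have : v ∈ fixedSub ρ (commutator P) := htop ▸ Submodule.mem_top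
        exact this _ hmem
      have h6 : ⁅x, y⁆ = 1 := hρ (by rw [h5, map_one])
      exact commutatorElement_eq_one_iff_mul_comm.mp h6
    have hnt : Nontrivial ↥M := Submodule.nontrivial_iff_ne_bot.mpr hM0
    obtain ⟨c, hc4, w, hw0, hw⟩ :=
      G2AC.field_main hH φ (ρ.subrepresentation M hMρ) (τ.subrepresentation M hMτ)
        (fun h g v => Subtype.ext (hcompat h g v)) h1 h3 (by
          intro v hv
          apply Subtype.ext
          have hvfix : (v : V) ∈ fixedSub ρ (commutator P) := by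
            intro c hc
            exact congrArg Subtype.val (hv c hc)
          have := avg_of_mem_fixedSub ρ (commutator P) hCk hvfix
          rw [LinearMap.mem_ker.mp v.2] at this
          exact this.symm) hPk h2k (by
          intro v hv
          apply Subtype.ext
          apply hfix
          intro h
          exact congrArg Subtype.val (hv h))
    refine ⟨c, hc4, (w : V), fun h => hw0 (Subtype.ext h), ?_⟩
    have := congrArg Subtype.val hw
    exact this

end Crit

section Induction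

universe uk uP uH uV

variable {k : Type uk} [Field k] {H : Type uH} [Group H] [Finite H] [IsCyclic H]
  {V : Type uV} [AddCommGroup V] [Module k V] [FiniteDimensional k V]
  {q : ℕ} [hq : Fact q.Prime]

theorem faithful_aux (h2q : 2 ≠ q) (hH : IsPGroup 2 H) (τ : Representation k H V)
    (hqk : (q : k) ≠ 0) (h2k : (2 : k) ≠ 0)
    (hfix : ∀ v : V, (∀ h, τ h v = v) → v = 0) :
    ∀ (n : ℕ) (P : Type uP) [Group P] [Finite P], Nat.card P = n → IsPGroup q P →
      ∀ (φ : H →* MulAut P) (ρ : Representation k P V),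
      (∀ (h : H) (g : P) (v : V), τ h (ρ g v) = ρ (φ h g) (τ h v)) →
      Function.Injective ρ →
      (∃ h ∈ omega H 2, ∃ g, φ h g ≠ g) →
      (∃ a b : P, a * b ≠ b * a) ∧ ∃ c : H, orderOf c = 4 ∧ ∃ w : V, w ≠ 0 ∧ τ c w = -w := by
  intro n
  induction n using Nat.strong_induction_on with
  | _ n ih =>
  intro P _ _ hcard hP φ ρ hcompat hρ hnt
  by_cases hcrit : IsCrit φ (omega H 2)
  · exact critical_case h2q hH hP φ ρ τ hcompat hρ hcrit hqk h2k hfix
  · have hex : ∃ P₁ : Subgroup P, P₁ ≠ ⊤ ∧ (∀ h, ∀ g ∈ P₁, φ h g ∈ P₁) ∧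
        ∃ h ∈ omega H 2, ∃ g ∈ P₁, φ h g ≠ g := by
      by_contra hno
      apply hcrit
      refine ⟨?_, hnt⟩
      intro P₁ hne hinv h hh g hg
      by_contra hgne
      exact hno ⟨P₁, hne, hinv, h, hh, g, hg, hgne⟩
    obtain ⟨P₁, hne, hinv, h₀, hh₀, g₀, hg₀, hne₀⟩ := hex
    have hlt : Nat.card ↥P₁ < n := by
      rw [← hcard]
      apply lt_of_le_of_ne (Subgroup.card_le_card_group P₁)
      intro heq
      exact hne (Subgroup.eq_top_of_card_eq P₁ heq)
    obtain ⟨⟨a, b, hab⟩, hrest⟩ := ih _ hlt ↥P₁ rfl (hP.to_subgroup P₁) (restrictAut φ P₁ hinv)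
      (ρ.comp P₁.subtype) (fun h g v => hcompat h g v)
      (fun a b hab => Subtype.ext (hρ hab))
      ⟨h₀, hh₀, ⟨g₀, hg₀⟩, fun h => hne₀ (congrArg Subtype.val h)⟩
    refine ⟨⟨(a : P), (b : P), fun h => hab (Subtype.ext ?_)⟩, hrest⟩
    rw [Subgroup.coe_mul, Subgroup.coe_mul]
    exact h

/-- Two nontrivial elements of square one in a cyclic `2`-group are equal. -/
theorem eq_of_sq_eq_one (hH : IsPGroup 2 H) (a b : H) (ha : a ^ 2 = 1) (hb : b ^ 2 = 1)
    (ha1 : a ≠ 1) (hb1 : b ≠ 1) : a = b := by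
  have hoa : orderOf a = 2 := orderOf_eq_prime ha ha1
  have hob : orderOf b = 2 := orderOf_eq_prime hb hb1
  have hmem := CycP.mem_zpowers_of_orderOf_le hH a b (by rw [hoa, hob])
  obtain ⟨z, hz⟩ := hmem
  have hz : b ^ z = a := hz
  rcases Int.emod_two_eq_zero_or_one z with h0 | h1
  · exfalso
    apply ha1
    obtain ⟨c, hc⟩ : ∃ c, z = 2 * c := ⟨z / 2, by omega⟩
    rw [← hz, hc, zpow_mul, zpow_ofNat, hb, one_zpow]
  · obtain ⟨c, hc⟩ : ∃ c, z = 2 * c + 1 := ⟨z / 2, by omega⟩
    rw [← hz, hc, zpow_add, zpow_mul, zpow_ofNat, hb, one_zpow, one_mul, zpow_one]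

/-- **The eigenvalue `-1`.** -/
theorem main {P : Type uP} [Group P] [Finite P] (h2q : 2 ≠ q) (hH : IsPGroup 2 H)
    (hP : IsPGroup q P) (φ : H →* MulAut P) (ρ : Representation k P V) (τ : Representation k H V)
    (hcompat : ∀ (h : H) (g : P) (v : V), τ h (ρ g v) = ρ (φ h g) (τ h v))
    (hqk : (q : k) ≠ 0) (h2k : (2 : k) ≠ 0)
    (hfix : ∀ v : V, (∀ h, τ h v = v) → v = 0)
    (t : H) (ht : t ^ 2 = 1) (hnt : ∃ g : P, ρ (g⁻¹ * φ t g) ≠ 1) :
    (∃ a b : P, a * b ≠ b * a) ∧ ∃ c : H, c ^ 2 = t ∧ ∃ w : V, w ≠ 0 ∧ τ c w = -w := by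
  let N : Subgroup P := MonoidHom.ker ρ
  have hmemN : ∀ g, g ∈ N ↔ ρ g = 1 := fun g => MonoidHom.mem_ker
  have hτsurj : ∀ h v, ∃ w, τ h w = v := by
    intro h v
    refine ⟨τ h⁻¹ v, ?_⟩
    rw [← Module.End.mul_apply, ← map_mul, mul_inv_cancel, map_one]; rfl
  have hN : ∀ h : H, ∀ g ∈ N, φ h g ∈ N := by
    intro h g hg
    rw [hmemN] at hg ⊢
    ext v
    obtain ⟨w, rfl⟩ := hτsurj h v
    rw [← hcompat, hg]; rfl
  let ρ' : Representation k (P ⧸ N) V := QuotientGroup.lift N ρ le_rfl
  have hρ'mk : ∀ g : P, ρ' (g : P ⧸ N) = ρ g := fun g => rfl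
  have hρ'inj : Function.Injective ρ' := by
    intro a b hab
    induction a using QuotientGroup.induction_on with
    | H a =>
    induction b using QuotientGroup.induction_on with
    | H b =>
    rw [hρ'mk, hρ'mk] at hab
    rw [QuotientGroup.eq, hmemN, map_mul, ← hab, ← map_mul, inv_mul_cancel, map_one]
  have hcompat' : ∀ (h : H) (g : P ⧸ N) (v : V),
      τ h (ρ' g v) = ρ' (quotientAut φ N hN h g) (τ h v) := by
    intro h g v
    induction g using QuotientGroup.induction_on with
    | H g =>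
    rw [quotientAut_mk, hρ'mk, hρ'mk]
    exact hcompat h g v
  obtain ⟨g, hg⟩ := hnt
  have ht1 : t ≠ 1 := by
    rintro rfl
    apply hg
    rw [map_one, MulAut.one_apply, inv_mul_cancel, map_one]
  obtain ⟨⟨a, b, hab⟩, c, hc4, w, hw0, hw⟩ :=
    faithful_aux h2q hH τ hqk h2k hfix _ (P ⧸ N) rfl (hP.to_quotient N)
      (quotientAut φ N hN) ρ' hcompat' hρ'inj ⟨t, ht, (g : P ⧸ N), by
        intro heq
        apply hg
        rw [quotientAut_mk] at heq
        rw [← hmemN]
        exact QuotientGroup.eq.mp heq.symm⟩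
  constructor
  · induction a using QuotientGroup.induction_on with
    | H a =>
    induction b using QuotientGroup.induction_on with
    | H b =>
    refine ⟨a, b, fun h => hab ?_⟩
    rw [← QuotientGroup.mk_mul, ← QuotientGroup.mk_mul, h]
  · refine ⟨c, ?_, w, hw0, hw⟩
    apply eq_of_sq_eq_one hH _ _ _ ht _ ht1
    · rw [← pow_mul]
      have : c ^ 4 = 1 := by rw [← hc4, pow_orderOf_eq_one]
      exact this
    · intro h
      have := orderOf_dvd_of_pow_eq_one h
      rw [hc4] at this
      omega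

end Induction

end Cfsg.Agent.Lib.Helper2.G2C
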