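import Mathlib
import Cfsg.Agent.Lib.Helper2.ShultB

/-!
# Operators commuting with a simple module on which a cyclic group acts "exceptionally"

`U` is a simple `P`-invariant subspace of `V`, stable under the operator `x` with `x ^ m = 1`
such that every `m`-th root of unity other than `1` is an eigenvalue of `x` on `U`.  Assume that
`x` has no nonzero fixed vector on any `x`-stable simple `P`-invariant subspace of `V`.  If
`Y 0, Y 1, …` are operators commuting with `P`, with `x ∘ Y j = Y (j + 1) ∘ x` and `Y m = Y 0`,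
then all the `Y j` agree on `U` (`main`).
-/

set_option autoImplicit false

namespace Cfsg.Agent.Lib.Helper2.G2Theta

open scoped BigOperators
open Module Cfsg.Agent.Lib.Helper2.ShultB

variable {K : Type*} [Field K] {P : Type*} [Group P] {V : Type*} [AddCommGroup V] [Module K V]

/-- The twisted sum of the operators `Y j`. -/
noncomputable def tw (Y : ℕ → V →ₗ[K] V) (m : ℕ) (ξ : K) : V →ₗ[K] V :=
  ∑ j ∈ Finset.range m, ξ ^ j • Y j

theorem tw_apply (Y : ℕ → V →ₗ[K] V) (m : ℕ) (ξ : K) (v : V) :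
    tw Y m ξ v = ∑ j ∈ Finset.range m, ξ ^ j • Y j v := by
  simp [tw, LinearMap.sum_apply]

theorem x_tw (x : V →ₗ[K] V) (Y : ℕ → V →ₗ[K] V) (m : ℕ) (ξ : K) (hξ : ξ ^ m = 1)
    (hYper : Y m = Y 0) (hYx : ∀ j v, x (Y j v) = Y (j + 1) (x v)) (v : V) :
    ξ • x (tw Y m ξ v) = tw Y m ξ (x v) := by
  rw [tw_apply, tw_apply, map_sum, Finset.smul_sum]
  have h1 : ∀ j ∈ Finset.range m, ξ • x (ξ ^ j • Y j v) = ξ ^ (j + 1) • Y (j + 1) (x v) := by
    intro j _
    rw [map_smul, hYx, smul_smul, pow_succ']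
  rw [Finset.sum_congr rfl h1]
  have h2 := Finset.sum_range_succ' (fun j => ξ ^ j • Y j (x v)) m
  have h3 := Finset.sum_range_succ (fun j => ξ ^ j • Y j (x v)) m
  rw [h3] at h2
  rw [hξ, hYper, one_smul, pow_zero, one_smul] at h2
  exact (add_right_cancel h2).symm

theorem tw_comm (ρ : Representation K P V) (Y : ℕ → V →ₗ[K] V) (m : ℕ) (ξ : K)
    (hYρ : ∀ j g v, Y j (ρ g v) = ρ g (Y j v)) (g : P) (v : V) :
    tw Y m ξ (ρ g v) = ρ g (tw Y m ξ v) := by
  rw [tw_apply, tw_apply, map_sum]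
  refine Finset.sum_congr rfl fun j _ => ?_
  rw [hYρ, map_smul]

/-- The twisted sums for nontrivial roots of unity vanish on `U`. -/
theorem tw_eq_zero (ρ : Representation K P V) (x : V →ₗ[K] V) (m : ℕ)
    (Y : ℕ → V →ₗ[K] V) (hYρ : ∀ j g v, Y j (ρ g v) = ρ g (Y j v)) (hYper : Y m = Y 0)
    (hYx : ∀ j v, x (Y j v) = Y (j + 1) (x v))
    (U : Submodule K V) (hUinv : ∀ g, U ≤ U.comap (ρ g))
    (hUs : ∀ W : Submodule K V, W ≤ U → (∀ g, W ≤ W.comap (ρ g)) → W = ⊥ ∨ W = U)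
    (hUx : U ≤ U.comap x)
    (heig : ∀ ξ : K, ξ ^ m = 1 → ξ ≠ 1 → ∃ u ∈ U, u ≠ 0 ∧ x u = ξ • u)
    (hM : ∀ U' : Submodule K V, U' ≠ ⊥ → (∀ g, U' ≤ U'.comap (ρ g)) →
      (∀ W : Submodule K V, W ≤ U' → (∀ g, W ≤ W.comap (ρ g)) → W = ⊥ ∨ W = U') →
      U' ≤ U'.comap x → ∀ u ∈ U', x u = u → u = 0)
    (ξ : K) (hξ : ξ ^ m = 1) (hξ1 : ξ ≠ 1) : ∀ u ∈ U, tw Y m ξ u = 0 := by
  by_contra hne
  push Not at hne
  obtain ⟨u₁, hu₁U, hu₁⟩ := hne
  have hξ0 : ξ ≠ 0 := by
    rintro rfl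
    rcases Nat.eq_zero_or_pos m with hm | hm
    · subst hm
      apply hu₁
      simp [tw]
    · rw [zero_pow hm.ne'] at hξ
      exact zero_ne_one hξ
  set F : ↥U →ₗ[K] V := (tw Y m ξ).comp U.subtype with hF
  have hFv : ∀ u : ↥U, F u = tw Y m ξ (u : V) := fun u => rfl
  set ρU := ρ.subrepresentation U hUinv with hρU
  have hirr := hirr_of_simple ρ U hUinv hUs
  have hFρ : ∀ g (u : ↥U), F (ρU g u) = ρ g (F u) := by
    intro g u
    rw [hFv, hFv]
    exact tw_comm ρ Y m ξ hYρ g u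
  obtain ⟨hRinv, hRs⟩ := simple_range (fun g => (ρU g : ↥U →ₗ[K] ↥U))
    (fun g => (ρ g : V →ₗ[K] V)) hirr id Function.surjective_id F hFρ
  -- injectivity
  have hker : LinearMap.ker F = ⊥ := by
    have hkinv : ∀ g, LinearMap.ker F ≤ (LinearMap.ker F).comap (ρU g) := by
      intro g u hu
      rw [Submodule.mem_comap, LinearMap.mem_ker, hFρ, LinearMap.mem_ker.mp hu, map_zero]
    rcases hirr _ hkinv with h | h
    · exact h
    · exfalso
      apply hu₁
      have : (⟨u₁, hu₁U⟩ : ↥U) ∈ LinearMap.ker F := h ▸ Submodule.mem_top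
      exact LinearMap.mem_ker.mp this
  have hR0 : LinearMap.range F ≠ ⊥ := by
    intro h
    apply hu₁
    have : F ⟨u₁, hu₁U⟩ ∈ LinearMap.range F := ⟨_, rfl⟩
    rw [h, Submodule.mem_bot] at this
    exact this
  -- the range is `x`-stable
  have hxF : ∀ u : ↥U, ξ • x (F u) = F ⟨x u, hUx u.2⟩ := by
    intro u
    rw [hFv, hFv]
    exact x_tw x Y m ξ hξ hYper hYx u
  have hRx : LinearMap.range F ≤ (LinearMap.range F).comap x := by
    rintro _ ⟨u, rfl⟩
    rw [Submodule.mem_comap]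
    have h1 : x (F u) = ξ⁻¹ • F ⟨x u, hUx u.2⟩ := by
      rw [← hxF, smul_smul, inv_mul_cancel₀ hξ0, one_smul]
    rw [h1]
    exact Submodule.smul_mem _ _ ⟨_, rfl⟩
  -- an eigenvector
  obtain ⟨u₀, hu₀U, hu₀, hxu₀⟩ := heig ξ hξ hξ1
  have hfixed : x (F ⟨u₀, hu₀U⟩) = F ⟨u₀, hu₀U⟩ := by
    have h1 := hxF ⟨u₀, hu₀U⟩
    have h2 : (⟨x u₀, hUx hu₀U⟩ : ↥U) = ξ • ⟨u₀, hu₀U⟩ := Subtype.ext hxu₀
    rw [h2, map_smul] at h1
    exact smul_right_injective V hξ0 h1
  have h0 := hM _ hR0 hRinv hRs hRx _ ⟨_, rfl⟩ hfixed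
  have : (⟨u₀, hu₀U⟩ : ↥U) ∈ LinearMap.ker F := LinearMap.mem_ker.mpr h0
  rw [hker, Submodule.mem_bot] at this
  exact hu₀ (congrArg Subtype.val this)

/-- **All the `Y j` agree on `U`.** -/
theorem main (ρ : Representation K P V) (x : V →ₗ[K] V) (m : ℕ) (ζ₀ : K)
    (hζ : IsPrimitiveRoot ζ₀ m) (hmK : (m : K) ≠ 0)
    (Y : ℕ → V →ₗ[K] V) (hYρ : ∀ j g v, Y j (ρ g v) = ρ g (Y j v)) (hYper : Y m = Y 0)
    (hYx : ∀ j v, x (Y j v) = Y (j + 1) (x v))
    (U : Submodule K V) (hUinv : ∀ g, U ≤ U.comap (ρ g))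
    (hUs : ∀ W : Submodule K V, W ≤ U → (∀ g, W ≤ W.comap (ρ g)) → W = ⊥ ∨ W = U)
    (hUx : U ≤ U.comap x)
    (heig : ∀ ξ : K, ξ ^ m = 1 → ξ ≠ 1 → ∃ u ∈ U, u ≠ 0 ∧ x u = ξ • u)
    (hM : ∀ U' : Submodule K V, U' ≠ ⊥ → (∀ g, U' ≤ U'.comap (ρ g)) →
      (∀ W : Submodule K V, W ≤ U' → (∀ g, W ≤ W.comap (ρ g)) → W = ⊥ ∨ W = U') →
      U' ≤ U'.comap x → ∀ u ∈ U', x u = u → u = 0) :
    ∀ i, i < m → ∀ u ∈ U, Y i u = Y 0 u := by
  have hm0 : m ≠ 0 := by
    rintro rfl
    exact hmK (by simp)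
  have hzero := tw_eq_zero ρ x m Y hYρ hYper hYx U hUinv hUs hUx heig hM
  -- for every `i < m`: `m • Y i u = ∑ j, Y j u`
  have key : ∀ i, i < m → ∀ u ∈ U, (m : K) • Y i u = ∑ j ∈ Finset.range m, Y j u := by
    intro i hi u hu
    -- sum over `l` of `(ζ₀ ^ l) ^ (m - i) • tw Y m (ζ₀ ^ l) u`
    have hl : ∀ l ∈ Finset.range m, ((ζ₀ ^ l) ^ (m - i)) • tw Y m (ζ₀ ^ l) u =
        if l = 0 then ∑ j ∈ Finset.range m, Y j u else 0 := by
      intro l hl
      by_cases hl0 : l = 0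
      · subst hl0
        rw [if_pos rfl, pow_zero, one_pow, one_smul, tw_apply]
        simp
      · rw [if_neg hl0]
        have h1 : (ζ₀ ^ l) ^ m = 1 := by rw [← pow_mul, mul_comm, pow_mul, hζ.pow_eq_one, one_pow]
        have h2 : ζ₀ ^ l ≠ 1 := by
          intro h
          have := hζ.pow_eq_one_iff_dvd l |>.mp h
          have hlt := Finset.mem_range.mp hl
          exact hl0 (Nat.eq_zero_of_dvd_of_lt this hlt)
        rw [hzero _ h1 h2 u hu, smul_zero]
    have hsum1 : ∑ l ∈ Finset.range m, ((ζ₀ ^ l) ^ (m - i)) • tw Y m (ζ₀ ^ l) u =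
        ∑ j ∈ Finset.range m, Y j u := by
      rw [Finset.sum_congr rfl hl, Finset.sum_ite_eq' (Finset.range m) 0]
      rw [if_pos (Finset.mem_range.mpr (Nat.pos_of_ne_zero hm0))]
    -- expand the other way
    have hsum2 : ∑ l ∈ Finset.range m, ((ζ₀ ^ l) ^ (m - i)) • tw Y m (ζ₀ ^ l) u =
        (m : K) • Y i u := by
      have h3 : ∀ l ∈ Finset.range m, ((ζ₀ ^ l) ^ (m - i)) • tw Y m (ζ₀ ^ l) u =
          ∑ j ∈ Finset.range m, ((ζ₀ ^ (m - i + j)) ^ l) • Y j u := by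
        intro l _
        rw [tw_apply, Finset.smul_sum]
        refine Finset.sum_congr rfl fun j _ => ?_
        rw [smul_smul]
        congr 1
        rw [← pow_mul, ← pow_mul, ← pow_mul, ← pow_add]
        congr 1
        ring
      rw [Finset.sum_congr rfl h3, Finset.sum_comm]
      have h4 : ∀ j ∈ Finset.range m, ∑ l ∈ Finset.range m, ((ζ₀ ^ (m - i + j)) ^ l) • Y j u =
          if j = i then (m : K) • Y i u else 0 := by
        intro j hj
        rw [← Finset.sum_smul]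
        by_cases hji : j = i
        · subst hji
          rw [if_pos rfl]
          have : ζ₀ ^ (m - j + j) = 1 := by
            rw [Nat.sub_add_cancel hi.le, hζ.pow_eq_one]
          rw [this]
          simp
        · rw [if_neg hji]
          have hw1 : ζ₀ ^ (m - i + j) ≠ 1 := by
            intro h
            have hd := (hζ.pow_eq_one_iff_dvd _).mp h
            have hjlt := Finset.mem_range.mp hj
            -- `m ∣ m - i + j` with `0 < m - i + j < 2m` forces `j = i`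
            obtain ⟨c, hc⟩ := hd
            have hc1 : c = 1 := by
              have hpos : 0 < m - i + j := by omega
              have hlt2 : m - i + j < 2 * m := by omega
              rcases c with _ | _ | c
              · omega
              · rfl
              · exfalso
                have : m * (c + 1 + 1) ≥ 2 * m := by nlinarith
                omega
            rw [hc1, mul_one] at hc
            omega
          have hwm : (ζ₀ ^ (m - i + j)) ^ m = 1 := by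
            rw [← pow_mul, mul_comm, pow_mul, hζ.pow_eq_one, one_pow]
          rw [geom_sum_eq hw1, hwm, sub_self, zero_div, zero_smul]
      rw [Finset.sum_congr rfl h4, Finset.sum_ite_eq' (Finset.range m) i,
        if_pos (Finset.mem_range.mpr hi)]
    rw [← hsum2, hsum1]
  intro i hi u hu
  have h1 := key i hi u hu
  have h2 := key 0 (Nat.pos_of_ne_zero hm0) u hu
  exact smul_right_injective V hmK (h1.trans h2.symm)

end Cfsg.Agent.Lib.Helper2.G2Theta
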