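import Mathlib
import Cfsg.Agent.Lib.Helper2.G2AC
import Cfsg.Agent.Lib.Helper2.G2Theta
import Cfsg.Agent.Lib.Helper2.CycP
import Cfsg.Agent.Lib.Helper2.CycShultMain
import Cfsg.Agent.Lib.Helper2.Critical
import Cfsg.Agent.Lib.Helper2.CycShultField

/-!
# The final contradiction for a cyclic `2`-group of operators

`P` and `R` are finite groups of class at most two acting on `V` by commuting operators, both
normalized by the cyclic `2`-group `H`; every nontrivial element of `H` acts without fixed points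
on `P / Z(P)`, `H` has no nonzero fixed vector, and every commutator of `R` acts like some element
of `P'`.  Then there is no `g ∈ R` with `g² ∉ Z(R)` (detected on `V`) and `g g^c ∈ Z(R)` for an
element `c` of order four of `H`.
-/

set_option autoImplicit false

namespace Cfsg.Agent.Lib.Helper2.G2D

open scoped BigOperators commutatorElement TensorProduct
open Module Cfsg.Agent.Lib.Helper2.FreeAssembly Cfsg.Agent.Lib.Helper2.ShultCore
  Cfsg.Agent.Lib.Helper2.ShultB Cfsg.Agent.Lib.Helper2.ShultBase Cfsg.Agent.Lib.Helper2.FrobFree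

universe uK uP uR uH uV

section Basic

variable {K : Type*} [Field K] {V : Type*} [AddCommGroup V] [Module K V]

theorem pow_stable (f : Module.End K V) (U : Submodule K V) (h : U ≤ U.comap f) (n : ℕ) :
    U ≤ U.comap (f ^ n) := by
  induction n with
  | zero => intro u hu; simpa using hu
  | succ n ih =>
    intro u hu
    rw [Submodule.mem_comap, pow_succ, Module.End.mul_apply]
    exact ih (h hu)

theorem pow_fixed (f : Module.End K V) (u : V) (h : f u = u) (n : ℕ) : (f ^ n) u = u := by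
  induction n with
  | zero => simp
  | succ n ih => rw [pow_succ, Module.End.mul_apply, h, ih]

end Basic

section AC

variable {K : Type uK} [Field K] [IsAlgClosed K] {P : Type uP} [Group P] [Finite P]
  [Group.IsNilpotent P] {R : Type uR} [Group R] [Finite R] {H : Type uH} [Group H] [Finite H]
  [IsCyclic H] {V : Type uV} [AddCommGroup V] [Module K V] [FiniteDimensional K V]

set_option maxHeartbeats 800000 in
/-- The properties of a stable simple subspace on which the stabilizer has no fixed vector. -/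
theorem stable_props (hH : IsPGroup 2 H) (φ : H →* MulAut P) (ρ : Representation K P V)
    (τ : Representation K H V)
    (hcompat : ∀ (h : H) (g : P) (v : V), τ h (ρ g v) = ρ (φ h g) (τ h v))
    (h3 : ∀ h, h ≠ 1 → ∀ g, g⁻¹ * φ h g ∈ Subgroup.center P → g ∈ Subgroup.center P)
    (hc : ∀ v : V, (∀ c ∈ commutator P, ρ c v = v) → v = 0)
    (hPK : (Nat.card P : K) ≠ 0) (h2K : (2 : K) ≠ 0)
    (B : Subgroup H) (x : ↥B) (hx : ∀ h : ↥B, h ∈ Subgroup.zpowers x)
    (U : Submodule K V) (hU0 : U ≠ ⊥) (hUinv : ∀ g, U ≤ U.comap (ρ g))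
    (hUs : ∀ W : Submodule K V, W ≤ U → (∀ g, W ≤ W.comap (ρ g)) → W = ⊥ ∨ W = U)
    (hUB : ∀ h ∈ B, U ≤ U.comap (τ h))
    (hUfix : ∀ u ∈ U, (∀ h ∈ B, τ h u = u) → u = 0) :
    finrank K ↥U + 1 = Nat.card ↥B ∧ 2 ≤ finrank K ↥U ∧
      ∀ ζ' : K, ζ' ^ Nat.card ↥B = 1 → ζ' ≠ 1 → ∃ u ∈ U, u ≠ 0 ∧ τ x u = ζ' • u := by
  classical
  set ρ' := ρ.subrepresentation U hUinv with hρ'
  let τB : Representation K ↥B V := τ.comp B.subtype
  have hUτB : ∀ h : ↥B, U ≤ U.comap (τB h) := fun h => hUB h h.2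
  set τ' := τB.subrepresentation U hUτB with hτ'
  let φB : ↥B →* MulAut P := φ.comp B.subtype
  have hρ'val : ∀ g (u : ↥U), ((ρ' g u : ↥U) : V) = ρ g u := fun g u => rfl
  have hτ'val : ∀ (h : ↥B) (u : ↥U), ((τ' h u : ↥U) : V) = τ h u := fun h u => rfl
  have hirr := hirr_of_simple ρ U hUinv hUs
  have hnt : Nontrivial ↥U := Submodule.nontrivial_iff_ne_bot.mpr hU0
  have hZ : Subgroup.center P ≤ scalarKer ρ' := by
    intro z hz
    rw [mem_scalarKer_iff ρ' hirr]
    refine schur ρ' hirr (ρ' z) fun g => ?_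
    have e1 : ρ' g ∘ₗ ρ' z = ρ' (g * z) := by rw [map_mul]; rfl
    have e2 : ρ' z ∘ₗ ρ' g = ρ' (z * g) := by rw [map_mul]; rfl
    rw [e1, e2, (Subgroup.mem_center_iff.mp hz) g]
  have hfix' : ∀ u : ↥U, τ' x u = u → u = 0 := by
    intro u hu
    apply Subtype.ext
    apply hUfix u u.2
    let St : Subgroup ↥B :=
      { carrier := {h | τ h (u : V) = u}
        mul_mem' := fun {a b} ha hb => by
          show τ ((a * b : ↥B) : H) (u : V) = u
          rw [Subgroup.coe_mul, map_mul, Module.End.mul_apply, hb, ha]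
        one_mem' := by show τ ((1 : ↥B) : H) (u : V) = u; rw [Subgroup.coe_one, map_one]; rfl
        inv_mem' := fun {a} ha => by
          show τ ((a⁻¹ : ↥B) : H) (u : V) = u
          rw [Subgroup.coe_inv]
          conv_lhs => rw [← ha]
          exact tau_inv_apply τ a _ }
    have hxS : x ∈ St := by
      show τ x (u : V) = u
      rw [← hτ'val, hu]
    intro h hh
    exact (Subgroup.zpowers_le.mpr hxS) (hx ⟨h, hh⟩)
  obtain ⟨b, hb⟩ := IsPGroup.iff_card.mp (hH.to_subgroup B)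
  have hBK : (Nat.card ↥B : K) ≠ 0 := by
    rw [hb, Nat.cast_pow]
    exact pow_ne_zero _ (by exact_mod_cast h2K)
  have hcenter_inv : ∀ (h : H), ∀ g ∈ Subgroup.center P, φ h g ∈ Subgroup.center P :=
    fun h g hg => Cfsg.Agent.Lib.Helper2.Critical.map_mem_of_characteristic φ _ h g hg
  have hmain := G2Core.main φB ρ' τ' (fun h g u => Subtype.ext (hcompat h g u)) hirr
    (Subgroup.center P) hZ (fun h g hg => hcenter_inv h g hg)
    (fun h hh g hg => h3 h (fun e => hh (Subtype.ext e)) g hg) x hx hPK hBK hfix'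
  have hker : ∀ g : P, g ∈ MonoidHom.ker ρ' ↔ ρ' g = 1 := fun g => MonoidHom.mem_ker
  have hdim1 : finrank K ↥U ≠ 1 := by
    intro h
    have hcommAll : ∀ a b : P, ρ' a * ρ' b = ρ' b * ρ' a := by
      intro a b
      obtain ⟨v₀, hv₀, hspan⟩ := finrank_eq_one_iff'.mp h
      obtain ⟨ca, hca⟩ := hspan (ρ' a v₀)
      obtain ⟨cb, hcb⟩ := hspan (ρ' b v₀)
      ext w
      obtain ⟨cw, rfl⟩ := hspan w
      simp only [Module.End.mul_apply, map_smul, ← hca, ← hcb, smul_smul, mul_comm]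
    have hle : commutator P ≤ MonoidHom.ker ρ' := by
      rw [commutator_def, Subgroup.commutator_le]
      intro a _ b _
      rw [hker, commutatorElement_def, map_mul, map_mul, map_mul, hcommAll a b,
        mul_assoc (ρ' b), ← map_mul, mul_inv_cancel, map_one, mul_one, ← map_mul,
        mul_inv_cancel, map_one]
    obtain ⟨u, huU, hu0⟩ := Submodule.exists_mem_ne_zero_of_ne_bot hU0
    apply hu0
    apply hc
    intro c hcP
    have h2 := (hker c).mp (hle hcP)
    have h3' := congrArg (fun f : Module.End K ↥U => ((f ⟨u, huU⟩ : ↥U) : V)) h2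
    exact h3'
  obtain ⟨hdim, heig⟩ := hmain.resolve_left hdim1
  have hpos : 0 < finrank K ↥U := Module.finrank_pos
  refine ⟨hdim, by omega, fun ζ' hζ' hζ'1 => ?_⟩
  obtain ⟨u, hu0, hu⟩ := heig ζ' hζ' hζ'1
  refine ⟨(u : V), u.2, fun h => hu0 (Subtype.ext h), ?_⟩
  have := congrArg Subtype.val hu
  rw [hτ'val] at this
  exact this

set_option maxHeartbeats 1600000 in
/-- The contradiction, when the central subgroup `N` generated by the `[g² ^ h, y]` has no nonzero
fixed vector. -/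
theorem core [Nontrivial V] (hH : IsPGroup 2 H) (φP : H →* MulAut P) (φR : H →* MulAut R)
    (ρP : Representation K P V) (ρR : Representation K R V) (τ : Representation K H V)
    (hcompatP : ∀ (h : H) (g : P) (v : V), τ h (ρP g v) = ρP (φP h g) (τ h v))
    (hcompatR : ∀ (h : H) (g : R) (v : V), τ h (ρR g v) = ρR (φR h g) (τ h v))
    (hcomm : ∀ (p : P) (r : R) (v : V), ρP p (ρR r v) = ρR r (ρP p v))
    (h3 : ∀ h, h ≠ 1 → ∀ g, g⁻¹ * φP h g ∈ Subgroup.center P → g ∈ Subgroup.center P)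
    (hc : ∀ v : V, (∀ c ∈ commutator P, ρP c v = v) → v = 0)
    (hPK : (Nat.card P : K) ≠ 0) (h2K : (2 : K) ≠ 0)
    (hfix : ∀ v : V, (∀ h, τ h v = v) → v = 0)
    (g : R) (c : H) (hc4 : orderOf c = 4) (hgc : g * φR c g ∈ Subgroup.center R)
    (hN0 : ∀ v : V, (∀ (h : H) (y : R), ρR ⁅φR h (g * g), y⁆ v = v) → v = 0) : False := by
  classical
  obtain ⟨B, ⟨U₁, hU0, hUinv, hUs, hUB⟩, hMax⟩ :=
    G2Stable.exists_max_stable (p := 2) hH φP ρP τ hcompatP hfix
  obtain ⟨x, hx⟩ := IsCyclic.exists_generator (α := ↥B)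
  have hpowers : ∀ h ∈ B, ∃ n : ℕ, ((x : ↥B) : H) ^ n = h := by
    intro h hh
    obtain ⟨n, hn⟩ := (mem_powers_iff_mem_zpowers (x := x)).mpr (hx ⟨h, hh⟩)
    refine ⟨n, ?_⟩
    have := congrArg Subtype.val hn
    simpa using this
  set m := Nat.card ↥B with hm
  have hordx : orderOf ((x : ↥B) : H) = m := by
    rw [Subgroup.orderOf_coe]
    exact orderOf_eq_card_of_forall_mem_zpowers hx
  -- the good subspaces
  let Good : Submodule K V → Prop := fun U => U ≠ ⊥ ∧ (∀ g, U ≤ U.comap (ρP g)) ∧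
    (∀ W : Submodule K V, W ≤ U → (∀ g, W ≤ W.comap (ρP g)) → W = ⊥ ∨ W = U) ∧
    (∀ h ∈ B, U ≤ U.comap (τ h))
  have hprops : ∀ U, Good U → finrank K ↥U + 1 = m ∧ 2 ≤ finrank K ↥U ∧
      ∀ ζ' : K, ζ' ^ m = 1 → ζ' ≠ 1 → ∃ u ∈ U, u ≠ 0 ∧ τ x u = ζ' • u := fun U hU =>
    stable_props hH φP ρP τ hcompatP h3 hc hPK h2K B x hx U hU.1 hU.2.1 hU.2.2.1 hU.2.2.2
      (hMax U hU.1 hU.2.1 hU.2.2.1 hU.2.2.2)
  have hG1 : Good U₁ := ⟨hU0, hUinv, hUs, hUB⟩
  obtain ⟨hdim, hdim2, -⟩ := hprops U₁ hG1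
  obtain ⟨b, hb⟩ := IsPGroup.iff_card.mp (hH.to_subgroup B)
  have hm4 : 4 ≤ m := by
    have hb2 : 2 ≤ b := by
      by_contra hlt
      push Not at hlt
      have : m ≤ 2 := by
        rw [hm, hb]
        calc 2 ^ b ≤ 2 ^ 1 := Nat.pow_le_pow_right (by norm_num) (by omega)
          _ = 2 := by norm_num
      omega
    rw [hm, hb]
    calc 4 = 2 ^ 2 := by norm_num
      _ ≤ 2 ^ b := Nat.pow_le_pow_right (by norm_num) hb2
  have hcB : c ∈ B := by
    have h1 : c ∈ Subgroup.zpowers ((x : ↥B) : H) :=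
      CycP.mem_zpowers_of_orderOf_le hH c _ (by rw [hc4, hordx]; exact hm4)
    exact (Subgroup.zpowers_le.mpr x.2) h1
  have hmK : (m : K) ≠ 0 := by
    rw [hm, hb, Nat.cast_pow]
    exact pow_ne_zero _ (by exact_mod_cast h2K)
  have hne : NeZero ((m : ℕ) : K) := ⟨hmK⟩
  obtain ⟨ζ₀, hζ₀⟩ := HasEnoughRootsOfUnity.exists_primitiveRoot K m
  -- stability and fixed vectors under the generator
  have hstab : ∀ U' : Submodule K V, U' ≤ U'.comap (τ x) → ∀ h ∈ B, U' ≤ U'.comap (τ h) := by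
    intro U' hU' h hh
    obtain ⟨n, rfl⟩ := hpowers h hh
    rw [map_pow]
    exact pow_stable (τ x) U' hU' n
  have hfixed : ∀ u : V, τ x u = u → ∀ h ∈ B, τ h u = u := by
    intro u hu h hh
    obtain ⟨n, rfl⟩ := hpowers h hh
    rw [map_pow]
    exact pow_fixed (τ x) u hu n
  -- `F1`
  have F1 : ∀ U, Good U → ∀ b' ∈ B, ∀ (y : R), ∀ u ∈ U, ρR (φR b' y) u = ρR y u := by
    intro U hU b' hb' y u hu
    obtain ⟨i, hi⟩ := hpowers b' hb'
    have hi' : ((x : ↥B) : H) ^ (i % m) = b' := by rw [← hordx, pow_mod_orderOf, hi]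
    have key := G2Theta.main ρP (τ x) m ζ₀ hζ₀ hmK (fun j => ρR (φR (((x : ↥B) : H) ^ j) y))
      (fun j g' v => (hcomm g' _ v).symm)
      (by
        show ρR (φR (((x : ↥B) : H) ^ m) y) = ρR (φR (((x : ↥B) : H) ^ 0) y)
        rw [← hordx, pow_orderOf_eq_one, pow_zero])
      (fun j v => by
        show τ x (ρR (φR (((x : ↥B) : H) ^ j) y) v) = ρR (φR (((x : ↥B) : H) ^ (j + 1)) y) (τ x v)
        rw [hcompatR, pow_succ', map_mul]; rfl)
      U hU.2.1 hU.2.2.1 (hU.2.2.2 x x.2) (hprops U hU).2.2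
      (fun U' hU'0 hU'inv hU's hU'x u' hu' hfx =>
        hMax U' hU'0 hU'inv hU's (hstab U' hU'x) u' hu' (hfixed u' hfx))
      (i % m) (Nat.mod_lt _ (by omega)) u hu
    have key' : ρR (φR (((x : ↥B) : H) ^ (i % m)) y) u = ρR (φR (((x : ↥B) : H) ^ 0) y) u := key
    rw [hi', pow_zero, map_one] at key'
    exact key'
  -- `F2`
  have F2 : ∀ U, Good U → ∀ r : R, Good (U.map (ρR r)) := by
    intro U hU r
    have hrange : U.map (ρR r) = LinearMap.range ((ρR r) ∘ₗ U.subtype) := by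
      rw [LinearMap.range_comp, Submodule.range_subtype]
    obtain ⟨h1, h2⟩ := simple_range (fun g' => ρP.subrepresentation U hU.2.1 g')
      (fun g' => ρP g') (hirr_of_simple ρP U hU.2.1 hU.2.2.1) id Function.surjective_id
      ((ρR r) ∘ₗ U.subtype) (fun g' u => by
        show ρR r (ρP g' (u : V)) = ρP g' (ρR r (u : V))
        exact (hcomm g' r _).symm)
    rw [← hrange] at h1 h2
    refine ⟨?_, h1, h2, ?_⟩
    · obtain ⟨u, huU, hu0⟩ := Submodule.exists_mem_ne_zero_of_ne_bot hU.1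
      intro hbot
      have hmem : ρR r u ∈ U.map (ρR r) := ⟨u, huU, rfl⟩
      rw [hbot, Submodule.mem_bot] at hmem
      apply hu0
      have := congrArg (ρR r⁻¹) hmem
      rw [map_zero, tau_inv_apply] at this
      exact this
    · rintro h hh _ ⟨u, huU, rfl⟩
      rw [Submodule.mem_comap, hcompatR, F1 U hU h hh r _ (hU.2.2.2 h hh huU)]
      exact ⟨τ h u, hU.2.2.2 h hh huU, rfl⟩
  -- `F3`
  have hzc : ∀ h : H, φR h g * φR c (φR h g) ∈ Subgroup.center R := by
    intro h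
    have e : φR h g * φR c (φR h g) = φR h (g * φR c g) := by
      rw [map_mul]
      congr 1
      rw [← MulAut.mul_apply, ← MulAut.mul_apply, ← map_mul, ← map_mul]
      congr 2
      obtain ⟨z, hz⟩ := IsCyclic.exists_generator (α := H)
      obtain ⟨i, rfl⟩ := hz c
      obtain ⟨j, rfl⟩ := hz h
      rw [← zpow_add, ← zpow_add, add_comm]
    rw [e]
    exact Cfsg.Agent.Lib.Helper2.Critical.map_mem_of_characteristic φR _ h _ hgc
  have F3 : ∀ U, Good U → ∀ (h : H), ∀ u ∈ U,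
      ρR (φR h g * φR h g) u = ρR (φR h g * φR c (φR h g)) u := by
    intro U hU h u hu
    rw [map_mul, map_mul, Module.End.mul_apply, Module.End.mul_apply,
      F1 U hU c hcB (φR h g) u hu]
  -- the final computation
  obtain ⟨u, huU, hu0⟩ := Submodule.exists_mem_ne_zero_of_ne_bot hU0
  apply hu0
  apply hN0
  intro h y
  set a := φR h g * φR h g with ha
  set z := φR h g * φR c (φR h g) with hz
  have hzcen : z ∈ Subgroup.center R := hzc h
  have hzcomm : ∀ w : R, z * w = w * z := fun w => (Subgroup.mem_center_iff.mp hzcen w).symm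
  have hG2 : Good (U₁.map (ρR y⁻¹)) := F2 U₁ hG1 y⁻¹
  have hG3 : Good ((U₁.map (ρR y⁻¹)).map (ρR a⁻¹)) := F2 _ hG2 a⁻¹
  set u₂ := ρR y⁻¹ u with hu₂
  set u₃ := ρR a⁻¹ u₂ with hu₃
  have hu₂mem : u₂ ∈ U₁.map (ρR y⁻¹) := ⟨u, huU, rfl⟩
  have hu₃mem : u₃ ∈ (U₁.map (ρR y⁻¹)).map (ρR a⁻¹) := ⟨u₂, hu₂mem, rfl⟩
  have e1 : ρR a u₃ = u₂ := by
    rw [hu₃, ← Module.End.mul_apply, ← map_mul, mul_inv_cancel, map_one]; rfl
  have e2 : ρR z u₃ = u₂ := by rw [← F3 _ hG3 h u₃ hu₃mem, e1]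
  have e3 : u₃ = ρR z⁻¹ u₂ := by
    rw [← e2, ← Module.End.mul_apply, ← map_mul, inv_mul_cancel, map_one]; rfl
  have e4 : ρR y u₃ = ρR z⁻¹ u := by
    rw [e3, hu₂, ← Module.End.mul_apply, ← Module.End.mul_apply, ← map_mul, ← map_mul]
    congr 2
    have := hzcomm y⁻¹
    calc y * z⁻¹ * y⁻¹ = y * (z⁻¹ * (y⁻¹ * z) * z⁻¹) := by group
      _ = y * (z⁻¹ * (z * y⁻¹) * z⁻¹) := by rw [this]
      _ = z⁻¹ := by group
  have e5 : ρR a (ρR z⁻¹ u) = u := by
    have h5 : ρR a (ρR z⁻¹ u) = ρR z⁻¹ (ρR a u) := by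
      rw [← Module.End.mul_apply, ← Module.End.mul_apply, ← map_mul, ← map_mul]
      congr 2
      have := hzcomm a
      calc a * z⁻¹ = z⁻¹ * (z * a) * z⁻¹ := by group
        _ = z⁻¹ * (a * z) * z⁻¹ := by rw [this]
        _ = z⁻¹ * a := by group
    rw [h5, F3 U₁ hG1 h u huU, ← Module.End.mul_apply, ← map_mul, inv_mul_cancel, map_one]; rfl
  have e6 : ⁅φR h (g * g), y⁆ = a * (y * (a⁻¹ * y⁻¹)) := by
    rw [map_mul, ← ha, commutatorElement_def]; group
  have e7 : ρR (a * (y * (a⁻¹ * y⁻¹))) u = ρR a (ρR y (ρR a⁻¹ (ρR y⁻¹ u))) := by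
    simp only [map_mul, Module.End.mul_apply]
  rw [e6, e7, ← hu₂, ← hu₃, e4, e5]

set_option maxHeartbeats 1600000 in
/-- **The final contradiction**, over an algebraically closed field. -/
theorem main (hH : IsPGroup 2 H) (φP : H →* MulAut P) (φR : H →* MulAut R)
    (ρP : Representation K P V) (ρR : Representation K R V) (τ : Representation K H V)
    (hcompatP : ∀ (h : H) (g : P) (v : V), τ h (ρP g v) = ρP (φP h g) (τ h v))
    (hcompatR : ∀ (h : H) (g : R) (v : V), τ h (ρR g v) = ρR (φR h g) (τ h v))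
    (hcomm : ∀ (p : P) (r : R) (v : V), ρP p (ρR r v) = ρR r (ρP p v))
    (h1R : ∀ a b : R, ⁅a, b⁆ ∈ Subgroup.center R)
    (h3 : ∀ h, h ≠ 1 → ∀ g, g⁻¹ * φP h g ∈ Subgroup.center P → g ∈ Subgroup.center P)
    (hS : ∀ a b : R, ∃ c ∈ commutator P, ρR ⁅a, b⁆ = ρP c)
    (hPK : (Nat.card P : K) ≠ 0) (hRK : (Nat.card R : K) ≠ 0) (h2K : (2 : K) ≠ 0)
    (hfix : ∀ v : V, (∀ h, τ h v = v) → v = 0)
    (g : R) (c : H) (hc4 : orderOf c = 4) (hgc : g * φR c g ∈ Subgroup.center R)
    (hg : ∃ (y : R) (v : V), ρR ⁅g * g, y⁆ v ≠ v) : False := by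
  classical
  let N : Subgroup R := Subgroup.closure {w | ∃ (h : H) (y : R), w = ⁅φR h (g * g), y⁆}
  have hNcen : N ≤ Subgroup.center R := by
    rw [Subgroup.closure_le]
    rintro _ ⟨h, y, rfl⟩
    exact h1R _ _
  have hNn : N.Normal := ⟨fun n hn r => by
    have := Subgroup.mem_center_iff.mp (hNcen hn) r
    have e : r * n * r⁻¹ = n := by rw [this]; group
    rw [e]; exact hn⟩
  have := Fintype.ofFinite ↥N
  have hNK : (Nat.card ↥N : K) ≠ 0 := by
    intro h0
    obtain ⟨d, hd⟩ := Subgroup.card_subgroup_dvd_card N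
    apply hRK
    rw [hd, Nat.cast_mul, h0, zero_mul]
  have hNinv : ∀ h : H, ∀ x ∈ N, φR h x ∈ N := by
    intro h x hx
    induction hx using Subgroup.closure_induction with
    | mem w hw =>
      obtain ⟨h', y, rfl⟩ := hw
      rw [map_commutatorElement]
      apply Subgroup.subset_closure
      exact ⟨h * h', φR h y, by rw [map_mul φR, MulAut.mul_apply]⟩
    | one => rw [map_one]; exact N.one_mem
    | mul a b _ _ ha hb => rw [map_mul]; exact N.mul_mem ha hb
    | inv a _ ha => rw [map_inv]; exact N.inv_mem ha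
  let M : Submodule K V := LinearMap.ker (avg ρR N)
  have hMR : ∀ r, M ≤ M.comap (ρR r) := by
    intro r v hv
    rw [Submodule.mem_comap, LinearMap.mem_ker, ← CycShultMain.avg_comm_of_normal,
      LinearMap.mem_ker.mp hv, map_zero]
  have hMτ : ∀ h, M ≤ M.comap (τ h) := by
    intro h v hv
    rw [Submodule.mem_comap, LinearMap.mem_ker,
      ← CycShultMain.avg_comm_of_invariant φR ρR τ hcompatR N hNinv h v,
      LinearMap.mem_ker.mp hv, map_zero]
  have hMP : ∀ p, M ≤ M.comap (ρP p) := by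
    intro p v hv
    rw [Submodule.mem_comap, LinearMap.mem_ker, avg_apply]
    have h1 : ∀ n : ↥N, ρR (n : R) (ρP p v) = ρP p (ρR (n : R) v) := fun n => (hcomm p n v).symm
    simp_rw [h1]
    rw [← map_sum, ← map_smul, ← avg_apply, LinearMap.mem_ker.mp hv, map_zero]
  have hgenfix : ∀ v : V, (∀ (h : H) (y : R), ρR ⁅φR h (g * g), y⁆ v = v) →
      v ∈ fixedSub ρR N := by
    intro v hv n hn
    induction hn using Subgroup.closure_induction with
    | mem w hw =>
      obtain ⟨h, y, rfl⟩ := hw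
      exact hv h y
    | one => rw [map_one]; rfl
    | mul a b _ _ ha hb => rw [map_mul, Module.End.mul_apply, hb, ha]
    | inv a _ ha =>
      conv_lhs => rw [← ha]
      exact tau_inv_apply ρR a v
  have hMfix : ∀ v ∈ M, v ∈ fixedSub ρR N → v = 0 := by
    intro v hvM hvF
    exact (Submodule.disjoint_def.mp (disjoint_fixedSub_ker ρR N hNK)) v hvF hvM
  have hM0 : M ≠ ⊥ := by
    intro hbot
    obtain ⟨y, v, hyv⟩ := hg
    apply hyv
    have htop := fixedSub_sup_ker ρR N hNK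
    rw [show LinearMap.ker (avg ρR N) = ⊥ from hbot, sup_bot_eq] at htop
    have hv : v ∈ fixedSub ρR N := by rw [htop]; exact Submodule.mem_top
    apply hv
    apply Subgroup.subset_closure
    exact ⟨1, y, by rw [map_one]; rfl⟩
  have hnt : Nontrivial ↥M := Submodule.nontrivial_iff_ne_bot.mpr hM0
  exact core hH φP φR (ρP.subrepresentation M hMP) (ρR.subrepresentation M hMR)
    (τ.subrepresentation M hMτ)
    (fun h g v => Subtype.ext (hcompatP h g v)) (fun h g v => Subtype.ext (hcompatR h g v))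
    (fun p r v => Subtype.ext (hcomm p r v)) h3
    (fun v hv => by
      apply Subtype.ext
      apply hMfix v v.2
      apply hgenfix
      intro h y
      obtain ⟨c', hc', he⟩ := hS (φR h (g * g)) y
      rw [he]
      exact congrArg Subtype.val (hv c' hc'))
    hPK h2K
    (fun v hv => Subtype.ext (hfix v (fun h => congrArg Subtype.val (hv h))))
    g c hc4 hgc
    (fun v hv => by
      apply Subtype.ext
      apply hMfix v v.2
      apply hgenfix
      intro h y
      exact congrArg Subtype.val (hv h y))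

end AC

section Field

variable {k : Type*} [Field k] {P : Type*} [Group P] [Finite P] [Group.IsNilpotent P]
  {R : Type*} [Group R] [Finite R] {H : Type*} [Group H] [Finite H] [IsCyclic H] {V : Type*}
  [AddCommGroup V] [Module k V] [FiniteDimensional k V]

omit [FiniteDimensional k V] in
/-- Base change of a twisted commutation relation. -/
theorem bc_comm (K : Type*) [Field K] [Algebra k K] {G₁ : Type*} {G₂ : Type*} [Group G₁] [Group G₂]
    (ρ₁ : Representation k G₁ V) (ρ₂ : Representation k G₂ V) (a₁ a₂ : G₁) (b₁ b₂ : G₂)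
    (h : ∀ v, ρ₁ a₁ (ρ₂ b₁ v) = ρ₂ b₂ (ρ₁ a₂ v)) (w : K ⊗[k] V) :
    bcRep K ρ₁ a₁ (bcRep K ρ₂ b₁ w) = bcRep K ρ₂ b₂ (bcRep K ρ₁ a₂ w) := by
  have e : ρ₁ a₁ * ρ₂ b₁ = ρ₂ b₂ * ρ₁ a₂ := by
    ext v; exact h v
  have e' := congrArg (fun F : Module.End k V => F.baseChange K) e
  simp only [LinearMap.baseChange_mul] at e'
  exact LinearMap.congr_fun e' w

set_option maxHeartbeats 800000 in
/-- **The final contradiction**, over an arbitrary field. -/
theorem field (hH : IsPGroup 2 H) (φP : H →* MulAut P) (φR : H →* MulAut R)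
    (ρP : Representation k P V) (ρR : Representation k R V) (τ : Representation k H V)
    (hcompatP : ∀ (h : H) (g : P) (v : V), τ h (ρP g v) = ρP (φP h g) (τ h v))
    (hcompatR : ∀ (h : H) (g : R) (v : V), τ h (ρR g v) = ρR (φR h g) (τ h v))
    (hcomm : ∀ (p : P) (r : R) (v : V), ρP p (ρR r v) = ρR r (ρP p v))
    (h1R : ∀ a b : R, ⁅a, b⁆ ∈ Subgroup.center R)
    (h3 : ∀ h, h ≠ 1 → ∀ g, g⁻¹ * φP h g ∈ Subgroup.center P → g ∈ Subgroup.center P)
    (hS : ∀ a b : R, ∃ c ∈ commutator P, ρR ⁅a, b⁆ = ρP c)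
    (hPk : (Nat.card P : k) ≠ 0) (hRk : (Nat.card R : k) ≠ 0) (h2k : (2 : k) ≠ 0)
    (hfix : ∀ v : V, (∀ h, τ h v = v) → v = 0)
    (g : R) (c : H) (hc4 : orderOf c = 4) (hgc : g * φR c g ∈ Subgroup.center R)
    (hg : ∃ (y : R) (v : V), ρR ⁅g * g, y⁆ v ≠ v) : False := by
  classical
  have := Fintype.ofFinite H
  let K := AlgebraicClosure k
  have hinj : Function.Injective (algebraMap k K) := (algebraMap k K).injective
  have hcast : ∀ n : ℕ, (n : k) ≠ 0 → (n : K) ≠ 0 := by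
    intro n hn h0
    apply hn
    apply hinj
    rw [map_natCast, map_zero]; exact h0
  have hfin : FiniteDimensional K (K ⊗[k] V) := inferInstance
  have h2k' : ((2 : ℕ) : k) ≠ 0 := by exact_mod_cast h2k
  have hHk : (Fintype.card H : k) ≠ 0 := by
    obtain ⟨a, ha⟩ := IsPGroup.iff_card.mp hH
    rw [← Nat.card_eq_fintype_card, ha, Nat.cast_pow]
    exact pow_ne_zero _ h2k'
  have h2K : (2 : K) ≠ 0 := by exact_mod_cast hcast 2 h2k'
  have hcP : ∀ (h : H) (g' : P) (w : K ⊗[k] V),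
      bcRep K τ h (bcRep K ρP g' w) = bcRep K ρP (φP h g') (bcRep K τ h w) :=
    fun h g' w => bc_comm K τ ρP h h g' (φP h g') (fun v => hcompatP h g' v) w
  have hcR : ∀ (h : H) (g' : R) (w : K ⊗[k] V),
      bcRep K τ h (bcRep K ρR g' w) = bcRep K ρR (φR h g') (bcRep K τ h w) :=
    fun h g' w => bc_comm K τ ρR h h g' (φR h g') (fun v => hcompatR h g' v) w
  have hcc : ∀ (p : P) (r : R) (w : K ⊗[k] V),
      bcRep K ρP p (bcRep K ρR r w) = bcRep K ρR r (bcRep K ρP p w) :=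
    fun p r w => bc_comm K ρP ρR p p r r (fun v => hcomm p r v) w
  have hS' : ∀ a b : R, ∃ c' ∈ commutator P, bcRep K ρR ⁅a, b⁆ = bcRep K ρP c' := by
    intro a b
    obtain ⟨c', hc', he⟩ := hS a b
    exact ⟨c', hc', by rw [bcRep_apply, bcRep_apply, he]⟩
  have hfix' : ∀ w : K ⊗[k] V, (∀ h, bcRep K τ h w = w) → w = 0 :=
    fun w hw => CycShultField.baseChange_no_common_fixed K τ (hcast _ hHk) hfix w hw
  have hg' : ∃ (y : R) (w : K ⊗[k] V), bcRep K ρR ⁅g * g, y⁆ w ≠ w := by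
    obtain ⟨y, v, hyv⟩ := hg
    refine ⟨y, (1 : K) ⊗ₜ[k] v, fun h => hyv ?_⟩
    rw [bcRep_apply, LinearMap.baseChange_tmul] at h
    exact Module.Flat.tensorProduct_mk_injective k V K h
  exact main (K := K) hH φP φR (bcRep K ρP) (bcRep K ρR) (bcRep K τ) hcP hcR hcc h1R h3 hS'
    (hcast _ hPk) (hcast _ hRk) h2K hfix' g c hc4 hgc hg'

end Field

end Cfsg.Agent.Lib.Helper2.G2D
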