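import Mathlib
import Cfsg.Agent.Lib.Helper2.CycCrit
import Cfsg.Agent.Lib.Helper2.G2C

/-!
# An involutory automorphism of a group of odd order and class at most two

`θ` is an automorphism with `θ² = 1` of the finite group `Q` of odd order, all commutators of `Q`
are central, and `θ` fixes the centre pointwise.  Then `Q` is the product of the commuting
subgroups `fixedSub θ = C_Q(θ)` and `commSub θ = [Q, θ]`, and `θ` acts without fixed points on
`[Q, θ]` modulo the centre.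
-/

set_option autoImplicit false

namespace Cfsg.Agent.Lib.Helper2.G2Invol

open scoped commutatorElement

variable {Q : Type*} [Group Q]

/-- The fixed points of an automorphism. -/
def fixedSub (θ : MulAut Q) : Subgroup Q where
  carrier := {g | θ g = g}
  mul_mem' := fun {a b} ha hb => by
    show θ (a * b) = a * b
    rw [map_mul, ha, hb]
  one_mem' := map_one θ
  inv_mem' := fun {a} ha => by
    show θ a⁻¹ = a⁻¹
    rw [map_inv, ha]

theorem mem_fixedSub {θ : MulAut Q} {g : Q} : g ∈ fixedSub θ ↔ θ g = g := Iff.rfl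

/-- The subgroup `[Q, θ]`. -/
def commSub (θ : MulAut Q) : Subgroup Q := Subgroup.closure {w | ∃ h : Q, w = h⁻¹ * θ h}

theorem gen_mem_commSub (θ : MulAut Q) (h : Q) : h⁻¹ * θ h ∈ commSub θ :=
  Subgroup.subset_closure ⟨h, rfl⟩

/-- Invariance under automorphisms commuting with `θ`. -/
theorem map_mem_fixedSub (θ ψ : MulAut Q) (hc : ∀ g, ψ (θ g) = θ (ψ g)) (g : Q)
    (hg : g ∈ fixedSub θ) : ψ g ∈ fixedSub θ := by
  rw [mem_fixedSub] at hg ⊢
  rw [← hc, hg]

theorem map_mem_commSub (θ ψ : MulAut Q) (hc : ∀ g, ψ (θ g) = θ (ψ g)) (g : Q)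
    (hg : g ∈ commSub θ) : ψ g ∈ commSub θ := by
  induction hg using Subgroup.closure_induction with
  | mem w hw =>
    obtain ⟨h, rfl⟩ := hw
    rw [map_mul, map_inv, hc]
    exact gen_mem_commSub θ (ψ h)
  | one => rw [map_one]; exact Subgroup.one_mem _
  | mul a b _ _ ha hb => rw [map_mul]; exact Subgroup.mul_mem _ ha hb
  | inv a _ ha => rw [map_inv]; exact Subgroup.inv_mem _ ha

section Main

variable (θ : MulAut Q) (hθ2 : ∀ g, θ (θ g) = g)
  (hclass : ∀ a b : Q, ⁅a, b⁆ ∈ Subgroup.center Q)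
  (hθZ : ∀ z ∈ Subgroup.center Q, θ z = z)

include hclass hθZ in
/-- A fixed point commutes with the generators of `[Q, θ]`. -/
theorem fixed_comm_gen (g : Q) (hg : θ g = g) (h : Q) : g * (h⁻¹ * θ h) = (h⁻¹ * θ h) * g := by
  -- `g h g⁻¹ = z h` with `z` central and fixed by `θ`
  set z := ⁅g, h⁆ with hz
  have hzc : z ∈ Subgroup.center Q := hclass g h
  have hzθ : θ z = z := hθZ z hzc
  have h1 : g * h = z * (h * g) := by rw [hz, commutatorElement_def]; group
  have h2 : g * θ h = z * (θ h * g) := by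
    have := congrArg θ h1
    rw [map_mul, map_mul, map_mul, hg, hzθ] at this
    exact this
  have hzcomm : ∀ y : Q, z * y = y * z := fun y => (Subgroup.mem_center_iff.mp hzc y).symm
  -- hence `g h⁻¹ = z⁻¹ h⁻¹ g`
  have hzi : ∀ y : Q, z⁻¹ * y = y * z⁻¹ := by
    intro y
    have := hzcomm y
    calc z⁻¹ * y = z⁻¹ * (y * z) * z⁻¹ := by group
      _ = z⁻¹ * (z * y) * z⁻¹ := by rw [this]
      _ = y * z⁻¹ := by group
  have h3 : g * h⁻¹ = z⁻¹ * (h⁻¹ * g) := by
    have h1' : h * g = z⁻¹ * (g * h) := by rw [h1]; group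
    calc g * h⁻¹ = h⁻¹ * (h * g) * h⁻¹ := by group
      _ = h⁻¹ * (z⁻¹ * (g * h)) * h⁻¹ := by rw [h1']
      _ = h⁻¹ * z⁻¹ * g := by group
      _ = z⁻¹ * h⁻¹ * g := by rw [hzi h⁻¹]
      _ = z⁻¹ * (h⁻¹ * g) := by group
  calc g * (h⁻¹ * θ h) = (g * h⁻¹) * θ h := by group
    _ = z⁻¹ * (h⁻¹ * g) * θ h := by rw [h3]
    _ = z⁻¹ * h⁻¹ * (g * θ h) := by group
    _ = z⁻¹ * h⁻¹ * (z * (θ h * g)) := by rw [h2]
    _ = z⁻¹ * (h⁻¹ * z) * (θ h * g) := by group
    _ = z⁻¹ * (z * h⁻¹) * (θ h * g) := by rw [hzcomm h⁻¹]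
    _ = (h⁻¹ * θ h) * g := by group

include hclass hθZ in
/-- `C_Q(θ)` and `[Q, θ]` commute. -/
theorem fixed_comm (g : Q) (hg : g ∈ fixedSub θ) (p : Q) (hp : p ∈ commSub θ) :
    g * p = p * g := by
  induction hp using Subgroup.closure_induction with
  | mem w hw =>
    obtain ⟨h, rfl⟩ := hw
    exact fixed_comm_gen θ hclass hθZ g hg h
  | one => simp
  | mul a b _ _ ha hb => rw [← mul_assoc, ha, mul_assoc, hb, mul_assoc]
  | inv a _ ha =>
    calc g * a⁻¹ = a⁻¹ * (a * g) * a⁻¹ := by group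
      _ = a⁻¹ * (g * a) * a⁻¹ := by rw [ha]
      _ = a⁻¹ * g := by group

include hθ2 in
/-- `Q = C_Q(θ) [Q, θ]` for `Q` of odd order. -/
theorem exists_mul [Finite Q] (hodd : ¬ 2 ∣ Nat.card Q) (h : Q) :
    ∃ y ∈ fixedSub θ, ∃ p ∈ commSub θ, h = y * p := by
  set y₀ := h⁻¹ * θ h with hy₀
  have hy₀inv : θ y₀ = y₀⁻¹ := by
    rw [hy₀, map_mul, map_inv, hθ2]; group
  -- a square root of `y₀` in `⟨y₀⟩`
  have hoddo : ¬ 2 ∣ orderOf y₀ := fun hd => hodd (hd.trans (orderOf_dvd_natCard y₀))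
  obtain ⟨m, hm⟩ : ∃ m, orderOf y₀ + 1 = 2 * m := by
    have : orderOf y₀ % 2 = 1 := by omega
    exact ⟨(orderOf y₀ + 1) / 2, by omega⟩
  set r := y₀ ^ m with hr
  have hr2 : r * r = y₀ := by
    rw [hr, ← pow_add, ← two_mul, ← hm, pow_succ, pow_orderOf_eq_one, one_mul]
  have hrinv : θ r = r⁻¹ := by rw [hr, map_pow, hy₀inv, inv_pow]
  have hrmem : r ∈ commSub θ := Subgroup.pow_mem _ (gen_mem_commSub θ h) m
  refine ⟨h * r, ?_, r⁻¹, Subgroup.inv_mem _ hrmem, by group⟩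
  rw [mem_fixedSub, map_mul, hrinv]
  have : θ h = h * y₀ := by rw [hy₀]; group
  rw [this, ← hr2]; group

include hclass hθZ in
/-- `θ` acts without fixed points on `[Q, θ]` modulo the centre. -/
theorem mem_center_of_comm_mem_center (g : Q)
    (hgc : g⁻¹ * θ g ∈ Subgroup.center Q) :
    ∀ p ∈ commSub θ, g * p = p * g := by
  -- `g` commutes with the generators `h⁻¹ θ(h)`
  set z := g⁻¹ * θ g with hz
  have hθg : θ g = g * z := by rw [hz]; group
  have hzcomm : ∀ y : Q, z * y = y * z := fun y => (Subgroup.mem_center_iff.mp hgc y).symm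
  have key : ∀ h : Q, g * (h⁻¹ * θ h) = (h⁻¹ * θ h) * g := by
    intro h
    set w := ⁅g, h⁆ with hw
    have hwc : w ∈ Subgroup.center Q := hclass g h
    have hwθ : θ w = w := hθZ w hwc
    have hwcomm : ∀ y : Q, w * y = y * w := fun y => (Subgroup.mem_center_iff.mp hwc y).symm
    have h1 : g * h = w * (h * g) := by rw [hw, commutatorElement_def]; group
    have h2 : g * θ h = w * (θ h * g) := by
      have := congrArg θ h1
      rw [map_mul, map_mul, map_mul, hθg, hwθ] at this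
      -- `g z θ(h) = w θ(h) g z`
      have e1 : g * z * θ h = (g * θ h) * z := by
        rw [mul_assoc, hzcomm, ← mul_assoc]
      have e2 : w * (θ h * (g * z)) = (w * (θ h * g)) * z := by group
      rw [e1, e2] at this
      exact mul_right_cancel this
    have hwi : ∀ y : Q, w⁻¹ * y = y * w⁻¹ := by
      intro y
      have := hwcomm y
      calc w⁻¹ * y = w⁻¹ * (y * w) * w⁻¹ := by group
        _ = w⁻¹ * (w * y) * w⁻¹ := by rw [this]
        _ = y * w⁻¹ := by group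
    have h3 : g * h⁻¹ = w⁻¹ * (h⁻¹ * g) := by
      have h1' : h * g = w⁻¹ * (g * h) := by rw [h1]; group
      calc g * h⁻¹ = h⁻¹ * (h * g) * h⁻¹ := by group
        _ = h⁻¹ * (w⁻¹ * (g * h)) * h⁻¹ := by rw [h1']
        _ = h⁻¹ * w⁻¹ * g := by group
        _ = w⁻¹ * h⁻¹ * g := by rw [hwi h⁻¹]
        _ = w⁻¹ * (h⁻¹ * g) := by group
    calc g * (h⁻¹ * θ h) = (g * h⁻¹) * θ h := by group
      _ = w⁻¹ * (h⁻¹ * g) * θ h := by rw [h3]
      _ = w⁻¹ * h⁻¹ * (g * θ h) := by group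
      _ = w⁻¹ * h⁻¹ * (w * (θ h * g)) := by rw [h2]
      _ = w⁻¹ * (h⁻¹ * w) * (θ h * g) := by group
      _ = w⁻¹ * (w * h⁻¹) * (θ h * g) := by rw [hwcomm h⁻¹]
      _ = (h⁻¹ * θ h) * g := by group
  intro p hp
  induction hp using Subgroup.closure_induction with
  | mem w hw =>
    obtain ⟨h, rfl⟩ := hw
    exact key h
  | one => simp
  | mul a b _ _ ha hb => rw [← mul_assoc, ha, mul_assoc, hb, mul_assoc]
  | inv a _ ha =>
    calc g * a⁻¹ = a⁻¹ * (a * g) * a⁻¹ := by group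
      _ = a⁻¹ * (g * a) * a⁻¹ := by rw [ha]
      _ = a⁻¹ * g := by group

end Main

end Cfsg.Agent.Lib.Helper2.G2Invol
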