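import Mathlib
import Cfsg.Agent.Lib.Helper2.G2C
import Cfsg.Agent.Lib.Helper2.G2D
import Cfsg.Agent.Lib.Helper2.G2Invol
import Cfsg.Agent.Lib.Helper2.ShultGroup
import Cfsg.Agent.Lib.Helper2.FrobCount

/-!
# The special group case for a cyclic `2`-group of operators

Type-level form of the minimal configuration: a special `q`-group `Qt` of exponent `q` acted on
by an `s`-group `S₀` and a cyclic `2`-group `H` normalizing `S₀`, with `S₀ = [S₀, t]` for the
involution `t` of `H`, `Qt = [Qt, S₀]`, and `S₀` centralizing `Z(Qt)`; if `Qt ⋊ H` acts faithfully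
(for `Qt`) on `V` with `C_V(H) = 0` and `C_Qt(H) = 1`, we get a contradiction (`spec_false`).
-/

set_option autoImplicit false

namespace Cfsg.Agent.Lib.Helper2.G2Spec

open scoped commutatorElement
open Cfsg.Agent.Lib.Helper2.FrobCount Cfsg.Agent.Lib.Helper2.FrobFree
  Cfsg.Agent.Lib.Helper2.ShultGroup

section GroupForm

variable {P H W : Type*} [Group P] [Finite P] [Group H] [Finite H] [IsCyclic H] [CommGroup W]
  [Finite W] {q r : ℕ} [hq : Fact q.Prime] [hr : Fact r.Prime]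

/-- The group form of `G2C.main`, for an elementary abelian `r`-group `W`. -/
theorem main_group (hW : ∀ w : W, w ^ r = 1) (hP : IsPGroup q P) (hH : IsPGroup 2 H)
    (h2q : 2 ≠ q) (hrq : r ≠ q) (hr2 : r ≠ 2)
    (φ : H →* MulAut P) (αP : P →* MulAut W) (αH : H →* MulAut W)
    (hcompat : ∀ (h : H) (g : P) (v : W), αH h (αP g v) = αP (φ h g) (αH h v))
    (hfix : ∀ v : W, (∀ h : H, αH h v = v) → v = 1)
    (t : H) (ht : t ^ 2 = 1) (hnt : ∃ (g : P) (w : W), αP (g⁻¹ * φ t g) w ≠ w) :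
    ∃ c : H, c ^ 2 = t ∧ ∃ w : W, w ≠ 1 ∧ αH c w = w⁻¹ := by
  have hA : ∀ x : Additive W, r • x = 0 := fun x => by
    show Additive.ofMul ((Additive.toMul x) ^ r) = Additive.ofMul 1
    rw [hW]
  have inst : Module (ZMod r) (Additive W) := AddCommGroup.zmodModule hA
  have : Finite (Additive W) := inferInstanceAs (Finite W)
  have hfin : Module.Finite (ZMod r) (Additive W) := Module.Finite.of_finite
  have h2k : (2 : ZMod r) ≠ 0 := by
    have := natCast_ne_zero_of_ne (p := r) Nat.prime_two hr2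
    exact_mod_cast this
  obtain ⟨g, w, hgw⟩ := hnt
  obtain ⟨-, c, hc, w', hw'0, hw'⟩ := G2C.main (k := ZMod r) (V := Additive W) h2q hH hP φ
    (zrep r αP) (zrep r αH)
    (fun h g v => by
      rw [zrep_apply, zrep_apply, zrep_apply, zrep_apply]
      exact congrArg Additive.ofMul (hcompat h g (Additive.toMul v)))
    (natCast_ne_zero_of_ne hq.out hrq) h2k
    (fun v hv => by
      have := hfix (Additive.toMul v) fun h => congrArg Additive.toMul (hv h)
      exact congrArg Additive.ofMul this)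
    t ht ⟨g, fun h1 => hgw (by
      have := LinearMap.congr_fun h1 (Additive.ofMul w)
      rw [zrep_apply] at this
      exact congrArg Additive.toMul this)⟩
  refine ⟨c, hc, Additive.toMul w', fun h => hw'0 (congrArg Additive.ofMul h), ?_⟩
  rw [zrep_apply] at hw'
  exact congrArg Additive.toMul hw'

end GroupForm

section Abelian

variable {Qt H : Type*} [Group Qt] [Finite Qt] [Group H] [Finite H] [IsCyclic H]
  {k V : Type*} [Field k] [AddCommGroup V] [Module k V] [FiniteDimensional k V]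
  {q : ℕ} [hq : Fact q.Prime]

/-- The involution of `H` centralizes every abelian `q`-group on which `H` acts, if the semidirect
product acts faithfully (for the `q`-group) on `V` with `C_V(H) = 0`. -/
theorem abelian_fixed (hQ : IsPGroup q Qt) (hH : IsPGroup 2 H) (h2q : 2 ≠ q)
    (hab : ∀ a b : Qt, a * b = b * a) (αH : H →* MulAut Qt) (ρ : Representation k Qt V)
    (hρ : Function.Injective ρ) (τ : Representation k H V)
    (hcompat : ∀ (h : H) (y : Qt) (v : V), τ h (ρ y v) = ρ (αH h y) (τ h v))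
    (hqk : (q : k) ≠ 0) (h2k : (2 : k) ≠ 0)
    (hfixV : ∀ v : V, (∀ h, τ h v = v) → v = 0) (t : H) (ht2 : t ^ 2 = 1) :
    ∀ y : Qt, αH t y = y := by
  intro y
  by_contra hne
  have hnt : ∃ g : Qt, ρ (g⁻¹ * αH t g) ≠ 1 := by
    refine ⟨y, fun h => hne ?_⟩
    have h1 : y⁻¹ * αH t y = 1 := hρ (by rw [h, map_one])
    exact (inv_mul_eq_one.mp h1).symm
  obtain ⟨⟨a, b, hab'⟩, -⟩ := G2C.main h2q hH hQ αH ρ τ hcompat hqk h2k hfixV t ht2 hnt
  exact hab' (hab a b)

end Abelian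

section Quot

variable {Qt P H : Type*} [Group Qt] [Finite Qt] [Group P] [Finite P] [Group H] [Finite H]
  [IsCyclic H] {q s : ℕ} [hq : Fact q.Prime] [hs : Fact s.Prime]

/-- The eigenvalue `-1` on `Qt / Z(Qt)`. -/
theorem quot_step (hsq : s ≠ q) (hq2 : q ≠ 2) (hs2 : s ≠ 2) (hP : IsPGroup s P)
    (hH : IsPGroup 2 H)
    (hexp : ∀ y : Qt, y ^ q = 1) (hclass : commutator Qt ≤ Subgroup.center Qt)
    (φ : H →* MulAut P) (αP : P →* MulAut Qt) (αH : H →* MulAut Qt)
    (hcompat : ∀ (h : H) (x : P) (y : Qt), αH h (αP x y) = αP (φ h x) (αH h y))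
    (hfix : ∀ y : Qt, (∀ h, y⁻¹ * αH h y ∈ Subgroup.center Qt) → y ∈ Subgroup.center Qt)
    (t : H) (ht2 : t ^ 2 = 1)
    (hnt : ∃ (x : P) (y : Qt), y⁻¹ * αP (x⁻¹ * φ t x) y ∉ Subgroup.center Qt) :
    ∃ c : H, c ^ 2 = t ∧ ∃ y : Qt, y ∉ Subgroup.center Qt ∧
      αH c y * y ∈ Subgroup.center Qt := by
  classical
  set Z := Subgroup.center Qt with hZ
  have hcomm := (Subgroup.Normal.quotient_commutative_iff_commutator_le (N := Z)).mpr hclass
  let instC : CommGroup (Qt ⧸ Z) :=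
    { (inferInstance : Group (Qt ⧸ Z)) with mul_comm := fun a b => hcomm.is_comm.comm a b }
  have hZinvP : ∀ x : P, ∀ z ∈ Z, αP x z ∈ Z :=
    fun x z hz => Critical.map_mem_of_characteristic αP _ x z hz
  have hZinvH : ∀ h : H, ∀ z ∈ Z, αH h z ∈ Z :=
    fun h z hz => Critical.map_mem_of_characteristic αH _ h z hz
  have hW : ∀ w : Qt ⧸ Z, w ^ q = 1 := by
    intro w
    induction w using QuotientGroup.induction_on with
    | H y => rw [← QuotientGroup.mk_pow, hexp]; rfl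
  obtain ⟨x, y, hxy⟩ := hnt
  obtain ⟨c, hc, w, hw1, hw⟩ := main_group (W := Qt ⧸ Z) (r := q) (q := s) hW hP hH
    (fun e => hs2 e.symm) (fun e => hsq e.symm) hq2 φ
    (quotientAut αP Z hZinvP) (quotientAut αH Z hZinvH)
    (fun h g v => by
      induction v using QuotientGroup.induction_on with
      | H v =>
        rw [quotientAut_mk, quotientAut_mk, quotientAut_mk, quotientAut_mk, hcompat])
    (fun v hv => by
      induction v using QuotientGroup.induction_on with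
      | H v =>
        rw [QuotientGroup.eq_one_iff]
        apply hfix
        intro h
        have := hv h
        rw [quotientAut_mk, eq_comm, QuotientGroup.eq] at this
        exact this)
    t ht2 ⟨x, (y : Qt ⧸ Z), fun h => hxy (by
      rw [quotientAut_mk, eq_comm, QuotientGroup.eq] at h
      exact h)⟩
  refine ⟨c, hc, ?_⟩
  induction w using QuotientGroup.induction_on with
  | H y' =>
    refine ⟨y', fun h => hw1 ((QuotientGroup.eq_one_iff y').mpr h), ?_⟩
    rw [quotientAut_mk] at hw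
    have h1 : ((αH c y' * y' : Qt) : Qt ⧸ Z) = 1 := by
      rw [QuotientGroup.mk_mul, hw]
      exact inv_mul_cancel _
    exact (QuotientGroup.eq_one_iff _).mp h1

end Quot

section Spec

variable {Qt S₀ H : Type*} [Group Qt] [Finite Qt] [Group S₀] [Finite S₀] [Group H] [Finite H]
  [IsCyclic H] {k V : Type*} [Field k] [AddCommGroup V] [Module k V] [FiniteDimensional k V]
  {q s : ℕ} [hq : Fact q.Prime] [hs : Fact s.Prime]

omit [Finite Qt] in
/-- The commutators of `Qt` lie in `R₀ = [P₁, P₁]`, by the radical argument. -/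
theorem comm_mem_of_radical (αS : S₀ →* MulAut Qt) (θ : MulAut Qt) (ψ : MulAut S₀)
    (hθ2 : ∀ g, θ (θ g) = g)
    (hcompat : ∀ (x : S₀) (y : Qt), θ (αS x y) = αS (ψ x) (θ y))
    (hSZ : ∀ x : S₀, ∀ z ∈ Subgroup.center Qt, αS x z = z)
    (hST : Subgroup.closure {w : S₀ | ∃ x, w = x⁻¹ * ψ x} = ⊤)
    (hQS : Subgroup.closure {w : Qt | ∃ x y, w = y⁻¹ * αS x y} = ⊤)
    (R₀ : Subgroup Qt) (hR₀ : R₀ ≤ Subgroup.center Qt)
    (hgen : ∀ y h : Qt, (h * (y⁻¹ * θ y))⁻¹ * ((y⁻¹ * θ y) * h) ∈ R₀) :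
    ∀ a b : Qt, ⁅a, b⁆ ∈ R₀ := by
  have hR₀n : R₀.Normal := ⟨fun n hn r => by
    have := Subgroup.mem_center_iff.mp (hR₀ hn) r
    have e : r * n * r⁻¹ = n := by rw [this]; group
    rw [e]; exact hn⟩
  have hR₀inv : ∀ x : S₀, ∀ r ∈ R₀, αS x r ∈ R₀ := fun x r hr => by
    rw [hSZ x r (hR₀ hr)]; exact hr
  let rad : Subgroup Qt := (Subgroup.center (Qt ⧸ R₀)).comap (QuotientGroup.mk' R₀)
  have hradn : rad.Normal := inferInstance
  have hmem : ∀ y : Qt, (∀ h : Qt, (h * y)⁻¹ * (y * h) ∈ R₀) → y ∈ rad := by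
    intro y hy
    show (QuotientGroup.mk' R₀ y) ∈ Subgroup.center (Qt ⧸ R₀)
    rw [Subgroup.mem_center_iff]
    intro g
    induction g using QuotientGroup.induction_on with
    | H h =>
      show ((h * y : Qt) : Qt ⧸ R₀) = ((y * h : Qt) : Qt ⧸ R₀)
      rw [QuotientGroup.eq]
      exact hy h
  -- generators of `[Qt, θ]` lie in the radical
  have hθrad : ∀ y : Qt, y⁻¹ * θ y ∈ rad := fun y => hmem _ (hgen y)
  have hradinv : ∀ x : S₀, ∀ y ∈ rad, αS x y ∈ rad := by
    intro x y hy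
    have h1 : (QuotientGroup.mk' R₀ y) ∈ Subgroup.center (Qt ⧸ R₀) := hy
    have h2 := Critical.map_mem_of_characteristic (quotientAut αS R₀ hR₀inv)
      (Subgroup.center (Qt ⧸ R₀)) x _ h1
    exact h2
  let αb : S₀ →* MulAut (Qt ⧸ rad) := quotientAut αS rad hradinv
  have hθmk : ∀ y : Qt, ((θ y : Qt) : Qt ⧸ rad) = (y : Qt ⧸ rad) := by
    intro y
    rw [eq_comm, QuotientGroup.eq]
    exact hθrad y
  have hker : ∀ x : S₀, αb (ψ x) = αb x := by
    intro x
    ext yb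
    induction yb using QuotientGroup.induction_on with
    | H y =>
      show ((αS (ψ x) y : Qt) : Qt ⧸ rad) = ((αS x y : Qt) : Qt ⧸ rad)
      have e : αS (ψ x) y = θ (αS x (θ y)) := by rw [hcompat, hθ2]
      rw [e, hθmk]
      show quotientAut αS rad hradinv x ((θ y : Qt) : Qt ⧸ rad) = _
      rw [hθmk]; rfl
  have htriv : ∀ x : S₀, αb x = 1 := by
    have hle : (⊤ : Subgroup S₀) ≤ αb.ker := by
      rw [← hST, Subgroup.closure_le]
      rintro _ ⟨x, rfl⟩
      show αb (x⁻¹ * ψ x) = 1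
      rw [map_mul, map_inv, hker, inv_mul_cancel]
    intro x
    exact hle (Subgroup.mem_top x)
  have hradtop : ∀ y : Qt, y ∈ rad := by
    have hle : (⊤ : Subgroup Qt) ≤ rad := by
      rw [← hQS, Subgroup.closure_le]
      rintro _ ⟨x, y, rfl⟩
      show y⁻¹ * αS x y ∈ rad
      rw [← QuotientGroup.eq]
      have := congrArg (fun f : MulAut (Qt ⧸ rad) => f (y : Qt ⧸ rad)) (htriv x)
      exact this.symm
    intro y
    exact hle (Subgroup.mem_top y)
  intro a b
  have h1 : (QuotientGroup.mk' R₀ a) ∈ Subgroup.center (Qt ⧸ R₀) := hradtop a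
  have h2 : ((⁅a, b⁆ : Qt) : Qt ⧸ R₀) = 1 := by
    have e : ((⁅a, b⁆ : Qt) : Qt ⧸ R₀) = ⁅(a : Qt ⧸ R₀), (b : Qt ⧸ R₀)⁆ := rfl
    rw [e, commutatorElement_eq_one_iff_mul_comm]
    exact (Subgroup.mem_center_iff.mp h1 _).symm
  exact (QuotientGroup.eq_one_iff _).mp h2

omit [Finite H] [IsCyclic H] in
/-- An element of odd order is a power of its square. -/
theorem mem_of_sq_mem (Z : Subgroup Qt) (hodd : ¬ 2 ∣ Nat.card Qt) (y : Qt) (hy : y * y ∈ Z) :
    y ∈ Z := by
  have hoddo : ¬ 2 ∣ orderOf y := fun hd => hodd (hd.trans (orderOf_dvd_natCard y))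
  obtain ⟨m, hm⟩ : ∃ m, orderOf y + 1 = 2 * m := ⟨(orderOf y + 1) / 2, by omega⟩
  have e : y = (y * y) ^ m := by
    rw [← pow_two, ← pow_mul, ← hm, pow_succ, pow_orderOf_eq_one, one_mul]
  rw [e]
  exact Z.pow_mem hy m

set_option maxHeartbeats 1600000 in
/-- **The special case is impossible.** -/
theorem spec_false (hqs : q ≠ s) (hq2 : q ≠ 2) (hs2 : s ≠ 2)
    (hQ : IsPGroup q Qt) (hS : IsPGroup s S₀) (hH : IsPGroup 2 H)
    (hexp : ∀ y : Qt, y ^ q = 1) (hspec : commutator Qt = Subgroup.center Qt)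
    (φ : H →* MulAut S₀) (αS : S₀ →* MulAut Qt) (αH : H →* MulAut Qt)
    (hcompatS : ∀ (h : H) (x : S₀) (y : Qt), αH h (αS x y) = αS (φ h x) (αH h y))
    (ρ : Representation k Qt V) (hρ : Function.Injective ρ) (τ : Representation k H V)
    (hcompat : ∀ (h : H) (y : Qt) (v : V), τ h (ρ y v) = ρ (αH h y) (τ h v))
    (hqk : (q : k) ≠ 0) (h2k : (2 : k) ≠ 0)
    (hfixV : ∀ v : V, (∀ h, τ h v = v) → v = 0)
    (hfixQ : ∀ y : Qt, (∀ h, αH h y = y) → y = 1)
    (t : H) (ht2 : t ^ 2 = 1)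
    (hSZ : ∀ x : S₀, ∀ z ∈ Subgroup.center Qt, αS x z = z)
    (hST : Subgroup.closure {w : S₀ | ∃ x, w = x⁻¹ * φ t x} = ⊤)
    (hQS : Subgroup.closure {w : Qt | ∃ x y, w = y⁻¹ * αS x y} = ⊤)
    (hnab : ∃ a b : Qt, a * b ≠ b * a) : False := by
  classical
  have hclass : ∀ a b : Qt, ⁅a, b⁆ ∈ Subgroup.center Qt := fun a b => by
    rw [← hspec]
    exact Subgroup.commutator_mem_commutator (Subgroup.mem_top a) (Subgroup.mem_top b)
  have hZinvH : ∀ h : H, ∀ z ∈ Subgroup.center Qt, αH h z ∈ Subgroup.center Qt :=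
    fun h z hz => Critical.map_mem_of_characteristic αH _ h z hz
  have hoddQ : ¬ 2 ∣ Nat.card Qt := by
    obtain ⟨m, hm⟩ := IsPGroup.iff_card.mp hQ
    rw [hm]
    intro h2
    have := (Nat.prime_dvd_prime_iff_eq Nat.prime_two hq.out).mp
      (Nat.prime_two.dvd_of_dvd_pow h2)
    exact hq2 this.symm
  have hcopQH : (Nat.card Qt).Coprime (Nat.card H) := by
    obtain ⟨m, hm⟩ := IsPGroup.iff_card.mp hH
    obtain ⟨m', hm'⟩ := IsPGroup.iff_card.mp hQ
    rw [hm, hm']
    apply Nat.Coprime.pow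
    exact (Nat.coprime_primes hq.out Nat.prime_two).mpr hq2
  -- `t` fixes the centre
  have hθZ : ∀ z ∈ Subgroup.center Qt, αH t z = z := by
    intro z hz
    have := abelian_fixed (Qt := ↥(Subgroup.center Qt)) (hQ.to_subgroup _) hH
      (fun e => hq2 e.symm)
      (fun a b => Subtype.ext (Subgroup.mem_center_iff.mp b.2 a))
      (restrictAut αH (Subgroup.center Qt) hZinvH) (ρ.comp (Subgroup.center Qt).subtype)
      (fun a b h => Subtype.ext (hρ h)) τ (fun h y v => hcompat h y v) hqk h2k hfixV t ht2 ⟨z, hz⟩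
    exact congrArg Subtype.val this
  have hθ2 : ∀ g, αH t (αH t g) = g := by
    intro g
    rw [← MulAut.mul_apply, ← map_mul, ← pow_two, ht2, map_one]; rfl
  -- `t ≠ 1`
  have ht1 : t ≠ 1 := by
    rintro rfl
    have hS1 : ∀ x : S₀, x = 1 := by
      have hle : (⊤ : Subgroup S₀) ≤ ⊥ := by
        rw [← hST, Subgroup.closure_le]
        rintro _ ⟨x, rfl⟩
        rw [map_one]
        simp
      intro x
      exact Subgroup.mem_bot.mp (hle (Subgroup.mem_top x))
    have hQ1 : ∀ y : Qt, y = 1 := by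
      have hle : (⊤ : Subgroup Qt) ≤ ⊥ := by
        rw [← hQS, Subgroup.closure_le]
        rintro _ ⟨x, y, rfl⟩
        rw [hS1 x, map_one]
        simp
      intro y
      exact Subgroup.mem_bot.mp (hle (Subgroup.mem_top y))
    obtain ⟨a, b, hab⟩ := hnab
    exact hab (by rw [hQ1 a, hQ1 b])
  -- fixed points modulo the centre
  obtain ⟨σ₀, hσ₀⟩ := IsCyclic.exists_generator (α := H)
  have hfpfσ : ∀ f : Qt, αH σ₀ f = f → f = 1 := by
    intro f hf
    apply hfixQ
    let St : Subgroup H :=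
      { carrier := {h | αH h f = f}
        mul_mem' := fun {a b} ha hb => by
          show αH (a * b) f = f
          rw [map_mul, MulAut.mul_apply, hb, ha]
        one_mem' := by show αH 1 f = f; rw [map_one]; rfl
        inv_mem' := fun {a} ha => by
          show αH a⁻¹ f = f
          rw [map_inv]
          conv_lhs => rw [← ha]
          exact MulAut.inv_apply_self _ _ _ }
    have hσS : σ₀ ∈ St := hf
    intro h
    exact (Subgroup.zpowers_le.mpr hσS) (hσ₀ h)
  have hfixQZ : ∀ y : Qt, (∀ h, y⁻¹ * αH h y ∈ Subgroup.center Qt) → y ∈ Subgroup.center Qt := by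
    intro y hy
    have h1 := CycShultMain.quotientAut_fpf_single αH (Subgroup.center Qt) hZinvH σ₀ hfpfσ
      (y : Qt ⧸ Subgroup.center Qt) (by
        rw [quotientAut_mk, eq_comm, QuotientGroup.eq]
        exact hy σ₀)
    exact (QuotientGroup.eq_one_iff y).mp h1
  -- nontrivial action of `[S₀, t]` modulo the centre
  have hnt : ∃ (x : S₀) (y : Qt), y⁻¹ * αS (x⁻¹ * φ t x) y ∉ Subgroup.center Qt := by
    by_contra hno
    push Not at hno
    have hZinvS : ∀ x : S₀, ∀ z ∈ Subgroup.center Qt, αS x z ∈ Subgroup.center Qt :=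
      fun x z hz => Critical.map_mem_of_characteristic αS _ x z hz
    let αb : S₀ →* MulAut (Qt ⧸ Subgroup.center Qt) := quotientAut αS (Subgroup.center Qt) hZinvS
    have htriv : ∀ x : S₀, αb x = 1 := by
      have hle : (⊤ : Subgroup S₀) ≤ αb.ker := by
        rw [← hST, Subgroup.closure_le]
        rintro _ ⟨x, rfl⟩
        show αb (x⁻¹ * φ t x) = 1
        ext yb
        induction yb using QuotientGroup.induction_on with
        | H y =>
          show ((αS (x⁻¹ * φ t x) y : Qt) : Qt ⧸ Subgroup.center Qt) = (y : Qt ⧸ _)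
          rw [eq_comm, QuotientGroup.eq]
          exact hno x y
      intro x
      exact hle (Subgroup.mem_top x)
    have hall : ∀ y : Qt, y ∈ Subgroup.center Qt := by
      have hle : (⊤ : Subgroup Qt) ≤ Subgroup.center Qt := by
        rw [← hQS, Subgroup.closure_le]
        rintro _ ⟨x, y, rfl⟩
        show y⁻¹ * αS x y ∈ Subgroup.center Qt
        rw [← QuotientGroup.eq]
        have := congrArg (fun f : MulAut (Qt ⧸ Subgroup.center Qt) => f (y : Qt ⧸ _)) (htriv x)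
        exact this.symm
      intro y
      exact hle (Subgroup.mem_top y)
    obtain ⟨a, b, hab⟩ := hnab
    exact hab (Subgroup.mem_center_iff.mp (hall b) a)
  obtain ⟨c, hc, y₀, hy₀Z, hy₀⟩ := quot_step (fun e => hqs e.symm) hq2 hs2 hS hH hexp hspec.le φ αS αH
    hcompatS hfixQZ t ht2 hnt
  have hc4 : orderOf c = 4 := by
    have := orderOf_eq_prime_pow (x := c) (p := 2) (n := 1) (by rw [pow_one, hc]; exact ht1)
      (by
        show c ^ 2 ^ (1 + 1) = 1
        have : (2 : ℕ) ^ (1 + 1) = 2 * 2 := by norm_num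
        rw [this, pow_mul, hc, ht2])
    rw [this]; norm_num
  -- `y₀` is fixed by `t`
  have hy₀fix : αH t y₀ = y₀ := by
    apply Critical.eq_of_fixed_comm αH hcopQH t y₀
    apply hθZ
    -- `y₀⁻¹ * αH t y₀` is central
    set u := αH c y₀ * y₀ with hu
    have hcy : αH c y₀ = u * y₀⁻¹ := by rw [hu]; group
    have hty : αH t y₀ = αH c u * y₀ * u⁻¹ := by
      rw [← hc, pow_two, map_mul, MulAut.mul_apply, hcy, map_mul, map_inv, hcy]
      group
    have hu' : αH c u ∈ Subgroup.center Qt := hZinvH c u hy₀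
    have e : y₀⁻¹ * αH t y₀ = αH c u * u⁻¹ := by
      rw [hty]
      have := Subgroup.mem_center_iff.mp hu' y₀
      calc y₀⁻¹ * (αH c u * y₀ * u⁻¹) = y₀⁻¹ * (αH c u * y₀) * u⁻¹ := by group
        _ = y₀⁻¹ * (y₀ * αH c u) * u⁻¹ := by rw [this]
        _ = αH c u * u⁻¹ := by group
    rw [e]
    exact Subgroup.mul_mem _ hu' (Subgroup.inv_mem _ hy₀)
  -- the decomposition of `Qt`
  set Qp := G2Invol.fixedSub (αH t) with hQp
  set P₁ := G2Invol.commSub (αH t) with hP₁
  have hcommPQ : ∀ g ∈ Qp, ∀ p ∈ P₁, g * p = p * g := G2Invol.fixed_comm (αH t) hclass hθZ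
  have hprod : ∀ h : Qt, ∃ y ∈ Qp, ∃ p ∈ P₁, h = y * p := G2Invol.exists_mul (αH t) hθ2 hoddQ
  have hHcomm : ∀ (h : H) (g : Qt), αH h (αH t g) = αH t (αH h g) := by
    intro h g
    rw [← MulAut.mul_apply, ← MulAut.mul_apply, ← map_mul, ← map_mul]
    congr 2
    obtain ⟨i, rfl⟩ := hσ₀ h
    obtain ⟨j, rfl⟩ := hσ₀ t
    rw [← zpow_add, ← zpow_add, add_comm]
  have hQpinv : ∀ h : H, ∀ g ∈ Qp, αH h g ∈ Qp :=
    fun h g hg => G2Invol.map_mem_fixedSub (αH t) (αH h) (hHcomm h) g hg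
  have hP₁inv : ∀ h : H, ∀ g ∈ P₁, αH h g ∈ P₁ :=
    fun h g hg => G2Invol.map_mem_commSub (αH t) (αH h) (hHcomm h) g hg
  have hnilP : Group.IsNilpotent ↥P₁ := (hQ.to_subgroup P₁).isNilpotent
  -- centres
  have hcenP : ∀ g : ↥P₁, g ∈ Subgroup.center ↥P₁ → (g : Qt) ∈ Subgroup.center Qt := by
    intro g hg
    rw [Subgroup.mem_center_iff]
    intro h
    obtain ⟨y, hy, p, hp, rfl⟩ := hprod h
    have h1 : y * (g : Qt) = (g : Qt) * y := hcommPQ y hy g g.2
    have h2 : p * (g : Qt) = (g : Qt) * p :=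
      congrArg Subtype.val (Subgroup.mem_center_iff.mp hg ⟨p, hp⟩)
    rw [mul_assoc, h2, ← mul_assoc, h1, mul_assoc]
  have hcard : ∀ A : Subgroup Qt, (Nat.card ↥A : k) ≠ 0 := by
    intro A
    obtain ⟨m, hm⟩ := IsPGroup.iff_card.mp (hQ.to_subgroup A)
    rw [hm, Nat.cast_pow]
    exact pow_ne_zero _ hqk
  -- the commutators
  let R₀ : Subgroup Qt := (commutator ↥P₁).map P₁.subtype
  have hR₀Z : R₀ ≤ Subgroup.center Qt := by
    rw [Subgroup.map_le_iff_le_comap, commutator_def, Subgroup.commutator_le]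
    intro a _ b _
    show ((⁅a, b⁆ : ↥P₁) : Qt) ∈ Subgroup.center Qt
    exact hclass a b
  have hallcomm : ∀ a b : Qt, ⁅a, b⁆ ∈ R₀ := by
    apply comm_mem_of_radical αS (αH t) (φ t) hθ2 (hcompatS t) hSZ hST hQS R₀ hR₀Z
    intro y h
    obtain ⟨r, hr, p₂, hp₂, rfl⟩ := hprod h
    set p := y⁻¹ * αH t y with hp
    have hpP : p ∈ P₁ := G2Invol.gen_mem_commSub (αH t) y
    have hrp : r * p = p * r := hcommPQ r hr p hpP
    have hrp' : r⁻¹ * p = p * r⁻¹ := by
      calc r⁻¹ * p = r⁻¹ * (p * r) * r⁻¹ := by group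
        _ = r⁻¹ * (r * p) * r⁻¹ := by rw [hrp]
        _ = p * r⁻¹ := by group
    have e : (r * p₂ * p)⁻¹ * (p * (r * p₂)) = ⁅p⁻¹, p₂⁻¹⁆ := by
      rw [commutatorElement_def]
      calc (r * p₂ * p)⁻¹ * (p * (r * p₂)) = p⁻¹ * p₂⁻¹ * (r⁻¹ * p) * r * p₂ := by group
        _ = p⁻¹ * p₂⁻¹ * (p * r⁻¹) * r * p₂ := by rw [hrp']
        _ = p⁻¹ * p₂⁻¹ * p⁻¹⁻¹ * p₂⁻¹⁻¹ := by group
    rw [e]
    refine ⟨⁅(⟨p, hpP⟩ : ↥P₁)⁻¹, (⟨p₂, hp₂⟩ : ↥P₁)⁻¹⁆, ?_, rfl⟩
    exact Subgroup.commutator_mem_commutator (Subgroup.mem_top _) (Subgroup.mem_top _)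
  -- the element `g`
  have hy₀Qp : y₀ ∈ Qp := hy₀fix
  have hgc : y₀ * αH c y₀ ∈ Subgroup.center Qt := by
    have h1 := Subgroup.mem_center_iff.mp hy₀ y₀
    have e : y₀ * αH c y₀ = αH c y₀ * y₀ := by
      calc y₀ * αH c y₀ = y₀ * (αH c y₀ * y₀) * y₀⁻¹ := by group
        _ = (αH c y₀ * y₀) * y₀ * y₀⁻¹ := by rw [h1]
        _ = αH c y₀ * y₀ := by group
    rw [e]; exact hy₀
  have hsq : y₀ * y₀ ∉ Subgroup.center Qt := fun h => hy₀Z (mem_of_sq_mem _ hoddQ y₀ h)
  have hg : ∃ (y : ↥Qp) (v : V), (ρ.comp Qp.subtype) ⁅(⟨y₀, hy₀Qp⟩ : ↥Qp) * ⟨y₀, hy₀Qp⟩, y⁆ v ≠ v := by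
    rw [Subgroup.mem_center_iff] at hsq
    push Not at hsq
    obtain ⟨h, hh⟩ := hsq
    obtain ⟨r, hr, p, hp, rfl⟩ := hprod h
    have hpc : (y₀ * y₀) * p = p * (y₀ * y₀) := hcommPQ _ (Qp.mul_mem hy₀Qp hy₀Qp) p hp
    have hrc : r * (y₀ * y₀) ≠ (y₀ * y₀) * r := by
      intro hrc
      apply hh
      rw [mul_assoc, ← hpc, ← mul_assoc, hrc, mul_assoc]
    have hne : ρ ⁅y₀ * y₀, r⁆ ≠ 1 := by
      intro h1
      have h2 : ⁅y₀ * y₀, r⁆ = 1 := hρ (by rw [h1, map_one])
      rw [commutatorElement_eq_one_iff_mul_comm] at h2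
      exact hrc h2.symm
    by_contra hno
    push Not at hno
    apply hne
    ext v
    exact hno ⟨r, hr⟩ v
  -- apply the final contradiction
  refine G2D.field (P := ↥P₁) (R := ↥Qp) hH (restrictAut αH P₁ hP₁inv) (restrictAut αH Qp hQpinv)
    (ρ.comp P₁.subtype) (ρ.comp Qp.subtype) τ
    (fun h g v => hcompat h g v) (fun h g v => hcompat h g v) ?_ ?_ ?_ ?_
    (hcard P₁) (hcard Qp) h2k hfixV ⟨y₀, hy₀Qp⟩ c hc4 ?_ hg
  · intro p r v
    show ρ (p : Qt) (ρ (r : Qt) v) = ρ (r : Qt) (ρ (p : Qt) v)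
    rw [← Module.End.mul_apply, ← Module.End.mul_apply, ← map_mul, ← map_mul,
      hcommPQ r r.2 p p.2]
  · intro a b
    rw [Subgroup.mem_center_iff]
    intro g
    apply Subtype.ext
    have := Subgroup.mem_center_iff.mp (hclass (a : Qt) (b : Qt)) (g : Qt)
    exact this
  · intro h hh g hgc'
    have h1 : (g : Qt)⁻¹ * αH h (g : Qt) ∈ Subgroup.center Qt := hcenP _ hgc'
    obtain ⟨j, hj⟩ := CycP.exists_pow_orderOf_eq hH h hh
    have hjt : h ^ j = t := by
      apply G2C.eq_of_sq_eq_one hH (h ^ j) t _ ht2 _ ht1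
      · rw [← hj]; exact pow_orderOf_eq_one _
      · intro h1'
        rw [h1', orderOf_one] at hj
        norm_num at hj
    have hpow : ∀ i : ℕ, (g : Qt)⁻¹ * αH (h ^ i) (g : Qt) ∈ Subgroup.center Qt := by
      intro i
      induction i with
      | zero =>
        rw [pow_zero, map_one]
        simp
      | succ i ih =>
        have e : (g : Qt)⁻¹ * αH (h ^ (i + 1)) (g : Qt) =
            ((g : Qt)⁻¹ * αH h (g : Qt)) * αH h ((g : Qt)⁻¹ * αH (h ^ i) (g : Qt)) := by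
          rw [pow_succ', map_mul, MulAut.mul_apply, map_mul (αH h), map_inv]
          group
        rw [e]
        exact Subgroup.mul_mem _ h1 (hZinvH h _ ih)
    have h2 := hpow j
    rw [hjt] at h2
    have h3 := G2Invol.mem_center_of_comm_mem_center (αH t) hclass hθZ (g : Qt) h2
    rw [Subgroup.mem_center_iff]
    intro p
    apply Subtype.ext
    exact (h3 p p.2).symm
  · intro a b
    obtain ⟨c', hc', he⟩ := hallcomm (a : Qt) (b : Qt)
    refine ⟨c', hc', ?_⟩
    show ρ ((⁅a, b⁆ : ↥Qp) : Qt) = ρ (c' : Qt)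
    have : ((⁅a, b⁆ : ↥Qp) : Qt) = ⁅(a : Qt), (b : Qt)⁆ := rfl
    rw [this]
    exact congrArg ρ he.symm
  · rw [Subgroup.mem_center_iff]
    intro g
    apply Subtype.ext
    exact Subgroup.mem_center_iff.mp hgc (g : Qt)

end Spec

end Cfsg.Agent.Lib.Helper2.G2Spec
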