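import Mathlib
import Cfsg.Agent.Lib.Helper2.G2Spec
import Cfsg.Agent.S3736

/-!
# `[S, t]` centralizes `Q`

`X` is a finite group acting faithfully on `V`, `a ∈ X` a `2`-element without nonzero fixed vectors
on `V`, `t ∈ ⟨a⟩` with `t² = 1`.  If `a` normalizes the `q`-subgroup `Q` and the `s`-subgroup `S`
(`q ≠ s` odd primes, `q` prime to the characteristic), `S` normalizes `Q` and `C_Q(a) = 1`, then
`[S, t]` centralizes `Q`.
-/

set_option autoImplicit false

namespace Cfsg.Agent.Lib.Helper2.G2Star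

open scoped commutatorElement
open Cfsg.Agent.Lib.Helper2.FrobFree Cfsg.Agent.Lib.Helper2.ShultGroup

section Basic

variable {X : Type*} [Group X]

/-- An element conjugating a finite generating set into the generated subgroup normalizes it. -/
theorem mem_normalizer_closure [Finite X] (x : X) (gen : Set X)
    (h : ∀ w ∈ gen, x * w * x⁻¹ ∈ Subgroup.closure gen) :
    x ∈ Subgroup.normalizer (Subgroup.closure gen : Set X) := by
  apply Subgroup.mem_normalizer_fintype
  intro n hn
  have hn' : n ∈ Subgroup.closure gen := hn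
  show x * n * x⁻¹ ∈ Subgroup.closure gen
  induction hn' using Subgroup.closure_induction with
  | mem w hw => exact h w hw
  | one => simp
  | mul a b _ _ ha hb =>
    have e : x * (a * b) * x⁻¹ = (x * a * x⁻¹) * (x * b * x⁻¹) := by group
    rw [e]
    exact Subgroup.mul_mem _ (ha (Subgroup.mem_closure.mpr fun K hK => by
      exact (Subgroup.closure_le K).mpr hK ‹_›)) (hb (Subgroup.mem_closure.mpr fun K hK => by
      exact (Subgroup.closure_le K).mpr hK ‹_›))
  | inv a _ ha =>
    have e : x * a⁻¹ * x⁻¹ = (x * a * x⁻¹)⁻¹ := by group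
    rw [e]
    exact Subgroup.inv_mem _ (ha (Subgroup.mem_closure.mpr fun K hK => by
      exact (Subgroup.closure_le K).mpr hK ‹_›))

/-- Characteristic subgroups of `Q` are normalized by the normalizer of `Q`. -/
theorem normalizer_le_of_characteristic [Finite X] (Q : Subgroup X) (C : Subgroup ↥Q)
    [hC : C.Characteristic] :
    Subgroup.normalizer (Q : Set X) ≤ Subgroup.normalizer ((C.map Q.subtype : Subgroup X) : Set X) := by
  intro b hb
  apply Subgroup.mem_normalizer_fintype
  rintro _ ⟨z, hz, rfl⟩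
  have h1 := Critical.map_mem_of_characteristic
    (conjOn (Subgroup.normalizer (Q : Set X)) Q le_rfl) C ⟨b, hb⟩ z hz
  exact ⟨_, h1, rfl⟩

end Basic

section Star

variable {X : Type*} [Group X] [Finite X] {k V : Type*} [Field k] [AddCommGroup V] [Module k V]
  [FiniteDimensional k V] {q s : ℕ} [hq : Fact q.Prime] [hs : Fact s.Prime]

set_option maxHeartbeats 1600000 in
/-- **`[S, t]` centralizes `Q`.** -/
theorem star (ρ : Representation k X V) (hρ : Function.Injective ρ)
    (hqs : q ≠ s) (hq2 : q ≠ 2) (hs2 : s ≠ 2) (hqk : (q : k) ≠ 0) (h2k : (2 : k) ≠ 0)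
    (a : X) (n : ℕ) (ha : a ^ (2 ^ n) = 1) (hfixV : ∀ v : V, ρ a v = v → v = 0)
    (t : X) (ht : t ∈ Subgroup.zpowers a) (ht2 : t ^ 2 = 1) :
    ∀ (N : ℕ) (Q S : Subgroup X), Nat.card Q + Nat.card S ≤ N → IsPGroup q Q → IsPGroup s S →
      a ∈ Subgroup.normalizer (Q : Set X) → a ∈ Subgroup.normalizer (S : Set X) →
      S ≤ Subgroup.normalizer (Q : Set X) →
      (∀ g ∈ Q, a * g * a⁻¹ = g → g = 1) →
      ∀ g ∈ Q, ∀ x ∈ S, g * (x⁻¹ * (t * x * t⁻¹)) = (x⁻¹ * (t * x * t⁻¹)) * g := by
  classical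
  -- the cyclic `2`-group `⟨a⟩`
  have hH2 : IsPGroup 2 ↥(Subgroup.zpowers a) := by
    intro h
    refine ⟨n, ?_⟩
    obtain ⟨z, hz⟩ := h.2
    apply Subtype.ext
    rw [Subgroup.coe_pow, Subgroup.coe_one]
    have hz' : (h : X) = a ^ z := hz.symm
    rw [hz', ← zpow_natCast, ← zpow_mul, mul_comm, zpow_mul, zpow_natCast, ha, one_zpow]
  have hat : a * t = t * a := by
    obtain ⟨z, rfl⟩ := ht
    exact (Commute.self_zpow a z).eq  
  have htinv : t⁻¹ = t := by
    have : t * t = 1 := by rw [← pow_two]; exact ht2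
    exact inv_eq_of_mul_eq_one_right this
  let τ : Representation k ↥(Subgroup.zpowers a) V := ρ.comp (Subgroup.zpowers a).subtype
  have hfixV' : ∀ v : V, (∀ h : ↥(Subgroup.zpowers a), τ h v = v) → v = 0 :=
    fun v hv => hfixV v (hv ⟨a, Subgroup.mem_zpowers a⟩)
  let t' : ↥(Subgroup.zpowers a) := ⟨t, ht⟩
  have ht'2 : t' ^ 2 = 1 := Subtype.ext (by rw [Subgroup.coe_pow]; exact ht2)
  intro N
  induction N with
  | zero =>
    intro Q S hN
    have : 0 < Nat.card Q := Nat.card_pos
    omega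
  | succ N ih =>
    intro Q S hN hQ hS haQ haS hSQ hfpf
    have hzQ : Subgroup.zpowers a ≤ Subgroup.normalizer (Q : Set X) := Subgroup.zpowers_le.mpr haQ
    have hzS : Subgroup.zpowers a ≤ Subgroup.normalizer (S : Set X) := Subgroup.zpowers_le.mpr haS
    have htS : ∀ x ∈ S, t * x * t⁻¹ ∈ S := fun x hx =>
      (Subgroup.mem_normalizer_iff.mp (hzS ht) x).mp hx
    have hdS : ∀ x ∈ S, x⁻¹ * (t * x * t⁻¹) ∈ S := fun x hx =>
      S.mul_mem (S.inv_mem hx) (htS x hx)
    let φ : ↥(Subgroup.zpowers a) →* MulAut ↥S := conjOn (Subgroup.zpowers a) S hzS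
    let αS : ↥S →* MulAut ↥Q := conjOn S Q hSQ
    let αH : ↥(Subgroup.zpowers a) →* MulAut ↥Q := conjOn (Subgroup.zpowers a) Q hzQ
    -- the subgroup `[S, t]`
    let T' : Subgroup ↥S := Subgroup.closure {w : ↥S | ∃ x, w = x⁻¹ * φ t' x}
    by_cases hT : T' = ⊤
    swap
    · -- induction, for `[S, t] < S`
      let T : Subgroup X := T'.map S.subtype
      have hTS : T ≤ S := Subgroup.map_subtype_le T'
      have hcardT : Nat.card T < Nat.card S := by
        have h1 : Nat.card T = Nat.card T' :=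
          Nat.card_congr (T'.equivMapOfInjective S.subtype S.subtype_injective).symm.toEquiv
        have h2 : Nat.card T' ≤ Nat.card ↥S := Subgroup.card_le_card_group T'
        have h3 : Nat.card T' ≠ Nat.card ↥S := fun h => hT (Subgroup.eq_top_of_card_eq T' h)
        omega
      have hdT : ∀ x ∈ S, x⁻¹ * (t * x * t⁻¹) ∈ T := by
        intro x hx
        exact ⟨(⟨x, hx⟩ : ↥S)⁻¹ * φ t' ⟨x, hx⟩, Subgroup.subset_closure ⟨⟨x, hx⟩, rfl⟩, rfl⟩
      have haT : a ∈ Subgroup.normalizer (T : Set X) := by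
        have hTeq : T = Subgroup.closure (S.subtype '' {w : ↥S | ∃ x, w = x⁻¹ * φ t' x}) :=
          MonoidHom.map_closure S.subtype _
        rw [hTeq]
        apply mem_normalizer_closure
        rintro _ ⟨_, ⟨x, rfl⟩, rfl⟩
        rw [← hTeq]
        have hx' : a * (x : X) * a⁻¹ ∈ S := (Subgroup.mem_normalizer_iff.mp haS x).mp x.2
        have e : a * S.subtype (x⁻¹ * φ t' x) * a⁻¹ =
            (a * (x : X) * a⁻¹)⁻¹ * (t * (a * (x : X) * a⁻¹) * t⁻¹) := by
          show a * ((x : X)⁻¹ * (t * (x : X) * t⁻¹)) * a⁻¹ = _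
          have e1 : t * (a * (x : X) * a⁻¹) * t⁻¹ = a * (t * (x : X) * t⁻¹) * a⁻¹ := by
            calc t * (a * (x : X) * a⁻¹) * t⁻¹ = (t * a) * (x : X) * (t * a)⁻¹ := by group
              _ = (a * t) * (x : X) * (a * t)⁻¹ := by rw [hat]
              _ = a * (t * (x : X) * t⁻¹) * a⁻¹ := by group
          rw [e1]; group
        rw [e]
        exact hdT _ hx'
      have key := ih Q T (by omega) hQ (hS.to_le hTS) haQ haT (hTS.trans hSQ) hfpf
      intro g hg x hx
      -- `g` commutes with `d (d x) = (d x)⁻²`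
      set d := x⁻¹ * (t * x * t⁻¹) with hd
      have hdT' : d ∈ T := hdT x hx
      have h1 := key g hg d hdT'
      have hdd : d⁻¹ * (t * d * t⁻¹) = d⁻¹ * d⁻¹ := by
        congr 1
        rw [hd, htinv]
        have htt : t * t = 1 := by rw [← pow_two]; exact ht2
        calc t * (x⁻¹ * (t * x * t)) * t = (t * x⁻¹ * t) * x * (t * t) := by group
          _ = (t * x⁻¹ * t) * x := by rw [htt, mul_one]
          _ = (x⁻¹ * (t * x * t))⁻¹ := by
            rw [mul_inv_rev, mul_inv_rev, mul_inv_rev, inv_inv]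
            have : t⁻¹ = t := htinv
            rw [this]; group
      rw [hdd] at h1
      -- hence with `d`, of odd order
      have hoddS : ¬ 2 ∣ Nat.card ↥S := by
        obtain ⟨m, hm⟩ := IsPGroup.iff_card.mp hS
        rw [hm]
        intro h2
        have := (Nat.prime_dvd_prime_iff_eq Nat.prime_two hs.out).mp
          (Nat.prime_two.dvd_of_dvd_pow h2)
        exact hs2 this.symm
      have hoddd : ¬ 2 ∣ orderOf d := by
        intro h2
        apply hoddS
        have : orderOf (⟨d, hdS x hx⟩ : ↥S) = orderOf d := Subgroup.orderOf_mk d (hdS x hx)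
        exact (h2.trans (this ▸ orderOf_dvd_natCard (⟨d, hdS x hx⟩ : ↥S)))
      have hcent : d⁻¹ * d⁻¹ ∈ Subgroup.centralizer {g} := by
        rw [Subgroup.mem_centralizer_iff]
        rintro _ rfl
        exact h1
      have hdsq : d * d ∈ Subgroup.centralizer {g} := by
        have := Subgroup.inv_mem _ hcent
        rwa [mul_inv_rev, inv_inv] at this
      obtain ⟨m, hm⟩ : ∃ m, orderOf d + 1 = 2 * m := ⟨(orderOf d + 1) / 2, by omega⟩
      have hdpow : d = (d * d) ^ m := by
        rw [← pow_two, ← pow_mul, ← hm, pow_succ, pow_orderOf_eq_one, one_mul]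
      have hdc : d ∈ Subgroup.centralizer {g} := by
        rw [hdpow]; exact Subgroup.pow_mem _ hdsq m
      exact (Subgroup.mem_centralizer_iff.mp hdc g rfl)
    -- now `S = [S, t]`
    have hgenS : ∀ U : Subgroup X, (∀ g ∈ U, ∀ x ∈ S, g * (x⁻¹ * (t * x * t⁻¹)) =
        (x⁻¹ * (t * x * t⁻¹)) * g) → ∀ g ∈ U, ∀ x ∈ S, g * x = x * g := by
      intro U hU g hg x hx
      have hxT : (⟨x, hx⟩ : ↥S) ∈ T' := by rw [hT]; exact Subgroup.mem_top _
      have : ∀ w : ↥S, w ∈ T' → g * (w : X) = (w : X) * g := by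
        intro w hw
        induction hw using Subgroup.closure_induction with
        | mem w hw =>
          obtain ⟨y, rfl⟩ := hw
          exact hU g hg y y.2
        | one => simp
        | mul a' b' _ _ ha' hb' =>
          rw [Subgroup.coe_mul, ← mul_assoc, ha', mul_assoc, hb', mul_assoc]
        | inv a' _ ha' =>
          rw [Subgroup.coe_inv]
          calc g * (a' : X)⁻¹ = (a' : X)⁻¹ * ((a' : X) * g) * (a' : X)⁻¹ := by group
            _ = (a' : X)⁻¹ * (g * (a' : X)) * (a' : X)⁻¹ := by rw [ha']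
            _ = (a' : X)⁻¹ * g := by group
      exact this ⟨x, hx⟩ hxT
    by_cases hcentr : ∀ g ∈ Q, ∀ x ∈ S, g * x = x * g
    · intro g hg x hx
      exact hcentr g hg _ (hdS x hx)
    -- the Hall–Higman reduction
    let B : Subgroup X := S ⊔ Subgroup.zpowers a
    have hBQ : B ≤ Subgroup.normalizer (Q : Set X) := sup_le hSQ hzQ
    have hSB : S ≤ B := le_sup_left
    have haB : a ∈ B := (le_sup_right : Subgroup.zpowers a ≤ B) (Subgroup.mem_zpowers a)
    have hBS : B ≤ Subgroup.normalizer (S : Set X) := sup_le Subgroup.le_normalizer hzS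
    have hcop : (Nat.card S).Coprime q := by
      obtain ⟨m, hm⟩ := IsPGroup.iff_card.mp hS
      rw [hm]
      apply Nat.Coprime.pow_left
      exact (Nat.coprime_primes hs.out hq.out).mpr (fun e => hqs e.symm)
    have hnt : ⁅Q, S⁆ ≠ ⊥ := by
      intro h0
      apply hcentr
      intro g hg x hx
      have := (Subgroup.commutator_eq_bot_iff_le_centralizer.mp h0) hg
      exact (Subgroup.mem_centralizer_iff.mp this x hx).symm
    have hmin : ∀ U : Subgroup X, U < Q → B ≤ Subgroup.normalizer (U : Set X) → ⁅U, S⁆ = ⊥ := by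
      intro U hUQ hBU
      rw [Subgroup.commutator_eq_bot_iff_le_centralizer]
      have hcardU : Nat.card U < Nat.card Q := by
        have h1 : Nat.card U ≤ Nat.card Q := Subgroup.card_le_of_le hUQ.le
        have h2 : Nat.card U ≠ Nat.card Q := by
          intro h
          have := Subgroup.eq_of_le_of_card_ge hUQ.le (le_of_eq h.symm)
          exact hUQ.ne this
        omega
      have key := ih U S (by omega) (hQ.to_le hUQ.le) hS (hBU haB) haS (hSB.trans hBU)
        (fun g hg => hfpf g (hUQ.le hg))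
      intro g hg
      rw [Subgroup.mem_centralizer_iff]
      intro x hx
      exact (hgenS U key g hg x hx).symm
    obtain ⟨hQS, hstruct, -, hexp⟩ := Cfsg.Agent.S3736.result B S Q hQ hBQ hSB hBS hcop hnt hmin
    -- representations
    let ρQ : Representation k ↥Q V := ρ.comp Q.subtype
    have hρQ : Function.Injective ρQ := fun x y h => Subtype.ext (hρ h)
    have hcompat : ∀ (h : ↥(Subgroup.zpowers a)) (y : ↥Q) (v : V),
        τ h (ρQ y v) = ρQ (αH h y) (τ h v) := by
      intro h y v
      show ρ (h : X) (ρ (y : X) v) = ρ ((h : X) * (y : X) * (h : X)⁻¹) (ρ (h : X) v)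
      rw [← Module.End.mul_apply, ← Module.End.mul_apply, ← map_mul, ← map_mul]
      congr 2
      group
    by_cases hab : ∀ y₁ ∈ Q, ∀ y₂ ∈ Q, y₁ * y₂ = y₂ * y₁
    · -- the abelian case
      have hfixt : ∀ y ∈ Q, t * y * t⁻¹ = y := by
        intro y hy
        have := G2Spec.abelian_fixed (Qt := ↥Q) hQ hH2 (fun e => hq2 e.symm)
          (fun y₁ y₂ => Subtype.ext (hab y₁ y₁.2 y₂ y₂.2)) αH ρQ hρQ τ hcompat hqk h2k hfixV' t'
          ht'2 ⟨y, hy⟩
        exact congrArg Subtype.val this
      intro g hg x hx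
      have hxg : x * g * x⁻¹ ∈ Q := (Subgroup.mem_normalizer_iff.mp (hSQ hx) g).mp hg
      have h1 := hfixt g hg
      have h2 := hfixt _ hxg
      have h3 : t⁻¹ * g * t = g := by
        conv_lhs => rw [← h1]
        group
      symm
      calc (x⁻¹ * (t * x * t⁻¹)) * g = x⁻¹ * t * x * (t⁻¹ * g * t) * t⁻¹ := by group
        _ = x⁻¹ * t * x * g * t⁻¹ := by rw [h3]
        _ = x⁻¹ * (t * (x * g * x⁻¹) * t⁻¹) * (t * x * t⁻¹) := by group
        _ = x⁻¹ * (x * g * x⁻¹) * (t * x * t⁻¹) := by rw [h2]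
        _ = g * (x⁻¹ * (t * x * t⁻¹)) := by group
    · -- the special case is impossible
      exfalso
      push Not at hab
      obtain ⟨y₁, hy₁, y₂, hy₂, hne⟩ := hab
      have hnab : ∃ a' b' : ↥Q, a' * b' ≠ b' * a' :=
        ⟨⟨y₁, hy₁⟩, ⟨y₂, hy₂⟩, fun h => hne (congrArg Subtype.val h)⟩
      have hspecial : Cfsg.IsSpecial q ↥Q := by
        rcases hstruct with h | h
        · exfalso
          obtain ⟨hc, -⟩ := h
          exact hne (congrArg Subtype.val (hc.is_comm.comm ⟨y₁, hy₁⟩ ⟨y₂, hy₂⟩))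
        · exact h
      obtain ⟨-, -, hspec⟩ := hspecial
      -- `S` centralizes the centre
      have hSZ : ∀ x : ↥S, ∀ z ∈ Subgroup.center ↥Q, αS x z = z := by
        intro x z hz
        let ZX : Subgroup X := (Subgroup.center ↥Q).map Q.subtype
        have hZQ : ZX < Q := by
          refine lt_of_le_of_ne (Subgroup.map_subtype_le _) ?_
          intro h
          have h1 : y₁ ∈ ZX := by rw [h]; exact hy₁
          obtain ⟨z₁, hz₁, hz₁e⟩ := h1
          apply hne
          have := Subgroup.mem_center_iff.mp hz₁ ⟨y₂, hy₂⟩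
          have h2 := congrArg Subtype.val this
          rw [Subgroup.coe_mul, Subgroup.coe_mul] at h2
          have hz₁e' : (z₁ : X) = y₁ := hz₁e
          rw [hz₁e'] at h2
          exact h2.symm
        have hBZ : B ≤ Subgroup.normalizer (ZX : Set X) :=
          hBQ.trans (normalizer_le_of_characteristic Q (Subgroup.center ↥Q))
        have h0 := hmin ZX hZQ hBZ
        rw [Subgroup.commutator_eq_bot_iff_le_centralizer] at h0
        have hzmem : (z : X) ∈ ZX := ⟨z, hz, rfl⟩
        have h1 := Subgroup.mem_centralizer_iff.mp (h0 hzmem) (x : X) x.2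
        apply Subtype.ext
        show (x : X) * (z : X) * (x : X)⁻¹ = z
        rw [h1]; group
      have hQS' : Subgroup.closure {w : ↥Q | ∃ x y, w = y⁻¹ * αS x y} = ⊤ := by
        rw [eq_top_iff]
        intro g _
        have hgQ : (g : X) ∈ ⁅Q, S⁆ := by rw [hQS]; exact g.2
        have : ∀ w : X, w ∈ ⁅Q, S⁆ → ∃ hw : w ∈ Q,
            (⟨w, hw⟩ : ↥Q) ∈ Subgroup.closure {w : ↥Q | ∃ x y, w = y⁻¹ * αS x y} := by
          intro w hw
          rw [Subgroup.commutator_def] at hw
          induction hw using Subgroup.closure_induction with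
          | mem w hw =>
            obtain ⟨g₁, hg₁, x₁, hx₁, rfl⟩ := hw
            have hmem : ⁅g₁, x₁⁆ ∈ Q := by
              rw [commutatorElement_def]
              have := (Subgroup.mem_normalizer_iff.mp (hSQ hx₁) g₁⁻¹).mp (Q.inv_mem hg₁)
              have e : g₁ * x₁ * g₁⁻¹ * x₁⁻¹ = g₁ * (x₁ * g₁⁻¹ * x₁⁻¹) := by group
              rw [e]
              exact Q.mul_mem hg₁ this
            refine ⟨hmem, Subgroup.subset_closure ⟨⟨x₁, hx₁⟩, ⟨g₁, hg₁⟩⁻¹, ?_⟩⟩
            apply Subtype.ext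
            show ⁅g₁, x₁⁆ = (g₁⁻¹)⁻¹ * (x₁ * g₁⁻¹ * x₁⁻¹)
            rw [commutatorElement_def]; group
          | one => exact ⟨Q.one_mem, Subgroup.one_mem _⟩
          | mul a' b' _ _ ha' hb' =>
            obtain ⟨ha1, ha2⟩ := ha'
            obtain ⟨hb1, hb2⟩ := hb'
            exact ⟨Q.mul_mem ha1 hb1, Subgroup.mul_mem _ ha2 hb2⟩
          | inv a' _ ha' =>
            obtain ⟨ha1, ha2⟩ := ha'
            exact ⟨Q.inv_mem ha1, Subgroup.inv_mem _ ha2⟩
        obtain ⟨_, h2⟩ := this g hgQ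
        exact h2
      exact G2Spec.spec_false (Qt := ↥Q) (S₀ := ↥S) hqs hq2 hs2 hQ hS hH2
        (fun y => Subtype.ext (by
          rw [Subgroup.coe_pow, Subgroup.coe_one]; exact hexp hq2 y y.2)) hspec φ αS αH
        (fun h x y => Subtype.ext (by
          show (h : X) * ((x : X) * (y : X) * (x : X)⁻¹) * (h : X)⁻¹ =
            ((h : X) * (x : X) * (h : X)⁻¹) * ((h : X) * (y : X) * (h : X)⁻¹) *
              ((h : X) * (x : X) * (h : X)⁻¹)⁻¹
          group))
        ρQ hρQ τ hcompat hqk h2k hfixV'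
        (fun y hy => Subtype.ext (hfpf y y.2 (congrArg Subtype.val
          (hy ⟨a, Subgroup.mem_zpowers a⟩))))
        t' ht'2 hSZ hT hQS' hnab

end Star

end Cfsg.Agent.Lib.Helper2.G2Star
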