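import Mathlib
import Cfsg.Agent.Lib.Helper2.G2Star
import Cfsg.Agent.Lib.Helper2.CycShultGroup
import Cfsg.Agent.Lib.Helper54.Coprime
import Cfsg.Agent.Lib.Helper1.PCore
import Cfsg.Agent.Lib.Helper1.Fitting

/-!
# `[K, t] ≤ F(K)` for a cyclic `2`-group of operators

`X` is a finite group acting faithfully on `V`, `K ≤ X` a solvable subgroup of odd order with
`O_q(K) = 1` for the primes `q` vanishing in the field, `a ∈ N_X(K)` a `2`-element with
`C_K(a) = 1` and `C_V(a) = 0`, and `t ∈ ⟨a⟩` with `t² = 1`.  Then `[K, t] ≤ F(K)`.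
-/

set_option autoImplicit false

namespace Cfsg.Agent.Lib.Helper2.G2Group

open scoped commutatorElement
open Cfsg.Agent.Lib.Helper2.FrobFree Cfsg.Agent.Lib.Helper2.ShultGroup
  Cfsg.Agent.Lib.Helper2.G2Star

section Basic

variable {X : Type*} [Group X] [Finite X]

/-- The image of a normal subgroup of `K` is normalized by `K`. -/
theorem le_normalizer_map_of_normal (K : Subgroup X) (N' : Subgroup ↥K) [hN : N'.Normal] :
    K ≤ Subgroup.normalizer ((N'.map K.subtype : Subgroup X) : Set X) := by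
  intro g hg
  apply Subgroup.mem_normalizer_fintype
  rintro _ ⟨n, hn, rfl⟩
  exact ⟨⟨g, hg⟩ * n * ⟨g, hg⟩⁻¹, hN.conj_mem n hn ⟨g, hg⟩, rfl⟩

omit [Finite X] in
/-- An element commuting with generators commutes with the generated subgroup. -/
theorem comm_closure (g : X) (gen : Set X) (h : ∀ w ∈ gen, g * w = w * g) :
    ∀ w ∈ Subgroup.closure gen, g * w = w * g := by
  intro w hw
  have hle : Subgroup.closure gen ≤ Subgroup.centralizer {g} := by
    rw [Subgroup.closure_le]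
    intro w hw
    rw [SetLike.mem_coe, Subgroup.mem_centralizer_iff]
    rintro _ rfl
    exact h w hw
  exact Subgroup.mem_centralizer_iff.mp (hle hw) g rfl

/-- `O_s` of a normal subgroup lies in `O_s` of the group. -/
theorem map_pCore_le (s : ℕ) (L₁ K : Subgroup X) (hLK : L₁ ≤ K)
    (hKL : K ≤ Subgroup.normalizer (L₁ : Set X)) :
    (Cfsg.pCore s ↥L₁).map L₁.subtype ≤ (Cfsg.pCore s ↥K).map K.subtype := by
  set O := (Cfsg.pCore s ↥L₁).map L₁.subtype with hO
  have hOL : O ≤ L₁ := Subgroup.map_subtype_le _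
  have hOK : O ≤ K := hOL.trans hLK
  have hKO : K ≤ Subgroup.normalizer (O : Set X) :=
    hKL.trans (normalizer_le_of_characteristic L₁ (Cfsg.pCore s ↥L₁))
  have hn : (O.subgroupOf K).Normal := (Subgroup.normal_subgroupOf_iff_le_normalizer hOK).mpr hKO
  have hOp : IsPGroup s O := (Cfsg.Agent.Lib.Helper1.pCore_isPGroup s).map _
  have hp : IsPGroup s (O.subgroupOf K) := hOp.comap_subtype
  have hle := Cfsg.Agent.Lib.Helper1.le_pCore hn hp
  rw [← Subgroup.map_subgroupOf_eq_of_le hOK]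
  exact Subgroup.map_mono hle

/-- If `L₁ / Fk` is an `s`-group then `L₁ = Fk S` for a Sylow `s`-subgroup `S` of `L₁`. -/
theorem le_sup_sylow {s : ℕ} [hs : Fact s.Prime] (L₁ Fk : Subgroup X) (hFL : Fk ≤ L₁)
    (hquot : ∀ f ∈ L₁, ∃ m : ℕ, f ^ (s ^ m) ∈ Fk)
    (hLF : L₁ ≤ Subgroup.normalizer (Fk : Set X)) (P : Sylow s ↥L₁) :
    L₁ ≤ Fk ⊔ (P : Subgroup ↥L₁).map L₁.subtype := by
  set S := (P : Subgroup ↥L₁).map L₁.subtype with hS
  have hSL : S ≤ L₁ := Subgroup.map_subtype_le _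
  rw [← Subgroup.relIndex_eq_one]
  set d := (Fk ⊔ S).relIndex L₁ with hd
  have h1 : d ∣ S.relIndex L₁ := Subgroup.relIndex_dvd_of_le_left L₁ le_sup_right
  have h2 : d ∣ Fk.relIndex L₁ := Subgroup.relIndex_dvd_of_le_left L₁ le_sup_left
  have hSP : S.subgroupOf L₁ = P := by
    ext x
    rw [Subgroup.mem_subgroupOf, hS, Subgroup.mem_map]
    constructor
    · rintro ⟨y, hy, hyx⟩
      have : y = x := Subtype.ext hyx
      rwa [← this]
    · intro hx
      exact ⟨x, hx, rfl⟩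
  have h3 : ¬ s ∣ S.relIndex L₁ := by
    rw [Subgroup.relIndex, hSP]
    exact P.not_dvd_index
  have hn : (Fk.subgroupOf L₁).Normal :=
    (Subgroup.normal_subgroupOf_iff_le_normalizer hFL).mpr hLF
  have hpq : IsPGroup s (↥L₁ ⧸ Fk.subgroupOf L₁) := by
    intro g
    induction g using QuotientGroup.induction_on with
    | H g =>
      obtain ⟨m, hm⟩ := hquot g g.2
      refine ⟨m, ?_⟩
      rw [← QuotientGroup.mk_pow, QuotientGroup.eq_one_iff, Subgroup.mem_subgroupOf,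
        Subgroup.coe_pow]
      exact hm
  obtain ⟨m, hm⟩ := IsPGroup.iff_card.mp hpq
  have h4 : Fk.relIndex L₁ = s ^ m := by
    rw [Subgroup.relIndex, Subgroup.index_eq_card, hm]
  rw [h4] at h2
  obtain ⟨j, -, hj⟩ := (Nat.dvd_prime_pow hs.out).mp h2
  rcases j with _ | j
  · rw [hj, pow_zero]
  · exfalso
    apply h3
    refine dvd_trans ?_ h1
    rw [hj, pow_succ]
    exact dvd_mul_left _ _

end Basic

section Main

open Cfsg.Agent.Lib.Helper1

variable {X : Type*} [Group X] [Finite X] {k V : Type*} [Field k] [AddCommGroup V] [Module k V]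
  [FiniteDimensional k V]

set_option maxHeartbeats 1600000 in
/-- The key step: `[S, t] ≤ F(K)` for an invariant Sylow `s`-subgroup of the preimage `L₁` of
`O_s(K / F(K))`. -/
theorem comm_le_fitting (ρ : Representation k X V) (hρ : Function.Injective ρ) (h2k : (2 : k) ≠ 0)
    (K : Subgroup X) (hKodd : ¬ 2 ∣ Nat.card ↥K)
    (hcore : ∀ q : ℕ, q.Prime → (q : k) = 0 → Cfsg.pCore q ↥K = ⊥)
    (a : X) (n : ℕ) (ha : a ^ (2 ^ n) = 1) (haK : a ∈ Subgroup.normalizer (K : Set X))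
    (hfpf : ∀ g ∈ K, a * g * a⁻¹ = g → g = 1) (hfixV : ∀ v : V, ρ a v = v → v = 0)
    (t : X) (ht : t ∈ Subgroup.zpowers a) (ht2 : t ^ 2 = 1)
    {s : ℕ} [hs : Fact s.Prime] (hs2 : s ≠ 2)
    (L₁ : Subgroup X) (hL₁K : L₁ ≤ K) (hKL₁ : K ≤ Subgroup.normalizer (L₁ : Set X))
    (hFL : (Cfsg.fittingSubgroup ↥K).map K.subtype ≤ L₁)
    (hquot : ∀ f ∈ L₁, ∃ m : ℕ, f ^ (s ^ m) ∈ (Cfsg.fittingSubgroup ↥K).map K.subtype)
    (P : Sylow s ↥L₁)
    (haS : a ∈ Subgroup.normalizer (((P : Subgroup ↥L₁).map L₁.subtype : Subgroup X) : Set X)) :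
    ∀ x ∈ (P : Subgroup ↥L₁).map L₁.subtype,
      x⁻¹ * (t * x * t⁻¹) ∈ (Cfsg.fittingSubgroup ↥K).map K.subtype := by
  classical
  set Fk := (Cfsg.fittingSubgroup ↥K).map K.subtype with hFk
  set S := (P : Subgroup ↥L₁).map L₁.subtype with hS
  have hSp : IsPGroup s S := P.isPGroup'.map _
  have hSL : S ≤ L₁ := Subgroup.map_subtype_le _
  have hSK : S ≤ K := hSL.trans hL₁K
  have hzS : Subgroup.zpowers a ≤ Subgroup.normalizer (S : Set X) := Subgroup.zpowers_le.mpr haS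
  have htS : ∀ x ∈ S, t * x * t⁻¹ ∈ S := fun x hx =>
    (Subgroup.mem_normalizer_iff.mp (hzS ht) x).mp hx
  let gen : Set X := {w | ∃ x ∈ S, w = x⁻¹ * (t * x * t⁻¹)}
  let T : Subgroup X := Subgroup.closure gen
  have hTS : T ≤ S := by
    rw [Subgroup.closure_le]
    rintro _ ⟨x, hx, rfl⟩
    exact S.mul_mem (S.inv_mem hx) (htS x hx)
  -- `S` normalizes `T`
  have hSnT : S ≤ Subgroup.normalizer (T : Set X) := by
    intro y hy
    apply mem_normalizer_closure
    rintro _ ⟨x, hx, rfl⟩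
    have e : y * (x⁻¹ * (t * x * t⁻¹)) * y⁻¹ =
        ((x * y⁻¹)⁻¹ * (t * (x * y⁻¹) * t⁻¹)) * ((y⁻¹)⁻¹ * (t * y⁻¹ * t⁻¹))⁻¹ := by group
    rw [e]
    exact Subgroup.mul_mem _ (Subgroup.subset_closure ⟨_, S.mul_mem hx (S.inv_mem hy), rfl⟩)
      (Subgroup.inv_mem _ (Subgroup.subset_closure ⟨_, S.inv_mem hy, rfl⟩))
  -- the `p`-cores
  have hKnorm : ∀ q : ℕ, Subgroup.normalizer (K : Set X) ≤
      Subgroup.normalizer (((Cfsg.pCore q ↥K).map K.subtype : Subgroup X) : Set X) :=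
    fun q => normalizer_le_of_characteristic K (Cfsg.pCore q ↥K)
  have hQqF : ∀ q : Nat.Primes, (Cfsg.pCore (q : ℕ) ↥K).map K.subtype ≤ Fk := by
    intro q
    have : Fact (q : ℕ).Prime := ⟨q.2⟩
    exact Subgroup.map_mono (le_fittingSubgroup inferInstance
      (pCore_isPGroup (q : ℕ)).isNilpotent)
  have hQqT : ∀ q : Nat.Primes,
      (Cfsg.pCore (q : ℕ) ↥K).map K.subtype ≤ Subgroup.normalizer (T : Set X) := by
    intro q
    have hqf : Fact (q : ℕ).Prime := ⟨q.2⟩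
    set Q := (Cfsg.pCore (q : ℕ) ↥K).map K.subtype with hQ
    have hQp : IsPGroup (q : ℕ) Q := (pCore_isPGroup (q : ℕ)).map _
    have hQK : Q ≤ K := Subgroup.map_subtype_le _
    by_cases hqs : (q : ℕ) = s
    · -- `O_s(K) ≤ S`
      refine le_trans ?_ hSnT
      have hQL : Q ≤ L₁ := (hQqF q).trans hFL
      have hn : (Q.subgroupOf L₁).Normal :=
        (Subgroup.normal_subgroupOf_iff_le_normalizer hQL).mpr
          (hL₁K.trans (Subgroup.le_normalizer.trans (hKnorm q)))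
      have hp : IsPGroup s (Q.subgroupOf L₁) := by
        rw [← hqs]; exact hQp.comap_subtype
      have hle : Q.subgroupOf L₁ ≤ P := (le_pCore hn hp).trans (pCore_le_sylow s P)
      rw [← Subgroup.map_subgroupOf_eq_of_le hQL]
      exact Subgroup.map_mono hle
    · by_cases hQbot : Q = ⊥
      · rw [hQbot]; exact bot_le
      -- `q` is odd and invertible in `k`
      have hq2 : (q : ℕ) ≠ 2 := by
        intro h2
        apply hKodd
        obtain ⟨⟨g, hgQ⟩, hg1⟩ := Subgroup.ne_bot_iff_exists_ne_one.mp hQbot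
        obtain ⟨m, hm⟩ := (IsPGroup.iff_orderOf.mp hQp) ⟨g, hgQ⟩
        have hm0 : m ≠ 0 := by
          rintro rfl
          rw [pow_zero, orderOf_eq_one_iff] at hm
          exact hg1 hm
        have h1 : orderOf (⟨g, hQK hgQ⟩ : ↥K) = orderOf g := Subgroup.orderOf_mk g (hQK hgQ)
        have h3 : orderOf g = (q : ℕ) ^ m := by
          rw [← hm]; exact (Subgroup.orderOf_mk g hgQ).symm
        have h4 : 2 ∣ orderOf g := by rw [h3, h2]; exact dvd_pow_self 2 hm0
        exact h4.trans (h1 ▸ orderOf_dvd_natCard (⟨g, hQK hgQ⟩ : ↥K))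
      have hqk : ((q : ℕ) : k) ≠ 0 := by
        intro h0
        apply hQbot
        rw [hQ, hcore q q.2 h0, Subgroup.map_bot]
      have key := star ρ hρ hqs hq2 hs2 hqk h2k a n ha hfixV t ht ht2
        (Nat.card Q + Nat.card S) Q S le_rfl hQp hSp (hKnorm q haK) haS
        (hSK.trans (Subgroup.le_normalizer.trans (hKnorm q)))
        (fun g hg => hfpf g (hQK hg))
      intro g hg
      apply Subgroup.mem_normalizer_fintype
      intro w hw
      have hw' : w ∈ T := hw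
      have hcomm : g * w = w * g := comm_closure g gen (by
        rintro _ ⟨x, hx, rfl⟩
        exact key g hg x hx) w hw'
      show g * w * g⁻¹ ∈ T
      rw [hcomm]
      have e : w * g * g⁻¹ = w := by group
      rw [e]; exact hw'
  have hFkT : Fk ≤ Subgroup.normalizer (T : Set X) := by
    rw [hFk, fittingSubgroup_eq_iSup_pCore, Subgroup.map_iSup]
    exact iSup_le hQqT
  have hLF : L₁ ≤ Subgroup.normalizer (Fk : Set X) :=
    hL₁K.trans (le_normalizer_map_of_normal K (Cfsg.fittingSubgroup ↥K))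
  have hL₁sup : L₁ ≤ Fk ⊔ S := le_sup_sylow L₁ Fk hFL hquot hLF P
  have hL₁T : L₁ ≤ Subgroup.normalizer (T : Set X) := hL₁sup.trans (sup_le hFkT hSnT)
  have hTL : T ≤ L₁ := hTS.trans hSL
  have hn : (T.subgroupOf L₁).Normal :=
    (Subgroup.normal_subgroupOf_iff_le_normalizer hTL).mpr hL₁T
  have hp : IsPGroup s (T.subgroupOf L₁) := (hSp.to_le hTS).comap_subtype
  have hle : T.subgroupOf L₁ ≤ Cfsg.pCore s ↥L₁ := le_pCore hn hp
  have hTF : T ≤ Fk := by
    rw [← Subgroup.map_subgroupOf_eq_of_le hTL]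
    exact (Subgroup.map_mono hle).trans ((map_pCore_le s L₁ K hL₁K hKL₁).trans
      (hQqF ⟨s, hs.out⟩))
  intro x hx
  exact hTF (Subgroup.subset_closure ⟨x, hx, rfl⟩)

set_option maxHeartbeats 1600000 in
/-- **`[K, t] ≤ F(K)`.** -/
theorem main (ρ : Representation k X V) (hρ : Function.Injective ρ) (h2k : (2 : k) ≠ 0)
    (K : Subgroup X) (hKsol : Group.IsSolvable ↥K) (hKodd : ¬ 2 ∣ Nat.card ↥K)
    (hcore : ∀ q : ℕ, q.Prime → (q : k) = 0 → Cfsg.pCore q ↥K = ⊥)
    (a : X) (n : ℕ) (ha : a ^ (2 ^ n) = 1) (haK : a ∈ Subgroup.normalizer (K : Set X))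
    (hfpf : ∀ g ∈ K, a * g * a⁻¹ = g → g = 1) (hfixV : ∀ v : V, ρ a v = v → v = 0)
    (t : X) (ht : t ∈ Subgroup.zpowers a) (ht2 : t ^ 2 = 1) :
    ∀ g ∈ K, g⁻¹ * (t * g * t⁻¹) ∈ (Cfsg.fittingSubgroup ↥K).map K.subtype := by
  classical
  have hzK : Subgroup.zpowers a ≤ Subgroup.normalizer (K : Set X) := Subgroup.zpowers_le.mpr haK
  have hH2 : IsPGroup 2 ↥(Subgroup.zpowers a) := by
    intro h
    refine ⟨n, ?_⟩
    obtain ⟨z, hz⟩ := h.2
    apply Subtype.ext
    rw [Subgroup.coe_pow, Subgroup.coe_one]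
    have hz' : (h : X) = a ^ z := hz.symm
    rw [hz', ← zpow_natCast, ← zpow_mul, mul_comm, zpow_mul, zpow_natCast, ha, one_zpow]
  have hsolH : Group.IsSolvable ↥(Subgroup.zpowers a) := by
    apply Group.isSolvable_of_comm
    rintro ⟨x, hx⟩ ⟨y, hy⟩
    apply Subtype.ext
    obtain ⟨i, rfl⟩ := hx
    obtain ⟨j, rfl⟩ := hy
    show a ^ i * a ^ j = a ^ j * a ^ i
    rw [← zpow_add, ← zpow_add, add_comm]
  obtain ⟨mH, hmH⟩ := IsPGroup.iff_card.mp hH2
  have hcop2 : ∀ N : ℕ, N ∣ Nat.card ↥K → (Nat.card ↥(Subgroup.zpowers a)).Coprime N := by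
    intro N hN
    rw [hmH]
    apply Nat.Coprime.pow_left
    rw [Nat.Prime.coprime_iff_not_dvd Nat.prime_two]
    exact fun h => hKodd (h.trans hN)
  let φ : ↥(Subgroup.zpowers a) →* MulAut ↥K := conjOn (Subgroup.zpowers a) K hzK
  set F := Cfsg.fittingSubgroup ↥K with hF
  have hFinv : ∀ h : ↥(Subgroup.zpowers a), ∀ x ∈ F, φ h x ∈ F :=
    fun h x hx => Critical.map_mem_of_characteristic φ F h x hx
  let φb : ↥(Subgroup.zpowers a) →* MulAut (↥K ⧸ F) := quotientAut φ F hFinv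
  let t' : ↥(Subgroup.zpowers a) := ⟨t, ht⟩
  have hcardQ : Nat.card (↥K ⧸ F) ∣ Nat.card ↥K :=
    Subgroup.card_dvd_of_surjective (QuotientGroup.mk' F) (QuotientGroup.mk'_surjective F)
  have hcop : (Nat.card (↥K ⧸ F)).Coprime (Nat.card ↥(Subgroup.zpowers a)) :=
    (hcop2 _ hcardQ).symm
  -- the fixed points of `t` on the quotient
  let Fx : Subgroup (↥K ⧸ F) :=
    { carrier := {kb | φb t' kb = kb}
      mul_mem' := fun {x y} hx hy => by
        show φb t' (x * y) = x * y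
        rw [map_mul, hx, hy]
      one_mem' := map_one _
      inv_mem' := fun {x} hx => by
        show φb t' x⁻¹ = x⁻¹
        rw [map_inv, hx] }
  have hcoreFx : ∀ s : Nat.Primes, Cfsg.pCore (s : ℕ) (↥K ⧸ F) ≤ Fx := by
    intro s
    have hsf : Fact (s : ℕ).Prime := ⟨s.2⟩
    set Lb := Cfsg.pCore (s : ℕ) (↥K ⧸ F) with hLb
    have hLbp : IsPGroup (s : ℕ) ↥Lb := pCore_isPGroup (s : ℕ)
    by_cases hs2 : (s : ℕ) = 2
    · -- a `2`-subgroup of a group of odd order is trivial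
      obtain ⟨m, hm⟩ := IsPGroup.iff_card.mp hLbp
      have hdvd : Nat.card ↥Lb ∣ Nat.card ↥K := (Subgroup.card_subgroup_dvd_card Lb).trans hcardQ
      have hm0 : m = 0 := by
        by_contra hm0
        apply hKodd
        refine dvd_trans ?_ hdvd
        rw [hm, hs2]
        exact dvd_pow_self 2 hm0
      rw [hm0, pow_zero] at hm
      rw [Subgroup.card_eq_one.mp hm]
      exact bot_le
    let L' : Subgroup ↥K := Lb.comap (QuotientGroup.mk' F)
    have hL'n : L'.Normal := inferInstance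
    let L₁ : Subgroup X := L'.map K.subtype
    have hL₁K : L₁ ≤ K := Subgroup.map_subtype_le _
    have hKL₁ : K ≤ Subgroup.normalizer (L₁ : Set X) := le_normalizer_map_of_normal K L'
    have hFL' : F ≤ L' := by
      intro x hx
      show (QuotientGroup.mk' F x) ∈ Lb
      rw [QuotientGroup.mk'_apply, (QuotientGroup.eq_one_iff x).mpr hx]
      exact Lb.one_mem
    have hFL : F.map K.subtype ≤ L₁ := Subgroup.map_mono hFL'
    have hquot : ∀ f ∈ L₁, ∃ m : ℕ, f ^ ((s : ℕ) ^ m) ∈ F.map K.subtype := by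
      rintro _ ⟨f, hf, rfl⟩
      obtain ⟨m, hm⟩ := hLbp ⟨QuotientGroup.mk' F f, hf⟩
      refine ⟨m, f ^ ((s : ℕ) ^ m), ?_, by simp⟩
      have h1 := congrArg Subtype.val hm
      rw [Subgroup.coe_pow, Subgroup.coe_one, ← map_pow, QuotientGroup.mk'_apply] at h1
      exact (QuotientGroup.eq_one_iff _).mp h1
    have hL'inv : ∀ h : ↥(Subgroup.zpowers a), ∀ x ∈ L', φ h x ∈ L' := by
      intro h x hx
      have h1 : (QuotientGroup.mk' F x) ∈ Lb := hx
      exact Critical.map_mem_of_characteristic φb Lb h _ h1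
    have hzL₁ : Subgroup.zpowers a ≤ Subgroup.normalizer (L₁ : Set X) := by
      intro h hh
      apply Subgroup.mem_normalizer_fintype
      rintro _ ⟨x, hx, rfl⟩
      exact ⟨φ ⟨h, hh⟩ x, hL'inv _ x hx, rfl⟩
    have hcardL : Nat.card ↥L₁ ∣ Nat.card ↥K := Subgroup.card_dvd_of_le hL₁K
    obtain ⟨P, hP⟩ := Cfsg.Agent.Lib.Helper54.exists_invariant_sylow (Subgroup.zpowers a) L₁ hzL₁
      (hcop2 _ hcardL) (Or.inl hsolH) (s : ℕ)
    have key := comm_le_fitting ρ hρ h2k K hKodd hcore a n ha haK hfpf hfixV t ht ht2 hs2 L₁ hL₁K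
      hKL₁ hFL hquot P (hP (Subgroup.mem_zpowers a))
    have hLF : L₁ ≤ Subgroup.normalizer ((F.map K.subtype : Subgroup X) : Set X) :=
      hL₁K.trans (le_normalizer_map_of_normal K F)
    have hL₁sup := le_sup_sylow L₁ (F.map K.subtype) hFL hquot hLF P
    -- the preimage of the fixed points
    let D : Subgroup X := (Fx.comap (QuotientGroup.mk' F)).map K.subtype
    have hFD : F.map K.subtype ≤ D := by
      apply Subgroup.map_mono
      intro x hx
      show (QuotientGroup.mk' F x) ∈ Fx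
      rw [QuotientGroup.mk'_apply, (QuotientGroup.eq_one_iff x).mpr hx]
      exact Fx.one_mem
    have hSD : (P : Subgroup ↥L₁).map L₁.subtype ≤ D := by
      intro x hx
      have hxK : x ∈ K := hL₁K (Subgroup.map_subtype_le _ hx)
      refine ⟨⟨x, hxK⟩, ?_, rfl⟩
      show φb t' ((⟨x, hxK⟩ : ↥K) : ↥K ⧸ F) = ((⟨x, hxK⟩ : ↥K) : ↥K ⧸ F)
      rw [quotientAut_mk, eq_comm, QuotientGroup.eq]
      obtain ⟨u, hu, hue⟩ := key x hx
      have : u = (⟨x, hxK⟩ : ↥K)⁻¹ * φ t' ⟨x, hxK⟩ := Subtype.ext hue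
      rw [← this]
      exact hu
    intro kb hkb
    induction kb using QuotientGroup.induction_on with
    | H x =>
      have hxL : (x : X) ∈ L₁ := ⟨x, hkb, rfl⟩
      obtain ⟨y, hy, hyx⟩ := (hL₁sup.trans (sup_le hFD hSD)) hxL
      have : y = x := Subtype.ext hyx
      rw [← this]
      exact hy
  have hFit : Cfsg.fittingSubgroup (↥K ⧸ F) ≤ Fx := by
    rw [fittingSubgroup_eq_iSup_pCore]
    exact iSup_le hcoreFx
  intro g hg
  have h1 := Cfsg.Agent.Lib.Helper2.CycShultGroup.eq_of_fixes_fitting φb hcop t'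
    (fun f hf => hFit hf) (((⟨g, hg⟩ : ↥K)) : ↥K ⧸ F)
  rw [quotientAut_mk, eq_comm, QuotientGroup.eq] at h1
  exact ⟨_, h1, rfl⟩

end Main

end Cfsg.Agent.Lib.Helper2.G2Group
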