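import Mathlib
import Cfsg.Agent.Lib.Helper2.G2C
import Cfsg.Agent.Lib.Helper2.G2D
import Cfsg.Agent.Lib.Helper2.G2Group

/-!
# Cyclic groups of operators of order at most four

If the cyclic group `H = ⟨σ⟩` of order at most four acts on the `q`-group `P` (`q` odd) with
`C_P(σ) = 1`, and the semidirect product acts on `V` with `C_V(H) = 0`, then the element `t` of
`H` with `t² = 1` acts trivially on the image of `P` in `GL(V)`.
-/

set_option autoImplicit false

namespace Cfsg.Agent.Lib.Helper2.G2Small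

open scoped BigOperators commutatorElement TensorProduct
open Module Cfsg.Agent.Lib.Helper2.FreeAssembly Cfsg.Agent.Lib.Helper2.ShultCore
  Cfsg.Agent.Lib.Helper2.ShultB Cfsg.Agent.Lib.Helper2.ShultBase Cfsg.Agent.Lib.Helper2.FrobFree
  Cfsg.Agent.Lib.Helper2.CycCrit Cfsg.Agent.Lib.Helper2.CycShultMain

universe uK uP uH uV

section AC

variable {K : Type uK} [Field K] [IsAlgClosed K] {P : Type uP} [Group P] [Finite P]
  [Group.IsNilpotent P] {H : Type uH} [Group H] [Finite H] [IsCyclic H] {V : Type uV}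
  [AddCommGroup V] [Module K V] [FiniteDimensional K V]

set_option maxHeartbeats 800000 in
/-- The class two case is impossible for `|H| ≤ 4`. -/
theorem ac_small [Nontrivial V] (hH : IsPGroup 2 H) (hcard : Nat.card H ≤ 4)
    (φ : H →* MulAut P) (ρ : Representation K P V) (τ : Representation K H V)
    (hcompat : ∀ (h : H) (g : P) (v : V), τ h (ρ g v) = ρ (φ h g) (τ h v))
    (h1 : ∀ a b : P, ⁅a, b⁆ ∈ Subgroup.center P)
    (h3 : ∀ h, h ≠ 1 → ∀ g, g⁻¹ * φ h g ∈ Subgroup.center P → g ∈ Subgroup.center P)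
    (hc : ∀ v : V, (∀ c ∈ commutator P, ρ c v = v) → v = 0)
    (hPK : (Nat.card P : K) ≠ 0) (h2K : (2 : K) ≠ 0)
    (hfix : ∀ v : V, (∀ h, τ h v = v) → v = 0)
    (σ : H) (hfpfZ : ∀ z ∈ Subgroup.center P, φ σ z = z → z = 1) : False := by
  classical
  obtain ⟨B, ⟨U, hU0, hUinv, hUs, hUB⟩, hMax⟩ :=
    G2Stable.exists_max_stable (p := 2) hH φ ρ τ hcompat hfix
  obtain ⟨x, hx⟩ := IsCyclic.exists_generator (α := ↥B)
  obtain ⟨hdim, hdim2, -⟩ := G2D.stable_props hH φ ρ τ hcompat h3 hc hPK h2K B x hx U hU0 hUinv hUs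
    hUB (hMax U hU0 hUinv hUs hUB)
  -- `B = ⊤`
  obtain ⟨b, hb⟩ := IsPGroup.iff_card.mp (hH.to_subgroup B)
  have hBH : Nat.card ↥B ≤ Nat.card H := Subgroup.card_le_card_group B
  have hb2 : 2 ≤ b := by
    by_contra hlt
    push Not at hlt
    have : Nat.card ↥B ≤ 2 := by
      rw [hb]
      calc 2 ^ b ≤ 2 ^ 1 := Nat.pow_le_pow_right (by norm_num) (by omega)
        _ = 2 := by norm_num
    omega
  have hB4 : 4 ≤ Nat.card ↥B := by
    rw [hb]
    calc 4 = 2 ^ 2 := by norm_num
      _ ≤ 2 ^ b := Nat.pow_le_pow_right (by norm_num) hb2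
  have hBtop : B = ⊤ := Subgroup.eq_top_of_card_eq B (by omega)
  have hUH : ∀ h : H, U ≤ U.comap (τ h) := fun h => hUB h (hBtop ▸ Subgroup.mem_top h)
  -- the centre acts by scalars
  set ρ' := ρ.subrepresentation U hUinv with hρ'
  have hirr := hirr_of_simple ρ U hUinv hUs
  have hnt : Nontrivial ↥U := Submodule.nontrivial_iff_ne_bot.mpr hU0
  have hZinv : ∀ h : H, ∀ z ∈ Subgroup.center P, φ h z ∈ Subgroup.center P :=
    fun h z hz => Critical.map_mem_of_characteristic φ _ h z hz
  have hscal : ∀ z ∈ Subgroup.center P, ∀ u ∈ U, ρ (φ σ z) u = ρ z u := by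
    intro z hz u hu
    obtain ⟨c, hcz⟩ := schur ρ' hirr (ρ' z) fun g => by
      have e1 : ρ' g ∘ₗ ρ' z = ρ' (g * z) := by rw [map_mul]; rfl
      have e2 : ρ' z ∘ₗ ρ' g = ρ' (z * g) := by rw [map_mul]; rfl
      rw [e1, e2, (Subgroup.mem_center_iff.mp hz) g]
    have hcz' : ∀ w ∈ U, ρ z w = c • w := by
      intro w hw
      have := congrArg (fun f : Module.End K ↥U => ((f ⟨w, hw⟩ : ↥U) : V)) hcz
      exact this
    have hu' : τ σ⁻¹ u ∈ U := hUH σ⁻¹ hu
    have e : u = τ σ (τ σ⁻¹ u) := (tau_apply_inv τ σ u).symm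
    conv_lhs => rw [e]
    rw [← hcompat, hcz' _ hu', map_smul, tau_apply_inv, hcz' u hu]
  -- `z ↦ z⁻¹ σ(z)` is onto the centre
  let ψ : MulAut ↥(Subgroup.center P) := restrictAut φ (Subgroup.center P) hZinv σ
  have hψ : ∀ f : ↥(Subgroup.center P), ψ f = f → f = 1 := by
    intro f hf
    apply Subtype.ext
    exact hfpfZ f f.2 (congrArg Subtype.val hf)
  have hinj := injective_inv_mul ψ hψ
  have hsurj := Finite.surjective_of_injective hinj
  have htriv : ∀ z ∈ Subgroup.center P, ∀ u ∈ U, ρ z u = u := by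
    intro z hz u hu
    obtain ⟨z₀, hz₀⟩ := hsurj ⟨z, hz⟩
    have hz₀' : (z₀ : P)⁻¹ * φ σ (z₀ : P) = z := congrArg Subtype.val hz₀
    rw [← hz₀', map_mul, Module.End.mul_apply, hscal z₀ z₀.2 u hu, tau_inv_apply]
  obtain ⟨u, huU, hu0⟩ := Submodule.exists_mem_ne_zero_of_ne_bot hU0
  apply hu0
  apply hc
  intro c hcP
  have hcZ : c ∈ Subgroup.center P := by
    have hle : commutator P ≤ Subgroup.center P := by
      rw [commutator_def, Subgroup.commutator_le]
      intro a _ b _
      exact h1 a b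
    exact hle hcP
  exact htriv c hcZ u huU

end AC

section Field

variable {k : Type*} [Field k] {P : Type*} [Group P] [Finite P] [Group.IsNilpotent P]
  {H : Type*} [Group H] [Finite H] [IsCyclic H] {V : Type*} [AddCommGroup V] [Module k V]
  [FiniteDimensional k V]

set_option maxHeartbeats 800000 in
theorem field_small [Nontrivial V] (hH : IsPGroup 2 H) (hcard : Nat.card H ≤ 4)
    (φ : H →* MulAut P) (ρ : Representation k P V) (τ : Representation k H V)
    (hcompat : ∀ (h : H) (g : P) (v : V), τ h (ρ g v) = ρ (φ h g) (τ h v))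
    (h1 : ∀ a b : P, ⁅a, b⁆ ∈ Subgroup.center P)
    (h3 : ∀ h, h ≠ 1 → ∀ g, g⁻¹ * φ h g ∈ Subgroup.center P → g ∈ Subgroup.center P)
    (hc : ∀ v : V, (∀ c ∈ commutator P, ρ c v = v) → v = 0)
    (hPk : (Nat.card P : k) ≠ 0) (h2k : (2 : k) ≠ 0)
    (hfix : ∀ v : V, (∀ h, τ h v = v) → v = 0)
    (σ : H) (hfpfZ : ∀ z ∈ Subgroup.center P, φ σ z = z → z = 1) : False := by
  classical
  have := Fintype.ofFinite H
  have := Fintype.ofFinite ↥(commutator P)
  let K := AlgebraicClosure k
  have hinj : Function.Injective (algebraMap k K) := (algebraMap k K).injective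
  have hcast : ∀ n : ℕ, (n : k) ≠ 0 → (n : K) ≠ 0 := by
    intro n hn h0
    apply hn
    apply hinj
    rw [map_natCast, map_zero]; exact h0
  have hfin : FiniteDimensional K (K ⊗[k] V) := inferInstance
  have hnt : Nontrivial (K ⊗[k] V) := by
    apply Module.nontrivial_of_finrank_pos (R := K)
    rw [Module.finrank_baseChange]
    exact Module.finrank_pos
  have h2k' : ((2 : ℕ) : k) ≠ 0 := by exact_mod_cast h2k
  have hHk : (Fintype.card H : k) ≠ 0 := by
    obtain ⟨a, ha⟩ := IsPGroup.iff_card.mp hH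
    rw [← Nat.card_eq_fintype_card, ha, Nat.cast_pow]
    exact pow_ne_zero _ h2k'
  have hCk : (Fintype.card ↥(commutator P) : k) ≠ 0 := by
    intro h0
    apply hPk
    obtain ⟨c, hc'⟩ := Subgroup.card_subgroup_dvd_card (commutator P)
    rw [hc', Nat.cast_mul, Nat.card_eq_fintype_card, h0, zero_mul]
  have h2K : (2 : K) ≠ 0 := by exact_mod_cast hcast 2 h2k'
  exact ac_small (K := K) hH hcard φ (bcRep K ρ) (bcRep K τ)
    (fun h g w => G2D.bc_comm K τ ρ h h g (φ h g) (fun v => hcompat h g v) w) h1 h3 (by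
      intro w hw
      refine CycShultField.baseChange_no_common_fixed K (ρ.comp (commutator P).subtype)
        (hcast _ hCk) ?_ w ?_
      · intro v hv
        exact hc v (fun c hcP => hv ⟨c, hcP⟩)
      · intro c
        exact hw c c.2) (hcast _ hPk) h2K (by
      intro w hw
      exact CycShultField.baseChange_no_common_fixed K τ (hcast _ hHk) hfix w hw) σ hfpfZ

end Field

section Crit

variable {k : Type*} [Field k] {P : Type*} [Group P] [Finite P] {H : Type*} [Group H] [Finite H]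
  [IsCyclic H] {V : Type*} [AddCommGroup V] [Module k V] [FiniteDimensional k V]
  {q : ℕ} [hq : Fact q.Prime]

set_option maxHeartbeats 800000 in
/-- The critical case is impossible. -/
theorem critical_small (h2q : 2 ≠ q) (hH : IsPGroup 2 H) (hcard : Nat.card H ≤ 4)
    (hP : IsPGroup q P)
    (φ : H →* MulAut P) (ρ : Representation k P V) (τ : Representation k H V)
    (hcompat : ∀ (h : H) (g : P) (v : V), τ h (ρ g v) = ρ (φ h g) (τ h v))
    (hρ : Function.Injective ρ) (hcrit : IsCrit φ (omega H 2))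
    (hqk : (q : k) ≠ 0) (h2k : (2 : k) ≠ 0)
    (hfix : ∀ v : V, (∀ h, τ h v = v) → v = 0)
    (σ : H) (hfpf : ∀ g : P, φ σ g = g → g = 1) : False := by
  classical
  have hnil : Group.IsNilpotent P := hP.isNilpotent
  obtain ⟨a, ha⟩ := IsPGroup.iff_card.mp hP
  obtain ⟨n, hn⟩ := IsPGroup.iff_card.mp hH
  have hPk : (Nat.card P : k) ≠ 0 := by
    rw [ha, Nat.cast_pow]; exact pow_ne_zero _ hqk
  have hcop : (Nat.card P).Coprime (Nat.card H) := by
    rw [ha, hn]
    exact Nat.Coprime.pow _ _ ((Nat.coprime_primes hq.out Nat.prime_two).mpr h2q.symm)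
  have hcomm : ∀ x y : H, x * y = y * x :=
    fun x y => (IsCyclic.isMulCommutative (α := H)).is_comm.comm x y
  have hntH : Nontrivial H := by
    obtain ⟨h, -, g, hg⟩ := hcrit.nontriv
    refine ⟨⟨h, 1, ?_⟩⟩
    rintro rfl
    exact hg (by rw [map_one]; rfl)
  have hH₁ : Nat.card (omega H 2) = 2 := card_omega hH
  have hpow := exists_pow_mem_omega hH
  by_cases hab : ∀ x y : P, x * y = y * x
  · -- the abelian case: `V` contains a free module
    have hfpf' := abelian_case φ (omega H 2) hH₁ hpow hcomm hcop hcrit hab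
    have hTk : (Nat.card ↥(⊤ : Subgroup P) : k) ≠ 0 := by
      rw [Subgroup.card_top]; exact hPk
    have := Fintype.ofFinite ↥(⊤ : Subgroup P)
    have hfree := FrobFreeCompl.freeOn_ker_avg φ hfpf' ρ τ hcompat hTk
    have hM : LinearMap.ker (avg ρ ⊤) ≠ ⊥ := by
      intro hbot
      have htop := fixedSub_sup_ker ρ ⊤ hTk
      rw [hbot, sup_bot_eq] at htop
      obtain ⟨h, -, g, hg⟩ := hcrit.nontriv
      apply hg
      have h1 : ∀ g : P, ρ g = 1 := by
        intro g
        ext v
        have : v ∈ fixedSub ρ ⊤ := htop ▸ Submodule.mem_top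
        exact this g (Subgroup.mem_top g)
      apply hρ
      rw [h1, h1]
    obtain ⟨v, hv0, hv⟩ := ShultG.exists_fixed_of_freeOn τ _ hM hfree
    exact hv0 (hfix v hv)
  · -- the nonabelian case
    push Not at hab
    obtain ⟨h1, h2, h3⟩ := nonabelian_case φ (omega H 2) hH₁ hpow hcomm hcop hcrit hab
    have := Fintype.ofFinite ↥(commutator P)
    have hCk : (Nat.card ↥(commutator P) : k) ≠ 0 := by
      intro h0
      apply hPk
      obtain ⟨c, hc'⟩ := Subgroup.card_subgroup_dvd_card (commutator P)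
      rw [hc', Nat.cast_mul, h0, zero_mul]
    let M : Submodule k V := LinearMap.ker (avg ρ (commutator P))
    have hCinv : ∀ h : H, ∀ x ∈ commutator P, φ h x ∈ commutator P :=
      fun h x hx => Critical.map_mem_of_characteristic φ _ h x hx
    have hMρ : ∀ g, M ≤ M.comap (ρ g) := by
      intro g v hv
      rw [Submodule.mem_comap, LinearMap.mem_ker, ← avg_comm_of_normal, LinearMap.mem_ker.mp hv,
        map_zero]
    have hMτ : ∀ h, M ≤ M.comap (τ h) := by
      intro h v hv
      rw [Submodule.mem_comap, LinearMap.mem_ker,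
        ← avg_comm_of_invariant φ ρ τ hcompat (commutator P) hCinv, LinearMap.mem_ker.mp hv,
        map_zero]
    have hM0 : M ≠ ⊥ := by
      intro hbot
      have htop := fixedSub_sup_ker ρ (commutator P) hCk
      rw [show LinearMap.ker (avg ρ (commutator P)) = ⊥ from hbot, sup_bot_eq] at htop
      obtain ⟨x, y, hxy⟩ := hab
      apply hxy
      have hmem : ⁅x, y⁆ ∈ commutator P := by
        rw [commutator_def]
        exact Subgroup.commutator_mem_commutator (Subgroup.mem_top _) (Subgroup.mem_top _)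
      have h5 : ρ ⁅x, y⁆ = 1 := by
        ext v
        have : v ∈ fixedSub ρ (commutator P) := htop ▸ Submodule.mem_top
        exact this _ hmem
      have h6 : ⁅x, y⁆ = 1 := hρ (by rw [h5, map_one])
      exact commutatorElement_eq_one_iff_mul_comm.mp h6
    have hnt : Nontrivial ↥M := Submodule.nontrivial_iff_ne_bot.mpr hM0
    exact field_small hH hcard φ (ρ.subrepresentation M hMρ) (τ.subrepresentation M hMτ)
        (fun h g v => Subtype.ext (hcompat h g v)) h1 h3 (by
          intro v hv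
          apply Subtype.ext
          have hvfix : (v : V) ∈ fixedSub ρ (commutator P) := by
            intro c hc
            exact congrArg Subtype.val (hv c hc)
          have := avg_of_mem_fixedSub ρ (commutator P) hCk hvfix
          rw [LinearMap.mem_ker.mp v.2] at this
          exact this.symm) hPk h2k (by
          intro v hv
          apply Subtype.ext
          apply hfix
          intro h
          exact congrArg Subtype.val (hv h)) σ (fun z _ hz => hfpf z hz)

end Crit

section Induction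

universe uk

variable {k : Type uk} [Field k] {H : Type uH} [Group H] [Finite H] [IsCyclic H]
  {V : Type uV} [AddCommGroup V] [Module k V] [FiniteDimensional k V]
  {q : ℕ} [hq : Fact q.Prime]

theorem faithful_small (h2q : 2 ≠ q) (hH : IsPGroup 2 H) (hcard : Nat.card H ≤ 4)
    (τ : Representation k H V)
    (hqk : (q : k) ≠ 0) (h2k : (2 : k) ≠ 0)
    (hfix : ∀ v : V, (∀ h, τ h v = v) → v = 0) (σ : H) :
    ∀ (n : ℕ) (P : Type uP) [Group P] [Finite P], Nat.card P = n → IsPGroup q P →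
      ∀ (φ : H →* MulAut P) (ρ : Representation k P V),
      (∀ (h : H) (g : P) (v : V), τ h (ρ g v) = ρ (φ h g) (τ h v)) →
      Function.Injective ρ → (∀ g : P, φ σ g = g → g = 1) →
      (∃ h ∈ omega H 2, ∃ g, φ h g ≠ g) → False := by
  intro n
  induction n using Nat.strong_induction_on with
  | _ n ih =>
  intro P _ _ hcard' hP φ ρ hcompat hρ hfpf hnt
  by_cases hcrit : IsCrit φ (omega H 2)
  · exact critical_small h2q hH hcard hP φ ρ τ hcompat hρ hcrit hqk h2k hfix σ hfpf
  · have hex : ∃ P₁ : Subgroup P, P₁ ≠ ⊤ ∧ (∀ h, ∀ g ∈ P₁, φ h g ∈ P₁) ∧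
        ∃ h ∈ omega H 2, ∃ g ∈ P₁, φ h g ≠ g := by
      by_contra hno
      apply hcrit
      refine ⟨?_, hnt⟩
      intro P₁ hne hinv h hh g hg
      by_contra hgne
      exact hno ⟨P₁, hne, hinv, h, hh, g, hg, hgne⟩
    obtain ⟨P₁, hne, hinv, h₀, hh₀, g₀, hg₀, hne₀⟩ := hex
    have hlt : Nat.card ↥P₁ < n := by
      rw [← hcard']
      apply lt_of_le_of_ne (Subgroup.card_le_card_group P₁)
      intro heq
      exact hne (Subgroup.eq_top_of_card_eq P₁ heq)
    exact ih _ hlt ↥P₁ rfl (hP.to_subgroup P₁) (restrictAut φ P₁ hinv)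
      (ρ.comp P₁.subtype) (fun h g v => hcompat h g v)
      (fun a b hab => Subtype.ext (hρ hab))
      (fun g hg => Subtype.ext (hfpf g (congrArg Subtype.val hg)))
      ⟨h₀, hh₀, ⟨g₀, hg₀⟩, fun h => hne₀ (congrArg Subtype.val h)⟩

/-- **Trivial action of the involution**, for `|H| ≤ 4`. -/
theorem main_small {P : Type uP} [Group P] [Finite P] (h2q : 2 ≠ q) (hH : IsPGroup 2 H)
    (hcard : Nat.card H ≤ 4)
    (hP : IsPGroup q P) (φ : H →* MulAut P) (ρ : Representation k P V) (τ : Representation k H V)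
    (hcompat : ∀ (h : H) (g : P) (v : V), τ h (ρ g v) = ρ (φ h g) (τ h v))
    (hqk : (q : k) ≠ 0) (h2k : (2 : k) ≠ 0)
    (hfix : ∀ v : V, (∀ h, τ h v = v) → v = 0)
    (σ : H) (hfpf : ∀ g : P, φ σ g = g → g = 1)
    (t : H) (ht : t ^ 2 = 1) : ∀ g : P, ρ (g⁻¹ * φ t g) = 1 := by
  by_contra hno
  push Not at hno
  obtain ⟨g, hg⟩ := hno
  let N : Subgroup P := MonoidHom.ker ρ
  have hmemN : ∀ g, g ∈ N ↔ ρ g = 1 := fun g => MonoidHom.mem_ker
  have hτsurj : ∀ h v, ∃ w, τ h w = v := by
    intro h v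
    refine ⟨τ h⁻¹ v, ?_⟩
    rw [← Module.End.mul_apply, ← map_mul, mul_inv_cancel, map_one]; rfl
  have hN : ∀ h : H, ∀ g ∈ N, φ h g ∈ N := by
    intro h g hg
    rw [hmemN] at hg ⊢
    ext v
    obtain ⟨w, rfl⟩ := hτsurj h v
    rw [← hcompat, hg]; rfl
  let ρ' : Representation k (P ⧸ N) V := QuotientGroup.lift N ρ le_rfl
  have hρ'mk : ∀ g : P, ρ' (g : P ⧸ N) = ρ g := fun g => rfl
  have hρ'inj : Function.Injective ρ' := by
    intro a b hab
    induction a using QuotientGroup.induction_on with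
    | H a =>
    induction b using QuotientGroup.induction_on with
    | H b =>
    rw [hρ'mk, hρ'mk] at hab
    rw [QuotientGroup.eq, hmemN, map_mul, ← hab, ← map_mul, inv_mul_cancel, map_one]
  have hcompat' : ∀ (h : H) (g : P ⧸ N) (v : V),
      τ h (ρ' g v) = ρ' (quotientAut φ N hN h g) (τ h v) := by
    intro h g v
    induction g using QuotientGroup.induction_on with
    | H g =>
    rw [quotientAut_mk, hρ'mk, hρ'mk]
    exact hcompat h g v
  exact faithful_small h2q hH hcard τ hqk h2k hfix σ _ (P ⧸ N) rfl (hP.to_quotient N)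
    (quotientAut φ N hN) ρ' hcompat' hρ'inj
    (quotientAut_fpf_single φ N hN σ hfpf) ⟨t, ht, (g : P ⧸ N), by
      intro heq
      apply hg
      rw [quotientAut_mk] at heq
      rw [← hmemN]
      exact QuotientGroup.eq.mp heq.symm⟩

end Induction

section Ambient

open Cfsg.Agent.Lib.Helper1 Cfsg.Agent.Lib.Helper2.ShultGroup

variable {X : Type*} [Group X] [Finite X] {k V : Type*} [Field k] [AddCommGroup V] [Module k V]
  [FiniteDimensional k V]

set_option maxHeartbeats 1600000 in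
/-- **`t` centralizes `K`**, if `a` has order dividing four. -/
theorem centralizes_small (ρ : Representation k X V) (hρ : Function.Injective ρ)
    (h2k : (2 : k) ≠ 0)
    (K : Subgroup X) (hKsol : Group.IsSolvable ↥K) (hKodd : ¬ 2 ∣ Nat.card ↥K)
    (hcore : ∀ q : ℕ, q.Prime → (q : k) = 0 → Cfsg.pCore q ↥K = ⊥)
    (a : X) (ha : a ^ 4 = 1) (haK : a ∈ Subgroup.normalizer (K : Set X))
    (hfpf : ∀ g ∈ K, a * g * a⁻¹ = g → g = 1) (hfixV : ∀ v : V, ρ a v = v → v = 0)
    (t : X) (ht : t ∈ Subgroup.zpowers a) (ht2 : t ^ 2 = 1) :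
    ∀ g ∈ K, t * g * t⁻¹ = g := by
  classical
  have hzK : Subgroup.zpowers a ≤ Subgroup.normalizer (K : Set X) := Subgroup.zpowers_le.mpr haK
  have hH2 : IsPGroup 2 ↥(Subgroup.zpowers a) := by
    intro h
    refine ⟨2, ?_⟩
    obtain ⟨z, hz⟩ := h.2
    apply Subtype.ext
    rw [Subgroup.coe_pow, Subgroup.coe_one]
    have hz' : (h : X) = a ^ z := hz.symm
    have h4 : (2 : ℕ) ^ 2 = 4 := by norm_num
    rw [hz', h4, ← zpow_natCast, ← zpow_mul, mul_comm, zpow_mul, zpow_natCast, ha, one_zpow]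
  have hcard : Nat.card ↥(Subgroup.zpowers a) ≤ 4 := by
    rw [Nat.card_zpowers]
    exact Nat.le_of_dvd (by norm_num) (orderOf_dvd_of_pow_eq_one ha)
  obtain ⟨mH, hmH⟩ := IsPGroup.iff_card.mp hH2
  have hcop : (Nat.card ↥K).Coprime (Nat.card ↥(Subgroup.zpowers a)) := by
    rw [hmH]
    apply Nat.Coprime.pow_right
    rw [Nat.coprime_comm, Nat.Prime.coprime_iff_not_dvd Nat.prime_two]
    exact hKodd
  let φ : ↥(Subgroup.zpowers a) →* MulAut ↥K := conjOn (Subgroup.zpowers a) K hzK
  let t' : ↥(Subgroup.zpowers a) := ⟨t, ht⟩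
  have ht'2 : t' ^ 2 = 1 := Subtype.ext (by rw [Subgroup.coe_pow]; exact ht2)
  let σ : ↥(Subgroup.zpowers a) := ⟨a, Subgroup.mem_zpowers a⟩
  let τ : Representation k ↥(Subgroup.zpowers a) V := ρ.comp (Subgroup.zpowers a).subtype
  let Fx : Subgroup ↥K :=
    { carrier := {g | φ t' g = g}
      mul_mem' := fun {x y} hx hy => by
        show φ t' (x * y) = x * y
        rw [map_mul, hx, hy]
      one_mem' := map_one _
      inv_mem' := fun {x} hx => by
        show φ t' x⁻¹ = x⁻¹
        rw [map_inv, hx] }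
  have hcoreFx : ∀ q : Nat.Primes, Cfsg.pCore (q : ℕ) ↥K ≤ Fx := by
    intro q
    have hqf : Fact (q : ℕ).Prime := ⟨q.2⟩
    set Q := Cfsg.pCore (q : ℕ) ↥K with hQ
    have hQp : IsPGroup (q : ℕ) ↥Q := pCore_isPGroup (q : ℕ)
    by_cases hQbot : Q = ⊥
    · rw [hQbot]; exact bot_le
    have hq2 : (2 : ℕ) ≠ (q : ℕ) := by
      intro h2
      apply hKodd
      obtain ⟨⟨g, hgQ⟩, hg1⟩ := Subgroup.ne_bot_iff_exists_ne_one.mp hQbot
      obtain ⟨m, hm⟩ := (IsPGroup.iff_orderOf.mp hQp) ⟨g, hgQ⟩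
      have hm0 : m ≠ 0 := by
        rintro rfl
        rw [pow_zero, orderOf_eq_one_iff] at hm
        exact hg1 hm
      have h3 : orderOf g = (q : ℕ) ^ m := by
        rw [← hm]; exact (Subgroup.orderOf_mk g hgQ).symm
      have h4 : 2 ∣ orderOf g := by rw [h3, ← h2]; exact dvd_pow_self 2 hm0
      exact h4.trans (orderOf_dvd_natCard g)
    have hqk : ((q : ℕ) : k) ≠ 0 := fun h0 => hQbot (hcore q q.2 h0)
    have hQinv : ∀ h : ↥(Subgroup.zpowers a), ∀ g ∈ Q, φ h g ∈ Q :=
      fun h g hg => Critical.map_mem_of_characteristic φ Q h g hg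
    have key := main_small (P := ↥Q) hq2 hH2 hcard hQp (restrictAut φ Q hQinv)
      (ρ.comp (K.subtype.comp Q.subtype)) τ
      (fun h g v => by
        show ρ (h : X) (ρ ((g : ↥K) : X) v) =
          ρ ((h : X) * ((g : ↥K) : X) * (h : X)⁻¹) (ρ (h : X) v)
        rw [← Module.End.mul_apply, ← Module.End.mul_apply, ← map_mul, ← map_mul]
        congr 2
        group)
      hqk h2k (fun v hv => hfixV v (hv σ)) σ
      (fun g hg => by
        apply Subtype.ext
        apply Subtype.ext
        have h1 := congrArg (fun w : ↥Q => ((w : ↥K) : X)) hg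
        exact hfpf _ (g : ↥K).2 h1)
      t' ht'2
    intro g hg
    have h1 := key ⟨g, hg⟩
    have h2 : ((g⁻¹ * φ t' g : ↥K) : X) = 1 := hρ (by rw [map_one]; exact h1)
    have h3 : g⁻¹ * φ t' g = 1 := Subtype.ext h2
    exact (inv_mul_eq_one.mp h3).symm
  have hFit : Cfsg.fittingSubgroup ↥K ≤ Fx := by
    rw [fittingSubgroup_eq_iSup_pCore]
    exact iSup_le hcoreFx
  intro g hg
  have h1 := Cfsg.Agent.Lib.Helper2.CycShultGroup.eq_of_fixes_fitting φ hcop t'
    (fun f hf => hFit hf) ⟨g, hg⟩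
  exact congrArg Subtype.val h1

end Ambient

end Cfsg.Agent.Lib.Helper2.G2Small
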