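import Mathlib
import Cfsg.Agent.Lib.Helper2.G2Group
import Cfsg.Agent.Lib.Helper2.G2Small
import Cfsg.Agent.Lib.Helper2.FitHeightLocal
import Cfsg.Agent.S3766
import Cfsg.Agent.S0043

/-!
# The local step of Gross's theorem on fixed-point-free automorphisms of `2`-power order

`s` is a `2`-element of the finite solvable group `Γ` acting fixed-point-freely on the normal
subgroup `N` of odd order, and `x ∈ ⟨s⟩` with `x² = 1`.

* If `s⁴ = 1` then `[N, x] ≤ F(N)` (`comm_mem_fitting_small`).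
* In general there is a normal subgroup `L` of `Γ` with `F(N) ≤ L ≤ N`, `L / F(N)` nilpotent and
  `[N, x] ≤ L` (`exists_L`).
-/

set_option autoImplicit false

namespace Cfsg.Agent.Lib.Helper2.G2Local

open Cfsg.Agent.Lib.Helper2.ShultGroup Cfsg.Agent.Lib.Helper2.FrobCount
  Cfsg.Agent.Lib.Helper2.FitHeightLocal

section GroupForm

variable {W : Type*} [CommGroup W] [Finite W] {r : ℕ} [hr : Fact r.Prime]

/-- The faithful module of `Aut W`. -/
theorem rep_data (hW : ∀ w : W, w ^ r = 1) (hr2 : r ≠ 2) :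
    ∃ (_ : Module (ZMod r) (Additive W)) (_ : Module.Finite (ZMod r) (Additive W))
      (ρ : Representation (ZMod r) (MulAut W) (Additive W)),
      Function.Injective ρ ∧ (2 : ZMod r) ≠ 0 ∧
      (∀ q : ℕ, q.Prime → ((q : ℕ) : ZMod r) = 0 → q = r) ∧
      ∀ (g : MulAut W) (w : Additive W), ρ g w = Additive.ofMul (g (Additive.toMul w)) := by
  have hA : ∀ x : Additive W, r • x = 0 := fun x => by
    show Additive.ofMul ((Additive.toMul x) ^ r) = Additive.ofMul 1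
    rw [hW]
  let inst : Module (ZMod r) (Additive W) := AddCommGroup.zmodModule hA
  have : Finite (Additive W) := inferInstanceAs (Finite W)
  have hfin : Module.Finite (ZMod r) (Additive W) := Module.Finite.of_finite
  refine ⟨inst, hfin, zrep r (MonoidHom.id (MulAut W)), ?_, ?_, ?_, fun g w => rfl⟩
  · intro g g' h
    ext w
    have := LinearMap.congr_fun h (Additive.ofMul w)
    rw [zrep_apply, zrep_apply] at this
    exact congrArg Additive.toMul this
  · have := natCast_ne_zero_of_ne (p := r) Nat.prime_two hr2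
    exact_mod_cast this
  · intro q hq h0
    rw [ZMod.natCast_eq_zero_iff] at h0
    exact ((Nat.prime_dvd_prime_iff_eq hr.out hq).mp h0).symm

/-- `G2Group.main` for subgroups of `Aut W`. -/
theorem main_group_form (hW : ∀ w : W, w ^ r = 1) (hr2 : r ≠ 2) (K : Subgroup (MulAut W))
    (hKsol : Group.IsSolvable ↥K) (hKodd : ¬ 2 ∣ Nat.card ↥K) (hOr : Cfsg.pCore r ↥K = ⊥)
    (a : MulAut W) (n : ℕ) (ha : a ^ (2 ^ n) = 1)
    (haK : a ∈ Subgroup.normalizer (K : Set (MulAut W)))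
    (hfpf : ∀ g ∈ K, a * g * a⁻¹ = g → g = 1) (hfix : ∀ w : W, a w = w → w = 1)
    (t : MulAut W) (ht : t ∈ Subgroup.zpowers a) (ht2 : t ^ 2 = 1) :
    ∀ g ∈ K, g⁻¹ * (t * g * t⁻¹) ∈ (Cfsg.fittingSubgroup ↥K).map K.subtype := by
  obtain ⟨inst, hfin, ρ, hρ, h2k, hq, hρa⟩ := rep_data hW hr2
  exact G2Group.main ρ hρ h2k K hKsol hKodd (fun q hqp h0 => by rw [hq q hqp h0]; exact hOr)
    a n ha haK hfpf (fun v hv => by
      rw [hρa] at hv
      have := hfix (Additive.toMul v) (congrArg Additive.toMul hv)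
      exact congrArg Additive.ofMul this) t ht ht2

/-- `G2Small.centralizes_small` for subgroups of `Aut W`. -/
theorem small_group_form (hW : ∀ w : W, w ^ r = 1) (hr2 : r ≠ 2) (K : Subgroup (MulAut W))
    (hKsol : Group.IsSolvable ↥K) (hKodd : ¬ 2 ∣ Nat.card ↥K) (hOr : Cfsg.pCore r ↥K = ⊥)
    (a : MulAut W) (ha : a ^ 4 = 1)
    (haK : a ∈ Subgroup.normalizer (K : Set (MulAut W)))
    (hfpf : ∀ g ∈ K, a * g * a⁻¹ = g → g = 1) (hfix : ∀ w : W, a w = w → w = 1)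
    (t : MulAut W) (ht : t ∈ Subgroup.zpowers a) (ht2 : t ^ 2 = 1) :
    ∀ g ∈ K, t * g * t⁻¹ = g := by
  obtain ⟨inst, hfin, ρ, hρ, h2k, hq, hρa⟩ := rep_data hW hr2
  exact G2Small.centralizes_small ρ hρ h2k K hKsol hKodd
    (fun q hqp h0 => by rw [hq q hqp h0]; exact hOr)
    a ha haK hfpf (fun v hv => by
      rw [hρa] at hv
      have := hfix (Additive.toMul v) (congrArg Additive.toMul hv)
      exact congrArg Additive.ofMul this) t ht ht2

end GroupForm

section Step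

open scoped IsMulCommutative

variable {Γ Q : Type*} [Group Γ] [Finite Γ] [Group Q] [Finite Q] {r : ℕ} [hr : Fact r.Prime]

/-- The conjugation action of `Γ` on a normal subgroup of a quotient `Q`. -/
def beta (π : Γ →* Q) (Ub : Subgroup Q) [Ub.Normal] : Γ →* MulAut ↥Ub :=
  (MulAut.conjNormal (H := Ub)).comp π

omit [Finite Γ] [Finite Q] in
theorem beta_apply (π : Γ →* Q) (Ub : Subgroup Q) [Ub.Normal] (g : Γ) (w : ↥Ub) :
    ((beta π Ub g w : ↥Ub) : Q) = π g * w * (π g)⁻¹ := rfl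

omit [Finite Γ] [Finite Q] in
/-- The image of a normal subgroup under `beta` is normalized by the range. -/
theorem range_le_normalizer (π : Γ →* Q) (Ub : Subgroup Q) [Ub.Normal] (N : Subgroup Γ)
    [hNn : N.Normal] :
    (beta π Ub).range ≤ Subgroup.normalizer ((N.map (beta π Ub) : Subgroup (MulAut ↥Ub)) :
      Set (MulAut ↥Ub)) := by
  rintro _ ⟨a, rfl⟩
  rw [Subgroup.mem_normalizer_iff]
  intro h
  constructor
  · rintro ⟨k', hk', rfl⟩
    refine ⟨a * k' * a⁻¹, hNn.conj_mem k' hk' a, ?_⟩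
    rw [map_mul, map_mul, map_inv]
  · rintro ⟨k', hk', hk'e⟩
    refine ⟨a⁻¹ * k' * a, ?_, ?_⟩
    · have := hNn.conj_mem k' hk' a⁻¹
      rwa [inv_inv] at this
    · rw [map_mul, map_mul, map_inv, hk'e]
      group

set_option maxHeartbeats 1600000 in
/-- The data of the action on an abelian minimal normal subgroup `Ub` of the quotient `Q`. -/
theorem local_data (hΓ : Group.IsSolvable Γ) (π : Γ →* Q) (hπ : Function.Surjective π)
    (Ub : Subgroup Q) [hUbn : Ub.Normal] [IsMulCommutative Ub] (hUbne : Ub ≠ ⊥)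
    (hmin : ∀ M : Subgroup Q, M.Normal → M ≤ Ub → M = ⊥ ∨ M = Ub)
    (hexp : ∀ x ∈ Ub, x ^ r = 1)
    (N : Subgroup Γ) [hNn : N.Normal] (s : Γ)
    (hoddN : ¬ 2 ∣ Nat.card N) (hfpf : ∀ k ∈ N, s * k * s⁻¹ = k → k = 1)
    (hUN : Ub.comap π ≤ N) :
    Group.IsSolvable ↥(N.map (beta π Ub)) ∧ ¬ 2 ∣ Nat.card ↥(N.map (beta π Ub)) ∧
    Cfsg.pCore r ↥(N.map (beta π Ub)) = ⊥ ∧ r ≠ 2 ∧ (∀ w : ↥Ub, w ^ r = 1) ∧
    (∀ g ∈ N.map (beta π Ub), beta π Ub s * g * (beta π Ub s)⁻¹ = g → g = 1) ∧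
    (∀ w : ↥Ub, beta π Ub s w = w → w = 1) := by
  classical
  set β := beta π Ub with hβdef
  have hβ : ∀ (g : Γ) (w : ↥Ub), ((β g w : ↥Ub) : Q) = π g * w * (π g)⁻¹ := fun g w => rfl
  set K : Subgroup (MulAut ↥Ub) := N.map β with hK
  let A : Subgroup (MulAut ↥Ub) := β.range
  have hAK : A ≤ Subgroup.normalizer (K : Set (MulAut ↥Ub)) := range_le_normalizer π Ub N
  -- irreducibility
  have hirr : ∀ W₀ : Subgroup ↥Ub, (∀ a ∈ A, ∀ w ∈ W₀, a w ∈ W₀) → W₀ = ⊥ ∨ W₀ = ⊤ := by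
    intro W₀ hW₀
    have hMn : (W₀.map Ub.subtype).Normal := by
      constructor
      rintro _ ⟨w, hw, rfl⟩ q
      obtain ⟨g, rfl⟩ := hπ q
      exact ⟨β g w, hW₀ _ ⟨g, rfl⟩ w hw, rfl⟩
    have hMU : W₀.map Ub.subtype ≤ Ub := by
      rintro _ ⟨w, _, rfl⟩
      exact w.2
    rcases hmin _ hMn hMU with h | h
    · left
      exact (Subgroup.map_eq_bot_iff_of_injective _ Ub.subtype_injective).mp h
    · right
      rw [eq_top_iff]
      intro w _
      have : (w : Q) ∈ W₀.map Ub.subtype := by rw [h]; exact w.2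
      obtain ⟨w', hw', hww⟩ := this
      have : w' = w := Subtype.ext hww
      rwa [← this]
  have hW : ∀ w : ↥Ub, w ^ r = 1 := fun w => Subtype.ext (by
    rw [Subgroup.coe_pow, Subgroup.coe_one]; exact hexp w w.2)
  have hOr : Cfsg.pCore r ↥K = ⊥ := pCore_eq_bot_of_irreducible hW A K hAK hirr
  have hKsurj : Function.Surjective (β.subgroupMap N) := β.subgroupMap_surjective N
  have hNsol : Group.IsSolvable ↥N := inferInstance
  have hKsol : Group.IsSolvable ↥K := Group.isSolvable_of_surjective hKsurj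
  have hKcard : Nat.card ↥K ∣ Nat.card ↥N := Subgroup.card_dvd_of_surjective _ hKsurj
  have hpK : ¬ 2 ∣ Nat.card ↥K := fun h => hoddN (h.trans hKcard)
  have hr2 : r ≠ 2 := by
    obtain ⟨w₀, hw₀1⟩ := (Subgroup.ne_bot_iff_exists_ne_one.mp hUbne)
    intro hrp
    obtain ⟨u, hu⟩ := hπ (w₀ : Q)
    have huN : u ∈ N := hUN (by rw [Subgroup.mem_comap, hu]; exact w₀.2)
    have h1 : orderOf (w₀ : Q) = r := by
      apply orderOf_eq_prime (hexp _ w₀.2)
      intro h; exact hw₀1 (Subtype.ext h)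
    have h2 : orderOf (π u) ∣ orderOf u := orderOf_map_dvd π u
    have h3 : orderOf u ∣ Nat.card N := by
      have := orderOf_dvd_natCard (⟨u, huN⟩ : ↥N)
      rwa [← Subgroup.orderOf_coe] at this
    rw [hu, h1, hrp] at h2
    exact hoddN (h2.trans h3)
  refine ⟨hKsol, hpK, hOr, hr2, hW, ?_, ?_⟩
  · rintro g ⟨k', hk', hgk⟩ h1
    have h2 : β (k'⁻¹ * (s * k' * s⁻¹)) = 1 := by
      rw [map_mul, map_mul, map_mul, map_inv, map_inv, hgk, h1]
      group
    have hYn : (N ⊓ β.ker).Normal := inferInstance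
    have h3 : k' ∈ N ⊓ β.ker := by
      apply mem_of_comm_mem N (N ⊓ β.ker) inf_le_left s (fun y hy => hYn.conj_mem y hy s) hfpf k'
        hk'
      exact ⟨N.mul_mem (N.inv_mem hk') (hNn.conj_mem k' hk' s), h2⟩
    rw [← hgk]
    exact h3.2
  · intro v hv
    obtain ⟨u, hu⟩ := hπ (v : Q)
    have huU : u ∈ Ub.comap π := by rw [Subgroup.mem_comap, hu]; exact v.2
    have h1 : π s * (v : Q) * (π s)⁻¹ = v := by
      have := congrArg Subtype.val hv
      exact this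
    have h2 : u⁻¹ * (s * u * s⁻¹) ∈ π.ker := by
      rw [MonoidHom.mem_ker, map_mul, map_mul, map_mul, map_inv, map_inv, hu, h1]
      group
    have hkn : π.ker.Normal := inferInstance
    have h3 : u ∈ π.ker := by
      apply mem_of_comm_mem (Ub.comap π) π.ker (Subgroup.ker_le_comap π Ub) s
        (fun y hy => hkn.conj_mem y hy s) (fun y hy => hfpf y (hUN hy)) u huU h2
    apply Subtype.ext
    rw [← hu]
    exact h3

/-- The chief factor step: the image of `[k, x]` lies in the Fitting subgroup of the image of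
`N`. -/
theorem step_fit (hΓ : Group.IsSolvable Γ) (π : Γ →* Q) (hπ : Function.Surjective π)
    (Ub : Subgroup Q) [hUbn : Ub.Normal] [IsMulCommutative Ub] (hUbne : Ub ≠ ⊥)
    (hmin : ∀ M : Subgroup Q, M.Normal → M ≤ Ub → M = ⊥ ∨ M = Ub)
    (hexp : ∀ x ∈ Ub, x ^ r = 1)
    (N : Subgroup Γ) [hNn : N.Normal] (s : Γ) (n : ℕ) (hs : s ^ (2 ^ n) = 1)
    (hoddN : ¬ 2 ∣ Nat.card N) (hfpf : ∀ k ∈ N, s * k * s⁻¹ = k → k = 1)
    (hUN : Ub.comap π ≤ N)
    (x : Γ) (hx : x ∈ Subgroup.zpowers s) (hx2 : x ^ 2 = 1) (k : Γ) (hk : k ∈ N) :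
    beta π Ub (k⁻¹ * (x * k * x⁻¹)) ∈
      (Cfsg.fittingSubgroup ↥(N.map (beta π Ub))).map (N.map (beta π Ub)).subtype := by
  obtain ⟨hKsol, hKodd, hOr, hr2, hW, hfpf', hfix⟩ :=
    local_data hΓ π hπ Ub hUbne hmin hexp N s hoddN hfpf hUN
  have haK : beta π Ub s ∈ Subgroup.normalizer
      ((N.map (beta π Ub) : Subgroup (MulAut ↥Ub)) : Set (MulAut ↥Ub)) :=
    range_le_normalizer π Ub N ⟨s, rfl⟩
  have hxz : beta π Ub x ∈ Subgroup.zpowers (beta π Ub s) := by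
    obtain ⟨z, rfl⟩ := hx
    exact ⟨z, (map_zpow (beta π Ub) s z).symm⟩
  have key := main_group_form hW hr2 (N.map (beta π Ub)) hKsol hKodd hOr (beta π Ub s) n
    (by rw [← map_pow, hs, map_one]) haK hfpf' hfix (beta π Ub x) hxz
    (by rw [← map_pow, hx2, map_one]) (beta π Ub k) ⟨k, hk, rfl⟩
  rw [map_mul, map_mul, map_mul, map_inv, map_inv]
  exact key

/-- The chief factor step when `s⁴ = 1`: `[k, x]` acts trivially. -/
theorem step_small (hΓ : Group.IsSolvable Γ) (π : Γ →* Q) (hπ : Function.Surjective π)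
    (Ub : Subgroup Q) [hUbn : Ub.Normal] [IsMulCommutative Ub] (hUbne : Ub ≠ ⊥)
    (hmin : ∀ M : Subgroup Q, M.Normal → M ≤ Ub → M = ⊥ ∨ M = Ub)
    (hexp : ∀ x ∈ Ub, x ^ r = 1)
    (N : Subgroup Γ) [hNn : N.Normal] (s : Γ) (hs : s ^ 4 = 1)
    (hoddN : ¬ 2 ∣ Nat.card N) (hfpf : ∀ k ∈ N, s * k * s⁻¹ = k → k = 1)
    (hUN : Ub.comap π ≤ N)
    (x : Γ) (hx : x ∈ Subgroup.zpowers s) (hx2 : x ^ 2 = 1) (k : Γ) (hk : k ∈ N) :
    beta π Ub (k⁻¹ * (x * k * x⁻¹)) = 1 := by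
  obtain ⟨hKsol, hKodd, hOr, hr2, hW, hfpf', hfix⟩ :=
    local_data hΓ π hπ Ub hUbne hmin hexp N s hoddN hfpf hUN
  have haK : beta π Ub s ∈ Subgroup.normalizer
      ((N.map (beta π Ub) : Subgroup (MulAut ↥Ub)) : Set (MulAut ↥Ub)) :=
    range_le_normalizer π Ub N ⟨s, rfl⟩
  have hxz : beta π Ub x ∈ Subgroup.zpowers (beta π Ub s) := by
    obtain ⟨z, rfl⟩ := hx
    exact ⟨z, (map_zpow (beta π Ub) s z).symm⟩
  have key := small_group_form hW hr2 (N.map (beta π Ub)) hKsol hKodd hOr (beta π Ub s)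
    (by rw [← map_pow, hs, map_one]) haK hfpf' hfix (beta π Ub x) hxz
    (by rw [← map_pow, hx2, map_one]) (beta π Ub k) ⟨k, hk, rfl⟩
  rw [map_mul, map_mul, map_mul, map_inv, map_inv, key]
  group

end Step

section Local

open scoped IsMulCommutative

variable {Γ : Type*} [Group Γ] [Finite Γ]

omit [Finite Γ] in
/-- An element acting trivially on the image of the chief factor `U / V` centralizes it. -/
theorem comm_mem_of_beta_eq_one {U V : Subgroup Γ} [hVn : V.Normal]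
    [hUbn : (U.map (QuotientGroup.mk' V)).Normal] (y : Γ)
    (hy : beta (QuotientGroup.mk' V) (U.map (QuotientGroup.mk' V)) y = 1) (u : Γ) (hu : u ∈ U) :
    u * y * u⁻¹ * y⁻¹ ∈ V := by
  have key := beta_apply (QuotientGroup.mk' V) (U.map (QuotientGroup.mk' V)) y
    ⟨QuotientGroup.mk' V u⁻¹, ⟨u⁻¹, U.inv_mem hu, rfl⟩⟩
  rw [hy] at key
  have key' : QuotientGroup.mk' V u⁻¹ =
      QuotientGroup.mk' V y * QuotientGroup.mk' V u⁻¹ * (QuotientGroup.mk' V y)⁻¹ := key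
  rw [← QuotientGroup.eq_one_iff]
  have e : ((u * y * u⁻¹ * y⁻¹ : Γ) : Γ ⧸ V) =
      QuotientGroup.mk' V u * (QuotientGroup.mk' V y *
        QuotientGroup.mk' V u⁻¹ * (QuotientGroup.mk' V y)⁻¹) := by
    simp only [QuotientGroup.mk'_apply, QuotientGroup.mk_mul, QuotientGroup.mk_inv]
    group
  rw [e, ← key', ← map_mul, mul_inv_cancel, map_one]

omit [Finite Γ] in
/-- An element centralizing the chief factor `U / V` acts trivially on its image. -/
theorem beta_eq_one_of_comm_mem {U V : Subgroup Γ} [hVn : V.Normal]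
    [hUbn : (U.map (QuotientGroup.mk' V)).Normal] (y : Γ)
    (hy : ∀ u ∈ U, u * y * u⁻¹ * y⁻¹ ∈ V) :
    beta (QuotientGroup.mk' V) (U.map (QuotientGroup.mk' V)) y = 1 := by
  ext w
  obtain ⟨u, hu, hw⟩ := w.2
  rw [beta_apply, MulAut.one_apply, ← hw]
  have h1 := V.inv_mem (hy u hu)
  rw [← QuotientGroup.eq_one_iff] at h1
  have e : (((u * y * u⁻¹ * y⁻¹)⁻¹ : Γ) : Γ ⧸ V) =
      QuotientGroup.mk' V y * QuotientGroup.mk' V u * (QuotientGroup.mk' V y)⁻¹ *
        (QuotientGroup.mk' V u)⁻¹ := by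
    simp only [QuotientGroup.mk'_apply, QuotientGroup.mk_mul, QuotientGroup.mk_inv]
    group
  rw [e] at h1
  exact mul_inv_eq_one.mp h1

/-- **The local step for `s⁴ = 1`.** -/
theorem comm_mem_fitting_small (hΓ : Group.IsSolvable Γ) (N : Subgroup Γ) [hNn : N.Normal]
    (s : Γ) (hs : s ^ 4 = 1) (hoddN : ¬ 2 ∣ Nat.card N)
    (hfpf : ∀ k ∈ N, s * k * s⁻¹ = k → k = 1)
    (x : Γ) (hx : x ∈ Subgroup.zpowers s) (hx2 : x ^ 2 = 1) (k : Γ) (hk : k ∈ N) :
    k⁻¹ * (x * k * x⁻¹) ∈ (Cfsg.fittingSubgroup ↥N).map N.subtype := by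
  rw [(Cfsg.Agent.S3766.result hΓ N _).2]
  refine ⟨N.mul_mem (N.inv_mem hk) (hNn.conj_mem k hk x), ?_⟩
  rintro U V ⟨hUn, hVn, hlt, hmin⟩ hUF u hu
  have := hUn
  have := hVn
  have : Group.IsSolvable Γ := hΓ
  obtain ⟨hUbne, hUbn, hcomap, hUbmin⟩ := minimal_normal_map hlt hmin
  have := hUbn
  obtain ⟨hcomm, r, hr, hexp⟩ :=
    Cfsg.Agent.S0043.result (U.map (QuotientGroup.mk' V)) hUbne hUbmin
  have := hcomm
  have : Fact r.Prime := ⟨hr⟩
  have hUN : (U.map (QuotientGroup.mk' V)).comap (QuotientGroup.mk' V) ≤ N := by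
    rw [hcomap]; exact hUF.trans (Subgroup.map_subtype_le _)
  have key := step_small hΓ (QuotientGroup.mk' V) (QuotientGroup.mk'_surjective V)
    (U.map (QuotientGroup.mk' V)) hUbne hUbmin hexp N s hs hoddN hfpf hUN x hx hx2 k hk
  exact comm_mem_of_beta_eq_one _ key u hu

/-- A uniform bound for finitely many monotone properties. -/
theorem exists_uniform {ι : Type*} [Finite ι] (P : ι → ℕ → Prop)
    (hmono : ∀ i c c', c ≤ c' → P i c → P i c') (h : ∀ i, ∃ c, P i c) : ∃ c, ∀ i, P i c := by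
  choose f hf using h
  obtain ⟨M, hM⟩ := (Set.finite_range f).bddAbove
  exact ⟨M, fun i => hmono i _ _ (hM ⟨i, rfl⟩) (hf i)⟩

set_option maxHeartbeats 1600000 in
/-- **The local step in general.** -/
theorem exists_L (hΓ : Group.IsSolvable Γ) (N : Subgroup Γ) [hNn : N.Normal]
    (s : Γ) (n : ℕ) (hs : s ^ (2 ^ n) = 1) (hoddN : ¬ 2 ∣ Nat.card N)
    (hfpf : ∀ k ∈ N, s * k * s⁻¹ = k → k = 1)
    (x : Γ) (hx : x ∈ Subgroup.zpowers s) (hx2 : x ^ 2 = 1) :
    ∃ L : Subgroup Γ, L.Normal ∧ (Cfsg.fittingSubgroup ↥N).map N.subtype ≤ L ∧ L ≤ N ∧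
      (∃ c : ℕ, L.lowerCentralSeries c ≤ (Cfsg.fittingSubgroup ↥N).map N.subtype) ∧
      ∀ k ∈ N, k⁻¹ * (x * k * x⁻¹) ∈ L := by
  classical
  set FN := (Cfsg.fittingSubgroup ↥N).map N.subtype with hFN
  have hFNn : FN.Normal := ConjAct.normal_of_characteristic_of_normal
  let gen : Set Γ := {w | ∃ k ∈ N, w = k⁻¹ * (x * k * x⁻¹)}
  have hgenN : gen ⊆ N := by
    rintro _ ⟨k, hk, rfl⟩
    exact N.mul_mem (N.inv_mem hk) (hNn.conj_mem k hk x)
  let L : Subgroup Γ := Subgroup.normalClosure gen ⊔ FN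
  have hLn : L.Normal := inferInstance
  have hFL : FN ≤ L := le_sup_right
  have hLN : L ≤ N := sup_le (Subgroup.normalClosure_le_normal hgenN) (Subgroup.map_subtype_le _)
  refine ⟨L, hLn, hFL, hLN, ?_, fun k hk => (le_sup_left : Subgroup.normalClosure gen ≤ L)
    (Subgroup.subset_normalClosure ⟨k, hk, rfl⟩)⟩
  -- a uniform bound for the chief factors
  let P : Subgroup Γ × Subgroup Γ → ℕ → Prop := fun p c =>
    (p.1.Normal ∧ p.2.Normal ∧ p.2 < p.1 ∧
      ∀ W : Subgroup Γ, W.Normal → p.2 ≤ W → W ≤ p.1 → W = p.2 ∨ W = p.1) → p.1 ≤ FN →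
    ∀ y ∈ L.lowerCentralSeries c, ∀ u ∈ p.1, u * y * u⁻¹ * y⁻¹ ∈ p.2
  have hmono : ∀ p c c', c ≤ c' → P p c → P p c' := by
    intro p c c' hcc hP hch hUF y hy
    exact hP hch hUF y (L.lowerCentralSeries_antitone hcc hy)
  have hex : ∀ p, ∃ c, P p c := by
    rintro ⟨U, V⟩
    by_cases hch : (U.Normal ∧ V.Normal ∧ V < U ∧
      ∀ W : Subgroup Γ, W.Normal → V ≤ W → W ≤ U → W = V ∨ W = U) ∧ U ≤ FN
    swap
    · exact ⟨0, fun h1 h2 => absurd ⟨h1, h2⟩ hch⟩
    obtain ⟨⟨hUn, hVn, hlt, hmin⟩, hUF⟩ := hch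
    have := hUn
    have := hVn
    have : Group.IsSolvable Γ := hΓ
    obtain ⟨hUbne, hUbn, hcomap, hUbmin⟩ := minimal_normal_map hlt hmin
    have := hUbn
    obtain ⟨hcomm, r, hr, hexp⟩ :=
      Cfsg.Agent.S0043.result (U.map (QuotientGroup.mk' V)) hUbne hUbmin
    have := hcomm
    have : Fact r.Prime := ⟨hr⟩
    have hUN : (U.map (QuotientGroup.mk' V)).comap (QuotientGroup.mk' V) ≤ N := by
      rw [hcomap]; exact hUF.trans (Subgroup.map_subtype_le _)
    set β := beta (QuotientGroup.mk' V) (U.map (QuotientGroup.mk' V)) with hβ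
    set K := N.map β with hK
    set Fit := (Cfsg.fittingSubgroup ↥K).map K.subtype with hFit
    have hFitn : β.range ≤ Subgroup.normalizer (Fit : Set (MulAut ↥(U.map (QuotientGroup.mk' V)))) :=
      (range_le_normalizer (QuotientGroup.mk' V) (U.map (QuotientGroup.mk' V)) N).trans
        (G2Star.normalizer_le_of_characteristic K (Cfsg.fittingSubgroup ↥K))
    let Λ : Subgroup Γ := Fit.comap β
    have hΛn : Λ.Normal := ⟨fun w hw γ => by
      show β (γ * w * γ⁻¹) ∈ Fit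
      rw [map_mul, map_mul, map_inv]
      exact (Subgroup.mem_normalizer_iff.mp (hFitn ⟨γ, rfl⟩) (β w)).mp hw⟩
    have hgenΛ : gen ⊆ Λ := by
      rintro _ ⟨k, hk, rfl⟩
      exact step_fit hΓ (QuotientGroup.mk' V) (QuotientGroup.mk'_surjective V)
        (U.map (QuotientGroup.mk' V)) hUbne hUbmin hexp N s n hs hoddN hfpf hUN x hx hx2 k hk
    have hFNΛ : FN ≤ Λ := by
      intro f hf
      have h1 := ((Cfsg.Agent.S3766.result hΓ N f).2.mp hf).2 U V ⟨hUn, hVn, hlt, hmin⟩ hUF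
      have h2 : β f = 1 := beta_eq_one_of_comm_mem f h1
      show β f ∈ Fit
      rw [h2]; exact Fit.one_mem
    have hLΛ : L ≤ Λ := sup_le (Subgroup.normalClosure_le_normal hgenΛ) hFNΛ
    have hnil : Group.IsNilpotent ↥Fit := by
      have h1 : Group.IsNilpotent ↥(Cfsg.fittingSubgroup ↥K) :=
        Cfsg.Agent.Lib.Helper1.fittingSubgroup_isNilpotent
      exact Group.nilpotent_of_surjective (K.subtype.subgroupMap (Cfsg.fittingSubgroup ↥K))
        (K.subtype.subgroupMap_surjective _)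
    obtain ⟨c, hc⟩ := (Subgroup.isNilpotent_iff_lowerCentralSeries Fit).mp hnil
    refine ⟨c, fun _ _ y hy u hu => ?_⟩
    have h1 : β y ∈ (L.lowerCentralSeries c).map β := ⟨y, hy, rfl⟩
    rw [Subgroup.map_lowerCentralSeries] at h1
    have h2 : (L.map β).lowerCentralSeries c ≤ Fit.lowerCentralSeries c :=
      Subgroup.lowerCentralSeries_mono c (Subgroup.map_le_iff_le_comap.mpr hLΛ)
    have h3 := h2 h1
    rw [hc, Subgroup.mem_bot] at h3
    exact comm_mem_of_beta_eq_one y h3 u hu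
  obtain ⟨c, hc⟩ := exists_uniform P hmono hex
  refine ⟨c, fun y hy => ?_⟩
  rw [(Cfsg.Agent.S3766.result hΓ N y).2]
  refine ⟨hLN (L.lowerCentralSeries_le_self c hy), ?_⟩
  intro U V hch hUF u hu
  exact hc (U, V) hch hUF y hy u hu

end Local

end Cfsg.Agent.Lib.Helper2.G2Local
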