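import Mathlib
import Cfsg.Agent.Lib.Helper2.G2Local
import Cfsg.Agent.Lib.Helper2.FitHeightGlobal

/-!
# Gross's theorem on fixed-point-free automorphisms of `2`-power order

A finite solvable group admitting a fixed-point-free automorphism `σ` with `σ ^ (2 ^ n) = 1`,
`n ≥ 2`, has a normal series of length `2 n - 2` with nilpotent factors.
-/

set_option autoImplicit false

namespace Cfsg.Agent.Lib.Helper2.G2Global

open Cfsg.Agent.Lib.Helper2.FrobFree Cfsg.Agent.Lib.Helper2.FitHeightGlobal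

universe u

section Chain

variable {G : Type*} [Group G]

/-- A normal series from `A` to `⊤` with nilpotent factors. -/
def IsChain {M : ℕ} (F : Fin (M + 1) → Subgroup G) (A : Subgroup G) : Prop :=
  F 0 = A ∧ F (Fin.last M) = ⊤ ∧ Monotone F ∧ (∀ i, (F i).Normal) ∧
    ∀ i : Fin M, ∃ k : ℕ, (F i.succ).lowerCentralSeries k ≤ F i.castSucc

/-- Lifting a series from a quotient. -/
theorem chain_lift {M : ℕ} (A : Subgroup G) [A.Normal] (Fb : Fin (M + 1) → Subgroup (G ⧸ A))
    (h : IsChain Fb ⊥) : IsChain (fun i => (Fb i).comap (QuotientGroup.mk' A)) A := by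
  obtain ⟨h0, hlast, hmono, hn, hlcs⟩ := h
  refine ⟨?_, ?_, ?_, ?_, ?_⟩
  · show (Fb 0).comap (QuotientGroup.mk' A) = A
    rw [h0, MonoidHom.comap_bot, QuotientGroup.ker_mk']
  · show (Fb (Fin.last M)).comap (QuotientGroup.mk' A) = ⊤
    rw [hlast, Subgroup.comap_top]
  · intro i j hij
    exact Subgroup.comap_mono (hmono hij)
  · intro i
    have := hn i
    infer_instance
  · intro i
    obtain ⟨k, hk⟩ := hlcs i
    exact ⟨k, lcs_comap_le (QuotientGroup.mk' A) (QuotientGroup.mk'_surjective A) _ _ k hk⟩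

/-- Prepending a term to a series. -/
theorem chain_cons {M : ℕ} (A A' : Subgroup G) [A'.Normal] (hle : A' ≤ A)
    (hnil : ∃ k : ℕ, A.lowerCentralSeries k ≤ A') (F : Fin (M + 1) → Subgroup G)
    (h : IsChain F A) : IsChain (Fin.cons A' F : Fin (M + 1 + 1) → Subgroup G) A' := by
  obtain ⟨h0, hlast, hmono, hn, hlcs⟩ := h
  refine ⟨rfl, ?_, ?_, ?_, ?_⟩
  · rw [← Fin.succ_last, Fin.cons_succ, hlast]
  · rw [Fin.monotone_iff_le_succ]
    intro i
    refine Fin.cases ?_ (fun j => ?_) i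
    · show (Fin.cons A' F : Fin (M + 1 + 1) → Subgroup G) 0 ≤
        (Fin.cons A' F : Fin (M + 1 + 1) → Subgroup G) (Fin.succ 0)
      rw [Fin.cons_zero, Fin.cons_succ, h0]
      exact hle
    · rw [← Fin.succ_castSucc, Fin.cons_succ, Fin.cons_succ]
      exact hmono (Fin.castSucc_le_succ j)
  · intro i
    refine Fin.cases ?_ (fun j => ?_) i
    · rw [Fin.cons_zero]; infer_instance
    · rw [Fin.cons_succ]; exact hn j
  · intro i
    refine Fin.cases ?_ (fun j => ?_) i
    · obtain ⟨k, hk⟩ := hnil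
      refine ⟨k, ?_⟩
      show ((Fin.cons A' F : Fin (M + 1 + 1) → Subgroup G) (Fin.succ 0)).lowerCentralSeries k ≤
        (Fin.cons A' F : Fin (M + 1 + 1) → Subgroup G) 0
      rw [Fin.cons_succ, Fin.cons_zero, h0]
      exact hk
    · obtain ⟨k, hk⟩ := hlcs j
      refine ⟨k, ?_⟩
      rw [← Fin.succ_castSucc, Fin.cons_succ, Fin.cons_succ]
      exact hk

end Chain

section Aut

variable {G : Type*} [Group G] [Finite G]

/-- A fixed-point-free automorphism of order two inverts every element. -/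
theorem inv_of_fpf_involution (σ : MulAut G) (hσ2 : σ ^ 2 = 1) (hfpf : ∀ g : G, σ g = g → g = 1)
    (x : G) : σ x = x⁻¹ := by
  have hinj := injective_inv_mul σ hfpf
  obtain ⟨g, rfl⟩ := Finite.surjective_of_injective hinj x
  have h2 : σ (σ g) = g := by
    rw [← MulAut.mul_apply, ← pow_two, hσ2]; rfl
  rw [map_mul, map_inv, h2, mul_inv_rev, inv_inv]

/-- A finite group with a fixed-point-free automorphism of order two is abelian. -/
theorem comm_of_fpf_involution (σ : MulAut G) (hσ2 : σ ^ 2 = 1)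
    (hfpf : ∀ g : G, σ g = g → g = 1) (a b : G) : a * b = b * a := by
  have h1 := inv_of_fpf_involution σ hσ2 hfpf (a * b)
  rw [map_mul, inv_of_fpf_involution σ hσ2 hfpf a, inv_of_fpf_involution σ hσ2 hfpf b,
    mul_inv_rev] at h1
  have h2 := congrArg (fun z => z⁻¹) h1
  simp only [mul_inv_rev, inv_inv] at h2
  exact h2.symm

set_option maxHeartbeats 1600000 in
/-- **The local statements for automorphisms.** -/
theorem aut_local (hG : Group.IsSolvable G) (σ : MulAut G) (n : ℕ)
    (hσ : σ ^ (2 ^ n) = 1) (hfpf : ∀ g : G, σ g = g → g = 1) (τ : MulAut G)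
    (hτ : τ ∈ Subgroup.zpowers σ) (hτ2 : τ ^ 2 = 1) :
    (σ ^ 4 = 1 → ∀ g : G, g⁻¹ * τ g ∈ Cfsg.fittingSubgroup G) ∧
    ∃ L : Subgroup G, L.Normal ∧ (∀ g ∈ L, σ g ∈ L) ∧ Cfsg.fittingSubgroup G ≤ L ∧
      (∃ c : ℕ, L.lowerCentralSeries c ≤ Cfsg.fittingSubgroup G) ∧ ∀ g : G, g⁻¹ * τ g ∈ L := by
  classical
  let φ₀ : ↥(Subgroup.zpowers σ) →* MulAut G := (Subgroup.zpowers σ).subtype
  let Γ := G ⋊[φ₀] ↥(Subgroup.zpowers σ)
  have hfinΓ : Finite Γ := Finite.of_equiv _ SemidirectProduct.equivProd.symm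
  have hsolH : Group.IsSolvable ↥(Subgroup.zpowers σ) := by
    apply Group.isSolvable_of_comm
    rintro ⟨a, ha⟩ ⟨b, hb⟩
    apply Subtype.ext
    obtain ⟨i, rfl⟩ := ha
    obtain ⟨j, rfl⟩ := hb
    show σ ^ i * σ ^ j = σ ^ j * σ ^ i
    rw [← zpow_add, ← zpow_add, add_comm]
  have hsolΓ : Group.IsSolvable Γ :=
    Group.isSolvable_of_ker_le_range (SemidirectProduct.inl : G →* Γ) SemidirectProduct.rightHom
      (le_of_eq SemidirectProduct.range_inl_eq_ker_rightHom.symm)
  let N : Subgroup Γ := (SemidirectProduct.inl : G →* Γ).range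
  have hNn : N.Normal := by
    show ((SemidirectProduct.inl : G →* Γ).range).Normal
    rw [SemidirectProduct.range_inl_eq_ker_rightHom]
    exact MonoidHom.normal_ker _
  let σ' : ↥(Subgroup.zpowers σ) := ⟨σ, Subgroup.mem_zpowers σ⟩
  let s : Γ := SemidirectProduct.inr σ'
  have hspow : ∀ m : ℕ, σ ^ m = 1 → s ^ m = 1 := by
    intro m hm
    show (SemidirectProduct.inr σ' : Γ) ^ m = 1
    rw [← map_pow]
    have : σ' ^ m = 1 := Subtype.ext (by rw [Subgroup.coe_pow]; exact hm)
    rw [this, map_one]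
  let e : G ≃* ↥N := MonoidHom.ofInjective SemidirectProduct.inl_injective
  have hoddN : ¬ 2 ∣ Nat.card ↥N := by
    rw [← Nat.card_congr e.toEquiv]
    exact not_dvd_card_of_fpf (p := 2) σ n hσ hfpf
  have hconj : ∀ (t : ↥(Subgroup.zpowers σ)) (a : G),
      (SemidirectProduct.inr t : Γ) * SemidirectProduct.inl a * (SemidirectProduct.inr t)⁻¹ =
        SemidirectProduct.inl ((t : MulAut G) a) := by
    intro t a
    rw [← map_inv, ← SemidirectProduct.inl_aut]
    rfl
  have hfpf' : ∀ k ∈ N, s * k * s⁻¹ = k → k = 1 := by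
    rintro _ ⟨a, rfl⟩ h
    rw [hconj σ' a] at h
    have := hfpf a (SemidirectProduct.inl_injective h)
    rw [this, map_one]
  let τ' : ↥(Subgroup.zpowers σ) := ⟨τ, hτ⟩
  let x : Γ := SemidirectProduct.inr τ'
  have hx : x ∈ Subgroup.zpowers s := by
    obtain ⟨z, hz⟩ := hτ
    refine ⟨z, ?_⟩
    show (SemidirectProduct.inr σ' : Γ) ^ z = SemidirectProduct.inr τ'
    rw [← map_zpow]
    congr 1
    apply Subtype.ext
    rw [Subgroup.coe_zpow]
    exact hz
  have hx2 : x ^ 2 = 1 := by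
    show (SemidirectProduct.inr τ' : Γ) ^ 2 = 1
    rw [← map_pow]
    have : τ' ^ 2 = 1 := Subtype.ext (by rw [Subgroup.coe_pow]; exact hτ2)
    rw [this, map_one]
  -- pulling back membership in `F(N)`
  have hpull : ∀ y : G, (SemidirectProduct.inl y : Γ) ∈ (Cfsg.fittingSubgroup ↥N).map N.subtype →
      y ∈ Cfsg.fittingSubgroup G := by
    intro y hy
    obtain ⟨f, hf, hfy⟩ := hy
    have hey : e y = f := Subtype.ext hfy.symm
    have h1 : y = e.symm f := by rw [← hey, MulEquiv.symm_apply_apply]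
    rw [h1]
    exact fitting_map_le e.symm ⟨f, hf, rfl⟩
  have hcomm : ∀ g : G, (SemidirectProduct.inl (g⁻¹ * τ g) : Γ) =
      (SemidirectProduct.inl g)⁻¹ * (x * SemidirectProduct.inl g * x⁻¹) := by
    intro g
    rw [hconj τ' g, ← map_inv, ← map_mul]
  constructor
  · intro hσ4 g
    apply hpull
    rw [hcomm]
    exact G2Local.comm_mem_fitting_small hsolΓ N s (hspow 4 hσ4) hoddN hfpf' x hx hx2
      (SemidirectProduct.inl g) ⟨g, rfl⟩
  · obtain ⟨L, hLn, hFL, hLN, ⟨c, hc⟩, hgen⟩ :=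
      G2Local.exists_L hsolΓ N s n (hspow _ hσ) hoddN hfpf' x hx hx2
    refine ⟨L.comap (SemidirectProduct.inl : G →* Γ), inferInstance, ?_, ?_, ⟨c, ?_⟩, ?_⟩
    · intro g hg
      show (SemidirectProduct.inl (σ g) : Γ) ∈ L
      have h1 := hconj σ' g
      rw [← h1]
      exact hLn.conj_mem _ hg _
    · intro f hf
      show (SemidirectProduct.inl f : Γ) ∈ L
      apply hFL
      have h1 := fitting_map_le e ⟨f, hf, rfl⟩
      exact ⟨e f, h1, rfl⟩
    · intro y hy
      apply hpull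
      apply hc
      have h1 : (SemidirectProduct.inl y : Γ) ∈
          ((L.comap (SemidirectProduct.inl : G →* Γ)).lowerCentralSeries c).map
            (SemidirectProduct.inl : G →* Γ) := ⟨y, hy, rfl⟩
      rw [Subgroup.map_lowerCentralSeries] at h1
      exact Subgroup.lowerCentralSeries_mono c (Subgroup.map_comap_le _ _) h1
    · intro g
      show (SemidirectProduct.inl (g⁻¹ * τ g) : Γ) ∈ L
      rw [hcomm]
      exact hgen _ ⟨g, rfl⟩

end Aut

section Main

/-- The length of the series. -/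
def len : ℕ → ℕ
  | 0 => 0
  | 1 => 1
  | 2 => 2
  | (n + 3) => len (n + 2) + 2

theorem len_succ (n : ℕ) : len (n + 3) = len (n + 2) + 2 := rfl

theorem len_eq : ∀ n, 2 ≤ n → len n = 2 * n - 2
  | 0, h => by omega
  | 1, h => by omega
  | 2, _ => rfl
  | (n + 3), _ => by
    rw [len_succ, len_eq (n + 2) (by omega)]
    omega

/-- The Fitting subgroup is nilpotent, in terms of the lower central series. -/
theorem fitting_lcs (G : Type*) [Group G] [Finite G] :
    ∃ k : ℕ, (Cfsg.fittingSubgroup G).lowerCentralSeries k ≤ ⊥ := by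
  have hnil : Group.IsNilpotent (Cfsg.fittingSubgroup G) :=
    Cfsg.Agent.Lib.Helper1.fittingSubgroup_isNilpotent
  obtain ⟨k, hk⟩ := (Subgroup.isNilpotent_iff_lowerCentralSeries _).1 hnil
  exact ⟨k, hk.le⟩

set_option maxHeartbeats 1600000 in
/-- **Gross's theorem**: the Fitting series. -/
theorem chain_exists : ∀ (n : ℕ) (G : Type u) [Group G] [Finite G],
    Group.IsSolvable G → ∀ σ : MulAut G, σ ^ (2 ^ n) = 1 → (∀ g : G, σ g = g → g = 1) →
    ∃ F : Fin (len n + 1) → Subgroup G, IsChain F ⊥ := by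
  intro n
  induction n with
  | zero =>
    intro G _ _ _ σ hσ hfpf
    have hσ1 : σ = 1 := by simpa using hσ
    have hsub : ∀ g : G, g = 1 := fun g => hfpf g (by rw [hσ1]; rfl)
    refine ⟨fun _ => ⊥, rfl, ?_, fun _ _ _ => le_rfl, fun _ => inferInstance, fun i => i.elim0⟩
    rw [eq_comm, eq_bot_iff]
    intro g _
    rw [Subgroup.mem_bot]
    exact hsub g
  | succ n ih =>
    intro G _ _ hG σ hσ hfpf
    have hFn : (Cfsg.fittingSubgroup G).Normal := inferInstance
    rcases n with _ | _ | m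
    · -- `σ² = 1`: `G` is abelian
      have hσ2 : σ ^ 2 = 1 := by simpa using hσ
      have hcomm := comm_of_fpf_involution σ hσ2 hfpf
      have hbase : IsChain (fun _ : Fin (0 + 1) => (⊤ : Subgroup G)) ⊤ :=
        ⟨rfl, rfl, fun _ _ _ => le_rfl, fun _ => inferInstance, fun i => i.elim0⟩
      have hbn : (⊥ : Subgroup G).Normal := inferInstance
      have := chain_cons (⊤ : Subgroup G) ⊥ bot_le ⟨1, by
        rw [Subgroup.lowerCentralSeries_succ, Subgroup.lowerCentralSeries_zero,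
          Subgroup.commutator_le]
        intro a _ b _
        rw [Subgroup.mem_bot, commutatorElement_eq_one_iff_mul_comm]
        exact hcomm a b⟩ _ hbase
      exact ⟨_, this⟩
    · -- `σ⁴ = 1`: `[G, σ²] ≤ F(G)`
      have hσ4 : σ ^ 4 = 1 := by
        have : (2 : ℕ) ^ (0 + 1 + 1) = 4 := by norm_num
        rw [this] at hσ
        exact hσ
      have hτ2 : (σ ^ 2) ^ 2 = 1 := by rw [← pow_mul]; exact hσ4
      have hτ := (aut_local hG σ 2 (by rw [show (2 : ℕ) ^ 2 = 4 by norm_num]; exact hσ4) hfpf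
        (σ ^ 2) (Subgroup.pow_mem _ (Subgroup.mem_zpowers σ) _) hτ2).1 hσ4
      have hchar : (Cfsg.fittingSubgroup G).Characteristic :=
        Cfsg.Agent.Lib.Helper1.fittingSubgroup_characteristic
      have hinv : ∀ h : MulAut G, ∀ x ∈ Cfsg.fittingSubgroup G,
          (MonoidHom.id (MulAut G)) h x ∈ Cfsg.fittingSubgroup G := by
        intro h x hx
        have := hchar.fixed h
        have hx' : x ∈ (Cfsg.fittingSubgroup G).comap h.toMonoidHom := by rw [this]; exact hx
        exact hx'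
      let ψ : MulAut G →* MulAut (G ⧸ Cfsg.fittingSubgroup G) :=
        quotientAut (MonoidHom.id (MulAut G)) (Cfsg.fittingSubgroup G) hinv
      have hσbar : (ψ σ) ^ (2 ^ (0 + 1)) = 1 := by
        rw [← map_pow]
        ext x
        induction x using QuotientGroup.induction_on with
        | H x =>
          show ((((σ ^ (2 ^ (0 + 1))) x : G)) : G ⧸ Cfsg.fittingSubgroup G) = (x : G ⧸ _)
          rw [eq_comm, QuotientGroup.eq]
          exact hτ x
      have hfpfbar : ∀ f : G ⧸ Cfsg.fittingSubgroup G, ψ σ f = f → f = 1 :=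
        CycShultMain.quotientAut_fpf_single (MonoidHom.id (MulAut G)) (Cfsg.fittingSubgroup G)
          hinv σ hfpf
      obtain ⟨Fb, hFb⟩ := ih (G ⧸ Cfsg.fittingSubgroup G) inferInstance (ψ σ) hσbar hfpfbar
      have h1 := chain_lift (Cfsg.fittingSubgroup G) Fb hFb
      have hbn : (⊥ : Subgroup G).Normal := inferInstance
      have h2 := chain_cons (Cfsg.fittingSubgroup G) ⊥ bot_le (fitting_lcs G) _ h1
      exact ⟨_, h2⟩
    · -- the general step
      have hτ2 : (σ ^ (2 ^ (m + 2))) ^ 2 = 1 := by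
        rw [← pow_mul, ← pow_succ]
        exact hσ
      obtain ⟨L, hLn, hLσ, hFL, hLnil, hLgen⟩ := (aut_local hG σ (m + 3) hσ hfpf
        (σ ^ (2 ^ (m + 2))) (Subgroup.pow_mem _ (Subgroup.mem_zpowers σ) _) hτ2).2
      let φ₀ : ↥(Subgroup.zpowers σ) →* MulAut G := (Subgroup.zpowers σ).subtype
      have hinv : ∀ h : ↥(Subgroup.zpowers σ), ∀ x ∈ L, φ₀ h x ∈ L := by
        rintro ⟨h, hh⟩ x hx
        obtain ⟨k, hk⟩ := (mem_powers_iff_mem_zpowers (x := σ)).mpr hh
        have hk' : σ ^ k = h := hk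
        show h x ∈ L
        rw [← hk']
        clear hk hk'
        induction k with
        | zero => simpa using hx
        | succ k ihk =>
          rw [pow_succ', MulAut.mul_apply]
          exact hLσ _ ihk
      let σ' : ↥(Subgroup.zpowers σ) := ⟨σ, Subgroup.mem_zpowers σ⟩
      let ψ : ↥(Subgroup.zpowers σ) →* MulAut (G ⧸ L) := quotientAut φ₀ L hinv
      have hσbar : (ψ σ') ^ (2 ^ (m + 2)) = 1 := by
        rw [← map_pow]
        ext x
        induction x using QuotientGroup.induction_on with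
        | H x =>
          show ((((σ ^ (2 ^ (m + 2))) x : G)) : G ⧸ L) = (x : G ⧸ _)
          rw [eq_comm, QuotientGroup.eq]
          exact hLgen x
      have hfpfbar : ∀ f : G ⧸ L, ψ σ' f = f → f = 1 :=
        CycShultMain.quotientAut_fpf_single φ₀ L hinv σ' hfpf
      obtain ⟨Fb, hFb⟩ := ih (G ⧸ L) inferInstance (ψ σ') hσbar hfpfbar
      have h1 := chain_lift L Fb hFb
      have h2 := chain_cons L (Cfsg.fittingSubgroup G) hFL hLnil _ h1
      have hbn : (⊥ : Subgroup G).Normal := inferInstance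
      have h3 := chain_cons (Cfsg.fittingSubgroup G) ⊥ bot_le (fitting_lcs G) _ h2
      exact ⟨_, h3⟩

/-- **Gross's theorem**, in the form of the statement. -/
theorem gross {G : Type u} [Group G] [Finite G] (hG : Group.IsSolvable G) (σ : MulAut G) (n : ℕ)
    (hn : 1 < n) (hσ : σ ^ (2 ^ n) = 1) (hfpf : ∀ g : G, σ g = g → g = 1) :
    ∃ F : Fin ((2 * n - 2) + 1) → Subgroup G, F 0 = ⊥ ∧ F (Fin.last (2 * n - 2)) = ⊤ ∧
      Monotone F ∧ (∀ i, (F i).Normal) ∧
      ∀ i : Fin (2 * n - 2), ∃ k : ℕ, (F i.succ).lowerCentralSeries k ≤ F i.castSucc := by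
  rw [← len_eq n hn]
  obtain ⟨F, hF⟩ := chain_exists n G hG σ hσ hfpf
  exact ⟨F, hF⟩

end Main

end Cfsg.Agent.Lib.Helper2.G2Global
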