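/-
helper2, project GOLD (S1329, owner helper22): module [ABFIX] `fix_le_comm`.
All declarations live in `Cfsg.Agent.Lib.Helper2.Gold`.
-/
import Mathlib
import Cfsg.Agent.Lib.Helper22.GoldDefs
import Cfsg.Agent.Lib.Helper22.GoldPar

set_option autoImplicit false

namespace Cfsg.Agent.Lib.Helper2.Gold

open Subgroup
open scoped commutatorElement
open Cfsg.Agent.Lib.Helper22.Gold

variable {G : Type*} [Group G]

/-- conjugation by an element of the normalizer, as an endomorphism of the subgroup -/
def conjHom {Y : Subgroup G} (a : G) (ha : a ∈ normalizer (Y : Set G)) : Y →* Y where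
  toFun y := ⟨a * y * a⁻¹, conj_mem_of_mem_normalizer ha y.2⟩
  map_one' := by ext; simp
  map_mul' x y := by ext; simp [mul_assoc]

theorem conjHom_coe {Y : Subgroup G} (a : G) (ha : a ∈ normalizer (Y : Set G)) (y : Y) :
    ((conjHom a ha y : Y) : G) = a * y * a⁻¹ := rfl

theorem fix_le_comm [Finite G] {A Y : Subgroup G} (h : Hyp A Y) (hYA : ⁅Y, A⁆ = Y) :
    Y ⊓ centralizer (A : Set G) ≤ ⁅Y, Y⁆ := by
  classical
  let _ : Fintype A := Fintype.ofFinite A
  let Φ : Y →* Abelianization Y :=
    ∏ a : A, (Abelianization.of.comp (conjHom (a : G) (h.norm a.2)))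
  have hΦ : ∀ y : Y, Φ y = ∏ a : A, Abelianization.of (conjHom (a : G) (h.norm a.2) y) := by
    intro y
    simp only [Φ, MonoidHom.finsetProd_apply, MonoidHom.coe_comp, Function.comp_apply]
  -- invariance
  have hinv : ∀ (b : A) (y : Y), Φ (conjHom (b : G) (h.norm b.2) y) = Φ y := by
    intro b y
    rw [hΦ, hΦ]
    refine Fintype.prod_equiv (Equiv.mulRight b) _ _ ?_
    intro a
    congr 1
    apply Subtype.ext
    simp only [conjHom_coe, Equiv.coe_mulRight, Subgroup.coe_mul, mul_inv_rev]
    group
  -- Φ kills [Y, A] = Y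
  have hker : Y ≤ (Φ.ker).map Y.subtype := by
    conv_lhs => rw [← hYA]
    rw [commutator_le]
    intro y hy b hb
    refine ⟨⟨y, hy⟩ * conjHom b (h.norm hb) ⟨y, hy⟩⁻¹, ?_, ?_⟩
    · rw [SetLike.mem_coe, MonoidHom.mem_ker, map_mul, hinv ⟨b, hb⟩, map_inv, mul_inv_cancel]
    · simp only [Subgroup.coe_subtype, Subgroup.coe_mul, conjHom_coe, InvMemClass.coe_inv,
        commutatorElement_def]
      group
  have hall : ∀ y : Y, Φ y = 1 := by
    intro y
    obtain ⟨w, hw, hwy⟩ := hker y.2
    have : w = y := Subtype.ext hwy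
    rw [← this]
    exact MonoidHom.mem_ker.mp hw
  -- fixed points
  intro c hc
  have hcY : c ∈ Y := hc.1
  have hcA : c ∈ centralizer (A : Set G) := hc.2
  let c' : Y := ⟨c, hcY⟩
  have hfix : ∀ a : A, conjHom (a : G) (h.norm a.2) c' = c' := by
    intro a
    apply Subtype.ext
    rw [conjHom_coe]
    rw [mem_centralizer_iff] at hcA
    have := hcA a a.2
    show (a : G) * c * (a : G)⁻¹ = c
    rw [this, mul_inv_cancel_right]
  have hpow : (Abelianization.of c') ^ Nat.card A = 1 := by
    have := hall c'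
    rw [hΦ] at this
    simp only [hfix, Finset.prod_const, Finset.card_univ] at this
    rwa [Nat.card_eq_fintype_card]
  have : Fact (Nat.Prime 2) := ⟨Nat.prime_two⟩
  obtain ⟨k, hk⟩ := h.two.exists_card_eq
  have hord1 : orderOf (Abelianization.of c') ∣ 2 ^ k := by
    rw [← hk]; exact orderOf_dvd_of_pow_eq_one hpow
  have hcard : Nat.card (Abelianization Y) ∣ Nat.card Y :=
    Subgroup.card_dvd_of_surjective Abelianization.of
      (QuotientGroup.mk'_surjective _)
  have hodd : Odd (orderOf (Abelianization.of c')) := by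
    have hdvd := (orderOf_dvd_natCard (Abelianization.of c')).trans hcard
    obtain ⟨j, hj⟩ := hdvd
    have := h.odd
    rw [hj] at this
    exact (Nat.odd_mul.mp this).1
  have hone : orderOf (Abelianization.of c') = 1 := by
    have hcop : Nat.Coprime (orderOf (Abelianization.of c')) (2 ^ k) :=
      Nat.Coprime.pow_right k (Nat.coprime_two_right.mpr hodd)
    exact Nat.Coprime.eq_one_of_dvd hcop hord1
  have hof : Abelianization.of c' = 1 := orderOf_eq_one_iff.mp hone
  have hc' : c' ∈ commutator Y := by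
    rw [← Abelianization.ker_of]
    exact MonoidHom.mem_ker.mpr hof
  rw [← map_subtype_commutator]
  exact ⟨c', hc', rfl⟩

end Cfsg.Agent.Lib.Helper2.Gold
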