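/-
helper2, project GOLD (S1329, owner helper22): module [MINN] `exists_min_normal`.
All declarations live in `Cfsg.Agent.Lib.Helper2.Gold`.
-/
import Mathlib
import Cfsg.Agent.Lib.Helper22.GoldDefs
import Cfsg.Agent.Lib.Helper22.GoldPar

set_option autoImplicit false

namespace Cfsg.Agent.Lib.Helper2.Gold

open Subgroup
open scoped commutatorElement
open Cfsg.Agent.Lib.Helper22.Gold

variable {G : Type*} [Group G]

/-- a nontrivial solvable subgroup is not perfect -/
theorem commutator_ne_self_of_solvable {N : Subgroup G} (hs : Group.IsSolvable N) (hN : N ≠ ⊥) :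
    ⁅N, N⁆ ≠ N := by
  intro heq
  have : Nontrivial N := (Subgroup.nontrivial_iff_ne_bot N).mpr hN
  have hlt : commutator N < ⊤ := Group.IsSolvable.commutator_lt_top_of_nontrivial N
  have hmap : (commutator N).map N.subtype = (⊤ : Subgroup N).map N.subtype := by
    rw [map_subtype_commutator, heq, ← MonoidHom.range_eq_map, Subgroup.range_subtype]
  have := Subgroup.map_injective (Subgroup.subtype_injective N) hmap
  exact (ne_of_lt hlt) this

theorem exists_min_normal [Finite G] {A Y : Subgroup G} (h : Hyp A Y) (hs : Group.IsSolvable Y)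
    (hY : Y ≠ ⊥) :
    ∃ N : Subgroup G, N ≤ Y ∧ N ≠ ⊥ ∧ Y ≤ normalizer (N : Set G) ∧ A ≤ normalizer (N : Set G) ∧
      (∀ x ∈ N, ∀ y ∈ N, x * y = y * x) ∧
      ∀ M : Subgroup G, M ≤ N → M ≠ ⊥ → Y ≤ normalizer (M : Set G) → A ≤ normalizer (M : Set G) →
        M = N := by
  let P : Subgroup G → Prop := fun N =>
    N ≤ Y ∧ N ≠ ⊥ ∧ Y ≤ normalizer (N : Set G) ∧ A ≤ normalizer (N : Set G)
  have hPY : P Y := ⟨le_rfl, hY, le_normalizer, h.norm⟩
  obtain ⟨N, hPN, hmin⟩ := Set.Finite.exists_minimal (s := {N | P N}) (Set.toFinite _) ⟨Y, hPY⟩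
  obtain ⟨hNY, hN1, hYN, hAN⟩ := hPN
  have hNs : Group.IsSolvable N :=
    @Group.isSolvable_of_isSolvable_injective _ _ _ _ (Subgroup.inclusion hNY)
      (Subgroup.inclusion_injective hNY) hs
  have hcomm_le : ⁅N, N⁆ ≤ N := comm_le le_normalizer
  have hbot : ⁅N, N⁆ = ⊥ := by
    by_contra hne
    have hP' : P ⁅N, N⁆ := ⟨hcomm_le.trans hNY, hne,
      fun y hy => mem_normalizer_commutator (hYN hy) (hYN hy),
      fun a ha => mem_normalizer_commutator (hAN ha) (hAN ha)⟩
    have := hmin hP' hcomm_le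
    exact commutator_ne_self_of_solvable hNs hN1 (le_antisymm hcomm_le this)
  refine ⟨N, hNY, hN1, hYN, hAN, ?_, ?_⟩
  · intro x hx y hy
    have : ⁅x, y⁆ ∈ ⁅N, N⁆ := commutator_mem_commutator hx hy
    rw [hbot, mem_bot, commutatorElement_eq_one_iff_mul_comm] at this
    exact this
  · intro M hMN hM1 hYM hAM
    exact le_antisymm hMN (hmin (show P M from ⟨hMN.trans hNY, hM1, hYM, hAM⟩) hMN)

end Cfsg.Agent.Lib.Helper2.Gold
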