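/-
helper2, project GOLD (S1329, owner helper22): module [TRANSFER] `mem_comm_of_center`.
All declarations live in `Cfsg.Agent.Lib.Helper2.Gold`.
-/
import Mathlib

set_option autoImplicit false

namespace Cfsg.Agent.Lib.Helper2.Gold

open Subgroup
open scoped commutatorElement

variable {G : Type*} [Group G]

theorem mem_comm_of_center [Finite G] {Y S : Subgroup G} {r : ℕ} [Fact r.Prime] (hS : S ≤ Y)
    (hr : IsPGroup r S) (hind : ¬ r ∣ S.relIndex Y) {z : G} (hzS : z ∈ S)
    (hzc : z ∈ centralizer (Y : Set G)) (hz : z ∈ ⁅Y, Y⁆) : z ∈ ⁅S, S⁆ := by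
  -- work inside `↥Y`
  let H : Subgroup Y := S.subgroupOf Y
  let φ : H →* Abelianization H := Abelianization.of
  let z' : Y := ⟨z, hS hzS⟩
  have hz' : z' ∈ commutator Y := by
    rw [← map_subtype_commutator] at hz
    obtain ⟨w, hw, hwz⟩ := hz
    have : w = z' := Subtype.ext hwz
    rwa [this] at hw
  have ht : MonoidHom.transfer φ z' = 1 :=
    MonoidHom.mem_ker.mp (Abelianization.commutator_subset_ker (MonoidHom.transfer φ) hz')
  have key : ∀ (k : ℕ) (g₀ : Y), g₀⁻¹ * z' ^ k * g₀ ∈ H → g₀⁻¹ * z' ^ k * g₀ = z' ^ k := by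
    intro k g₀ _
    have hcomm : z' * g₀ = g₀ * z' := by
      apply Subtype.ext
      rw [mem_centralizer_iff] at hzc
      exact (hzc g₀ g₀.2).symm
    have hc : Commute z' g₀ := hcomm
    have := (hc.pow_left k).eq
    rw [mul_assoc, this, ← mul_assoc, inv_mul_cancel, one_mul]
  rw [MonoidHom.transfer_eq_pow φ z' key] at ht
  have hker : (⟨z' ^ H.index, MonoidHom.transfer_eq_pow_aux z' key⟩ : H) ∈ commutator H := by
    rw [← Abelianization.ker_of]
    exact MonoidHom.mem_ker.mpr ht
  -- push down to `G`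
  let ψ : H →* G := Y.subtype.comp H.subtype
  have hψ : (commutator H).map ψ ≤ ⁅S, S⁆ := by
    rw [commutator_def, map_commutator]
    have hle : (⊤ : Subgroup H).map ψ ≤ S := by
      rintro _ ⟨x, _, rfl⟩
      exact x.2
    exact commutator_mono hle hle
  have hpow : z ^ S.relIndex Y ∈ ⁅S, S⁆ := by
    have := hψ ⟨_, hker, rfl⟩
    have hidx : H.index = S.relIndex Y := rfl
    rw [← hidx]
    simpa [ψ, z'] using this
  -- coprimality
  obtain ⟨k, hk⟩ := hr ⟨z, hzS⟩
  have hk' : z ^ r ^ k = 1 := by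
    have := congrArg (fun x : S => (x : G)) hk
    simpa using this
  have hord : orderOf z ∣ r ^ k := orderOf_dvd_of_pow_eq_one hk'
  have hp : r.Prime := Fact.out
  have hcop : (S.relIndex Y).Coprime (orderOf z) :=
    Nat.Coprime.coprime_dvd_right hord
      (Nat.Coprime.pow_right k ((Nat.Prime.coprime_iff_not_dvd hp).mpr hind).symm)
  obtain ⟨m, hm⟩ := exists_pow_eq_self_of_coprime hcop
  rw [← hm]
  exact pow_mem hpow m

end Cfsg.Agent.Lib.Helper2.Gold
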