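/-
helper2, project GOLD (S1329, owner helper22): module [TRICK].
`trick_core` takes the norm map ([NORM]) and the generation statement ([GEN] `gen_comm`) as explicit
hypotheses, so this file depends only on `GoldDefs` + `GoldPar`.
All declarations live in `Cfsg.Agent.Lib.Helper2.Gold`.
-/
import Mathlib
import Cfsg.Agent.Lib.Helper22.GoldDefs
import Cfsg.Agent.Lib.Helper22.GoldPar

set_option autoImplicit false

namespace Cfsg.Agent.Lib.Helper2.Gold

open Subgroup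
open scoped commutatorElement
open Cfsg.Agent.Lib.Helper22.Gold

variable {G : Type*} [Group G]

/-- `[n, y] ∈ N` when `y` normalizes `N`. -/
theorem comm_mem_of_normalizer {N : Subgroup G} {n y : G} (hn : n ∈ N)
    (hy : y ∈ normalizer (N : Set G)) : ⁅n, y⁆ ∈ N := by
  have e : ⁅n, y⁆ = n * (y * n⁻¹ * y⁻¹) := by rw [commutatorElement_def]; group
  rw [e]
  exact mul_mem hn (conj_mem_of_mem_normalizer hy (inv_mem hn))

/-- `n ↦ [n, d]` is multiplicative on an abelian subgroup normalized by `d`. -/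
theorem comm_mul_left_of_abelian {N : Subgroup G} (hab : ∀ x ∈ N, ∀ y ∈ N, x * y = y * x)
    {n n' d : G} (hn : n ∈ N) (hn' : n' ∈ N) (hd : d ∈ normalizer (N : Set G)) :
    ⁅n * n', d⁆ = ⁅n, d⁆ * ⁅n', d⁆ := by
  have hu : d * n'⁻¹ * d⁻¹ ∈ N := conj_mem_of_mem_normalizer hd (inv_mem hn')
  have hv : d * n⁻¹ * d⁻¹ ∈ N := conj_mem_of_mem_normalizer hd (inv_mem hn)
  have e1 : ⁅n * n', d⁆ = n * ((n' * (d * n'⁻¹ * d⁻¹)) * (d * n⁻¹ * d⁻¹)) := by
    rw [commutatorElement_def]; group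
  have e2 : ⁅n, d⁆ * ⁅n', d⁆ = n * ((d * n⁻¹ * d⁻¹) * (n' * (d * n'⁻¹ * d⁻¹))) := by
    simp only [commutatorElement_def]; group
  rw [e1, e2, hab _ (mul_mem hn' hu) _ hv]

theorem comm_inv_left_of_abelian {N : Subgroup G} (hab : ∀ x ∈ N, ∀ y ∈ N, x * y = y * x)
    {n d : G} (hn : n ∈ N) (hd : d ∈ normalizer (N : Set G)) :
    ⁅n⁻¹, d⁆ = ⁅n, d⁆⁻¹ := by
  have := comm_mul_left_of_abelian hab hn (inv_mem hn) hd
  rw [mul_inv_cancel, commutatorElement_one_left] at this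
  exact eq_inv_of_mul_eq_one_right this.symm

theorem mem_normalizer_inf {H K : Subgroup G} {g : G} (hH : g ∈ normalizer (H : Set G))
    (hK : g ∈ normalizer (K : Set G)) : g ∈ normalizer ((H ⊓ K : Subgroup G) : Set G) := by
  rw [mem_normalizer_iff] at hH hK ⊢
  intro x
  rw [mem_inf, mem_inf, hH x, hK x]

/-- Module [TRICK] of project GOLD, with the norm map and `gen_comm` as hypotheses. -/
theorem trick_core [Finite G] {A Y N0 : Subgroup G} (h : Hyp A Y) (hYA : ⁅Y, A⁆ = Y)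
    (hN : N0 ≤ Y) (hab : ∀ x ∈ N0, ∀ y ∈ N0, x * y = y * x)
    (hYN : Y ≤ normalizer (N0 : Set G)) (hAN : A ≤ normalizer (N0 : Set G))
    (hnorm : ∃ T : G → G, (∀ w ∈ N0, T w ∈ N0 ⊓ centralizer (A : Set G)) ∧
      (∀ w ∈ N0, ∀ w' ∈ N0, T (w * w') = T w * T w') ∧
      (∀ w ∈ N0, ∀ b ∈ A, T (b * w * b⁻¹) = T w) ∧
      (∀ w ∈ N0 ⊓ centralizer (A : Set G), T w = w ^ Nat.card A) ∧
      (∀ X : Subgroup G, X ≤ N0 → A ≤ normalizer (X : Set G) → ∀ w ∈ X, T w ∈ X))
    (hgen : ⁅Y, A⁆ = ⨆ K : {K : Subgroup G // CycQuot A K},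
      ⁅Y ⊓ centralizer ((K : Subgroup G) : Set G), A⁆) :
    ⁅N0, Y⁆ ⊓ centralizer (A : Set G) ≤ RR Y A := by
  obtain ⟨T, hT1, hT2, hT3, hT4, hT5⟩ := hnorm
  have hT_one : T 1 = 1 := by
    have := hT2 1 (one_mem _) 1 (one_mem _)
    rw [mul_one] at this
    exact mul_left_cancel (a := T 1) (b := T 1) (c := 1) (by rw [mul_one]; exact this.symm)
  have hT_inv : ∀ w ∈ N0, T w⁻¹ = (T w)⁻¹ := by
    intro w hw
    have := hT2 w hw w⁻¹ (inv_mem hw)
    rw [mul_inv_cancel, hT_one] at this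
    exact eq_inv_of_mul_eq_one_right this.symm
  -- the subgroup of `N0` on which `T` lands in `RR`
  let S : Subgroup G :=
    { carrier := {w | w ∈ N0 ∧ T w ∈ RR Y A}
      one_mem' := ⟨one_mem _, by rw [hT_one]; exact one_mem _⟩
      mul_mem' := by
        rintro a b ⟨ha, ha'⟩ ⟨hb, hb'⟩
        exact ⟨mul_mem ha hb, by rw [hT2 a ha b hb]; exact mul_mem ha' hb'⟩
      inv_mem' := by
        rintro a ⟨ha, ha'⟩
        exact ⟨inv_mem ha, by rw [hT_inv a ha]; exact inv_mem ha'⟩ }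
  have hS : ∀ w, w ∈ S ↔ (w ∈ N0 ∧ T w ∈ RR Y A) := fun w => Iff.rfl
  -- (b): the generators
  have hb : ∀ K : {K : Subgroup G // CycQuot A K},
      ∀ d ∈ ⁅Y ⊓ centralizer ((K : Subgroup G) : Set G), A⁆, ∀ n ∈ N0, ⁅n, d⁆ ∈ S := by
    rintro ⟨K, hK⟩ d hd n hn
    have hKA : K ≤ A := hK.1
    have hA_cent : A ≤ normalizer ((centralizer (K : Set G) : Subgroup G) : Set G) := by
      intro a ha
      apply le_normalizer
      rw [mem_centralizer_iff]
      intro k hk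
      exact h.comm k (hKA hk) a ha
    have hA_CK : A ≤ normalizer ((Y ⊓ centralizer (K : Set G) : Subgroup G) : Set G) :=
      fun a ha => mem_normalizer_inf (h.norm ha) (hA_cent ha)
    have hDle : ⁅Y ⊓ centralizer (K : Set G), A⁆ ≤ Y ⊓ centralizer (K : Set G) := comm_le hA_CK
    obtain ⟨hCKD, hAD⟩ := comm_normalized hA_CK
    have hdCK := hDle hd
    have hdY : d ∈ Y := hdCK.1
    have hdK : d ∈ centralizer (K : Set G) := hdCK.2
    have hdN : d ∈ normalizer (N0 : Set G) := hYN hdY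
    have hypKN : Hyp K N0 := (h.of_le hN hAN).of_le_left hKA
    have hKN : K ≤ normalizer (N0 : Set G) := hKA.trans hAN
    have hcommKN : ⁅N0, K⁆ ≤ N0 := comm_le hKN
    obtain ⟨c, hc, e, he, rfl⟩ := dec hypKN n hn
    have hcN : c ∈ N0 := hc.1
    have heN : e ∈ N0 := hcommKN he
    rw [comm_mul_left_of_abelian hab hcN heN hdN]
    refine mul_mem ?_ ?_
    · -- the `C_{N0}(K)` part
      rw [hS]
      have h1 : ⁅c, d⁆ ∈ N0 := comm_mem_of_normalizer hcN hdN
      refine ⟨h1, ?_⟩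
      have hcCK : c ∈ Y ⊓ centralizer (K : Set G) := ⟨hN hcN, hc.2⟩
      have h2 : ⁅c, d⁆ ∈ ⁅Y ⊓ centralizer (K : Set G), A⁆ := by
        rw [commutatorElement_def]
        exact mul_mem (conj_mem_of_mem_normalizer (hCKD hcCK) hd) (inv_mem hd)
      have hX : A ≤ normalizer ((⁅Y ⊓ centralizer (K : Set G), A⁆ ⊓ N0 : Subgroup G) : Set G) :=
        fun a ha => mem_normalizer_inf (hAD ha) (hAN ha)
      have h3 := hT5 _ inf_le_right hX ⁅c, d⁆ ⟨h2, h1⟩
      have h4 := hT1 _ h1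
      have h5 : T ⁅c, d⁆ ∈ piece Y A K := ⟨h3.1, h4.2⟩
      exact piece_le_RR hK h5
    · -- the `[N0, K]` part: `T` kills it
      rw [hS]
      refine ⟨comm_mem_of_normalizer heN hdN, ?_⟩
      let U : Subgroup G :=
        { carrier := {x | x ∈ N0 ∧ T ⁅x, d⁆ = 1}
          one_mem' := ⟨one_mem _, by rw [commutatorElement_one_left, hT_one]⟩
          mul_mem' := by
            rintro a b ⟨ha, ha'⟩ ⟨hb, hb'⟩
            refine ⟨mul_mem ha hb, ?_⟩
            rw [comm_mul_left_of_abelian hab ha hb hdN,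
              hT2 _ (comm_mem_of_normalizer ha hdN) _ (comm_mem_of_normalizer hb hdN), ha', hb',
              mul_one]
          inv_mem' := by
            rintro a ⟨ha, ha'⟩
            refine ⟨inv_mem ha, ?_⟩
            rw [comm_inv_left_of_abelian hab ha hdN, hT_inv _ (comm_mem_of_normalizer ha hdN), ha',
              inv_one] }
      have hU : ⁅N0, K⁆ ≤ U := by
        rw [commutator_le]
        intro m hm k hk
        have hkN : k ∈ normalizer (N0 : Set G) := hKN hk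
        have hmk : k * m⁻¹ * k⁻¹ ∈ N0 := conj_mem_of_mem_normalizer hkN (inv_mem hm)
        have hmd : ⁅m, d⁆ ∈ N0 := comm_mem_of_normalizer hm hdN
        refine ⟨comm_mem_of_normalizer hm hkN, ?_⟩
        have e1 : ⁅m, k⁆ = m * (k * m⁻¹ * k⁻¹) := by rw [commutatorElement_def]; group
        have hkd : d * k = k * d := by
          rw [mem_centralizer_iff] at hdK
          exact (hdK k hk).symm
        have hkdk : k * d * k⁻¹ = d := by rw [← hkd]; group
        have e2 : ⁅k * m⁻¹ * k⁻¹, d⁆ = k * ⁅m, d⁆⁻¹ * k⁻¹ := by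
          rw [← comm_inv_left_of_abelian hab hm hdN]
          have e3 : k * ⁅m⁻¹, d⁆ * k⁻¹ = ⁅k * m⁻¹ * k⁻¹, k * d * k⁻¹⁆ := by
            simp only [commutatorElement_def]; group
          rw [e3, hkdk]
        rw [e1, comm_mul_left_of_abelian hab hm hmk hdN, e2,
          hT2 _ hmd _ (conj_mem_of_mem_normalizer hkN (inv_mem hmd)),
          hT3 _ (inv_mem hmd) k (hKA hk), hT_inv _ hmd, mul_inv_cancel]
      exact (hU he).2 ▸ one_mem _
  -- (a): all of `Y`
  have ha : ∀ y ∈ Y, ∀ n ∈ N0, ⁅n, y⁆ ∈ S := by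
    intro y hy
    rw [← hYA, hgen] at hy
    refine Subgroup.iSup_induction _ (C := fun y => ∀ n ∈ N0, ⁅n, y⁆ ∈ S) hy ?_ ?_ ?_
    · intro K d hd n hn
      exact hb K d hd n hn
    · intro n _
      rw [commutatorElement_one_right]
      exact one_mem _
    · intro y1 y2 h1 h2 n hn
      have hm : ⁅n, y2⁆ ∈ N0 := (h2 n hn).1
      have e : ⁅n, y1 * y2⁆ = ⁅n, y1⁆ * ⁅⁅n, y2⁆, y1⁆⁻¹ * ⁅n, y2⁆ := by
        simp only [commutatorElement_def]; group
      rw [e]
      exact mul_mem (mul_mem (h1 n hn) (inv_mem (h1 _ hm))) (h2 n hn)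
  -- (c): conclusion
  have hle : ⁅N0, Y⁆ ≤ S := by
    rw [commutator_le]
    intro n hn y hy
    exact ha y hy n hn
  rintro w ⟨hw, hwA⟩
  obtain ⟨hwN, hTw⟩ := hle hw
  rw [hT4 w ⟨hwN, hwA⟩] at hTw
  have : Fact (Nat.Prime 2) := ⟨Nat.prime_two⟩
  obtain ⟨k, hk⟩ := h.two.exists_card_eq
  have hodd : Odd (orderOf w) := by
    have hdvd : orderOf w ∣ Nat.card Y := by
      have := orderOf_dvd_natCard (⟨w, hN hwN⟩ : Y)
      rwa [Subgroup.orderOf_mk] at this
    obtain ⟨j, hj⟩ := hdvd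
    have := h.odd
    rw [hj] at this
    exact (Nat.odd_mul.mp this).1
  have hcop : (Nat.card A).Coprime (orderOf w) := by
    rw [hk]
    exact Nat.Coprime.pow_left k (Nat.coprime_two_left.mpr hodd)
  obtain ⟨m, hm⟩ := exists_pow_eq_self_of_coprime hcop
  rw [← hm]
  exact pow_mem hTw m

end Cfsg.Agent.Lib.Helper2.Gold
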