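import Mathlib
import Cfsg.Prelude.Def_Solvable
import Cfsg.Agent.Lib.Helper1.PCore
import Cfsg.Agent.Lib.Helper2.HuppertDefs
import Cfsg.Agent.Lib.Helper2.CycShultDim
import Cfsg.Agent.Lib.Helper2.ShultGroup
import Cfsg.Agent.Lib.Helper2.ShultG
import Cfsg.Agent.Lib.Helper55.HuppertA1
import Cfsg.Agent.Lib.Helper55.HuppertA8
import Cfsg.Agent.Lib.Helper66.HupGeneral
import Cfsg.Agent.Lib.Helper66.HupA3
import Cfsg.Agent.Lib.Helper76.HuppertD2a

/-!
# Huppert's theorem: the main lemma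

If a Zsigmondy prime `r` of `q ^ n - 1` is "large", a solvable group transitive on the nonzero
vectors of `V = 𝔽_q ^ n` has a nontrivial normal `r`-subgroup, hence an irreducible abelian normal
subgroup.
-/

set_option autoImplicit false

namespace Cfsg.Agent.Lib.Helper2.Huppert

open Cfsg Module
open Cfsg.Agent.Lib.Helper76.HuppertD2a (good_of_normal_pGroup)
open Cfsg.Agent.Lib.Helper55.Huppert (prim_fpf_irr exists_orderOf_sq)
open Cfsg.Agent.Lib.Helper66.HupGeneral (card_sub_one_dvd pCore_eq_bot_of_not_dvd succ_le_of_primitive)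
open Cfsg.Agent.Lib.Helper66.HupA3 (exists_not_commute_pCore)

variable {q : ℕ} [Fact q.Prime] {V : Type*} [AddCommGroup V] [Module (ZMod q) V] [Finite V]
  {G : Type*} [Group G] [Finite G]

/-- `ρ` as a representation. -/
def rep (ρ : G →* (V ≃ₗ[ZMod q] V)) : Representation (ZMod q) G V :=
  (LinearEquiv.automorphismGroup.toLinearMapMonoidHom).comp ρ

omit [Finite V] [Finite G] in
theorem rep_apply (ρ : G →* (V ≃ₗ[ZMod q] V)) (g : G) (v : V) : rep ρ g v = ρ g v := rfl

omit [Finite V] [Finite G] in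
theorem rep_injective (ρ : G →* (V ≃ₗ[ZMod q] V)) (hρ : Function.Injective ρ) :
    Function.Injective (rep ρ) := by
  intro a b hab
  apply hρ
  ext v
  have := LinearMap.congr_fun hab v
  exact this

omit [Finite V] [Finite G] in
theorem natCast_ne_zero {s : ℕ} (hs : s.Prime) (hsq : s ≠ q) : ((s : ℕ) : ZMod q) ≠ 0 := by
  intro h
  rw [ZMod.natCast_eq_zero_iff] at h
  exact hsq ((Nat.prime_dvd_prime_iff_eq (Fact.out : q.Prime) hs).mp h).symm

/-- The dimension bound, for a normal `s`-subgroup `S` and an `r`-element `ζ`. -/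
theorem core_bound (ρ : G →* (V ≃ₗ[ZMod q] V)) (hρ : Function.Injective ρ) {r s : ℕ}
    [Fact r.Prime] [Fact s.Prime] (hrs : r ≠ s) (hsq : s ≠ q) (hrq : r ≠ q)
    (S : Subgroup G) [S.Normal] (hS : IsPGroup s S) (ζ : G)
    (hζ : IsPGroup r ↥(Subgroup.zpowers ζ))
    (hΩ : ∀ h : G, h ≠ 1 → h ^ r = 1 → (∀ v : V, ρ h v = v → v = 0) ∧ IrrElt (ρ h))
    (hnt : ∃ h ∈ Subgroup.zpowers ζ, h ^ r = 1 ∧ ∃ g ∈ S, h * g ≠ g * h) :
    ∃ B : Subgroup ↥(Subgroup.zpowers ζ), B ≠ ⊥ ∧ Nat.card ↥B ≤ finrank (ZMod q) V + 1 ∧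
      (B ≠ ⊤ → Nat.card ↥B ≤ finrank (ZMod q) V) := by
  classical
  have hfd : FiniteDimensional (ZMod q) V := Module.Finite.of_finite
  have hnorm : Subgroup.zpowers ζ ≤ Subgroup.normalizer (S : Set G) := by
    rw [Subgroup.normalizer_eq_top]
    exact le_top
  let φ := ShultGroup.conjOn (Subgroup.zpowers ζ) S hnorm
  let ρP : Representation (ZMod q) ↥S V := (rep ρ).comp S.subtype
  let τ : Representation (ZMod q) ↥(Subgroup.zpowers ζ) V := (rep ρ).comp (Subgroup.zpowers ζ).subtype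
  have hcompat : ∀ (h : ↥(Subgroup.zpowers ζ)) (g : ↥S) (v : V),
      τ h (ρP g v) = ρP (φ h g) (τ h v) := by
    intro h g v
    show ρ (h : G) (ρ (g : G) v) = ρ ((h : G) * g * (h : G)⁻¹) (ρ (h : G) v)
    rw [← LinearEquiv.mul_apply, ← LinearEquiv.mul_apply, ← map_mul, ← map_mul]
    congr 2
    group
  have hρP : Function.Injective ρP := by
    intro a b hab
    exact Subtype.ext (rep_injective ρ hρ hab)
  obtain ⟨h₀, hh₀, hh₀r, g₀, hg₀, hne⟩ := hnt
  refine CycShultDim.main (p := r) (q := s) hrs hζ hS φ ρP τ hcompat hρP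
    (natCast_ne_zero (Fact.out : s.Prime) hsq) (natCast_ne_zero (Fact.out : r.Prime) hrq)
    ?_ ?_ ⟨⟨h₀, hh₀⟩, Subtype.ext hh₀r, ⟨g₀, hg₀⟩, ?_⟩
  · intro h hh1 hhr v hv
    have h1 : (h : G) ≠ 1 := fun e => hh1 (Subtype.ext e)
    have h2 : (h : G) ^ r = 1 := by
      have := congrArg Subtype.val hhr
      simpa using this
    exact (hΩ h h1 h2).1 v hv
  · intro h hh1 hhr W hW
    have h1 : (h : G) ≠ 1 := fun e => hh1 (Subtype.ext e)
    have h2 : (h : G) ^ r = 1 := by
      have := congrArg Subtype.val hhr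
      simpa using this
    exact (hΩ h h1 h2).2 W (fun v hv => hW hv)
  · intro e
    apply hne
    have := congrArg Subtype.val e
    have h3 : h₀ * g₀ * h₀⁻¹ = g₀ := this
    calc h₀ * g₀ = h₀ * g₀ * h₀⁻¹ * h₀ := by group
      _ = g₀ * h₀ := by rw [h3]

section MainLemma

variable [Nontrivial V]

omit [Finite G] in
theorem card_eq_pow : Nat.card V = q ^ finrank (ZMod q) V := by
  have h := Module.natCard_eq_pow_finrank (K := ZMod q) (V := V)
  rw [h, Nat.card_zmod]

omit [Finite G] in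
theorem finrank_pos' : 1 ≤ finrank (ZMod q) V := by
  have hfd : FiniteDimensional (ZMod q) V := Module.Finite.of_finite
  exact Module.finrank_pos

omit [Finite G] in
theorem not_dvd_card_sub_one : ¬ q ∣ Nat.card V - 1 := by
  have hq : q.Prime := Fact.out
  rw [card_eq_pow (q := q) (V := V)]
  intro h
  have hn := finrank_pos' (q := q) (V := V)
  have h1 : q ∣ q ^ finrank (ZMod q) V := dvd_pow_self q (by omega)
  have hpos : 1 ≤ q ^ finrank (ZMod q) V := Nat.one_le_pow _ _ hq.pos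
  have h2 : q ∣ 1 := by
    have := (Nat.dvd_sub h1 h)
    rwa [Nat.sub_sub_self hpos] at this
  exact hq.one_lt.ne' (Nat.dvd_one.mp h2)

/-- For an `r`-element `ζ ≠ 1`, when `O_r(G) = 1`: the dimension bound. -/
theorem bound_of_elt (ρ : G →* (V ≃ₗ[ZMod q] V)) (hρ : Function.Injective ρ) (htrans : Trans ρ)
    (hsol : Group.IsSolvable G) (r : ℕ) [Fact r.Prime] (hrq : r ≠ q)
    (hΩ : ∀ h : G, h ≠ 1 → h ^ r = 1 → (∀ v : V, ρ h v = v → v = 0) ∧ IrrElt (ρ h))
    (hcore : pCore r G = ⊥) (ζ : G) (e : ℕ) (he : 1 ≤ e) (hζ : orderOf ζ = r ^ e) :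
    ∃ B : Subgroup ↥(Subgroup.zpowers ζ), B ≠ ⊥ ∧ Nat.card ↥B ≤ finrank (ZMod q) V + 1 ∧
      (B ≠ ⊤ → Nat.card ↥B ≤ finrank (ZMod q) V) := by
  have hr : r.Prime := Fact.out
  set ξ := ζ ^ (r ^ (e - 1)) with hξdef
  have hξ : orderOf ξ = r := by
    have hdvd : r ^ (e - 1) ∣ orderOf ζ := by
      rw [hζ]; exact pow_dvd_pow r (by omega)
    rw [hξdef, orderOf_pow_of_dvd (pow_ne_zero _ hr.ne_zero) hdvd, hζ]
    have : r ^ e = r ^ (e - 1) * r := by
      rw [← pow_succ]; congr 1; omega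
    rw [this, Nat.mul_div_cancel_left _ (pow_pos hr.pos _)]
  obtain ⟨s, hs, hsr, g, hg, hne⟩ := exists_not_commute_pCore hsol hcore ξ hξ
  haveI : Fact s.Prime := ⟨hs⟩
  have hsq : s ≠ q := by
    rintro rfl
    have := pCore_eq_bot_of_not_dvd ρ hρ htrans s (not_dvd_card_sub_one (q := s) (V := V))
    rw [this, Subgroup.mem_bot] at hg
    apply hne
    rw [hg, mul_one, one_mul]
  haveI : (pCore s G).Normal := Cfsg.Agent.Lib.Helper1.pCore_normal s
  have hζP : IsPGroup r ↥(Subgroup.zpowers ζ) := by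
    apply IsPGroup.of_card (n := e)
    rw [Nat.card_zpowers, hζ]
  refine core_bound ρ hρ hsr.symm hsq hrq (pCore s G) (Cfsg.Agent.Lib.Helper1.pCore_isPGroup s) ζ
    hζP hΩ ⟨ξ, ?_, ?_, g, hg, hne⟩
  · exact Subgroup.pow_mem _ (Subgroup.mem_zpowers ζ) _
  · rw [← hξ]; exact pow_orderOf_eq_one ξ

set_option maxHeartbeats 800000 in
/-- **Main lemma.** -/
theorem good_of_prime (ρ : G →* (V ≃ₗ[ZMod q] V)) (hρ : Function.Injective ρ) (htrans : Trans ρ)
    (hsol : Group.IsSolvable G) (r : ℕ) (hr : r.Prime)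
    (hdvd : r ∣ q ^ finrank (ZMod q) V - 1)
    (hprim : ∀ i : ℕ, 1 ≤ i → i < finrank (ZMod q) V → ¬ r ∣ q ^ i - 1)
    (hcond : finrank (ZMod q) V + 1 < r ∨ r ^ 2 ∣ q ^ finrank (ZMod q) V - 1 ∨ q = 2 ∨
      ¬ ∃ m : ℕ, r = 2 ^ m + 1) : Good ρ := by
  classical
  haveI : Fact r.Prime := ⟨hr⟩
  have hq : q.Prime := Fact.out
  have hfd : FiniteDimensional (ZMod q) V := Module.Finite.of_finite
  set n := finrank (ZMod q) V with hn
  have hn1 : 1 ≤ n := finrank_pos' (q := q) (V := V)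
  have hcardV : Nat.card V = q ^ n := card_eq_pow
  have hpos : 1 ≤ q ^ n := Nat.one_le_pow _ _ hq.pos
  have hrq : r ≠ q := by
    rintro rfl
    have h1 : r ∣ r ^ n := dvd_pow_self r (by omega)
    have h2 : r ∣ 1 := by
      have := (Nat.dvd_sub h1 hdvd)
      rwa [Nat.sub_sub_self hpos] at this
    exact hr.one_lt.ne' (Nat.dvd_one.mp h2)
  have hΩ : ∀ h : G, h ≠ 1 → h ^ r = 1 → (∀ v : V, ρ h v = v → v = 0) ∧ IrrElt (ρ h) := by
    intro h h1 hr'
    apply prim_fpf_irr (ρ h) r hdvd hprim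
    · rw [← map_pow, hr', map_one]
    · intro e; apply h1; apply hρ; rw [e, map_one]
  have hirr : ∀ g : G, orderOf g = r → IrrElt (ρ g) := by
    intro g hg
    have h1 : g ≠ 1 := by
      rintro rfl
      rw [orderOf_one] at hg
      exact hr.one_lt.ne hg
    exact (hΩ g h1 (by rw [← hg]; exact pow_orderOf_eq_one g)).2
  haveI : (pCore r G).Normal := Cfsg.Agent.Lib.Helper1.pCore_normal r
  by_cases hcore : pCore r G = ⊥
  swap
  · exact good_of_normal_pGroup ρ (pCore r G) (Cfsg.Agent.Lib.Helper1.pCore_isPGroup r) hcore hirr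
  exfalso
  have hdvdG : q ^ n - 1 ∣ Nat.card G := by
    have := card_sub_one_dvd ρ htrans
    rwa [hcardV] at this
  have hnr : n + 1 ≤ r := succ_le_of_primitive q n r hq.two_le hr hn1 hdvd hprim
  by_cases hsq : r ^ 2 ∣ q ^ n - 1
  · -- an element of order `r ^ 2`
    obtain ⟨ζ, hζ⟩ := exists_orderOf_sq ρ hρ (hsq.trans hdvdG) hirr
    obtain ⟨B, hB0, hB1, hB2⟩ := bound_of_elt ρ hρ htrans hsol r hrq hΩ hcore ζ 2 (by norm_num) hζ
    have hcardZ : Nat.card ↥(Subgroup.zpowers ζ) = r ^ 2 := by rw [Nat.card_zpowers, hζ]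
    have hBdvd : Nat.card ↥B ∣ r ^ 2 := hcardZ ▸ Subgroup.card_subgroup_dvd_card B
    obtain ⟨j, hj, hBj⟩ := (Nat.dvd_prime_pow hr).mp hBdvd
    have hj0 : j ≠ 0 := by
      rintro rfl
      rw [pow_zero] at hBj
      exact hB0 (Subgroup.card_eq_one.mp hBj)
    have hrB : r ≤ Nat.card ↥B := by
      rw [hBj]
      calc r = r ^ 1 := (pow_one r).symm
        _ ≤ r ^ j := Nat.pow_le_pow_right hr.pos (by omega)
    have hBr : Nat.card ↥B = r := by omega
    have hBtop : B ≠ ⊤ := by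
      rintro rfl
      rw [Subgroup.card_top, hcardZ] at hBr
      have : r * r = r * 1 := by rw [← pow_two, hBr, mul_one]
      have := Nat.eq_of_mul_eq_mul_left hr.pos this
      exact hr.one_lt.ne' this
    have := hB2 hBtop
    omega
  · -- an element of order `r`
    obtain ⟨ξ, hξ⟩ := exists_prime_orderOf_dvd_card' r (hdvd.trans hdvdG)
    rcases hcond with hbig | hsq' | hcase
    · obtain ⟨B, hB0, hB1, -⟩ :=
        bound_of_elt ρ hρ htrans hsol r hrq hΩ hcore ξ 1 le_rfl (by rw [hξ, pow_one])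
      have hcardZ : Nat.card ↥(Subgroup.zpowers ξ) = r := by rw [Nat.card_zpowers, hξ]
      have hBdvd : Nat.card ↥B ∣ r := hcardZ ▸ Subgroup.card_subgroup_dvd_card B
      rcases (Nat.dvd_prime hr).mp hBdvd with h1 | h1
      · exact hB0 (Subgroup.card_eq_one.mp h1)
      · omega
    · exact hsq hsq'
    · -- Shult's theorem
      obtain ⟨s, hs, hsr, g, hg, hne⟩ := exists_not_commute_pCore hsol hcore ξ hξ
      haveI : Fact s.Prime := ⟨hs⟩
      have hsq' : s ≠ q := by
        rintro rfl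
        have := pCore_eq_bot_of_not_dvd ρ hρ htrans s (not_dvd_card_sub_one (q := s) (V := V))
        rw [this, Subgroup.mem_bot] at hg
        apply hne
        rw [hg, mul_one, one_mul]
      haveI : (pCore s G).Normal := Cfsg.Agent.Lib.Helper1.pCore_normal s
      have hnorm : Subgroup.zpowers ξ ≤ Subgroup.normalizer ((pCore s G : Subgroup G) : Set G) := by
        rw [Subgroup.normalizer_eq_top]
        exact le_top
      let φ := ShultGroup.conjOn (Subgroup.zpowers ξ) (pCore s G) hnorm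
      let ρP : Representation (ZMod q) ↥(pCore s G) V := (rep ρ).comp (pCore s G).subtype
      let τ : Representation (ZMod q) ↥(Subgroup.zpowers ξ) V :=
        (rep ρ).comp (Subgroup.zpowers ξ).subtype
      have hcompat : ∀ (h : ↥(Subgroup.zpowers ξ)) (g : ↥(pCore s G)) (v : V),
          τ h (ρP g v) = ρP (φ h g) (τ h v) := by
        intro h g v
        show ρ (h : G) (ρ (g : G) v) = ρ ((h : G) * g * (h : G)⁻¹) (ρ (h : G) v)
        rw [← LinearEquiv.mul_apply, ← LinearEquiv.mul_apply, ← map_mul, ← map_mul]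
        congr 2
        group
      have hρP : Function.Injective ρP := by
        intro a b hab
        exact Subtype.ext (rep_injective ρ hρ hab)
      have hcardZ : Nat.card ↥(Subgroup.zpowers ξ) = r := by rw [Nat.card_zpowers, hξ]
      have hξ1 : ξ ≠ 1 := by
        rintro rfl
        rw [orderOf_one] at hξ
        exact hr.one_lt.ne hξ
      have hfix : ∀ v : V, (∀ h, τ h v = v) → v = 0 := by
        intro v hv
        exact (hΩ ξ hξ1 (by rw [← hξ]; exact pow_orderOf_eq_one ξ)).1 v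
          (hv ⟨ξ, Subgroup.mem_zpowers ξ⟩)
      rcases ShultG.main (q := s) (r := r) (Cfsg.Agent.Lib.Helper1.pCore_isPGroup s) hcardZ hsr φ ρP τ
        hcompat (natCast_ne_zero hs hsq') (natCast_ne_zero hr hrq) hfix with h | ⟨hs2, hfer, -⟩
      · apply hne
        have h1 := h ⟨ξ, Subgroup.mem_zpowers ξ⟩ ⟨g, hg⟩
        have h2 : (⟨g, hg⟩ : ↥(pCore s G))⁻¹ * φ ⟨ξ, Subgroup.mem_zpowers ξ⟩ ⟨g, hg⟩ = 1 := by
          apply hρP
          rw [h1, map_one]
        have h3 := congrArg Subtype.val h2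
        have h4 : g⁻¹ * (ξ * g * ξ⁻¹) = 1 := h3
        calc ξ * g = g * (g⁻¹ * (ξ * g * ξ⁻¹)) * ξ := by group
          _ = g * ξ := by rw [h4, mul_one]
      · rcases hcase with hq2 | hnf
        · exact hsq' (hs2.trans hq2.symm)
        · exact hnf hfer

end MainLemma

end Cfsg.Agent.Lib.Helper2.Huppert
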