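/-
helper2: semidirect product plumbing for S4079: `G = L ⋊ ⟨a⟩` for an automorphism `a` of prime order `p` of a finite
`p`-group `L`: Suzuki's criterion for maximal class in terms of the fixed points of `a`, uniqueness of normal
`a`-invariant subgroups of `L` of a given order when `G` has maximal class, and the bound on central `a`-fixed subgroups.
All declarations live in `Cfsg.Agent.Lib.Helper2.MetaAut`.
-/
import Mathlib
import Cfsg.Agent.Lib.Helper73.Suzuki
import Cfsg.Agent.Lib.Helper87.MaxClassBasic
import Cfsg.Agent.S0662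

set_option autoImplicit false

namespace Cfsg.Agent.Lib.Helper2.MetaAut

open SemidirectProduct

section sdp
variable {L : Type*} [Group L] [Finite L] {p : ℕ} [hpF : Fact p.Prime] (a : MulAut L)

/-- the semidirect product `L ⋊ ⟨a⟩` -/
abbrev SG := SemidirectProduct L ↥(Subgroup.zpowers a) (Subgroup.zpowers a).subtype

theorem finite_SG (ha : orderOf a = p) : Finite (SG a) := by
  have : Finite ↥(Subgroup.zpowers a) :=
    Nat.finite_of_card_ne_zero (by rw [Nat.card_zpowers, ha]; exact hpF.out.ne_zero)
  exact Finite.of_equiv _ (SemidirectProduct.equivProd (φ := (Subgroup.zpowers a).subtype)).symm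

theorem card_SG (ha : orderOf a = p) (m : ℕ) (hm : Nat.card L = p ^ m) :
    Nat.card (SG a) = p ^ (m + 1) := by
  rw [SemidirectProduct.card, hm, Nat.card_zpowers, ha, pow_succ]

/-- every element of `⟨a⟩` is a natural power of `a` -/
theorem exists_pow_of_mem_zpowers (ha : orderOf a = p) (b : MulAut L) (hb : b ∈ Subgroup.zpowers a) :
    ∃ j : ℕ, a ^ j = b := by
  have hfin : IsOfFinOrder a := by
    rw [← orderOf_pos_iff, ha]
    exact hpF.out.pos
  have := (hfin.mem_powers_iff_mem_zpowers).mpr hb
  exact (Submonoid.mem_powers_iff _ _).mp this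

theorem pow_apply_mem (C : Subgroup L) (hC : ∀ x ∈ C, a x ∈ C) (j : ℕ) : ∀ x ∈ C, (a ^ j) x ∈ C := by
  induction j with
  | zero => intro x hx; simpa using hx
  | succ j ih =>
    intro x hx
    rw [pow_succ, MulAut.mul_apply]
    exact ih _ (hC x hx)

theorem pow_apply_eq (c : L) (hc : a c = c) (j : ℕ) : (a ^ j) c = c := by
  induction j with
  | zero => simp
  | succ j ih => rw [pow_succ, MulAut.mul_apply, hc, ih]

/-- conjugation formula in the semidirect product -/
theorem conj_inl (g : SG a) (c : L) :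
    g * inl c * g⁻¹ = inl (g.left * (g.right : MulAut L) c * g.left⁻¹) := by
  have hg : g = inl g.left * inr g.right := (inl_left_mul_inr_right g).symm
  have h1 : (inr g.right : SG a) * inl c * (inr g.right)⁻¹ = inl ((g.right : MulAut L) c) := by
    rw [← map_inv, ← inl_aut]
    rfl
  calc g * inl c * g⁻¹ = (inl g.left * inr g.right) * inl c * (inl g.left * inr g.right)⁻¹ := by rw [← hg]
    _ = inl g.left * ((inr g.right : SG a) * inl c * (inr g.right)⁻¹) * (inl g.left)⁻¹ := by group
    _ = inl (g.left * (g.right : MulAut L) c * g.left⁻¹) := by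
      rw [h1, ← map_inv, ← map_mul, ← map_mul]

/-- the image in `L ⋊ ⟨a⟩` of a normal `a`-invariant subgroup of `L` is normal -/
theorem map_inl_normal (ha : orderOf a = p) (C : Subgroup L) (hCn : C.Normal) (hC : ∀ x ∈ C, a x ∈ C) :
    (C.map (inl : L →* SG a)).Normal := by
  constructor
  intro n hn g
  obtain ⟨c, hc, rfl⟩ := Subgroup.mem_map.mp hn
  rw [conj_inl]
  refine Subgroup.mem_map.mpr ⟨_, ?_, rfl⟩
  obtain ⟨j, hj⟩ := exists_pow_of_mem_zpowers a ha (g.right : MulAut L) g.right.2
  rw [← hj]
  exact hCn.conj_mem _ (pow_apply_mem a C hC j c hc) _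

theorem card_map_inl (C : Subgroup L) : Nat.card (C.map (inl : L →* SG a)) = Nat.card C :=
  Subgroup.card_map_of_injective inl_injective

/-- **Suzuki**: if `a` has exactly `p` fixed points on `L` then `L ⋊ ⟨a⟩` has maximal class. -/
theorem sdp_class_of_fix (ha : orderOf a = p) (m : ℕ) (hm : Nat.card L = p ^ m)
    (hfix : Nat.card {y : L // a y = y} = p) :
    Group.nilpotencyClass (SemidirectProduct L ↥(Subgroup.zpowers a) (Subgroup.zpowers a).subtype) = m := by
  have hG := card_SG a ha m hm
  have := finite_SG a ha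
  let a₀ : ↥(Subgroup.zpowers a) := ⟨a, Subgroup.mem_zpowers a⟩
  let A : Subgroup (SG a) := Subgroup.centralizer {(inr a₀ : SG a)}
  have hmemA : ∀ x : SG a, x ∈ A ↔ a x.left = x.left := by
    intro x
    show x ∈ Subgroup.centralizer {(inr a₀ : SG a)} ↔ _
    rw [Subgroup.mem_centralizer_iff]
    constructor
    · intro h
      have h1 := h (inr a₀) (Set.mem_singleton _)
      have h2 := congrArg SemidirectProduct.left h1
      simpa [SemidirectProduct.mul_left, a₀] using h2
    · intro h y hy
      rw [Set.mem_singleton_iff] at hy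
      subst hy
      ext
      · simp [SemidirectProduct.mul_left, a₀, h]
      · simp only [SemidirectProduct.mul_right, SemidirectProduct.right_inr]
        have hcomm : a₀ * x.right = x.right * a₀ := by
          obtain ⟨k, hk⟩ := Subgroup.mem_zpowers_iff.mp x.right.2
          apply Subtype.ext
          show a * (x.right : MulAut L) = (x.right : MulAut L) * a
          rw [← hk]
          exact (Commute.zpow_right (Commute.refl a) k).eq
        rw [hcomm]
  have hAcard : Nat.card A = p ^ 2 := by
    have e : A ≃ {y : L // a y = y} × ↥(Subgroup.zpowers a) :=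
      { toFun := fun x => (⟨x.1.left, (hmemA x.1).mp x.2⟩, x.1.right)
        invFun := fun y => ⟨⟨y.1.1, y.2⟩, (hmemA _).mpr y.1.2⟩
        left_inv := fun x => by ext <;> rfl
        right_inv := fun y => by ext <;> rfl }
    rw [Nat.card_congr e, Nat.card_prod, hfix, Nat.card_zpowers, ha, sq]
  have hCA : Subgroup.centralizer (A : Set (SG a)) ≤ A := by
    intro g hg
    show g ∈ Subgroup.centralizer {(inr a₀ : SG a)}
    rw [Subgroup.mem_centralizer_iff]
    intro y hy
    rw [Set.mem_singleton_iff] at hy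
    subst hy
    have hmem : (inr a₀ : SG a) ∈ A := by
      rw [hmemA]; simp
    exact (Subgroup.mem_centralizer_iff.mp hg) _ hmem
  have := Cfsg.Agent.Lib.Helper73.suzuki_maximal_class (p := p) (m + 1) (SG a) hG A hAcard hCA
  simpa using this

/-- uniqueness of normal `a`-invariant subgroups of `L` of order `p ^ k`, `k < m`, when `L ⋊ ⟨a⟩` has maximal class -/
theorem sdp_unique (ha : orderOf a = p) (m : ℕ) (hm : Nat.card L = p ^ m)
    (hcl : Group.nilpotencyClass (SemidirectProduct L ↥(Subgroup.zpowers a) (Subgroup.zpowers a).subtype) = m)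
    (k : ℕ) (hk : k + 1 ≤ m)
    (C₁ C₂ : Subgroup L) (h₁ : C₁.Normal) (h₂ : C₂.Normal) (ha₁ : ∀ x ∈ C₁, a x ∈ C₁) (ha₂ : ∀ x ∈ C₂, a x ∈ C₂)
    (hc₁ : Nat.card C₁ = p ^ k) (hc₂ : Nat.card C₂ = p ^ k) : C₁ = C₂ := by
  have hp : p.Prime := hpF.out
  rcases Nat.eq_zero_or_pos k with rfl | hk0
  · rw [pow_zero] at hc₁ hc₂
    rw [Subgroup.card_eq_one.mp hc₁, Subgroup.card_eq_one.mp hc₂]
  have hG := card_SG a ha m hm
  have := finite_SG a ha
  have hcl' : Group.nilpotencyClass (SG a) = m + 1 - 1 := by simpa using hcl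
  obtain ⟨huniq, -⟩ := Cfsg.Agent.S0662.result (m + 1) hG hcl' (by omega)
  have hidx : ∀ C : Subgroup L, Nat.card C = p ^ k → (C.map (inl : L →* SG a)).index = p ^ (m + 1 - k) := by
    intro C hC
    have h := Subgroup.card_mul_index (C.map (inl : L →* SG a))
    rw [card_map_inl, hC, hG] at h
    have h2 : p ^ (m + 1) = p ^ k * p ^ (m + 1 - k) := by
      rw [← pow_add]; congr 1; omega
    rw [h2] at h
    exact Nat.eq_of_mul_eq_mul_left (pow_pos hp.pos k) h
  have e₁ := @huniq (C₁.map inl) (map_inl_normal a ha C₁ h₁ ha₁) (m + 1 - k) (by omega) (hidx C₁ hc₁)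
  have e₂ := @huniq (C₂.map inl) (map_inl_normal a ha C₂ h₂ ha₂) (m + 1 - k) (by omega) (hidx C₂ hc₂)
  exact Subgroup.map_injective inl_injective (e₁.trans e₂.symm)

/-- a subgroup of `L` that is central in `L` and fixed pointwise by `a` has order at most `p` when `L ⋊ ⟨a⟩` has
maximal class -/
theorem sdp_center (ha : orderOf a = p) (m : ℕ) (hm : Nat.card L = p ^ m) (hm2 : 2 ≤ m)
    (hcl : Group.nilpotencyClass (SemidirectProduct L ↥(Subgroup.zpowers a) (Subgroup.zpowers a).subtype) = m)
    (C : Subgroup L) (hC : ∀ c ∈ C, ∀ l : L, l * c = c * l) (hCa : ∀ c ∈ C, a c = c) :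
    Nat.card C ≤ p := by
  have hG := card_SG a ha m hm
  have := finite_SG a ha
  obtain ⟨hZ, -, -⟩ := Cfsg.Agent.Lib.Helper87.maxClass_center hG (by omega) (by rw [hcl]; omega)
  have hle : C.map (inl : L →* SG a) ≤ Subgroup.center (SG a) := by
    intro n hn
    obtain ⟨c, hc, rfl⟩ := Subgroup.mem_map.mp hn
    rw [Subgroup.mem_center_iff]
    intro g
    have h1 : g * inl c * g⁻¹ = inl c := by
      rw [conj_inl]
      obtain ⟨j, hj⟩ := exists_pow_of_mem_zpowers a ha (g.right : MulAut L) g.right.2
      rw [← hj, pow_apply_eq a c (hCa c hc) j, hC c hc g.left, mul_inv_cancel_right]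
    calc g * inl c = (g * inl c * g⁻¹) * g := by group
      _ = inl c * g := by rw [h1]
  have := Subgroup.card_le_of_le hle
  rw [card_map_inl, hZ] at this
  exact this

end sdp

end Cfsg.Agent.Lib.Helper2.MetaAut
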