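/-
helper2, project SAF (S4025), module [AFF1] (hedge): a complement of `V` and the faithful action
on its cosets.
All declarations live in `Cfsg.Agent.Lib.Helper2.SafAff1`.
-/
import Mathlib
import Cfsg.Agent.Lib.Helper2.SafDefs

set_option autoImplicit false

namespace Cfsg.Agent.Lib.Helper2.SafAff1

open Cfsg.Agent.Lib.Helper2.Saf

universe u

theorem exists_complement_action {Q : Type u} [Group Q] [Finite Q] {p n : ℕ} [Fact p.Prime]
    (V : Subgroup Q) (h : NormalEA p n V) :
    ∃ (C : Subgroup Q) (π : Q →* Equiv.Perm V),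
      (∀ q : Q, ∃ v ∈ V, ∃ c ∈ C, q = v * c) ∧ C ⊓ V = ⊥ ∧ Function.Injective π ∧
      (∀ (v : V) (c : Q), c ∈ C → ∀ y : V, ((π ((v : Q) * c) y : V) : Q) = v * (c * y * c⁻¹)) := by
  have hn := h.normal
  have hp : p.Prime := Fact.out
  have hcop : (Nat.card V).Coprime V.index := by
    rw [h.card]
    exact Nat.Coprime.pow_left n ((Nat.Prime.coprime_iff_not_dvd hp).mpr h.cop)
  obtain ⟨C, hC⟩ := Subgroup.exists_right_complement'_of_coprime hcop
  have hbij : Function.Bijective (fun v : V => (QuotientGroup.mk (v : Q) : Q ⧸ C)) :=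
    Subgroup.isComplement_subgroup_right_iff_bijective.mp hC
  let β : V ≃ Q ⧸ C := Equiv.ofBijective _ hbij
  have hβ : ∀ v : V, β v = (QuotientGroup.mk (v : Q) : Q ⧸ C) := fun v => rfl
  let π : Q →* Equiv.Perm V :=
    (Equiv.permCongrHom β).symm.toMonoidHom.comp (MulAction.toPermHom Q (Q ⧸ C))
  have hπ : ∀ (q : Q) (y : V), β (π q y) = q • β y := by
    intro q y
    show β (β.symm (q • β y)) = q • β y
    exact β.apply_symm_apply _
  have hdec : ∀ q : Q, ∃ v ∈ V, ∃ c ∈ C, q = v * c := by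
    intro q
    obtain ⟨⟨v, c⟩, hvc, -⟩ := Subgroup.isComplement_iff_existsUnique.mp hC q
    exact ⟨v.1, v.2, c.1, c.2, hvc.symm⟩
  have hdisj : C ⊓ V = ⊥ := by
    rw [inf_comm]
    exact disjoint_iff.mp hC.disjoint
  have hform : ∀ (v : V) (c : Q), c ∈ C → ∀ y : V,
      ((π ((v : Q) * c) y : V) : Q) = v * (c * y * c⁻¹) := by
    intro v c hc y
    have hmem : (v : Q) * (c * y * c⁻¹) ∈ V := V.mul_mem v.2 (hn.conj_mem _ y.2 c)
    have : π ((v : Q) * c) y = ⟨(v : Q) * (c * y * c⁻¹), hmem⟩ := by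
      apply β.injective
      rw [hπ, hβ, hβ]
      show (QuotientGroup.mk ((v : Q) * c * (y : Q)) : Q ⧸ C) = QuotientGroup.mk _
      rw [QuotientGroup.eq]
      have : ((v : Q) * c * (y : Q))⁻¹ * ((v : Q) * (c * y * c⁻¹)) = c⁻¹ := by group
      rw [this]
      exact C.inv_mem hc
    rw [this]
  refine ⟨C, π, hdec, hdisj, ?_, hform⟩
  rw [injective_iff_map_eq_one]
  intro q hq
  obtain ⟨v, hv, c, hc, rfl⟩ := hdec q
  have key : ∀ y : V, (v : Q) * (c * y * c⁻¹) = y := by
    intro y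
    have h1 := hform ⟨v, hv⟩ c hc y
    rw [hq] at h1
    exact h1.symm
  have hv1 : v = 1 := by
    have := key 1
    simpa using this
  have hcV : c ∈ V := by
    apply h.cent
    rw [Subgroup.mem_centralizer_iff]
    intro y hy
    have := key ⟨y, hy⟩
    rw [hv1, one_mul] at this
    have h2 : c * y = y * c := by
      calc c * y = (c * y * c⁻¹) * c := by group
        _ = y * c := by rw [this]
    exact h2.symm
  have hc1 : c = 1 := by
    have : c ∈ C ⊓ V := ⟨hc, hcV⟩
    rw [hdisj, Subgroup.mem_bot] at this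
    exact this
  rw [hv1, hc1, mul_one]

end Cfsg.Agent.Lib.Helper2.SafAff1
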