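/-
helper2, project SAF (S4025), module [ARITH] (hedge).
All declarations live in `Cfsg.Agent.Lib.Helper2.SafArith`.
-/
import Mathlib

set_option autoImplicit false

namespace Cfsg.Agent.Lib.Helper2.SafArith

theorem two_pow_ge (m : ℕ) : m + 7 ≤ 2 ^ (m + 3) := by
  induction m with
  | zero => norm_num
  | succ m ih =>
    have : 2 ^ (m + 1 + 3) = 2 * 2 ^ (m + 3) := by ring
    omega

theorem arith {p n : ℕ} (hp : p.Prime) (hn : 3 ≤ n)
    (h : (p ^ n - 1) * (p ^ (n - 1) - 1) ∣ n * (p ^ n - 1) * (p ^ 2 - 1)) :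
    n = 3 ∨ (n = 5 ∧ p = 2) := by
  have hp2 : 2 ≤ p := hp.two_le
  have hpos : 0 < p ^ n - 1 := by
    have h1 : 2 ^ n ≤ p ^ n := Nat.pow_le_pow_left hp2 n
    have h2 : 2 ^ 3 ≤ 2 ^ n := Nat.pow_le_pow_right (by norm_num) hn
    omega
  have h' : p ^ (n - 1) - 1 ∣ n * (p ^ 2 - 1) := by
    have : (p ^ n - 1) * (p ^ (n - 1) - 1) ∣ (p ^ n - 1) * (n * (p ^ 2 - 1)) := by
      convert h using 1
      ring
    exact Nat.dvd_of_mul_dvd_mul_left hpos this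
  have hsq : 4 ≤ p ^ 2 := by
    have : 2 ^ 2 ≤ p ^ 2 := Nat.pow_le_pow_left hp2 2
    omega
  have hpos2 : 0 < n * (p ^ 2 - 1) := Nat.mul_pos (by omega) (by omega)
  have hle : p ^ (n - 1) - 1 ≤ n * (p ^ 2 - 1) := Nat.le_of_dvd hpos2 h'
  have hcases : n = 3 ∨ n = 4 ∨ n = 5 ∨ 6 ≤ n := by omega
  rcases hcases with rfl | rfl | rfl | h6
  · exact Or.inl rfl
  · -- n = 4
    exfalso
    have h3 : p ≤ 3 := by
      by_contra hcon
      have hp4 : 4 ≤ p := by omega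
      have e1 : p ^ (4 - 1) = p * p ^ 2 := by norm_num; ring
      have e2 : 4 * p ^ 2 ≤ p * p ^ 2 := Nat.mul_le_mul_right _ hp4
      rw [e1] at hle
      omega
    interval_cases p
    · norm_num at h'
    · norm_num at h'
  · -- n = 5
    right
    refine ⟨rfl, ?_⟩
    obtain ⟨k, hk⟩ : ∃ k, p ^ 2 = k + 1 := ⟨p ^ 2 - 1, by omega⟩
    have e1 : p ^ (5 - 1) - 1 = (p ^ 2 - 1) * (p ^ 2 + 1) := by
      have : p ^ (5 - 1) = (p ^ 2) ^ 2 := by norm_num; ring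
      rw [this, hk]
      have : (k + 1) ^ 2 = k * (k + 1 + 1) + 1 := by ring
      rw [this]
      simp
    have e2 : 5 * (p ^ 2 - 1) = (p ^ 2 - 1) * 5 := by ring
    rw [e1, e2] at h'
    have h5 : p ^ 2 + 1 ∣ 5 := Nat.dvd_of_mul_dvd_mul_left (by omega) h'
    have h6 : p ^ 2 + 1 ≤ 5 := Nat.le_of_dvd (by norm_num) h5
    by_contra hne
    have hp3 : 3 ≤ p := by omega
    have : 3 ^ 2 ≤ p ^ 2 := Nat.pow_le_pow_left hp3 2
    omega
  · -- n ≥ 6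
    exfalso
    obtain ⟨m, rfl⟩ : ∃ m, n = m + 6 := ⟨n - 6, by omega⟩
    have e1 : p ^ (m + 6 - 1) = p ^ (m + 3) * p ^ 2 := by
      rw [← pow_add]
      congr 1
    have e2 : 2 ^ (m + 3) ≤ p ^ (m + 3) := Nat.pow_le_pow_left hp2 _
    have e3 := two_pow_ge m
    have e4 : (m + 7) * p ^ 2 ≤ p ^ (m + 3) * p ^ 2 := Nat.mul_le_mul_right _ (e3.trans e2)
    rw [e1] at hle
    have e5 : (m + 6) * (p ^ 2 - 1) ≤ (m + 6) * p ^ 2 := Nat.mul_le_mul_left _ (by omega)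
    have e6 : (m + 7) * p ^ 2 = (m + 6) * p ^ 2 + p ^ 2 := by ring
    omega

end Cfsg.Agent.Lib.Helper2.SafArith
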