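/-
helper2, project SAF (S4025), module [COUNT1] (corrected statement: `W` nontrivial).
All declarations live in `Cfsg.Agent.Lib.Helper2.SafCount1`.
-/
import Mathlib

set_option autoImplicit false

namespace Cfsg.Agent.Lib.Helper2.SafCount1

universe u

theorem card_vectors_dvd {p : ℕ} [Fact p.Prime] {W : Type u} [AddCommGroup W] [Module (ZMod p) W]
    [Finite W] (H : Subgroup (W ≃ₗ[ZMod p] W)) [Finite H] (hW : 1 < Nat.card W)
    (htr1 : ∀ v w : W, v ≠ 0 → w ≠ 0 → ∃ h ∈ H, h v = w) : Nat.card W - 1 ∣ Nat.card H := by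
  have : Nontrivial W := Finite.one_lt_card_iff_nontrivial.mp hW
  obtain ⟨v, hv⟩ : ∃ v : W, v ≠ 0 := exists_ne 0
  have horb : MulAction.orbit H v = {w : W | w ≠ 0} := by
    ext w
    constructor
    · rintro ⟨h, rfl⟩
      show h • v ≠ 0
      rw [Subgroup.smul_def, LinearEquiv.smul_def]
      intro h0
      exact hv ((LinearEquiv.map_eq_zero_iff _).mp h0)
    · intro hw
      obtain ⟨h, hh, hvw⟩ := htr1 v w hv hw
      exact ⟨⟨h, hh⟩, hvw⟩
  have h1 : (MulAction.orbit H v).ncard ∣ Nat.card H := by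
    rw [← MulAction.index_stabilizer]
    exact Subgroup.index_dvd_card _
  have h2 : ({w : W | w ≠ 0} : Set W).ncard = Nat.card W - 1 := by
    have h3 : {w : W | w ≠ 0} = ({0} : Set W)ᶜ := by
      ext w
      simp
    rw [h3, Set.ncard_compl, Set.ncard_singleton]
  rw [horb, h2] at h1
  exact h1

end Cfsg.Agent.Lib.Helper2.SafCount1
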