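/-
helper2, project SAF (S4025), module [E81]: no solvable subgroup of `GL_4(3)` has order divisible
by `65`.
All declarations live in `Cfsg.Agent.Lib.Helper2.SafE81`.
-/
import Mathlib
import Cfsg.Agent.Lib.Helper2.SafDefs
import Cfsg.Agent.Lib.Helper62.PiHall
import Cfsg.Agent.Lib.Helper2.GoldMinn
import Cfsg.Agent.Lib.Helper17.CoprimeAct

set_option autoImplicit false
set_option linter.unusedSectionVars false

namespace Cfsg.Agent.Lib.Helper2.SafE81

open Cfsg Cfsg.Agent.Lib.Helper2.Saf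

universe u

section Tors

variable {G : Type*} [Group G]

/-- The `r`-torsion of an abelian subgroup. -/
def tors (N : Subgroup G) (hNc : ∀ x ∈ N, ∀ y ∈ N, x * y = y * x) (r : ℕ) : Subgroup G where
  carrier := {x | x ∈ N ∧ x ^ r = 1}
  mul_mem' := by
    rintro a b ⟨ha, ha'⟩ ⟨hb, hb'⟩
    refine ⟨N.mul_mem ha hb, ?_⟩
    have hc : Commute a b := hNc a ha b hb
    rw [hc.mul_pow, ha', hb', one_mul]
  one_mem' := ⟨N.one_mem, one_pow _⟩
  inv_mem' := by
    rintro a ⟨ha, ha'⟩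
    exact ⟨N.inv_mem ha, by rw [inv_pow, ha', inv_one]⟩

theorem mem_tors {N : Subgroup G} {hNc : ∀ x ∈ N, ∀ y ∈ N, x * y = y * x} {r : ℕ} {x : G} :
    x ∈ tors N hNc r ↔ x ∈ N ∧ x ^ r = 1 := Iff.rfl

theorem tors_le {N : Subgroup G} {hNc : ∀ x ∈ N, ∀ y ∈ N, x * y = y * x} {r : ℕ} :
    tors N hNc r ≤ N := fun _ hx => hx.1

theorem isPGroup_tors {N : Subgroup G} {hNc : ∀ x ∈ N, ∀ y ∈ N, x * y = y * x} {r : ℕ} :
    IsPGroup r (tors N hNc r) := by
  rintro ⟨x, hx⟩
  refine ⟨1, ?_⟩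
  apply Subtype.ext
  rw [pow_one, Subgroup.coe_pow]
  exact hx.2

theorem tors_ne_bot [Finite G] {N : Subgroup G} {hNc : ∀ x ∈ N, ∀ y ∈ N, x * y = y * x} {r : ℕ}
    [Fact r.Prime] (hr : r ∣ Nat.card N) : tors N hNc r ≠ ⊥ := by
  obtain ⟨x, hx⟩ := exists_prime_orderOf_dvd_card' r hr
  intro h
  have hmem : (x : G) ∈ tors N hNc r := by
    refine ⟨x.2, ?_⟩
    rw [← Subgroup.coe_pow, ← hx, pow_orderOf_eq_one]
    rfl
  rw [h, Subgroup.mem_bot] at hmem
  have hx1 : x = 1 := Subtype.ext hmem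
  rw [hx1, orderOf_one] at hx
  exact (Fact.out : r.Prime).one_lt.ne hx

theorem normalizer_tors {N : Subgroup G} {hNc : ∀ x ∈ N, ∀ y ∈ N, x * y = y * x} {r : ℕ}
    {L : Subgroup G} (hL : L ≤ Subgroup.normalizer (N : Set G)) :
    L ≤ Subgroup.normalizer ((tors N hNc r : Subgroup G) : Set G) := by
  intro l hl
  rw [Subgroup.mem_normalizer_iff]
  intro x
  have hlN := Subgroup.mem_normalizer_iff.mp (hL hl)
  constructor
  · rintro ⟨hx, hx'⟩
    exact ⟨(hlN x).mp hx, by rw [conj_pow, hx', mul_one, mul_inv_cancel]⟩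
  · rintro ⟨hx, hx'⟩
    refine ⟨(hlN x).mpr hx, ?_⟩
    rw [conj_pow] at hx'
    have : x ^ r = l⁻¹ * (l * x ^ r * l⁻¹) * l := by group
    rw [this, hx']
    group

theorem isPGroup_zpowers {g : G} {r : ℕ} (hg : g ^ r = 1) : IsPGroup r (Subgroup.zpowers g) := by
  rintro ⟨h, hh⟩
  refine ⟨1, ?_⟩
  obtain ⟨i, rfl⟩ := Subgroup.mem_zpowers_iff.mp hh
  apply Subtype.ext
  rw [pow_one, Subgroup.coe_pow]
  show (g ^ i) ^ r = 1
  rw [← zpow_natCast, ← zpow_mul, mul_comm, zpow_mul, zpow_natCast, hg, one_zpow]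

end Tors

section Lin

variable {W : Type u} [AddCommGroup W] [Module (ZMod 3) W] [Finite W]

/-- The common fixed points of a group of linear maps. -/
def fixM (M : Subgroup (W ≃ₗ[ZMod 3] W)) : Submodule (ZMod 3) W where
  carrier := {w | ∀ g ∈ M, g w = w}
  add_mem' := by
    intro a b ha hb g hg
    rw [map_add, ha g hg, hb g hg]
  zero_mem' := fun g _ => map_zero g
  smul_mem' := by
    intro c a ha g hg
    rw [map_smul, ha g hg]

theorem mem_fixM {M : Subgroup (W ≃ₗ[ZMod 3] W)} {w : W} :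
    w ∈ fixM M ↔ ∀ g ∈ M, g w = w := Iff.rfl

theorem mem_fixM_zpowers {g : W ≃ₗ[ZMod 3] W} {w : W} :
    w ∈ fixM (Subgroup.zpowers g) ↔ g w = w := by
  constructor
  · intro h
    exact h g (Subgroup.mem_zpowers g)
  · intro h g' hg'
    have h1 : g ∈ MulAction.stabilizer (W ≃ₗ[ZMod 3] W) w := by
      rw [MulAction.mem_stabilizer_iff, LinearEquiv.smul_def, h]
    have h2 := (Subgroup.zpowers_le.mpr h1) hg'
    rwa [MulAction.mem_stabilizer_iff, LinearEquiv.smul_def] at h2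

theorem card_submodule (hW : Nat.card W = 3 ^ 4) (U : Submodule (ZMod 3) W) :
    Nat.card U = 1 ∨ Nat.card U = 3 ∨ Nat.card U = 9 ∨ Nat.card U = 27 ∨ Nat.card U = 81 := by
  have h1 : Nat.card U.toAddSubgroup ∣ Nat.card W := AddSubgroup.card_addSubgroup_dvd_card _
  have h2 : Nat.card U ∣ 3 ^ 4 := by
    rw [← hW]
    exact h1
  obtain ⟨k, hk, hk'⟩ := (Nat.dvd_prime_pow Nat.prime_three).mp h2
  rw [hk']
  interval_cases k <;> simp

theorem mem_of_card_eq (U : Submodule (ZMod 3) W) (h : Nat.card U = Nat.card W) (w : W) :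
    w ∈ U := by
  have h1 : U.toAddSubgroup = ⊤ := AddSubgroup.eq_top_of_card_eq _ h
  have h2 : w ∈ U.toAddSubgroup := by
    rw [h1]
    exact AddSubgroup.mem_top w
  exact h2

theorem eq_bot_of_card_eq_one (U : Submodule (ZMod 3) W) (h : Nat.card U = 1) : U = ⊥ := by
  have : Subsingleton U := (Nat.card_eq_one_iff_unique.mp h).1
  exact Submodule.eq_bot_of_subsingleton

theorem exists_ne_zero_of_card (U : Submodule (ZMod 3) W) (h : Nat.card U = 3) :
    ∃ w ∈ U, w ≠ 0 := by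
  by_contra hcon
  push Not at hcon
  have : U = ⊥ := by
    rw [eq_bot_iff]
    intro w hw
    rw [Submodule.mem_bot]
    exact hcon w hw
  rw [this] at h
  simp at h

theorem fix_modEq (r : ℕ) [Fact r.Prime] (M : Subgroup (W ≃ₗ[ZMod 3] W)) (hM : IsPGroup r M) :
    Nat.card W ≡ Nat.card (fixM M) [MOD r] := by
  have h := hM.card_modEq_card_fixedPoints W
  have hset : (MulAction.fixedPoints M W) = ((fixM M : Submodule (ZMod 3) W) : Set W) := by
    ext w
    rw [MulAction.mem_fixedPoints, SetLike.mem_coe, mem_fixM]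
    constructor
    · intro h g hg
      have := h ⟨g, hg⟩
      rwa [Subgroup.smul_def, LinearEquiv.smul_def] at this
    · intro h g
      rw [Subgroup.smul_def, LinearEquiv.smul_def]
      exact h g g.2
  have hcard : Nat.card (MulAction.fixedPoints M W) = Nat.card (fixM M) :=
    Nat.card_congr (Equiv.setCongr hset)
  rwa [hcard] at h

theorem eq_bot_of_fix_top {M : Subgroup (W ≃ₗ[ZMod 3] W)} (h : ∀ w : W, w ∈ fixM M) : M = ⊥ := by
  rw [eq_bot_iff]
  intro g hg
  rw [Subgroup.mem_bot]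
  ext w
  exact h w g hg

theorem fix5 (hW : Nat.card W = 3 ^ 4) (M : Subgroup (W ≃ₗ[ZMod 3] W)) (hM : IsPGroup 5 M)
    (hne : M ≠ ⊥) : fixM M = ⊥ := by
  have : Fact (Nat.Prime 5) := ⟨by norm_num⟩
  have h := fix_modEq 5 M hM
  rw [hW] at h
  rcases card_submodule hW (fixM M) with h1 | h1 | h1 | h1 | h1
  · exact eq_bot_of_card_eq_one _ h1
  · rw [h1] at h; exact absurd h (by decide)
  · rw [h1] at h; exact absurd h (by decide)
  · rw [h1] at h; exact absurd h (by decide)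
  · exact absurd (eq_bot_of_fix_top (mem_of_card_eq _ (by rw [h1, hW]; norm_num))) hne

theorem fix13 (hW : Nat.card W = 3 ^ 4) (M : Subgroup (W ≃ₗ[ZMod 3] W)) (hM : IsPGroup 13 M)
    (hne : M ≠ ⊥) : Nat.card (fixM M) = 3 := by
  have : Fact (Nat.Prime 13) := ⟨by norm_num⟩
  have h := fix_modEq 13 M hM
  rw [hW] at h
  rcases card_submodule hW (fixM M) with h1 | h1 | h1 | h1 | h1
  · rw [h1] at h; exact absurd h (by decide)
  · exact h1
  · rw [h1] at h; exact absurd h (by decide)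
  · rw [h1] at h; exact absurd h (by decide)
  · exact absurd (eq_bot_of_fix_top (mem_of_card_eq _ (by rw [h1, hW]; norm_num))) hne

/-- An element of order dividing `5` stabilizing a line fixes it pointwise. -/
theorem line_fix (ℓ : Submodule (ZMod 3) W) (hℓ : Nat.card ℓ = 3) (k : W ≃ₗ[ZMod 3] W)
    (hk : k ^ 5 = 1) (hinv : ∀ v ∈ ℓ, k v ∈ ℓ) (v : W) (hv : v ∈ ℓ) : k v = v := by
  set K := Subgroup.zpowers k with hK
  have hpow : ∀ i : ℕ, ∀ v ∈ ℓ, (k ^ i) v ∈ ℓ := by
    intro i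
    induction i with
    | zero => intro v hv; simpa using hv
    | succ i ih =>
      intro v hv
      rw [pow_succ, LinearEquiv.mul_apply]
      exact ih _ (hinv v hv)
  have hfin : IsOfFinOrder k := isOfFinOrder_iff_pow_eq_one.mpr ⟨5, by norm_num, hk⟩
  have hKinv : ∀ g ∈ K, ∀ v ∈ ℓ, g v ∈ ℓ := by
    intro g hg v hv
    rw [hK, ← hfin.mem_powers_iff_mem_zpowers] at hg
    obtain ⟨i, rfl⟩ := hg
    exact hpow i v hv
  have h1 : (MulAction.orbit K v).ncard ∣ Nat.card K := by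
    rw [← MulAction.index_stabilizer]
    exact Subgroup.index_dvd_card _
  have h2 : Nat.card K ∣ 5 := by
    rw [hK, Nat.card_zpowers]
    exact orderOf_dvd_of_pow_eq_one hk
  have h3 : MulAction.orbit K v ⊆ (ℓ : Set W) := by
    rintro _ ⟨g, rfl⟩
    show g • v ∈ ℓ
    rw [Subgroup.smul_def, LinearEquiv.smul_def]
    exact hKinv g.1 g.2 v hv
  have h4 : (MulAction.orbit K v).ncard ≤ 3 := by
    have h := Set.ncard_le_ncard h3 (Set.toFinite _)
    have h' : ((ℓ : Set W)).ncard = 3 := by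
      rw [← Nat.card_coe_set_eq]
      exact hℓ
    omega
  have h5 : (MulAction.orbit K v).ncard = 1 := by
    rcases (Nat.dvd_prime (by norm_num : Nat.Prime 5)).mp (h1.trans h2) with h | h
    · exact h
    · omega
  obtain ⟨a, ha⟩ := Set.ncard_eq_one.mp h5
  have hv' : v ∈ MulAction.orbit K v := MulAction.mem_orbit_self v
  have hkv : k v ∈ MulAction.orbit K v := ⟨⟨k, Subgroup.mem_zpowers k⟩, rfl⟩
  rw [ha, Set.mem_singleton_iff] at hv' hkv
  rw [hkv, hv']

/-- The heart of the matter. -/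
theorem no65 (hW : Nat.card W = 3 ^ 4) (L : Subgroup (W ≃ₗ[ZMod 3] W))
    (hsol : Group.IsSolvable L) (h5 : 5 ∣ Nat.card L) (h13 : 13 ∣ Nat.card L)
    (hpi : ∀ r : ℕ, r.Prime → r ∣ Nat.card L → r = 5 ∨ r = 13) : False := by
  have : Finite (W ≃ₗ[ZMod 3] W) :=
    Finite.of_injective (fun f => (f : W → W)) DFunLike.coe_injective
  have h5p : Fact (Nat.Prime 5) := ⟨by norm_num⟩
  have h13p : Fact (Nat.Prime 13) := ⟨by norm_num⟩
  have hyp : Cfsg.Agent.Lib.Helper22.Gold.Hyp (⊥ : Subgroup (W ≃ₗ[ZMod 3] W)) L := by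
    refine ⟨IsPGroup.of_bot, ?_, ?_, bot_le⟩
    · intro a ha b hb
      rw [Subgroup.mem_bot] at ha hb
      rw [ha, hb]
    · rw [← Nat.not_even_iff_odd]
      intro he
      have := hpi 2 Nat.prime_two he.two_dvd
      omega
  have hL : L ≠ ⊥ := by
    intro h
    rw [h, Subgroup.card_bot] at h5
    omega
  obtain ⟨N, hNL, hN, hLN, -, hNc, -⟩ := Cfsg.Agent.Lib.Helper2.Gold.exists_min_normal hyp hsol hL
  have hNcard : Nat.card N ≠ 1 := by
    intro h
    exact hN (Subgroup.card_eq_one.mp h)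
  obtain ⟨r, hr, hrN⟩ := Nat.exists_prime_and_dvd hNcard
  have : Fact r.Prime := ⟨hr⟩
  set M := tors N hNc r with hMdef
  have hMne : M ≠ ⊥ := tors_ne_bot hrN
  have hMp : IsPGroup r M := isPGroup_tors
  have hLM : L ≤ Subgroup.normalizer (M : Set (W ≃ₗ[ZMod 3] W)) := normalizer_tors hLN
  obtain ⟨k', hk'⟩ := exists_prime_orderOf_dvd_card' 5 h5
  obtain ⟨x', hx'⟩ := exists_prime_orderOf_dvd_card' 13 h13
  set k : W ≃ₗ[ZMod 3] W := (k' : W ≃ₗ[ZMod 3] W) with hkdef
  set x : W ≃ₗ[ZMod 3] W := (x' : W ≃ₗ[ZMod 3] W) with hxdef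
  have hkL : k ∈ L := k'.2
  have hxL : x ∈ L := x'.2
  have hko : orderOf k = 5 := by rw [hkdef, Subgroup.orderOf_coe, hk']
  have hxo : orderOf x = 13 := by rw [hxdef, Subgroup.orderOf_coe, hx']
  have hk5 : k ^ 5 = 1 := by rw [← hko, pow_orderOf_eq_one]
  have hx13 : x ^ 13 = 1 := by rw [← hxo, pow_orderOf_eq_one]
  have hk1 : k ≠ 1 := by
    intro h
    rw [h, orderOf_one] at hko
    omega
  have hx1 : x ≠ 1 := by
    intro h
    rw [h, orderOf_one] at hxo
    omega
  -- a nontrivial element of order `5` has no nonzero fixed vector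
  have key5 : ∀ g : W ≃ₗ[ZMod 3] W, g ^ 5 = 1 → g ≠ 1 → ∀ w : W, g w = w → w = 0 := by
    intro g hg hg1 w hw
    have hne : Subgroup.zpowers g ≠ ⊥ := by
      intro h
      exact hg1 (Subgroup.zpowers_eq_bot.mp h)
    have := fix5 hW (Subgroup.zpowers g) (isPGroup_zpowers hg) hne
    have hmem : w ∈ fixM (Subgroup.zpowers g) := mem_fixM_zpowers.mpr hw
    rw [this, Submodule.mem_bot] at hmem
    exact hmem
  have hrr : r ∣ Nat.card L := hrN.trans (Subgroup.card_dvd_of_le hNL)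
  rcases hpi r hr hrr with rfl | rfl
  · -- `r = 5`
    have hMcard : Nat.card M ≡
        Nat.card ((Subgroup.centralizer ({x} : Set (W ≃ₗ[ZMod 3] W))).subgroupOf M) [MOD 13] :=
      Cfsg.Agent.Lib.Helper17.card_modEq_card_centralizer_of_normalizes M x (hLM hxL) hxo
    obtain ⟨j, hj⟩ := IsPGroup.iff_card.mp hMp
    -- `M` acts semiregularly
    obtain ⟨w0, hw0⟩ : ∃ w0 : W, w0 ≠ 0 := by
      have : Nontrivial W := by
        rw [← Finite.one_lt_card_iff_nontrivial, hW]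
        norm_num
      exact exists_ne 0
    have hinj : Function.Injective (fun m : M => (m : W ≃ₗ[ZMod 3] W) w0) := by
      intro m m' hmm
      have hmm' : (m : W ≃ₗ[ZMod 3] W) w0 = (m' : W ≃ₗ[ZMod 3] W) w0 := hmm
      by_contra hne
      have h1 : ((m' : W ≃ₗ[ZMod 3] W)⁻¹ * (m : W ≃ₗ[ZMod 3] W)) ∈ M :=
        M.mul_mem (M.inv_mem m'.2) m.2
      have h2 : ((m' : W ≃ₗ[ZMod 3] W)⁻¹ * (m : W ≃ₗ[ZMod 3] W)) ≠ 1 := by
        intro h
        apply hne
        apply Subtype.ext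
        have : (m : W ≃ₗ[ZMod 3] W) = (m' : W ≃ₗ[ZMod 3] W) * ((m' : W ≃ₗ[ZMod 3] W)⁻¹ * m) := by
          group
        rw [this, h, mul_one]
      have h3 : ((m' : W ≃ₗ[ZMod 3] W)⁻¹ * (m : W ≃ₗ[ZMod 3] W)) w0 = w0 := by
        rw [LinearEquiv.mul_apply, hmm']
        show (m' : W ≃ₗ[ZMod 3] W).symm ((m' : W ≃ₗ[ZMod 3] W) w0) = w0
        exact LinearEquiv.symm_apply_apply _ _
      exact hw0 (key5 _ h1.2 h2 w0 h3)
    have hle : Nat.card M ≤ 81 := by
      have := Nat.card_le_card_of_injective _ hinj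
      rw [hW] at this
      exact this
    have hj0 : j ≠ 0 := by
      rintro rfl
      rw [pow_zero] at hj
      exact hMne (Subgroup.card_eq_one.mp hj)
    have hj2 : j ≤ 2 := by
      by_contra hcon
      push Not at hcon
      have : 5 ^ 3 ≤ 5 ^ j := Nat.pow_le_pow_right (by norm_num) hcon
      rw [hj] at hle
      omega
    -- a nontrivial element of `M` centralized by `x`
    have hC : (Subgroup.centralizer ({x} : Set (W ≃ₗ[ZMod 3] W))).subgroupOf M ≠ ⊥ := by
      intro h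
      rw [h, Subgroup.card_bot, hj] at hMcard
      interval_cases j
      · exact hj0 rfl
      · exact absurd hMcard (by decide)
      · exact absurd hMcard (by decide)
    obtain ⟨c, hc1⟩ := Subgroup.ne_bot_iff_exists_ne_one.mp hC
    set kk : W ≃ₗ[ZMod 3] W := ((c : M) : W ≃ₗ[ZMod 3] W) with hkk
    have hkkM : kk ∈ M := (c : M).2
    have hkk1 : kk ≠ 1 := by
      intro h
      apply hc1
      apply Subtype.ext
      apply Subtype.ext
      exact h
    have hcomm : x * kk = kk * x := by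
      have := c.2
      rw [Subgroup.mem_subgroupOf, Subgroup.mem_centralizer_iff] at this
      exact this x rfl
    have hkk5 : kk ^ 5 = 1 := hkkM.2
    set ℓ := fixM (Subgroup.zpowers x) with hℓdef
    have hℓ : Nat.card ℓ = 3 :=
      fix13 hW _ (isPGroup_zpowers hx13) (fun h => hx1 (Subgroup.zpowers_eq_bot.mp h))
    have hinv : ∀ v ∈ ℓ, kk v ∈ ℓ := by
      intro v hv
      rw [hℓdef, mem_fixM_zpowers] at hv ⊢
      have : (x * kk) v = (kk * x) v := by rw [hcomm]
      rw [LinearEquiv.mul_apply, LinearEquiv.mul_apply, hv] at this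
      exact this
    obtain ⟨w, hwℓ, hw0⟩ := exists_ne_zero_of_card ℓ hℓ
    exact hw0 (key5 kk hkk5 hkk1 w (line_fix ℓ hℓ kk hkk5 hinv w hwℓ))
  · -- `r = 13`
    set ℓ := fixM M with hℓdef
    have hℓ : Nat.card ℓ = 3 := fix13 hW M hMp hMne
    have hinv : ∀ v ∈ ℓ, k v ∈ ℓ := by
      intro v hv m hm
      have hkn := Subgroup.mem_normalizer_iff.mp (hLM hkL)
      have h1 : k⁻¹ * m * k ∈ M := by
        rw [hkn]
        convert hm using 1
        group
      have h2 := hv _ h1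
      have h3 : m (k v) = k ((k⁻¹ * m * k) v) := by
        simp only [LinearEquiv.mul_apply]
        show _ = k (k.symm (m (k v)))
        rw [LinearEquiv.apply_symm_apply]
      rw [h3, h2]
    obtain ⟨w, hwℓ, hw0⟩ := exists_ne_zero_of_card ℓ hℓ
    exact hw0 (key5 k hk5 hk1 w (line_fix ℓ hℓ k hk5 hinv w hwℓ))

end Lin

theorem not_81 {p : ℕ} [Fact p.Prime] {W : Type u} [AddCommGroup W] [Module (ZMod p) W] [Finite W]
    (hp3 : p = 3) (hW : Nat.card W = 3 ^ 4) (H : Subgroup (W ≃ₗ[ZMod p] W)) [Finite H]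
    (hsol : Group.IsSolvable H) (hpH : ¬ 3 ∣ Nat.card H)
    (htr1 : ∀ v w : W, v ≠ 0 → w ≠ 0 → ∃ h ∈ H, h v = w) (h65 : 65 ∣ Nat.card H) : False := by
  subst hp3
  have : Finite (W ≃ₗ[ZMod 3] W) :=
    Finite.of_injective (fun f => (f : W → W)) DFunLike.coe_injective
  obtain ⟨L, hL⟩ := Cfsg.Agent.Lib.Helper62.exists_isPiHallOf ({5, 13} : Set ℕ) H hsol
  have hmul : Nat.card L * L.relIndex H = Nat.card H :=
    Cfsg.Agent.Lib.Helper62.isPiHallOf_card_mul hL
  obtain ⟨hLH, hLpi, hLpi'⟩ := hL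
  have hLsol : Group.IsSolvable L :=
    Group.isSolvable_of_isSolvable_injective (Subgroup.inclusion_injective hLH)
  have h5 : 5 ∣ Nat.card L := by
    have h : 5 ∣ Nat.card L * L.relIndex H := by
      rw [hmul]
      exact Dvd.dvd.trans (by norm_num) h65
    rcases (Nat.Prime.dvd_mul (by norm_num)).mp h with h | h
    · exact h
    · exact absurd h (hLpi' 5 (by norm_num) (by simp))
  have h13 : 13 ∣ Nat.card L := by
    have h : 13 ∣ Nat.card L * L.relIndex H := by
      rw [hmul]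
      exact Dvd.dvd.trans (by norm_num) h65
    rcases (Nat.Prime.dvd_mul (by norm_num)).mp h with h | h
    · exact h
    · exact absurd h (hLpi' 13 (by norm_num) (by simp))
  refine no65 hW L hLsol h5 h13 ?_
  intro r hr hrL
  have := hLpi r hr hrL
  simpa using this

end Cfsg.Agent.Lib.Helper2.SafE81
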