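/-
helper2, project SAF (S4025), module [HUP]: Huppert's theorem (landed S3360) in the form needed.
All declarations live in `Cfsg.Agent.Lib.Helper2.SafHup`.
-/
import Mathlib
import Cfsg.Agent.S3360
import Cfsg.Agent.Lib.Helper2.SafDefs

set_option autoImplicit false

namespace Cfsg.Agent.Lib.Helper2.SafHup

open Cfsg Cfsg.Agent.Lib.Helper2.Saf

universe u

variable {p : ℕ} [Fact p.Prime] {W : Type u} [AddCommGroup W] [Module (ZMod p) W] [Finite W]

/-- A prime power `p ^ n` with `n ≥ 3` in Huppert's list is `3 ^ 4`. -/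
theorem pow_mem_list {p n : ℕ} (hp : p.Prime) (hn : 3 ≤ n)
    (h : p ^ n ∈ ({9, 25, 49, 121, 529, 81} : Set ℕ)) : p = 3 ∧ n = 4 := by
  simp only [Set.mem_insert_iff, Set.mem_singleton_iff] at h
  have key : ∀ (q k : ℕ), q.Prime → p ^ n = q ^ k → p = q ∧ n = k := by
    intro q k hq hqk
    have hn0 : n ≠ 0 := by omega
    have hpq : p = q := by
      have h1 : p ∣ q ^ k := hqk ▸ dvd_pow_self p hn0
      exact (Nat.prime_dvd_prime_iff_eq hp hq).mp (hp.dvd_of_dvd_pow h1)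
    subst hpq
    exact ⟨rfl, Nat.pow_right_injective hp.two_le hqk⟩
  rcases h with h | h | h | h | h | h
  · obtain ⟨-, h2⟩ := key 3 2 (by norm_num) (by rw [h]; norm_num)
    omega
  · obtain ⟨-, h2⟩ := key 5 2 (by norm_num) (by rw [h]; norm_num)
    omega
  · obtain ⟨-, h2⟩ := key 7 2 (by norm_num) (by rw [h]; norm_num)
    omega
  · obtain ⟨-, h2⟩ := key 11 2 (by norm_num) (by rw [h]; norm_num)
    omega
  · obtain ⟨-, h2⟩ := key 23 2 (by norm_num) (by rw [h]; norm_num)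
    omega
  · exact key 3 4 (by norm_num) (by rw [h]; norm_num)

theorem semilinear_or_81 (H : Subgroup (W ≃ₗ[ZMod p] W)) [Finite H] (hsol : Group.IsSolvable H)
    (n : ℕ) (hn : 3 ≤ n) (hW : Nat.card W = p ^ n)
    (htr1 : ∀ v w : W, v ≠ 0 → w ≠ 0 → ∃ h ∈ H, h v = w) :
    (∃ (F : Type) (_ : Field F) (_ : Fintype F) (e : W ≃+ F),
        ∀ h ∈ H, ∃ (α : F) (σ : F ≃+* F), ∀ w : W, e (h w) = α * σ (e w)) ∨ (p = 3 ∧ n = 4) := by
  have hp : p.Prime := Fact.out
  have : Nontrivial W := by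
    rw [← Finite.one_lt_card_iff_nontrivial, hW]
    exact Nat.one_lt_pow (by omega) hp.one_lt
  have htr' : ∀ v w : W, v ≠ 0 → w ≠ 0 → ∃ g : H, H.subtype g v = w := by
    intro v w hv hw
    obtain ⟨h, hh, hvw⟩ := htr1 v w hv hw
    exact ⟨⟨h, hh⟩, hvw⟩
  rcases Cfsg.Agent.S3360.result p hsol H.subtype H.subtype_injective htr' with h | h
  · left
    obtain ⟨F, iF, iF', e, he⟩ := h
    exact ⟨F, iF, iF', e, fun h hh => he ⟨h, hh⟩⟩
  · right
    rw [hW] at h
    exact pow_mem_list hp hn h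

end Cfsg.Agent.Lib.Helper2.SafHup
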