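/- helper2, project SAF (S4025): the assembly. All declarations live in `Cfsg.Agent.Lib.Helper2.SafAsm`. -/
import Mathlib
import Cfsg.Prelude.Def_Transfer
import Cfsg.Prelude.Def_CaseTheorems
import Cfsg.Prelude.Def_Perm
import Cfsg.Agent.Lib.Helper2.SafDefs
import Cfsg.Agent.Lib.Helper2.SafHup
import Cfsg.Agent.Lib.Helper2.SafE81
import Cfsg.Agent.Lib.Helper2.SafArith
import Cfsg.Agent.Lib.Helper2.SafCount1
import Cfsg.Agent.Lib.Helper14.SafField1
import Cfsg.Agent.Lib.Helper14.SafAff2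
import Cfsg.Agent.Lib.Helper23.SafTilde
import Cfsg.Agent.Lib.Helper23.SafCount2
import Cfsg.Agent.Lib.Helper33.SafEmb
import Cfsg.Agent.Lib.Helper33.SafOrd
import Cfsg.Agent.Lib.Helper90.SafStruct
import Cfsg.Agent.Lib.Helper87.SafField2
import Cfsg.Agent.Lib.Helper2.SafAff1

set_option autoImplicit false

namespace Cfsg.Agent.Lib.Helper2.SafAsm

open Cfsg Cfsg.Agent.Lib.Helper2.Saf
open Cfsg.Agent.Lib.Helper90.Saf (exists_normalEA)
open Cfsg.Agent.Lib.Helper33.Saf (exists_embedding card_dvd_of_semilinear)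
open Cfsg.Agent.Lib.Helper23.SafTilde (tilde_facts)
open Cfsg.Agent.Lib.Helper14.SafField1 (semiaffineCongr affineCongr)
open Cfsg.Agent.Lib.Helper2.SafHup (semilinear_or_81)
open Cfsg.Agent.Lib.Helper2.SafE81 (not_81)
open Cfsg.Agent.Lib.Helper2.SafArith (arith)
open Cfsg.Agent.Lib.Helper2.SafCount1 (card_vectors_dvd)
open Cfsg.Agent.Lib.Helper23.SafCount2 (card_two_subspaces_dvd)
open Cfsg.Agent.Lib.Helper14.SafAff2 (exists_affPkg_of)
open Cfsg.Agent.Lib.Helper87.SafField2 (card_ringAut card_semiaffine_le card_affine_le)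
open Cfsg.Agent.Lib.Helper2.SafAff1 (exists_complement_action)

universe u

/-- an injective homomorphism into a group which is not larger is an isomorphism -/
theorem nonempty_mulEquiv_of_injective {X Y : Type*} [Group X] [Group Y] [Finite Y]
    (f : X →* Y) (hf : Function.Injective f) (hc : Nat.card Y ≤ Nat.card X) :
    Nonempty (X ≃* Y) :=
  ⟨MulEquiv.ofBijective f (hf.bijective_of_nat_card_le hc)⟩

/-- a finite field of cardinality `p ^ n` is `GaloisField p n` -/
theorem nonempty_ringEquiv_galoisField {F : Type*} [Field F] [Finite F] (p n : ℕ) [Fact p.Prime]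
    (hn : n ≠ 0) (hF : Nat.card F = p ^ n) : Nonempty (F ≃+* GaloisField p n) := by
  classical
  let _ : Fintype F := Fintype.ofFinite F
  let _ : Fintype (GaloisField p n) := Fintype.ofFinite _
  refine ⟨FiniteField.ringEquivOfCardEq ?_⟩
  rw [← Nat.card_eq_fintype_card, ← Nat.card_eq_fintype_card, hF, GaloisField.card p n hn]

theorem main {G : Type u} [Group G] [Finite G]
    {p : ℕ} [Fact p.Prime] (hC : ∀ H K : Subgroup G, IsPGroup p H → IsPGroup p K →
      Nat.card H = Nat.card K → ∃ g : G, K = H.map (MulAut.conj g).toMonoidHom)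
    (P : Sylow p G) (n : ℕ) (hn : 3 ≤ n)
    (hel : Cfsg.IsElementaryAbelian p (P : Subgroup G)) (hcard : Nat.card P = p ^ n)
    (N : Subgroup G) (hN : N = Subgroup.normalizer ((P : Subgroup G) : Set G))
    (hsolv : Group.IsSolvable (↥N ⧸ Cfsg.pPrimeCore p ↥N)) :
    (n = 3 ∧ (∃ f : ↥N ⧸ Cfsg.pPrimeCore p ↥N →* ↥(Cfsg.semiaffineGroup (GaloisField p 3)),
        Function.Injective f) ∧
      (p = 2 → Nonempty (↥N ⧸ Cfsg.pPrimeCore p ↥N ≃* Cfsg.semiaffineGroup (GaloisField 2 3)) ∨
               Nonempty (↥N ⧸ Cfsg.pPrimeCore p ↥N ≃* Cfsg.affineGroup (GaloisField 2 3)))) ∨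
    (n = 5 ∧ p = 2 ∧
      Nonempty (↥N ⧸ Cfsg.pPrimeCore p ↥N ≃* Cfsg.semiaffineGroup (GaloisField 2 5))) := by
  classical
  have hp : p.Prime := Fact.out
  have hn0 : n ≠ 0 := by omega
  obtain ⟨V, hV⟩ := exists_normalEA hC P n hel hcard N hN
  obtain ⟨C, π₀, hC1, hC2, hC3, hC4⟩ := exists_complement_action V hV
  obtain ⟨W, iW1, iW2, iW3, A, iA1, iA2, pk, hWcard, hQcard, hAsol, hpA, htr⟩ :=
    exists_affPkg_of V hV hsolv C π₀ hC1 hC2 hC3 hC4
  obtain ⟨hfin, hHsol, hpH, hAdvd, h2eq, htr1, htr2⟩ :=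
    tilde_facts pk.ρ pk.ρ_inj hAsol hpA htr
  have hcount2 := card_two_subspaces_dvd (tilde pk.ρ) n (by omega) hWcard
    (scal_mem_tilde pk.ρ) (fun U₁ U₂ h1 h2 => htr2 U₁ U₂ (h1.trans h2.symm))
  rcases semilinear_or_81 (tilde pk.ρ) hHsol n hn hWcard htr1 with
    ⟨F, iF1, iF2, e, hsl⟩ | ⟨hp3, hn4⟩
  · -- the semilinear case
    have hFcard : Nat.card F = p ^ n := by
      rw [← hWcard]; exact (Nat.card_congr e.toEquiv).symm
    have haut : Nat.card (F ≃+* F) = n := card_ringAut hn0 hFcard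
    obtain ⟨hord, hcop⟩ := card_dvd_of_semilinear (tilde pk.ρ) n hn0 hWcard e haut hsl
    have harith : (p ^ n - 1) * (p ^ (n - 1) - 1) ∣ n * (p ^ n - 1) * (p ^ 2 - 1) :=
      hcount2.trans (Nat.mul_dvd_mul_right hord _)
    have hslA : ∀ a : A, ∃ (α : F) (σ : F ≃+* F), ∀ w : W, e (pk.ρ a w) = α * σ (e w) :=
      fun a => hsl (pk.ρ a) (range_le_tilde pk.ρ ⟨a, rfl⟩)
    obtain ⟨⟨f, hf⟩, haff⟩ := exists_embedding pk e hslA
    obtain ⟨φ⟩ := nonempty_ringEquiv_galoisField p n hn0 hFcard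
    have hsemi_le : Nat.card (semiaffineGroup F) ≤ p ^ n * (p ^ n - 1) * n := by
      have := card_semiaffine_le (F := F)
      rwa [hFcard, haut] at this
    have haff_le : Nat.card (affineGroup F) ≤ p ^ n * (p ^ n - 1) := by
      have := card_affine_le (F := F)
      rwa [hFcard] at this
    have hW1 : 1 < Nat.card W := by
      rw [hWcard]
      exact Nat.one_lt_pow hn0 hp.one_lt
    have hvec := card_vectors_dvd (tilde pk.ρ) hW1 htr1
    rcases arith hp hn harith with h3 | ⟨h5, h2⟩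
    · -- n = 3
      subst h3
      left
      refine ⟨rfl, ⟨(semiaffineCongr φ).toMonoidHom.comp f,
        (semiaffineCongr φ).injective.comp hf⟩, ?_⟩
      intro h2
      subst h2
      have hHA : Nat.card (tilde pk.ρ) = Nat.card A := h2eq rfl
      rw [hHA] at hord hvec hcop
      rw [hWcard] at hvec
      have h7 : 7 ∣ Nat.card A := by simpa using hvec
      have h21 : Nat.card A ∣ 21 := by simpa using hord
      have hA : Nat.card A = 7 ∨ Nat.card A = 21 := by
        have hle : Nat.card A ≤ 21 := Nat.le_of_dvd (by norm_num) h21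
        have hpos : 0 < Nat.card A := Nat.pos_of_dvd_of_pos h21 (by norm_num)
        interval_cases (Nat.card A) <;> omega
      rcases hA with hA | hA
      · right
        have hσ : ∀ a : A, ∃ α : F, ∀ w : W, e (pk.ρ a w) = α * e w := by
          intro a
          exact hcop (by rw [hA]; norm_num) (pk.ρ a) (range_le_tilde pk.ρ ⟨a, rfl⟩)
        obtain ⟨f', hf'⟩ := haff hσ
        have hQ : Nat.card (↥N ⧸ Cfsg.pPrimeCore 2 ↥N) = 56 := by
          rw [hQcard, hWcard, hA]; norm_num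
        obtain ⟨ε⟩ := nonempty_mulEquiv_of_injective f' hf' (by rw [hQ]; simpa using haff_le)
        exact ⟨ε.trans (affineCongr φ)⟩
      · left
        have hQ : Nat.card (↥N ⧸ Cfsg.pPrimeCore 2 ↥N) = 168 := by
          rw [hQcard, hWcard, hA]; norm_num
        obtain ⟨ε⟩ := nonempty_mulEquiv_of_injective f hf (by rw [hQ]; simpa using hsemi_le)
        exact ⟨ε.trans (semiaffineCongr φ)⟩
    · -- n = 5, p = 2
      subst h5
      subst h2
      right
      refine ⟨rfl, rfl, ?_⟩
      have hHA : Nat.card (tilde pk.ρ) = Nat.card A := h2eq rfl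
      rw [hHA] at hord hcount2
      have h155 : Nat.card A ∣ 155 := by simpa using hord
      have h465 : 465 ∣ Nat.card A * 3 := by simpa using hcount2
      have hA : Nat.card A = 155 := by
        have h1 : 155 ∣ Nat.card A := by
          have : 155 * 3 ∣ Nat.card A * 3 := by simpa using h465
          exact Nat.dvd_of_mul_dvd_mul_right (by norm_num) this
        exact Nat.dvd_antisymm h155 h1
      have hQ : Nat.card (↥N ⧸ Cfsg.pPrimeCore 2 ↥N) = 4960 := by
        rw [hQcard, hWcard, hA]; norm_num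
      obtain ⟨ε⟩ := nonempty_mulEquiv_of_injective f hf (by rw [hQ]; simpa using hsemi_le)
      exact ⟨ε.trans (semiaffineCongr φ)⟩
  · -- the exceptional case 3 ^ 4
    exfalso
    subst hn4
    subst hp3
    have h65 : 65 ∣ Nat.card (tilde pk.ρ) := by
      have h1 : 2080 ∣ Nat.card (tilde pk.ρ) * 8 := by simpa using hcount2
      have h2 : 260 * 8 ∣ Nat.card (tilde pk.ρ) * 8 := by simpa using h1
      have h3 : 260 ∣ Nat.card (tilde pk.ρ) := Nat.dvd_of_mul_dvd_mul_right (by norm_num) h2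
      exact Dvd.dvd.trans (by norm_num) h3
    exact not_81 rfl hWcard (tilde pk.ρ) hHsol hpH htr1 h65

end Cfsg.Agent.Lib.Helper2.SafAsm
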