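import Mathlib
import Cfsg.Prelude.Def_Characters
import Cfsg.Prelude.Def_Blocks
import Cfsg.Agent.Lib.Helper75.Clifford
import Cfsg.Agent.Lib.Helper75.Clifford2
import Cfsg.Agent.Lib.Helper75.Clifford3
import Cfsg.Agent.Lib.Helper75.IndTrans
import Cfsg.Agent.Lib.Helper75.IndNormal
import Cfsg.Agent.Lib.Helper75.Monomial
import Cfsg.Agent.Lib.Helper75.AbelianQuot
import Cfsg.Agent.Lib.Helper75.PGroupField3
import Cfsg.Agent.Lib.Helper77.CenterIrr
import Cfsg.Agent.Lib.Helper77.Deflation
import Cfsg.Agent.Lib.Helper78.CharMore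
import Cfsg.Agent.Lib.Helper71.GCChar
import Cfsg.Agent.S0148

/-!
# Winter's theorem, character theory (helper2)

* `winter_ker_center`: an irreducible constituent of the restriction of a faithful irreducible
  character to a subgroup `B` has no nontrivial central elements of `G` in its kernel.
* `winter_section_degree`: if `D ≤ Z(G)`, `[B, B] ≤ D` and `Z(B) = D`, then `|B : D| = s²` with
  `s ∣ χ(1)`.
* `winter_exists_max_induced`: a character induced from a proper subgroup is induced from a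
  maximal subgroup.
* `winter_core_ker`: the core of the kernel of `φ` is trivial if `φ^G` is faithful.
* `winter_abelian_central`: quasi-primitive faithful characters: abelian normal subgroups are
  central.
-/

set_option autoImplicit false
set_option linter.style.haveILetI false
set_option linter.unusedVariables false
set_option linter.unusedSectionVars false

namespace Cfsg.Agent.Lib.Helper2

open Cfsg
open Cfsg.Agent.Lib.Helper75 Cfsg.Agent.Lib.Helper77 Cfsg.Agent.Lib.Helper78
open scoped ComplexConjugate commutatorElement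

universe u

section Central

variable {G : Type u} [Group G] [Fintype G]

theorem winter_center_le_irrCenter (χ : IrrCharacter G) :
    Subgroup.center G ≤ irrCenter χ := by
  intro z hz
  rw [mem_irrCenter_iff_commutator]
  intro h
  have : ⁅z, h⁆ = 1 := by
    rw [commutatorElement_eq_one_iff_mul_comm]
    exact (Subgroup.mem_center_iff.mp hz h).symm
  rw [this]
  exact Subgroup.one_mem _

theorem winter_irrCenter_le_center (χ : IrrCharacter G)
    (hfaith : ∀ g : G, (χ : G → ℂ) g = (χ : G → ℂ) 1 → g = 1) :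
    irrCenter χ ≤ Subgroup.center G := by
  intro z hz
  rw [Subgroup.mem_center_iff]
  intro h
  have h1 := (mem_irrCenter_iff_commutator χ z).mp hz h
  rw [mem_irrKer] at h1
  have h2 := hfaith _ h1
  exact (commutatorElement_eq_one_iff_mul_comm.mp h2).symm

/-- An irreducible constituent of the restriction of a faithful irreducible character to a
subgroup `B` has no nontrivial central elements of `G` in its kernel. -/
theorem winter_ker_center (χ : IrrCharacter G)
    (hfaith : ∀ g : G, (χ : G → ℂ) g = (χ : G → ℂ) 1 → g = 1)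
    (B : Subgroup G) [Fintype B] (ψ : IrrCharacter B)
    (hψ : classInner (fun b : B => (χ : G → ℂ) b) (ψ : B → ℂ) ≠ 0)
    (z : B) (hzZ : (z : G) ∈ Subgroup.center G) (hzK : z ∈ irrKer ψ) : z = 1 := by
  classical
  set S : ℂ := ∑ b : B, (χ : G → ℂ) b * conj ((ψ : B → ℂ) b) with hS
  have hS0 : S ≠ 0 := by
    intro h
    apply hψ
    unfold classInner
    rw [← hS, h, mul_zero]
  have hzc : (z : G) ∈ irrCenter χ := winter_center_le_irrCenter χ hzZ
  set lam : ℂ := irrCenterScalar χ ⟨(z : G), hzc⟩ with hlam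
  have h1 : S = ∑ b : B, (χ : G → ℂ) ((z * b : B) : G) * conj ((ψ : B → ℂ) (z * b)) := by
    rw [hS]
    exact (Fintype.sum_equiv (Equiv.mulLeft z) _ _ (fun b => rfl)).symm
  have h2 : ∀ b : B, (χ : G → ℂ) ((z * b : B) : G) * conj ((ψ : B → ℂ) (z * b)) =
      lam * ((χ : G → ℂ) b * conj ((ψ : B → ℂ) b)) := by
    intro b
    have h3 : (χ : G → ℂ) ((z * b : B) : G) = lam * (χ : G → ℂ) b := by
      rw [Subgroup.coe_mul]
      exact irr_center_mul χ ⟨(z : G), hzc⟩ (b : G)
    have h4 : (ψ : B → ℂ) (z * b) = (ψ : B → ℂ) b := by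
      rw [← irrRep_character ψ]
      exact character_mul_of_mem_ker' (irrRep ψ) b z hzK
    rw [h3, h4]; ring
  rw [Finset.sum_congr rfl (fun b _ => h2 b), ← Finset.mul_sum, ← hS] at h1
  have h5 : lam = 1 := by
    have : (1 - lam) * S = 0 := by rw [sub_mul, one_mul, ← h1, sub_self]
    rcases mul_eq_zero.mp this with h | h
    · exact (sub_eq_zero.mp h).symm
    · exact absurd h hS0
  rw [hlam, irrCenterScalar_apply] at h5
  have hne : (χ : G → ℂ) 1 ≠ 0 := IsIrrCharacter.apply_one_ne_zero χ.2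
  have h6 : (χ : G → ℂ) (z : G) = (χ : G → ℂ) 1 := by
    field_simp at h5
    exact h5
  exact Subtype.ext (hfaith _ h6)

/-- If `D ≤ Z(G)`, `[B, B] ≤ D` and `Z(B) = D`, then `|B : D| = s²` with `s ∣ χ(1)` for a
faithful irreducible character `χ`. -/
theorem winter_section_degree (χ : IrrCharacter G)
    (hfaith : ∀ g : G, (χ : G → ℂ) g = (χ : G → ℂ) 1 → g = 1)
    (B D : Subgroup G) (hDB : D ≤ B) (hDZ : D ≤ Subgroup.center G)
    (hcomm : ∀ b ∈ B, ∀ b' ∈ B, ⁅b, b'⁆ ∈ D)
    (hnd : ∀ b ∈ B, b ∉ D → ∃ b' ∈ B, ⁅b, b'⁆ ≠ 1) :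
    ∃ s : ℕ, s ^ 2 * Nat.card D = Nat.card B ∧ s ∣ charDegree (χ : G → ℂ) := by
  classical
  haveI : Fintype B := Fintype.ofFinite B
  have hres : IsCharacter B (fun b : B => (χ : G → ℂ) b) :=
    isCharacter_res B (IsIrrCharacter.isCharacter χ.2)
  obtain ⟨m, hm⟩ := (isCharacter_iff_exists_nat_combination _).mp hres
  have hinner : ∀ ψ : IrrCharacter B,
      classInner (fun b : B => (χ : G → ℂ) b) (ψ : B → ℂ) = (m ψ : ℂ) := by
    intro ψ
    rw [hm]
    exact classInner_nat_combination (fun φ => (m φ : ℂ)) ψ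
  have hcardD : Nat.card (D.subgroupOf B) = Nat.card D :=
    Nat.card_congr (Subgroup.subgroupOfEquivOfLe hDB).toEquiv
  -- every constituent has the same degree
  have key : ∀ ψ : IrrCharacter B, m ψ ≠ 0 →
      charDegree (ψ : B → ℂ) ^ 2 * Nat.card D = Nat.card B := by
    intro ψ hmψ
    have hψ : classInner (fun b : B => (χ : G → ℂ) b) (ψ : B → ℂ) ≠ 0 := by
      rw [hinner]; exact_mod_cast hmψ
    have hcen : irrCenter ψ = D.subgroupOf B := by
      ext b
      constructor
      · intro hb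
        rw [Subgroup.mem_subgroupOf]
        by_contra hbD
        obtain ⟨b', hb', hne⟩ := hnd b b.2 hbD
        have h1 := (mem_irrCenter_iff_commutator ψ b).mp hb ⟨b', hb'⟩
        have hcoe : ((⁅b, (⟨b', hb'⟩ : B)⁆ : B) : G) = ⁅(b : G), b'⁆ := by
          simp [commutatorElement_def]
        have h2 := winter_ker_center χ hfaith B ψ hψ ⁅b, (⟨b', hb'⟩ : B)⁆
          (by rw [hcoe]; exact hDZ (hcomm b b.2 b' hb')) h1
        apply hne
        rw [← hcoe, h2]; rfl
      · intro hb
        rw [Subgroup.mem_subgroupOf] at hb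
        rw [mem_irrCenter_iff_commutator]
        intro h
        have : ⁅b, h⁆ = 1 := by
          rw [commutatorElement_eq_one_iff_mul_comm]
          apply Subtype.ext
          rw [Subgroup.coe_mul, Subgroup.coe_mul]
          exact (Subgroup.mem_center_iff.mp (hDZ hb) (h : G)).symm
        rw [this]
        exact Subgroup.one_mem _
    have hcomm' : commutator B ≤ irrCenter ψ := by
      rw [commutator_def, Subgroup.commutator_le, hcen]
      intro x _ y _
      rw [Subgroup.mem_subgroupOf]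
      have hcoe : ((⁅x, y⁆ : B) : G) = ⁅(x : G), (y : G)⁆ := by
        simp [commutatorElement_def]
      rw [hcoe]
      exact hcomm x x.2 y y.2
    have h := Cfsg.Agent.Lib.Helper71.gc_sq_mul_card_irrCenter ψ hcomm'
    rw [hcen, hcardD] at h
    exact h
  -- the degree of `χ`
  have hχ1 : ((charDegree (χ : G → ℂ) : ℕ) : ℂ) =
      ∑ ψ : IrrCharacter B, (m ψ : ℂ) * ((charDegree (ψ : B → ℂ) : ℕ) : ℂ) := by
    rw [← Cfsg.Agent.Lib.Helper71.gc_irr_one χ]
    have h1 := congrFun hm 1
    simp only [Subgroup.coe_one] at h1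
    rw [h1, Finset.sum_apply]
    apply Finset.sum_congr rfl
    intro ψ _
    rw [Pi.smul_apply, smul_eq_mul, Cfsg.Agent.Lib.Helper71.gc_irr_one ψ]
  have hex : ∃ ψ₀ : IrrCharacter B, m ψ₀ ≠ 0 := by
    by_contra hcon
    push Not at hcon
    have h0 : ((charDegree (χ : G → ℂ) : ℕ) : ℂ) = 0 := by
      rw [hχ1]
      apply Finset.sum_eq_zero
      intro ψ _
      rw [hcon ψ]; simp
    have hpos := Cfsg.Agent.Lib.Helper71.gc_charDegree_pos χ
    have : charDegree (χ : G → ℂ) = 0 := by exact_mod_cast h0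
    omega
  obtain ⟨ψ₀, hψ₀⟩ := hex
  set s := charDegree (ψ₀ : B → ℂ) with hs
  have hs0 := key ψ₀ hψ₀
  have hDpos : 0 < Nat.card D := Nat.card_pos
  have hsame : ∀ ψ : IrrCharacter B, m ψ ≠ 0 → charDegree (ψ : B → ℂ) = s := by
    intro ψ hmψ
    have h1 := key ψ hmψ
    rw [← hs0] at h1
    have h2 : charDegree (ψ : B → ℂ) ^ 2 = s ^ 2 := Nat.eq_of_mul_eq_mul_right hDpos h1
    exact Nat.pow_left_injective (by norm_num : 2 ≠ 0) h2
  refine ⟨s, hs0, ?_⟩
  have hsum : charDegree (χ : G → ℂ) = (∑ ψ : IrrCharacter B, m ψ) * s := by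
    have : ((charDegree (χ : G → ℂ) : ℕ) : ℂ) = (((∑ ψ : IrrCharacter B, m ψ) * s : ℕ) : ℂ) := by
      rw [hχ1]
      push_cast
      rw [Finset.sum_mul]
      apply Finset.sum_congr rfl
      intro ψ _
      by_cases hmψ : m ψ = 0
      · rw [hmψ]; simp
      · rw [hsame ψ hmψ]
    exact_mod_cast this
  rw [hsum]
  exact dvd_mul_left _ _

end Central

section Induced

variable {G : Type u} [Group G] [Fintype G]

/-- A character induced from a proper subgroup is induced from a maximal subgroup. -/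
theorem winter_exists_max_induced (χ : IrrCharacter G) (T : Subgroup G) (hT : T ≠ ⊤)
    (ψ : T → ℂ) (hψ : IsIrrCharacter T ψ) (hind : indFun T ψ = (χ : G → ℂ)) :
    ∃ (M : Subgroup G) (φ : IrrCharacter M), IsCoatom M ∧
      indFun M (φ : M → ℂ) = (χ : G → ℂ) := by
  classical
  rcases eq_top_or_exists_le_coatom T with h | ⟨M, hM, hTM⟩
  · exact absurd h hT
  · haveI : Fintype M := Fintype.ofFinite M
    set η : M → ℂ := indFun (T.subgroupOf M) (liftNT T M ψ) with hη
    have hηc : IsCharacter M η :=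
      Cfsg.Agent.S0148.result (T.subgroupOf M) _
        (IsIrrCharacter.isCharacter (isIrrCharacter_liftNT T M hTM hψ))
    have h1 : indFun M η = (χ : G → ℂ) := by
      rw [hη, ← indFun_eq_indFun_indFun_liftNT T M hTM ψ, hind]
    have hirr : IsIrrCharacter M η := by
      apply isIrrCharacter_of_indFun_irr M hηc
      rw [h1]; exact χ.2
    exact ⟨M, ⟨η, hirr⟩, hM, h1⟩

/-- If `φ^G` is faithful then the core of the kernel of `φ` is trivial. -/
theorem winter_core_ker (χ : IrrCharacter G)
    (hfaith : ∀ g : G, (χ : G → ℂ) g = (χ : G → ℂ) 1 → g = 1)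
    (M : Subgroup G) (φ : IrrCharacter M) (hind : indFun M (φ : M → ℂ) = (χ : G → ℂ))
    (x : G) (hx : ∀ g : G, ∃ h : g * x * g⁻¹ ∈ M, (⟨g * x * g⁻¹, h⟩ : M) ∈ irrKer φ) :
    x = 1 := by
  classical
  apply hfaith
  rw [← hind]
  unfold indFun
  congr 1
  apply Finset.sum_congr rfl
  intro g _
  obtain ⟨h, hk⟩ := hx g⁻¹
  have hy : g⁻¹ * x * g = g⁻¹ * x * g⁻¹⁻¹ := by rw [inv_inv]
  rw [hy, extendByZero_of_mem M _ h]
  have h1 : g⁻¹ * 1 * g = ((1 : M) : G) := by simp
  rw [h1, extendByZero_coe]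
  exact (mem_irrKer φ _).mp hk

/-- For a quasi-primitive faithful irreducible character, abelian normal subgroups are central. -/
theorem winter_abelian_central (χ : IrrCharacter G)
    (hfaith : ∀ g : G, (χ : G → ℂ) g = (χ : G → ℂ) 1 → g = 1)
    (hQP : ∀ (N : Subgroup G) [N.Normal] [Fintype N] (θ : IrrCharacter N),
      classInner (fun n : N => (χ : G → ℂ) n) (θ : N → ℂ) ≠ 0 → inertia N (θ : N → ℂ) = ⊤)
    (A : Subgroup G) (hA : A.Normal) (hab : ∀ x ∈ A, ∀ y ∈ A, x * y = y * x) :
    A ≤ Subgroup.center G := by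
  classical
  haveI := hA
  haveI : Fintype A := Fintype.ofFinite A
  by_contra hcon
  have hAZ : ¬ A ≤ irrCenter χ := fun h => hcon (le_trans h (winter_irrCenter_le_center χ hfaith))
  obtain ⟨θ, hθ⟩ := exists_constituent_res A χ.2
  refine inertia_ne_top χ A hAZ ?_ θ hθ (hQP A θ hθ)
  intro x hx y hy
  have : ⁅x, y⁆ = 1 := commutatorElement_eq_one_iff_mul_comm.mpr (hab x hx y hy)
  rw [this]
  exact Subgroup.one_mem _

end Induced

end Cfsg.Agent.Lib.Helper2
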