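import Mathlib

/-!
# Winter's theorem, group theory II (helper2): normal Sylow subgroups from a core-free kernel

* `sylow_normal_of_core`: if all `p`-elements of `G` lie in `M`, `K ⊴ M` has trivial core in `G`
  and `M ⧸ K` has a normal Sylow `p`-subgroup, then `G` has a normal Sylow `p`-subgroup.
-/

set_option autoImplicit false
set_option linter.style.haveILetI false
set_option linter.unusedVariables false

namespace Cfsg.Agent.Lib.Helper2

universe u

variable {G : Type u} [Group G] [Finite G]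

theorem sylow_normal_of_core (p : ℕ) [hp : Fact p.Prime] (M : Subgroup G) (K : Subgroup M)
    [hK : K.Normal]
    (hpel : ∀ x : G, (∃ k : ℕ, x ^ p ^ k = 1) → x ∈ M)
    (hS : ∀ S : Sylow p (M ⧸ K), (S : Subgroup (M ⧸ K)).Normal)
    (hcore : ∀ x : G, (∀ g : G, ∃ h : g * x * g⁻¹ ∈ M, (⟨g * x * g⁻¹, h⟩ : M) ∈ K) → x = 1)
    (P : Sylow p G) : (P : Subgroup G).Normal := by
  classical
  obtain ⟨S⟩ : Nonempty (Sylow p (M ⧸ K)) := inferInstance
  haveI hSn := hS S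
  haveI : Subsingleton (Sylow p (M ⧸ K)) := (Sylow.unique_of_normal S hSn).instSubsingleton
  obtain ⟨a, ha⟩ := IsPGroup.iff_card.mp S.isPGroup'
  -- every `p`-element of `M ⧸ K` lies in `S`
  have hmemS : ∀ y : M ⧸ K, (∃ k : ℕ, y ^ p ^ k = 1) → y ∈ (S : Subgroup (M ⧸ K)) := by
    intro y ⟨k, hk⟩
    have hz : IsPGroup p (Subgroup.zpowers y) := by
      apply IsPGroup.of_card (n := (Nat.factorization (orderOf y)) p)
      rw [Nat.card_zpowers]
      have hdvd : orderOf y ∣ p ^ k := orderOf_dvd_of_pow_eq_one hk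
      obtain ⟨j, -, hj⟩ := (Nat.dvd_prime_pow hp.out).mp hdvd
      rw [hj, Nat.Prime.factorization_pow hp.out]
      simp
    obtain ⟨S', hS'⟩ := hz.exists_le_sylow
    rw [Subsingleton.elim S' S] at hS'
    exact hS' (Subgroup.mem_zpowers y)
  -- the product of two `p`-elements of `G` is a `p`-element
  have hmul : ∀ x y : G, (∃ k : ℕ, x ^ p ^ k = 1) → (∃ k : ℕ, y ^ p ^ k = 1) →
      (x * y) ^ p ^ a = 1 := by
    intro x y hx hy
    apply hcore
    intro g
    have hconj : ∀ z : G, (∃ k : ℕ, z ^ p ^ k = 1) → ∃ k : ℕ, (g * z * g⁻¹) ^ p ^ k = 1 := by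
      rintro z ⟨k, hk⟩
      refine ⟨k, ?_⟩
      rw [conj_pow, hk]; group
    have hxg := hconj x hx
    have hyg := hconj y hy
    have hxM := hpel _ hxg
    have hyM := hpel _ hyg
    have hxS := hmemS (QuotientGroup.mk ⟨g * x * g⁻¹, hxM⟩) (by
      obtain ⟨k, hk⟩ := hxg
      refine ⟨k, ?_⟩
      rw [← QuotientGroup.mk_pow]
      have : (⟨g * x * g⁻¹, hxM⟩ : M) ^ p ^ k = 1 := Subtype.ext (by simpa using hk)
      rw [this]; rfl)
    have hyS := hmemS (QuotientGroup.mk ⟨g * y * g⁻¹, hyM⟩) (by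
      obtain ⟨k, hk⟩ := hyg
      refine ⟨k, ?_⟩
      rw [← QuotientGroup.mk_pow]
      have : (⟨g * y * g⁻¹, hyM⟩ : M) ^ p ^ k = 1 := Subtype.ext (by simpa using hk)
      rw [this]; rfl)
    have hprodS := (S : Subgroup (M ⧸ K)).mul_mem hxS hyS
    have hpow : ((QuotientGroup.mk ⟨g * x * g⁻¹, hxM⟩ : M ⧸ K) *
        QuotientGroup.mk ⟨g * y * g⁻¹, hyM⟩) ^ p ^ a = 1 := by
      have h1 : (⟨_, hprodS⟩ : (S : Subgroup (M ⧸ K))) ^ Nat.card (S : Subgroup (M ⧸ K)) = 1 :=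
        pow_card_eq_one'
      rw [ha] at h1
      exact congrArg Subtype.val h1
    rw [← QuotientGroup.mk_mul, ← QuotientGroup.mk_pow] at hpow
    have hmemK : ((⟨g * x * g⁻¹, hxM⟩ : M) * ⟨g * y * g⁻¹, hyM⟩) ^ p ^ a ∈ K :=
      (QuotientGroup.eq_one_iff _).mp hpow
    have heq : g * (x * y) ^ p ^ a * g⁻¹ =
        ((((⟨g * x * g⁻¹, hxM⟩ : M) * ⟨g * y * g⁻¹, hyM⟩) ^ p ^ a : M) : G) := by
      rw [← conj_pow]
      simp only [Subgroup.coe_pow, Subgroup.coe_mul]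
      congr 1
      group
    refine ⟨heq ▸ (Subtype.coe_prop _), ?_⟩
    have : (⟨g * (x * y) ^ p ^ a * g⁻¹, heq ▸ (Subtype.coe_prop _)⟩ : M) =
        ((⟨g * x * g⁻¹, hxM⟩ : M) * ⟨g * y * g⁻¹, hyM⟩) ^ p ^ a := Subtype.ext heq
    rw [this]
    exact hmemK
  -- the subgroup of `p`-elements
  let T : Subgroup G :=
    { carrier := {x | ∃ k : ℕ, x ^ p ^ k = 1}
      mul_mem' := fun {x y} hx hy => ⟨a, hmul x y hx hy⟩
      one_mem' := ⟨0, by simp⟩
      inv_mem' := by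
        rintro x ⟨k, hk⟩
        exact ⟨k, by rw [inv_pow, hk, inv_one]⟩ }
  have hT : IsPGroup p T := by
    intro x
    obtain ⟨k, hk⟩ := x.2
    exact ⟨k, Subtype.ext (by simpa using hk)⟩
  have hPT : (P : Subgroup G) ≤ T := by
    intro x hx
    obtain ⟨k, hk⟩ := P.isPGroup' ⟨x, hx⟩
    exact ⟨k, by simpa using congrArg Subtype.val hk⟩
  have hTP : T = (P : Subgroup G) := P.is_maximal' hT hPT
  rw [← hTP]
  constructor
  rintro x ⟨k, hk⟩ g
  refine ⟨k, ?_⟩
  rw [conj_pow, hk]; group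

end Cfsg.Agent.Lib.Helper2
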