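import Mathlib
import Cfsg.Agent.Lib.Helper1.MinimalNormal
import Cfsg.Agent.Lib.Helper48.Coprime
import Cfsg.Agent.Lib.Helper71.MaxSolvable

/-!
# Winter's theorem, group theory I (helper2): maximal subgroups of solvable groups

* `card_modEq_card_inf_centralizer`: a `p`-subgroup `Q` normalizing `V` has
  `|V| ≡ |C_V(Q)| (mod p)`.
* `winter_prim_max`: in a finite solvable group with a core-free maximal subgroup `M` and
  `p ∣ |G|`, some prime power `q ∣ |G : M|` is `≡ 0, 1 (mod p)`.
* `winter_max_case`: the same for a maximal subgroup `M` with `p ∣ |G : core M|`.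
-/

set_option autoImplicit false
set_option linter.style.haveILetI false
set_option linter.unusedVariables false

namespace Cfsg.Agent.Lib.Helper2

open scoped commutatorElement

universe u

section FixedPoints

variable {G : Type*} [Group G]

/-- A `p`-subgroup `Q` normalizing a finite subgroup `V` satisfies `|V| ≡ |C_V(Q)| (mod p)`. -/
theorem card_modEq_card_inf_centralizer {p : ℕ} [Fact p.Prime] (Q V : Subgroup G) [Finite V]
    (hQ : IsPGroup p Q) (hQV : ∀ b ∈ Q, ∀ y ∈ V, b * y * b⁻¹ ∈ V) :
    Nat.card V ≡ Nat.card (V ⊓ Subgroup.centralizer (Q : Set G) : Subgroup G) [MOD p] := by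
  letI : MulAction Q (V : Set G) := Cfsg.Agent.Lib.Helper48.conjActOnSet Q (V : Set G) hQV
  haveI : Finite (V : Set G) := ‹Finite V›
  have h := hQ.card_modEq_card_fixedPoints (V : Set G)
  have e : MulAction.fixedPoints Q (V : Set G) ≃
      (V ⊓ Subgroup.centralizer (Q : Set G) : Subgroup G) :=
    { toFun := fun y => ⟨(y : (V : Set G)), by
        refine ⟨y.1.2, ?_⟩
        show ((y : (V : Set G)) : G) ∈ Subgroup.centralizer (Q : Set G)
        rw [Subgroup.mem_centralizer_iff]
        intro b hb
        have := y.2 ⟨b, hb⟩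
        have h2 : b * (y : (V : Set G)) * b⁻¹ = (y : (V : Set G)) := congrArg Subtype.val this
        calc b * (y.1 : G) = b * (y.1 : G) * b⁻¹ * b := by group
          _ = (y.1 : G) * b := by rw [h2]⟩
      invFun := fun y => ⟨⟨(y : G), y.2.1⟩, by
        intro b
        apply Subtype.ext
        show (b : G) * (y : G) * (b : G)⁻¹ = (y : G)
        have := Subgroup.mem_centralizer_iff.mp y.2.2 b b.2
        rw [this]; group⟩
      left_inv := fun y => rfl
      right_inv := fun y => rfl }
  have h3 : Nat.card (V : Set G) = Nat.card V := rfl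
  rw [← h3]
  rw [← Nat.card_congr e]
  exact h

end FixedPoints

section PrimMax

variable {G : Type u} [Group G] [Finite G]

/-- In a finite solvable group with a core-free maximal subgroup `M` and `p ∣ |G|`, some prime
power `q ∣ |G : M|` is `≡ 0` or `1 (mod p)`. -/
theorem winter_prim_max [Group.IsSolvable G] (M : Subgroup G) (hM : IsCoatom M)
    (hcore : M.normalCore = ⊥) (p : ℕ) [hp : Fact p.Prime] (hpG : p ∣ Nat.card G) :
    ∃ q : ℕ, IsPrimePow q ∧ q ∣ M.index ∧
      ((q : ℤ) ≡ 0 [ZMOD p] ∨ (q : ℤ) ≡ 1 [ZMOD p]) := by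
  have hnt : Nontrivial G := by
    by_contra hcon
    rw [not_nontrivial_iff_subsingleton] at hcon
    exact hM.1 (Subsingleton.elim _ _)
  obtain ⟨r, R, hr, hRn, hR1, hRr, hRcomm, -, -⟩ :=
    Cfsg.Agent.Lib.Helper1.exists_normal_pSubgroup_of_isSolvable (G := G)
  haveI : Fact r.Prime := ⟨hr⟩
  haveI := hRn
  have hcommR : ∀ x ∈ R, ∀ y ∈ R, x * y = y * x := by
    intro x hx y hy
    have := hRcomm.is_comm.comm ⟨x, hx⟩ ⟨y, hy⟩
    exact congrArg Subtype.val this
  -- `R` is not contained in `M`
  have hRM : ¬ R ≤ M := by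
    intro h
    have : R ≤ M.normalCore := Subgroup.normal_le_normalCore.mpr h
    rw [hcore] at this
    exact hR1 (le_bot_iff.mp this)
  have hsup : M ⊔ R = ⊤ := by
    apply hM.2
    refine lt_of_le_of_ne le_sup_left ?_
    intro heq
    apply hRM
    rw [heq]
    exact le_sup_right
  -- a subgroup of `M` normalized by `M` and by `R` is trivial
  have hkey : ∀ C : Subgroup G, C ≤ M → M ≤ Subgroup.normalizer (C : Set G) →
      R ≤ Subgroup.normalizer (C : Set G) → C = ⊥ := by
    intro C hCM h1 h2
    have h3 : Subgroup.normalizer (C : Set G) = ⊤ := by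
      rw [eq_top_iff, ← hsup]
      exact sup_le h1 h2
    haveI : C.Normal := Subgroup.normalizer_eq_top_iff.mp h3
    have : C ≤ M.normalCore := Subgroup.normal_le_normalCore.mpr hCM
    rw [hcore] at this
    exact le_bot_iff.mp this
  -- `M ⊓ R = ⊥`
  have hMR : M ⊓ R = ⊥ := by
    apply hkey _ inf_le_left
    · intro m hm
      rw [Subgroup.mem_normalizer_iff]
      intro x
      constructor
      · rintro ⟨hx1, hx2⟩
        exact ⟨M.mul_mem (M.mul_mem hm hx1) (M.inv_mem hm), hRn.conj_mem x hx2 m⟩
      · rintro ⟨hx1, hx2⟩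
        refine ⟨?_, ?_⟩
        · have := M.mul_mem (M.mul_mem (M.inv_mem hm) hx1) hm
          have h4 : m⁻¹ * (m * x * m⁻¹) * m = x := by group
          rwa [h4] at this
        · have := hRn.conj_mem _ hx2 m⁻¹
          have h4 : m⁻¹ * (m * x * m⁻¹) * m⁻¹⁻¹ = x := by group
          rwa [h4] at this
    · intro y hy
      rw [Subgroup.mem_normalizer_iff]
      intro x
      constructor
      · rintro ⟨hx1, hx2⟩
        have : y * x * y⁻¹ = x := by rw [hcommR y hy x hx2]; group
        rw [this]; exact ⟨hx1, hx2⟩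
      · rintro ⟨hx1, hx2⟩
        have hx3 : x ∈ R := by
          have := hRn.conj_mem _ hx2 y⁻¹
          have h4 : y⁻¹ * (y * x * y⁻¹) * y⁻¹⁻¹ = x := by group
          rwa [h4] at this
        have : y * x * y⁻¹ = x := by rw [hcommR y hy x hx3]; group
        rw [this] at hx1
        exact ⟨hx1, hx3⟩
  -- the index of `M`
  have hidx : M.index = Nat.card R := by
    have h1 : M.index = M.relIndex R := by
      rw [← Cfsg.Agent.Lib.Helper71.relIndex_sup_eq_of_normal M R, hsup, Subgroup.relIndex_top_right]
    rw [h1, ← Subgroup.inf_relIndex_right, hMR, Subgroup.relIndex_bot_left]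
  obtain ⟨k, hk⟩ := IsPGroup.iff_card.mp hRr
  have hk1 : k ≠ 0 := by
    intro h0
    rw [h0, pow_zero] at hk
    exact hR1 (Subgroup.card_eq_one.mp hk)
  by_cases hrp : r = p
  · refine ⟨r ^ k, ⟨r, k, hr.prime, Nat.pos_of_ne_zero hk1, rfl⟩, by rw [hidx, hk], Or.inl ?_⟩
    rw [hrp]
    push_cast
    exact (Int.modEq_zero_iff_dvd).mpr (dvd_pow_self _ hk1)
  · -- `p ∣ |M|`
    have hpM : p ∣ Nat.card M := by
      have h1 := Subgroup.card_mul_index M
      rw [hidx, hk] at h1
      rw [← h1] at hpG
      rcases (Nat.Prime.dvd_mul hp.out).mp hpG with h | h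
      · exact h
      · exfalso
        have := (Nat.prime_dvd_prime_iff_eq hp.out hr).mp (hp.out.dvd_of_dvd_pow h)
        exact hrp this.symm
    obtain ⟨x, hx⟩ := exists_prime_orderOf_dvd_card' p hpM
    set Q : Subgroup G := Subgroup.zpowers (x : G) with hQdef
    have hxo : orderOf (x : G) = p := by rw [Subgroup.orderOf_coe, hx]
    have hQp : IsPGroup p Q := by
      apply IsPGroup.of_card (n := 1)
      rw [hQdef, Nat.card_zpowers, hxo, pow_one]
    have hQM : Q ≤ M := by
      rw [hQdef, Subgroup.zpowers_le]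
      exact x.2
    -- `Q` does not centralize `R`
    have hQR : ¬ Q ≤ Subgroup.centralizer (R : Set G) := by
      intro hQc
      have hC : M ⊓ Subgroup.centralizer (R : Set G) = ⊥ := by
        haveI : (Subgroup.centralizer (R : Set G)).Normal := Subgroup.normal_centralizer
        apply hkey _ inf_le_left
        · intro m hm
          rw [Subgroup.mem_normalizer_iff]
          intro y
          constructor
          · rintro ⟨hy1, hy2⟩
            exact ⟨M.mul_mem (M.mul_mem hm hy1) (M.inv_mem hm),
              (inferInstance : (Subgroup.centralizer (R : Set G)).Normal).conj_mem y hy2 m⟩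
          · rintro ⟨hy1, hy2⟩
            refine ⟨?_, ?_⟩
            · have := M.mul_mem (M.mul_mem (M.inv_mem hm) hy1) hm
              have h4 : m⁻¹ * (m * y * m⁻¹) * m = y := by group
              rwa [h4] at this
            · have := (inferInstance : (Subgroup.centralizer (R : Set G)).Normal).conj_mem _ hy2 m⁻¹
              have h4 : m⁻¹ * (m * y * m⁻¹) * m⁻¹⁻¹ = y := by group
              rwa [h4] at this
        · intro y hy
          rw [Subgroup.mem_normalizer_iff]
          intro c
          have hconj : c ∈ Subgroup.centralizer (R : Set G) → y * c * y⁻¹ = c := by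
            intro hc
            have := Subgroup.mem_centralizer_iff.mp hc y hy
            rw [this]; group
          constructor
          · rintro ⟨hc1, hc2⟩
            rw [hconj hc2]; exact ⟨hc1, hc2⟩
          · rintro ⟨hc1, hc2⟩
            have hc3 : c ∈ Subgroup.centralizer (R : Set G) := by
              have := (inferInstance : (Subgroup.centralizer (R : Set G)).Normal).conj_mem _ hc2 y⁻¹
              have h4 : y⁻¹ * (y * c * y⁻¹) * y⁻¹⁻¹ = c := by group
              rwa [h4] at this
            rw [hconj hc3] at hc1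
            exact ⟨hc1, hc3⟩
      have hxC : (x : G) ∈ M ⊓ Subgroup.centralizer (R : Set G) :=
        ⟨x.2, hQc (Subgroup.mem_zpowers _)⟩
      rw [hC, Subgroup.mem_bot] at hxC
      rw [hxC, orderOf_one] at hxo
      exact hp.out.one_lt.ne hxo
    -- counting fixed points
    have hmod := card_modEq_card_inf_centralizer Q R hQp
      (fun b _ y hy => hRn.conj_mem y hy b)
    have hlt : R ⊓ Subgroup.centralizer (Q : Set G) < R := by
      refine lt_of_le_of_ne inf_le_left ?_
      intro heq
      apply hQR
      rw [Subgroup.le_centralizer_iff, ← heq]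
      exact inf_le_right
    have hdvd : Nat.card (R ⊓ Subgroup.centralizer (Q : Set G) : Subgroup G) ∣ r ^ k := by
      rw [← hk]
      exact Subgroup.card_dvd_of_le inf_le_left
    obtain ⟨j, hjk, hj⟩ := (Nat.dvd_prime_pow hr).mp hdvd
    have hjlt : j < k := by
      rcases lt_or_eq_of_le hjk with h | h
      · exact h
      · exfalso
        have h1 : Nat.card (R ⊓ Subgroup.centralizer (Q : Set G) : Subgroup G) = Nat.card R := by
          rw [hj, hk, h]
        exact hlt.ne (Subgroup.eq_of_le_of_card_ge inf_le_left h1.ge)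
    rw [hk, hj] at hmod
    -- `r ^ k ≡ r ^ j (mod p)` gives `r ^ (k - j) ≡ 1 (mod p)`
    have hcop : Nat.Coprime (r ^ j) p := by
      apply Nat.Coprime.pow_left
      exact (Nat.coprime_primes hr hp.out).mpr hrp
    have h1 : r ^ j * r ^ (k - j) ≡ r ^ j * 1 [MOD p] := by
      rw [← pow_add, mul_one, Nat.add_sub_cancel' hjk]
      exact hmod
    have h2 : r ^ (k - j) ≡ 1 [MOD p] :=
      Nat.ModEq.cancel_left_of_coprime (Nat.Coprime.gcd_eq_one hcop.symm) h1
    refine ⟨r ^ (k - j), ⟨r, k - j, hr.prime, by omega, rfl⟩, ?_, Or.inr ?_⟩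
    · rw [hidx, hk]
      exact pow_dvd_pow r (Nat.sub_le k j)
    · have := (Int.natCast_modEq_iff).mpr h2
      simpa using this

/-- For a maximal subgroup `M` of a finite solvable group with `p ∣ |G : core M|`, some prime
power `q ∣ |G : M|` is `≡ 0` or `1 (mod p)`. -/
theorem winter_max_case [Group.IsSolvable G] (M : Subgroup G) (hM : IsCoatom M)
    (p : ℕ) [hp : Fact p.Prime] (hpN : p ∣ M.normalCore.index) :
    ∃ q : ℕ, IsPrimePow q ∧ q ∣ M.index ∧
      ((q : ℤ) ≡ 0 [ZMOD p] ∨ (q : ℤ) ≡ 1 [ZMOD p]) := by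
  set N := M.normalCore with hN
  have hNM : N ≤ M := Subgroup.normalCore_le M
  have hsurj := QuotientGroup.mk'_surjective N
  have hker : (QuotientGroup.mk' N).ker ≤ M := by rw [QuotientGroup.ker_mk']; exact hNM
  have hco := Cfsg.Agent.Lib.Helper71.isCoatom_map_mk' N M hM hNM
  have hcore : (M.map (QuotientGroup.mk' N)).normalCore = ⊥ := by
    set C := (M.map (QuotientGroup.mk' N)).normalCore with hC
    have h1 : C.comap (QuotientGroup.mk' N) ≤ M := by
      have h2 : C.comap (QuotientGroup.mk' N) ≤
          (M.map (QuotientGroup.mk' N)).comap (QuotientGroup.mk' N) :=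
        Subgroup.comap_mono (Subgroup.normalCore_le _)
      rwa [Subgroup.comap_map_eq_self hker] at h2
    have h3 : C.comap (QuotientGroup.mk' N) ≤ N := Subgroup.normal_le_normalCore.mpr h1
    rw [← Subgroup.map_comap_eq_self_of_surjective hsurj C, eq_bot_iff]
    calc (C.comap (QuotientGroup.mk' N)).map (QuotientGroup.mk' N)
        ≤ N.map (QuotientGroup.mk' N) := Subgroup.map_mono h3
      _ = ⊥ := QuotientGroup.map_mk'_self N
  have hpG : p ∣ Nat.card (G ⧸ N) := by rwa [← Subgroup.index_eq_card]
  obtain ⟨q, hq1, hq2, hq3⟩ := winter_prim_max (M.map (QuotientGroup.mk' N)) hco hcore p hpG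
  refine ⟨q, hq1, ?_, hq3⟩
  rwa [Subgroup.index_map_eq _ hsurj hker] at hq2

end PrimMax

end Cfsg.Agent.Lib.Helper2
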