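import Mathlib
import Cfsg.Prelude.Def_Solvable
import Cfsg.Agent.Lib.Helper1.Fitting
import Cfsg.Agent.Lib.Helper1.PCore
import Cfsg.Agent.Lib.Helper48.Coprime
import Cfsg.Agent.Lib.Helper2.WinterMax
import Cfsg.Agent.S0044

/-!
# Winter's theorem, group theory III (helper2): the quasi-primitive case

In a finite solvable group `G` all of whose abelian normal subgroups are central and with a
non-normal Sylow `p`-subgroup `P`, we find a section `B / D` with `D ≤ Z(G)`, `[B, B] ≤ D`,
`Z(B) = D`, `B` an `r`-group, and either `r = p` or `|B| ≡ |D| (mod p)`.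
-/

set_option autoImplicit false
set_option linter.style.haveILetI false
set_option linter.unusedVariables false

namespace Cfsg.Agent.Lib.Helper2

open scoped commutatorElement

universe u

/-- The output of the group-theoretic analysis of the quasi-primitive case. -/
def WinterSection (G : Type*) [Group G] (p : ℕ) (B D : Subgroup G) (r : ℕ) : Prop :=
  r.Prime ∧ D ≤ B ∧ D ≠ B ∧ D ≤ Subgroup.center G ∧
    (∀ b ∈ B, ∀ b' ∈ B, ⁅b, b'⁆ ∈ D) ∧ (∀ b ∈ B, b ∉ D → ∃ b' ∈ B, ⁅b, b'⁆ ≠ 1) ∧
    IsPGroup r B ∧ (r = p ∨ (r ≠ p ∧ Nat.card B ≡ Nat.card D [MOD p]))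

section

variable {G : Type u} [Group G] [Finite G]

/-- If abelian normal subgroups are central, then a non-central element of a normal subgroup `A`
fails to commute with some element of `A`. -/
theorem winter_nondeg
    (hAbC : ∀ A : Subgroup G, A.Normal → (∀ x ∈ A, ∀ y ∈ A, x * y = y * x) →
      A ≤ Subgroup.center G)
    (A : Subgroup G) [hA : A.Normal] {a : G} (ha : a ∈ A) (haZ : a ∉ Subgroup.center G) :
    ∃ a' ∈ A, ⁅a, a'⁆ ≠ 1 := by
  by_contra hcon
  push Not at hcon
  apply haZ
  haveI : (Subgroup.centralizer (A : Set G)).Normal := Subgroup.normal_centralizer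
  have hn : (A ⊓ Subgroup.centralizer (A : Set G)).Normal := inferInstance
  apply hAbC (A ⊓ Subgroup.centralizer (A : Set G)) hn
  · intro x hx y hy
    exact (Subgroup.mem_centralizer_iff.mp hy.2 x hx.1)
  · refine ⟨ha, ?_⟩
    show a ∈ Subgroup.centralizer (A : Set G)
    rw [Subgroup.mem_centralizer_iff]
    intro y hy
    exact (commutatorElement_eq_one_iff_mul_comm.mp (hcon y hy)).symm

/-- Case 1: a non-abelian normal `p`-subgroup. -/
theorem winter_qp_case1 [Group.IsSolvable G] (p : ℕ) [hp : Fact p.Prime]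
    (hAbC : ∀ A : Subgroup G, A.Normal → (∀ x ∈ A, ∀ y ∈ A, x * y = y * x) →
      A ≤ Subgroup.center G)
    (hex : ∃ A : Subgroup G, A.Normal ∧ IsPGroup p A ∧ ¬ (∀ x ∈ A, ∀ y ∈ A, x * y = y * x)) :
    ∃ (B D : Subgroup G) (r : ℕ), WinterSection G p B D r := by
  obtain ⟨A, ⟨hAn, hAp, hAna⟩, hmin⟩ := exists_minimal_of_wellFoundedLT
    (fun A : Subgroup G => A.Normal ∧ IsPGroup p A ∧ ¬ (∀ x ∈ A, ∀ y ∈ A, x * y = y * x)) hex
  haveI := hAn
  have hA1 : A ≠ ⊥ := by
    rintro rfl
    apply hAna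
    intro x hx y hy
    rw [Subgroup.mem_bot] at hx hy
    rw [hx, hy]
  have hlt : ⁅A, A⁆ < A := Group.IsSolvable.commutator_lt_of_ne_bot hA1
  have hA'n : (⁅A, A⁆ : Subgroup G).Normal := Subgroup.commutator_normal A A
  have hA'ab : ∀ x ∈ ⁅A, A⁆, ∀ y ∈ ⁅A, A⁆, x * y = y * x := by
    by_contra hcon
    have := hmin ⟨hA'n, hAp.to_le hlt.le, hcon⟩ hlt.le
    exact hlt.not_ge this
  have hA'Z : ⁅A, A⁆ ≤ Subgroup.center G := hAbC _ hA'n hA'ab
  refine ⟨A, A ⊓ Subgroup.center G, p, hp.out, inf_le_left, ?_, inf_le_right, ?_, ?_, hAp,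
    Or.inl rfl⟩
  · intro heq
    apply hAna
    intro x hx y hy
    have hy' : y ∈ Subgroup.center G := by
      have : y ∈ A ⊓ Subgroup.center G := by rw [heq]; exact hy
      exact this.2
    exact (Subgroup.mem_center_iff.mp hy' x)
  · intro b hb b' hb'
    have := Subgroup.commutator_mem_commutator hb hb'
    exact ⟨hlt.le this, hA'Z this⟩
  · intro b hb hbD
    have hbZ : b ∉ Subgroup.center G := fun h => hbD ⟨hb, h⟩
    exact winter_nondeg hAbC A hb hbZ

/-- Case 2: a normal `r`-subgroup, `r ≠ p`, not centralized by the `p`-subgroup `P`. -/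
theorem winter_qp_case2 [Group.IsSolvable G] (p : ℕ) [hp : Fact p.Prime] (P : Subgroup G)
    (hP : IsPGroup p P)
    (hAbC : ∀ A : Subgroup G, A.Normal → (∀ x ∈ A, ∀ y ∈ A, x * y = y * x) →
      A ≤ Subgroup.center G)
    (r : ℕ) [hr : Fact r.Prime] (hrp : r ≠ p)
    (hex : ∃ A : Subgroup G, A.Normal ∧ IsPGroup r A ∧ ¬ P ≤ Subgroup.centralizer (A : Set G)) :
    ∃ (B D : Subgroup G) (r : ℕ), WinterSection G p B D r := by
  obtain ⟨A, ⟨hAn, hAr, hAP⟩, hmin⟩ := exists_minimal_of_wellFoundedLT
    (fun A : Subgroup G => A.Normal ∧ IsPGroup r A ∧ ¬ P ≤ Subgroup.centralizer (A : Set G)) hex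
  haveI := hAn
  -- `p` does not divide the order of an `r`-group
  have hcop : ∀ X : Subgroup G, IsPGroup r X → ¬ p ∣ Nat.card X := by
    intro X hX hdvd
    obtain ⟨m, hm⟩ := IsPGroup.iff_card.mp hX
    rw [hm] at hdvd
    exact hrp ((Nat.prime_dvd_prime_iff_eq hp.out hr.out).mp (hp.out.dvd_of_dvd_pow hdvd)).symm
  have hPA : P ≤ Subgroup.normalizer (A : Set G) := by
    rw [Subgroup.normalizer_eq_top_iff.mpr hAn]; exact le_top
  set W : Subgroup G := ⁅A, P⁆ with hW
  have hWA : W ≤ A := Cfsg.Agent.Lib.Helper48.commutator_le_of_le_normalizer hPA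
  have hWW : ⁅W, P⁆ = W := Cfsg.Agent.Lib.Helper48.commutator_commutator_eq hP (hcop A hAr) hPA
  have hW1 : W ≠ ⊥ := by
    intro h
    apply hAP
    rw [Subgroup.le_centralizer_iff]
    exact Subgroup.commutator_eq_bot_iff_le_centralizer.mp h
  have hA1 : A ≠ ⊥ := by
    rintro rfl
    apply hW1
    rw [hW, Subgroup.commutator_bot_left]
  -- the normal closure of `W` is `A`
  have hcl : A ≤ Subgroup.normalClosure (W : Set G) := by
    by_contra hcon
    have hle : Subgroup.normalClosure (W : Set G) ≤ A := Subgroup.normalClosure_le_normal hWA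
    have hc : P ≤ Subgroup.centralizer (Subgroup.normalClosure (W : Set G) : Set G) := by
      by_contra hc
      exact hcon (hmin ⟨Subgroup.normalClosure_normal, hAr.to_le hle, hc⟩ hle)
    apply hW1
    rw [← hWW]
    rw [Subgroup.commutator_eq_bot_iff_le_centralizer]
    rw [Subgroup.le_centralizer_iff] at hc
    exact le_trans Subgroup.subset_normalClosure hc
  -- `A'` is centralized by `P`
  have hlt : ⁅A, A⁆ < A := Group.IsSolvable.commutator_lt_of_ne_bot hA1
  have hA'n : (⁅A, A⁆ : Subgroup G).Normal := Subgroup.commutator_normal A A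
  have hA'P : P ≤ Subgroup.centralizer ((⁅A, A⁆ : Subgroup G) : Set G) := by
    by_contra hcon
    have := hmin ⟨hA'n, hAr.to_le hlt.le, hcon⟩ hlt.le
    exact hlt.not_ge this
  have hA'P' : ⁅(⁅A, A⁆ : Subgroup G), P⁆ = ⊥ := by
    rw [Subgroup.commutator_eq_bot_iff_le_centralizer, Subgroup.le_centralizer_iff]
    exact hA'P
  -- three subgroups lemma: `W` centralizes `A'`
  have hWA' : ⁅W, (⁅A, A⁆ : Subgroup G)⁆ = ⊥ := by
    have h1 : ⁅⁅A, (⁅A, A⁆ : Subgroup G)⁆, P⁆ = ⊥ := by
      rw [eq_bot_iff, ← hA'P']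
      exact Subgroup.commutator_mono (Subgroup.commutator_le_right A _) le_rfl
    have h2 : ⁅⁅(⁅A, A⁆ : Subgroup G), P⁆, A⁆ = ⊥ := by
      rw [hA'P', Subgroup.commutator_bot_left]
    have h3 := Subgroup.commutator_commutator_eq_bot_of_rotate h1 h2
    rwa [Subgroup.commutator_comm P A] at h3
  haveI : (Subgroup.centralizer ((⁅A, A⁆ : Subgroup G) : Set G)).Normal :=
    Subgroup.normal_centralizer
  have hAcA' : A ≤ Subgroup.centralizer ((⁅A, A⁆ : Subgroup G) : Set G) := by
    refine le_trans hcl (Subgroup.normalClosure_le_normal ?_)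
    exact Subgroup.commutator_eq_bot_iff_le_centralizer.mp hWA'
  -- `A' ≤ Z(G)`
  haveI : (Subgroup.centralizer (A : Set G)).Normal := Subgroup.normal_centralizer
  have hZAn : (A ⊓ Subgroup.centralizer (A : Set G)).Normal := inferInstance
  have hZA : A ⊓ Subgroup.centralizer (A : Set G) ≤ Subgroup.center G := by
    apply hAbC _ hZAn
    intro x hx y hy
    exact (Subgroup.mem_centralizer_iff.mp hy.2 x hx.1)
  have hA'Z : ⁅A, A⁆ ≤ Subgroup.center G :=
    le_trans (le_inf hlt.le (Subgroup.le_centralizer_iff.mp hAcA')) hZA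
  -- the section
  set D : Subgroup G := A ⊓ Subgroup.center G with hD
  set B : Subgroup G := W ⊔ D with hB
  have hBA : B ≤ A := sup_le hWA inf_le_left
  have hDB : D ≤ B := le_sup_right
  have hDZ : D ≤ Subgroup.center G := inf_le_right
  -- `C_A(P)` centralizes `W`
  set C : Subgroup G := A ⊓ Subgroup.centralizer (P : Set G) with hC
  have hCW : ⁅W, C⁆ = ⊥ := by
    have h1 : ⁅⁅P, C⁆, A⁆ = ⊥ := by
      have : ⁅P, C⁆ = ⊥ := by
        rw [Subgroup.commutator_eq_bot_iff_le_centralizer, Subgroup.le_centralizer_iff]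
        exact inf_le_right
      rw [this, Subgroup.commutator_bot_left]
    have h2 : ⁅⁅C, A⁆, P⁆ = ⊥ := by
      rw [Subgroup.commutator_eq_bot_iff_le_centralizer]
      refine le_trans (Subgroup.commutator_mono inf_le_left le_rfl) ?_
      exact le_trans hA'Z (Subgroup.center_le_centralizer _)
    exact Subgroup.commutator_commutator_eq_bot_of_rotate h1 h2
  have hBC : B ≤ Subgroup.centralizer (C : Set G) := by
    apply sup_le
    · exact Subgroup.commutator_eq_bot_iff_le_centralizer.mp hCW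
    · exact le_trans hDZ (Subgroup.center_le_centralizer _)
  -- non-degeneracy
  have hnd : ∀ b ∈ B, b ∉ D → ∃ b' ∈ B, ⁅b, b'⁆ ≠ 1 := by
    intro b hb hbD
    have hbZ : b ∉ Subgroup.center G := fun h => hbD ⟨hBA hb, h⟩
    obtain ⟨a, ha, hne⟩ := winter_nondeg hAbC A (hBA hb) hbZ
    obtain ⟨c, hc, w, hw, rfl⟩ :=
      Cfsg.Agent.Lib.Helper48.exists_centralizer_mul_commutator hP (hcop A hAr) hPA ha
    refine ⟨w, le_sup_left (a := W) (b := D) hw, ?_⟩
    intro h1
    apply hne
    have hbc : c * b = b * c := Subgroup.mem_centralizer_iff.mp (hBC hb) c hc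
    have hbw : b * w = w * b := commutatorElement_eq_one_iff_mul_comm.mp h1
    rw [commutatorElement_eq_one_iff_mul_comm]
    calc b * (c * w) = (b * c) * w := by group
      _ = (c * b) * w := by rw [hbc]
      _ = c * (b * w) := by group
      _ = c * (w * b) := by rw [hbw]
      _ = c * w * b := by group
  have hDneB : D ≠ B := by
    intro heq
    apply hW1
    rw [← hWW, Subgroup.commutator_eq_bot_iff_le_centralizer]
    have : W ≤ D := by rw [heq]; exact le_sup_left
    exact le_trans this (le_trans hDZ (Subgroup.center_le_centralizer _))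
  -- the congruence
  have hPB : ∀ x ∈ P, ∀ y ∈ B, x * y * x⁻¹ ∈ B := by
    intro x hx y hy
    have h1 : x ∈ Subgroup.normalizer (W : Set G) := Subgroup.normalizer_commutator_ge_right A P hx
    have h2 : x ∈ Subgroup.normalizer (D : Set G) := by
      haveI : D.Normal := inferInstance
      rw [Subgroup.normalizer_eq_top_iff.mpr inferInstance]; exact Subgroup.mem_top x
    have h3 := Cfsg.Agent.Lib.Helper48.normalizer_inf_le_normalizer_sup W D ⟨h1, h2⟩
    exact (Subgroup.mem_normalizer_iff.mp h3 y).mp hy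
  have hmod := card_modEq_card_inf_centralizer P B hP hPB
  have hfix : B ⊓ Subgroup.centralizer (P : Set G) = D := by
    apply le_antisymm
    · intro b hb
      by_contra hbD
      obtain ⟨b', hb', hne⟩ := hnd b hb.1 hbD
      apply hne
      rw [commutatorElement_eq_one_iff_mul_comm]
      have hbC : b ∈ C := ⟨hBA hb.1, hb.2⟩
      exact (Subgroup.mem_centralizer_iff.mp (hBC hb') b hbC)
    · exact le_inf hDB (le_trans hDZ (Subgroup.center_le_centralizer _))
  rw [hfix] at hmod
  refine ⟨B, D, r, hr.out, hDB, hDneB, hDZ, ?_, hnd, hAr.to_le hBA, Or.inr ⟨hrp, hmod⟩⟩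
  intro b hb b' hb'
  have := Subgroup.commutator_mem_commutator (hBA hb) (hBA hb')
  exact ⟨hlt.le this, hA'Z this⟩

/-- The group-theoretic analysis of the quasi-primitive case. -/
theorem winter_qp_group [Group.IsSolvable G] (p : ℕ) [hp : Fact p.Prime] (P : Sylow p G)
    (hPn : ¬ (P : Subgroup G).Normal)
    (hAbC : ∀ A : Subgroup G, A.Normal → (∀ x ∈ A, ∀ y ∈ A, x * y = y * x) →
      A ≤ Subgroup.center G) :
    ∃ (B D : Subgroup G) (r : ℕ), WinterSection G p B D r := by
  by_cases hex : ∃ A : Subgroup G, A.Normal ∧ IsPGroup p A ∧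
      ¬ (∀ x ∈ A, ∀ y ∈ A, x * y = y * x)
  · exact winter_qp_case1 p hAbC hex
  · push Not at hex
    by_cases hex2 : ∃ r : Nat.Primes,
        ¬ (P : Subgroup G) ≤ Subgroup.centralizer ((Cfsg.pCore (r : ℕ) G : Subgroup G) : Set G)
    · obtain ⟨r, hr⟩ := hex2
      haveI : Fact (r : ℕ).Prime := ⟨r.2⟩
      have hrp : (r : ℕ) ≠ p := by
        intro h
        apply hr
        rw [h]
        have h1 : Cfsg.pCore p G ≤ Subgroup.center G :=
          hAbC _ (Cfsg.Agent.Lib.Helper1.pCore_normal p)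
            (hex _ (Cfsg.Agent.Lib.Helper1.pCore_normal p)
              (Cfsg.Agent.Lib.Helper1.pCore_isPGroup p))
        rw [Subgroup.le_centralizer_iff]
        exact le_trans h1 (Subgroup.center_le_centralizer _)
      exact winter_qp_case2 p P P.isPGroup' hAbC r hrp
        ⟨Cfsg.pCore (r : ℕ) G, Cfsg.Agent.Lib.Helper1.pCore_normal _,
          Cfsg.Agent.Lib.Helper1.pCore_isPGroup _, hr⟩
    · push Not at hex2
      exfalso
      apply hPn
      set F := Cfsg.fittingSubgroup G with hF
      have hFc : F ≤ Subgroup.centralizer ((P : Subgroup G) : Set G) := by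
        rw [hF, Cfsg.Agent.Lib.Helper1.fittingSubgroup_eq_iSup_pCore]
        apply iSup_le
        intro r
        rw [Subgroup.le_centralizer_iff]
        exact hex2 r
      have hPF : (P : Subgroup G) ≤ F :=
        le_trans (Subgroup.le_centralizer_iff.mp hFc) Cfsg.Agent.S0044.result
      haveI hFn : F.Normal := Cfsg.Agent.Lib.Helper1.fittingSubgroup_normal
      haveI : (Subgroup.centralizer (F : Set G)).Normal := Subgroup.normal_centralizer
      have hZn : (F ⊓ Subgroup.centralizer (F : Set G)).Normal := inferInstance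
      have hZ : F ⊓ Subgroup.centralizer (F : Set G) ≤ Subgroup.center G := by
        apply hAbC _ hZn
        intro x hx y hy
        exact (Subgroup.mem_centralizer_iff.mp hy.2 x hx.1)
      have hPZ : (P : Subgroup G) ≤ Subgroup.center G :=
        le_trans (le_inf hPF (Subgroup.le_centralizer_iff.mp hFc)) hZ
      constructor
      intro x hx g
      have := Subgroup.mem_center_iff.mp (hPZ hx) g
      have h2 : g * x * g⁻¹ = x := by rw [this]; group
      rw [h2]; exact hx

end

end Cfsg.Agent.Lib.Helper2
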