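import Mathlib
import Cfsg.Agent.Lib.Helper2.WinterMax
import Cfsg.Agent.Lib.Helper2.WinterCore
import Cfsg.Agent.Lib.Helper2.WinterQP
import Cfsg.Agent.Lib.Helper2.WinterChar

/-!
# Winter's theorem (helper2): main induction

A solvable group with a faithful irreducible character of degree `n` and a non-normal Sylow
`p`-subgroup has a prime-power divisor `q > 1` of `n` with `q ≡ 0, ±1 (mod p)`.
-/

set_option autoImplicit false
set_option linter.style.haveILetI false
set_option linter.unusedVariables false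
set_option linter.unusedSectionVars false

namespace Cfsg.Agent.Lib.Helper2

open Cfsg
open Cfsg.Agent.Lib.Helper75 Cfsg.Agent.Lib.Helper77 Cfsg.Agent.Lib.Helper78
open scoped ComplexConjugate commutatorElement

universe u

/-- The conclusion of Winter's theorem. -/
def WinterConcl (p n : ℕ) : Prop :=
  ∃ q : ℕ, IsPrimePow q ∧ q ∣ n ∧
    ((q : ℤ) ≡ -1 [ZMOD p] ∨ (q : ℤ) ≡ 0 [ZMOD p] ∨ (q : ℤ) ≡ 1 [ZMOD p])

theorem WinterConcl.of_dvd {p n m : ℕ} (h : WinterConcl p n) (hnm : n ∣ m) : WinterConcl p m := by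
  obtain ⟨q, h1, h2, h3⟩ := h
  exact ⟨q, h1, h2.trans hnm, h3⟩

/-- The arithmetic at the end of the quasi-primitive case. -/
theorem winter_arith (p : ℕ) (hp : p.Prime) (r s b cB cD n : ℕ) (hr : r.Prime)
    (hcB : cB = r ^ b) (hs : s ^ 2 * cD = cB) (hlt : cD < cB) (hsn : s ∣ n)
    (hcase : r = p ∨ (r ≠ p ∧ cB ≡ cD [MOD p])) : WinterConcl p n := by
  have hs_dvd : s ∣ r ^ b := by
    rw [← hcB, ← hs, pow_two, mul_assoc]
    exact dvd_mul_right _ _
  obtain ⟨c, -, hc⟩ := (Nat.dvd_prime_pow hr).mp hs_dvd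
  have hc0 : c ≠ 0 := by
    intro h0
    rw [h0, pow_zero] at hc
    rw [hc, one_pow, one_mul] at hs
    omega
  have hpp : IsPrimePow s := ⟨r, c, hr.prime, Nat.pos_of_ne_zero hc0, hc.symm⟩
  refine ⟨s, hpp, hsn, ?_⟩
  rcases hcase with hrp | ⟨hrp, hmod⟩
  · right; left
    rw [hc, hrp]
    push_cast
    exact (Int.modEq_zero_iff_dvd).mpr (dvd_pow_self _ hc0)
  · have hcD_dvd : cD ∣ r ^ b := by
      rw [← hcB, ← hs]; exact dvd_mul_left _ _
    obtain ⟨e, -, he⟩ := (Nat.dvd_prime_pow hr).mp hcD_dvd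
    have hcop : Nat.Coprime cD p := by
      rw [he]
      apply Nat.Coprime.pow_left
      exact (Nat.coprime_primes hr hp).mpr hrp
    have h1 : cD * s ^ 2 ≡ cD * 1 [MOD p] := by
      rw [mul_one, mul_comm, hs]
      exact hmod
    have h2 : s ^ 2 ≡ 1 [MOD p] :=
      Nat.ModEq.cancel_left_of_coprime (Nat.Coprime.gcd_eq_one hcop.symm) h1
    have h3 : ((s : ℤ)) ^ 2 ≡ 1 [ZMOD p] := by
      have := (Int.natCast_modEq_iff).mpr h2
      simpa using this
    have h4 : (p : ℤ) ∣ ((s : ℤ) - 1) * ((s : ℤ) + 1) := by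
      have := (Int.modEq_iff_dvd.mp h3.symm)
      have h5 : ((s : ℤ)) ^ 2 - 1 = ((s : ℤ) - 1) * ((s : ℤ) + 1) := by ring
      rwa [h5] at this
    have hpZ : Prime (p : ℤ) := Nat.prime_iff_prime_int.mp hp
    rcases hpZ.dvd_or_dvd h4 with h | h
    · right; right
      exact (Int.modEq_iff_dvd.mpr h).symm
    · left
      have : (p : ℤ) ∣ (s : ℤ) - (-1) := by simpa using h
      exact (Int.modEq_iff_dvd.mpr this).symm

/-- **Winter's theorem**, induction form. -/
theorem winter_main (p : ℕ) [hp : Fact p.Prime] (n : ℕ) :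
    ∀ (G : Type u) [Group G] [Finite G], Nat.card G = n → Group.IsSolvable G →
    ∀ (χ : IrrCharacter G), (∀ g : G, (χ : G → ℂ) g = (χ : G → ℂ) 1 → g = 1) →
    ∀ P : Sylow p G, ¬ (P : Subgroup G).Normal → WinterConcl p (charDegree (χ : G → ℂ)) := by
  induction n using Nat.strong_induction_on with
  | _ n ih =>
  intro G _ _ hcard hsolv χ hfaith P hPn
  classical
  haveI : Fintype G := Fintype.ofFinite G
  haveI := hsolv
  by_cases hQP : ∃ (N : Subgroup G) (hN : N.Normal) (hF : Fintype N) (θ : IrrCharacter N),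
      classInner (fun n : N => (χ : G → ℂ) n) (θ : N → ℂ) ≠ 0 ∧ inertia N (θ : N → ℂ) ≠ ⊤
  · -- induced from a maximal subgroup
    obtain ⟨N, hN, hF, θ, hθ, hne⟩ := hQP
    set T := inertia N (θ : N → ℂ) with hTdef
    haveI : Fintype T := Fintype.ofFinite T
    have hNT : N ≤ T :=
      le_inertia N (IsCharacter.isClassFunction (IsIrrCharacter.isCharacter θ.2))
    obtain ⟨ψ, hψ, hind, -⟩ := exists_indFun_eq_of_over N T hNT θ.2 (fun g => Iff.rfl) χ.2 hθ
    obtain ⟨M, φ, hM, hMind⟩ := winter_exists_max_induced χ T hne ψ hψ hind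
    haveI : Fintype M := Fintype.ofFinite M
    -- degrees
    have hdeg : charDegree (χ : G → ℂ) = M.index * charDegree (φ : M → ℂ) := by
      have h1 := congrFun hMind 1
      rw [indFun_one, Cfsg.Agent.Lib.Helper71.gc_irr_one χ,
        Cfsg.Agent.Lib.Helper71.gc_irr_one φ] at h1
      exact_mod_cast h1.symm
    by_cases hpN : p ∣ M.normalCore.index
    · obtain ⟨q, hq1, hq2, hq3⟩ := winter_max_case M hM p hpN
      refine ⟨q, hq1, ?_, ?_⟩
      · rw [hdeg]; exact hq2.trans (dvd_mul_right _ _)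
      · rcases hq3 with h | h
        · exact Or.inr (Or.inl h)
        · exact Or.inr (Or.inr h)
    · -- all `p`-elements lie in the core of `M`
      set K := irrKer φ with hK
      have hKφ : ∀ k ∈ K, (φ : M → ℂ) k = (φ : M → ℂ) 1 := fun k hk => (mem_irrKer φ k).mp hk
      set φ' : IrrCharacter (M ⧸ K) := deflate K φ hKφ with hφ'
      have hφ'mk : ∀ y : M, (φ' : M ⧸ K → ℂ) (y : M ⧸ K) = (φ : M → ℂ) y :=
        fun y => deflate_mk K φ hKφ y
      have hφ'1 : (φ' : M ⧸ K → ℂ) 1 = (φ : M → ℂ) 1 := hφ'mk 1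
      have hfaith' : ∀ y : M ⧸ K, (φ' : M ⧸ K → ℂ) y = (φ' : M ⧸ K → ℂ) 1 → y = 1 := by
        intro y
        induction y using QuotientGroup.induction_on with
        | H y =>
          intro h
          rw [hφ'mk, hφ'1] at h
          exact (QuotientGroup.eq_one_iff y).mpr ((mem_irrKer φ y).mpr h)
      have hdeg' : charDegree (φ' : M ⧸ K → ℂ) = charDegree (φ : M → ℂ) := by
        have h1 := Cfsg.Agent.Lib.Helper71.gc_irr_one φ'
        rw [hφ'1, Cfsg.Agent.Lib.Helper71.gc_irr_one φ] at h1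
        exact_mod_cast h1.symm
      have hcard' : Nat.card (M ⧸ K) < n := by
        have h1 : Nat.card (M ⧸ K) ≤ Nat.card M :=
          Nat.card_le_card_of_surjective _ (QuotientGroup.mk'_surjective K)
        have h2 : Nat.card M < Nat.card G := by
          apply lt_of_le_of_ne (Subgroup.card_le_card_group M)
          intro h
          exact hM.1 ((Subgroup.card_eq_iff_eq_top M).mp h)
        omega
      have hsolvM : Group.IsSolvable M := inferInstance
      have hsolv' : Group.IsSolvable (M ⧸ K) :=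
        Group.isSolvable_of_surjective (QuotientGroup.mk'_surjective K)
      by_cases hS : ∀ S : Sylow p (M ⧸ K), (S : Subgroup (M ⧸ K)).Normal
      · exfalso
        apply hPn
        apply sylow_normal_of_core p M K ?_ hS ?_ P
        · -- `p`-elements lie in `M`
          rintro x ⟨k, hk⟩
          apply Subgroup.normalCore_le M
          have h1 : ((x : G) : G ⧸ M.normalCore) ^ p ^ k = 1 := by
            rw [← QuotientGroup.mk_pow, hk]; rfl
          have h2 : orderOf ((x : G) : G ⧸ M.normalCore) ∣ p ^ k := orderOf_dvd_of_pow_eq_one h1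
          have h3 : orderOf ((x : G) : G ⧸ M.normalCore) ∣ M.normalCore.index := by
            rw [Subgroup.index_eq_card]; exact orderOf_dvd_natCard _
          have h4 : Nat.Coprime (p ^ k) M.normalCore.index :=
            Nat.Coprime.pow_left _ ((Nat.Prime.coprime_iff_not_dvd hp.out).mpr hpN)
          have h5 : orderOf ((x : G) : G ⧸ M.normalCore) = 1 :=
            Nat.eq_one_of_dvd_coprimes h4 h2 h3
          exact (QuotientGroup.eq_one_iff x).mp (orderOf_eq_one_iff.mp h5)
        · exact fun x hx => winter_core_ker χ hfaith M φ hMind x hx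
      · push Not at hS
        obtain ⟨S, hSn⟩ := hS
        have := ih _ hcard' (M ⧸ K) rfl hsolv' φ' hfaith' S hSn
        rw [hdeg'] at this
        exact this.of_dvd (by rw [hdeg]; exact dvd_mul_left _ _)
  · -- quasi-primitive case
    push Not at hQP
    have hAbC := winter_abelian_central χ hfaith (fun N hN hF θ h => hQP N hN hF θ h)
    obtain ⟨B, D, r, hr, hDB, hDneB, hDZ, hcomm, hnd, hBr, hcase⟩ :=
      winter_qp_group p P hPn hAbC
    obtain ⟨s, hs1, hs2⟩ := winter_section_degree χ hfaith B D hDB hDZ hcomm hnd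
    haveI : Fact r.Prime := ⟨hr⟩
    obtain ⟨b, hb⟩ := IsPGroup.iff_card.mp hBr
    have hlt : Nat.card D < Nat.card B := by
      apply lt_of_le_of_ne (Subgroup.card_le_of_le hDB)
      intro h
      exact hDneB (Subgroup.eq_of_le_of_card_ge hDB h.ge)
    exact winter_arith p hp.out r s b (Nat.card B) (Nat.card D) _ hr hb hs1 hlt hs2 hcase

end Cfsg.Agent.Lib.Helper2
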